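import Cfsg.Prelude.Def_Solvable
import Mathlib

/-! Small general facts: conjugates, cores, normalizer growth in p-subgroups. -/

set_option autoImplicit false

namespace Cfsg.Agent.LocalEvenB

variable {G : Type*} [Group G]

theorem mem_conjMap {g y : G} {H : Subgroup G} :
    y ∈ H.map (MulAut.conj g).toMonoidHom ↔ g⁻¹ * y * g ∈ H := by
  constructor
  · rintro ⟨h, hh, rfl⟩
    simpa [MulAut.conj_apply, mul_assoc] using hh
  · intro h
    exact ⟨_, h, by simp [MulAut.conj_apply, mul_assoc]⟩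

theorem conjMap_apply_mem {g y : G} {H : Subgroup G} (hy : y ∈ H) :
    g * y * g⁻¹ ∈ H.map (MulAut.conj g).toMonoidHom :=
  mem_conjMap.2 (by simpa [mul_assoc] using hy)

theorem conjMap_conjMap (a b : G) (H : Subgroup G) :
    (H.map (MulAut.conj b).toMonoidHom).map (MulAut.conj a).toMonoidHom
      = H.map (MulAut.conj (a * b)).toMonoidHom := by
  ext y
  simp only [mem_conjMap, mul_inv_rev, mul_assoc]

theorem conjMap_one (H : Subgroup G) : H.map (MulAut.conj (1 : G)).toMonoidHom = H := by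
  ext y
  simp [mem_conjMap]

theorem conjMap_card (g : G) (H : Subgroup G) :
    Nat.card ↥(H.map (MulAut.conj g).toMonoidHom) = Nat.card ↥H :=
  Nat.card_congr (H.equivMapOfInjective _ (MulAut.conj g).injective).toEquiv.symm

theorem conjMap_le_of_mem_normalizer {g : G} {H : Subgroup G}
    (hg : g ∈ Subgroup.normalizer (H : Set G)) : H.map (MulAut.conj g).toMonoidHom ≤ H := by
  intro y hy
  exact (Subgroup.mem_normalizer_iff''.1 hg y).2 (mem_conjMap.1 hy)

theorem conjMap_eq_of_mem_normalizer [Finite G] {g : G} {H : Subgroup G}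
    (hg : g ∈ Subgroup.normalizer (H : Set G)) : H.map (MulAut.conj g).toMonoidHom = H :=
  Subgroup.eq_of_le_of_card_ge (conjMap_le_of_mem_normalizer hg) (conjMap_card g H).ge

theorem mem_normalizer_of_conjMap_le [Finite G] {g : G} {H : Subgroup G}
    (h : H.map (MulAut.conj g).toMonoidHom ≤ H) : g ∈ Subgroup.normalizer (H : Set G) := by
  have he : H.map (MulAut.conj g).toMonoidHom = H :=
    Subgroup.eq_of_le_of_card_ge h (conjMap_card g H).ge
  refine Subgroup.mem_normalizer_iff''.2 fun y => ?_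
  constructor
  · intro hy
    exact mem_conjMap.1 (by rw [he]; exact hy)
  · intro hy
    have := mem_conjMap.2 hy
    rwa [he] at this

theorem mem_normalizer_of_conj_mem [Finite G] {g : G} {H : Subgroup G}
    (h : ∀ y ∈ H, g * y * g⁻¹ ∈ H) : g ∈ Subgroup.normalizer (H : Set G) := by
  refine mem_normalizer_of_conjMap_le ?_
  rintro y ⟨h', hh', rfl⟩
  simpa [MulAut.conj_apply] using h h' hh'

theorem conjMap_isPGroup {p : ℕ} {g : G} {H : Subgroup G} (h : IsPGroup p ↥H) :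
    IsPGroup p ↥(H.map (MulAut.conj g).toMonoidHom) :=
  h.map _

/-- A `p`-subgroup properly contained in another one is properly contained in its normalizer there. -/
theorem exists_mem_normalizer_not_mem [Finite G] {p : ℕ} [Fact p.Prime] {H Q : Subgroup G}
    (hQ : IsPGroup p ↥Q) (hHQ : H ≤ Q) (hne : ¬ Q ≤ H) :
    ∃ n ∈ Q, n ∉ H ∧ n ∈ Subgroup.normalizer (H : Set G) := by
  haveI := hQ.isNilpotent
  have hlt : H.subgroupOf Q < ⊤ := by
    rw [lt_top_iff_ne_top, Ne, Subgroup.subgroupOf_eq_top]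
    exact hne
  obtain ⟨n, hn, hn'⟩ := SetLike.exists_of_lt (Group.normalizerCondition_of_isNilpotent _ hlt)
  refine ⟨n, n.2, fun h => hn' (Subgroup.mem_subgroupOf.2 h), ?_⟩
  refine mem_normalizer_of_conj_mem fun y hy => ?_
  exact Subgroup.mem_subgroupOf.1
    ((Subgroup.mem_normalizer_iff.1 hn ⟨y, hHQ hy⟩).1 (Subgroup.mem_subgroupOf.2 hy))

/-- Normalizer growth, in the form used to prove equality. -/
theorem eq_of_inf_normalizer_le [Finite G] {p : ℕ} [Fact p.Prime] {H Q : Subgroup G}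
    (hQ : IsPGroup p ↥Q) (hHQ : H ≤ Q) (h : Q ⊓ Subgroup.normalizer (H : Set G) ≤ H) : Q = H := by
  refine le_antisymm ?_ hHQ
  by_contra hne
  obtain ⟨n, hnQ, hnH, hnN⟩ := exists_mem_normalizer_not_mem hQ hHQ hne
  exact hnH (h ⟨hnQ, hnN⟩)

theorem card_sup_coprime [Finite G] {p : ℕ} {A B : Subgroup G} [A.Normal]
    (hA : (Nat.card A).Coprime p) (hB : (Nat.card B).Coprime p) :
    (Nat.card ↥(A ⊔ B)).Coprime p := by
  have h1 : A.relIndex (A ⊔ B) ∣ Nat.card B := by
    rw [sup_comm, Subgroup.relIndex_sup_right]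
    exact A.relIndex_dvd_card B
  have h2 : Nat.card A * A.relIndex (A ⊔ B) = Nat.card ↥(A ⊔ B) := by
    rw [← Subgroup.relIndex_bot_left A, ← Subgroup.relIndex_bot_left (A ⊔ B)]
    exact Subgroup.relIndex_mul_relIndex ⊥ A (A ⊔ B) bot_le le_sup_left
  rw [← h2]
  exact Nat.Coprime.mul_left hA (hB.coprime_dvd_left h1)

theorem exists_sSup_eq {S : Set (Subgroup G)} [Finite G] (hne : S.Nonempty)
    (hsup : ∀ A ∈ S, ∀ B ∈ S, A ⊔ B ∈ S) : sSup S ∈ S := by
  obtain ⟨M, hM⟩ := S.toFinite.exists_maximal hne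
  have : sSup S = M := le_antisymm (sSup_le fun N hN => le_sup_right.trans
    (hM.2 (hsup M hM.1 N hN) le_sup_left)) (le_sSup hM.1)
  rw [this]; exact hM.1

theorem pPrimeCore_spec [Finite G] (p : ℕ) :
    (Cfsg.pPrimeCore p G).Normal ∧ (Nat.card ↥(Cfsg.pPrimeCore p G)).Coprime p := by
  refine exists_sSup_eq (S := {N : Subgroup G | N.Normal ∧ (Nat.card N).Coprime p})
    ⟨⊥, inferInstance, by simp⟩ ?_
  rintro A ⟨hA, hA'⟩ B ⟨hB, hB'⟩
  exact ⟨inferInstance, card_sup_coprime hA' hB'⟩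

theorem pCore_spec [Finite G] (p : ℕ) :
    (Cfsg.pCore p G).Normal ∧ IsPGroup p ↥(Cfsg.pCore p G) := by
  refine exists_sSup_eq (S := {N : Subgroup G | N.Normal ∧ IsPGroup p N})
    ⟨⊥, inferInstance, IsPGroup.of_bot⟩ ?_
  rintro A ⟨hA, hA'⟩ B ⟨hB, hB'⟩
  exact ⟨inferInstance, hA'.to_sup_of_normal_right hB'⟩

theorem le_pCore {p : ℕ} {N : Subgroup G} (hN : N.Normal) (hp : IsPGroup p ↥N) :
    N ≤ Cfsg.pCore p G := le_sSup ⟨hN, hp⟩

theorem le_pPrimeCore {p : ℕ} {N : Subgroup G} (hN : N.Normal) (hp : (Nat.card N).Coprime p) :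
    N ≤ Cfsg.pPrimeCore p G := le_sSup ⟨hN, hp⟩

theorem pCore_le_sylow [Finite G] {p : ℕ} [Fact p.Prime] (P : Sylow p G) :
    Cfsg.pCore p G ≤ (P : Subgroup G) := by
  obtain ⟨hn, hp⟩ := pCore_spec (G := G) p
  obtain ⟨Q, hQ⟩ := hp.exists_le_sylow
  obtain ⟨g, hg⟩ := MulAction.exists_smul_eq G Q P
  intro y hy
  have h1 : g⁻¹ * y * g ∈ (Q : Subgroup G) := hQ (hn.conj_mem' y hy g)
  rw [← hg, Sylow.coe_subgroup_smul]
  exact ⟨_, h1, by simp [MulAut.conj_apply, mul_assoc]⟩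

theorem sylow_conj_le [Finite G] {p : ℕ} [Fact p.Prime] (P : Sylow p G) {R : Subgroup G}
    (hR : IsPGroup p ↥R) : ∃ g : G, R ≤ (P : Subgroup G).map (MulAut.conj g).toMonoidHom := by
  obtain ⟨Q, hQ⟩ := hR.exists_le_sylow
  obtain ⟨g, hg⟩ := MulAction.exists_smul_eq G P Q
  refine ⟨g, hQ.trans ?_⟩
  intro y hy
  rw [← hg, Sylow.coe_subgroup_smul] at hy
  obtain ⟨h, hh, rfl⟩ := hy
  exact conjMap_apply_mem (g := g) hh

/-- The image of a `p`-element's cyclic group is a `p`-group. -/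
theorem isPGroup_zpowers {p : ℕ} [Fact p.Prime] {x : G} (hx : ∃ k : ℕ, orderOf x = p ^ k) :
    IsPGroup p ↥(Subgroup.zpowers x) := by
  obtain ⟨k, hk⟩ := hx
  exact IsPGroup.of_card (n := k) (by rw [Nat.card_zpowers, hk])

/-- A nontrivial normal subgroup of a nilpotent group contains a nontrivial central element. -/
theorem exists_mem_center_ne_one [Group.IsNilpotent G] (N : Subgroup G) [N.Normal] (hN : N ≠ ⊥) :
    ∃ x ∈ N, x ∈ Subgroup.center G ∧ x ≠ 1 := by
  obtain ⟨n, hn⟩ := Group.IsNilpotent.nilpotent G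
  obtain ⟨a, ha, ha1⟩ := (Subgroup.eq_bot_iff_forall N).not.1 hN |> not_forall.1
    |>.elim fun a h => (⟨a, Classical.not_imp.1 h⟩ : ∃ a, a ∈ N ∧ a ≠ 1)
  have key : ∀ i, ∀ a ∈ N, a ∈ Subgroup.upperCentralSeries G i → a ≠ 1 →
      ∃ x ∈ N, x ∈ Subgroup.center G ∧ x ≠ 1 := by
    intro i
    induction i with
    | zero => intro a _ ha ha1; simp at ha; exact absurd ha ha1
    | succ i ih =>
      intro a haN ha ha1
      by_cases h : ∀ y, a * y * a⁻¹ * y⁻¹ = 1
      · exact ⟨a, haN, Subgroup.mem_center_iff.2 fun y =>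
          (mul_inv_eq_iff_eq_mul.1 (mul_inv_eq_one.1 (h y))).symm, ha1⟩
      · push Not at h
        obtain ⟨y, hy⟩ := h
        refine ih _ ?_ (Subgroup.mem_upperCentralSeries_succ_iff.1 ha y) hy
        have h2 := N.mul_mem haN (Subgroup.Normal.conj_mem inferInstance _ (N.inv_mem haN) y)
        simpa [mul_assoc, commutatorElement_def] using h2
  exact key n a ha (by rw [hn]; exact Subgroup.mem_top a) ha1

end Cfsg.Agent.LocalEvenB
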