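import Cfsg.Agent.Lib.Coprime23.Omega
import Cfsg.Agent.Lib.FGB.PGroupBasic
import Cfsg.Agent.Lib.Basics.CoprimeAction
import Cfsg.Agent.Lib.LocalEvenB.Basic

/-!
Coprime elements fixing all subgroups of one given order of a `p`-group, and elements of order dividing 4.
-/

set_option autoImplicit false
set_option linter.style.haveILetI false
set_option linter.unusedSectionVars false

namespace Cfsg.Agent.LocalEvenB

/-- A `2'`-automorphism of a finite 2-group fixing every element of order dividing 4 is trivial. -/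
theorem fix_of_fix_four {P : Type*} [Group P] [Finite P] (hP : IsPGroup 2 P) (α : MulAut P)
    (hcop : (orderOf α).Coprime 2) (h : ∀ x : P, x ^ 4 = 1 → α x = x) : ∀ x : P, α x = x := by
  haveI : Fact (Nat.Prime 2) := ⟨Nat.prime_two⟩
  suffices hU : ∀ U : Subgroup P, (∀ u ∈ U, α u ∈ U) → ∀ u ∈ U, α u = u from
    fun x => hU ⊤ (fun _ _ => Subgroup.mem_top _) x (Subgroup.mem_top x)
  intro U
  induction U using WellFoundedLT.induction with
  | _ U ih =>
    intro hinv a ha
    by_cases hU : U = ⊥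
    · rw [hU, Subgroup.mem_bot] at ha; rw [ha, map_one]
    set β := Coprime23.restrictAut α U hinv
    set Φ := (frattini U).map U.subtype with hΦ
    haveI : Nontrivial U := U.nontrivial_iff_ne_bot.mpr hU
    have hUp : IsPGroup 2 U := hP.to_subgroup U
    have hΦU : Φ ≤ U := Subgroup.map_subtype_le _
    have hlt : Φ < U := by
      refine lt_of_le_of_ne hΦU fun heq => ?_
      have h1 : frattini U = ⊤ := by
        apply Subgroup.map_injective U.subtype_injective
        rw [← MonoidHom.range_eq_map, Subgroup.range_subtype]; exact heq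
      exact bot_ne_top (frattini_nongenerating (K := (⊥ : Subgroup U)) (by rw [h1, sup_top_eq]))
    have hΦinv : ∀ u ∈ Φ, α u ∈ Φ := by
      rintro _ ⟨v, hv, rfl⟩
      refine ⟨β v, ?_, rfl⟩
      have := (Subgroup.characteristic_iff_comap_eq.mp (frattini_characteristic (G := U))) β
      rw [← this] at hv
      exact hv
    have hfixΦ : ∀ u ∈ Φ, α u = u := ih Φ hlt hΦinv
    have hnorm : ∀ u ∈ U, ∀ v ∈ Φ, u * v * u⁻¹ ∈ Φ := by
      rintro u hu _ ⟨v, hv, rfl⟩
      exact ⟨⟨u, hu⟩ * v * ⟨u, hu⟩⁻¹,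
        (inferInstance : (frattini U).Normal).conj_mem v hv _, rfl⟩
    set C := U ⊓ Subgroup.centralizer (Φ : Set P) with hC
    have hcC : ∀ u ∈ U, u⁻¹ * α u ∈ C := by
      intro u hu
      refine ⟨U.mul_mem (U.inv_mem hu) (hinv u hu), ?_⟩
      refine Subgroup.mem_centralizer_iff.mpr fun v hv => ?_
      have h1 : α (u * v * u⁻¹) = u * v * u⁻¹ := hfixΦ _ (hnorm u hu v hv)
      rw [map_mul, map_mul, map_inv, hfixΦ v hv] at h1
      have h2 : u⁻¹ * (α u * v * (α u)⁻¹) * α u = u⁻¹ * (u * v * u⁻¹) * α u := by rw [h1]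
      simpa [mul_assoc] using h2.symm
    by_cases hCU : C = U
    · have hcen : ∀ v ∈ Φ, ∀ u ∈ U, u * v = v * u := fun v hv u hu =>
        ((Subgroup.mem_centralizer_iff.mp (hCU.symm.le hu).2) v hv).symm
      have hb : α a ∈ U := hinv a ha
      set z := (α a)⁻¹ * a * α a * a⁻¹ with hzdef
      have hzΦ : z ∈ Φ := by
        refine ⟨⟨α a, hb⟩⁻¹ * ⟨a, ha⟩ * ⟨α a, hb⟩ * ⟨a, ha⟩⁻¹, ?_, rfl⟩
        have h1 := FGB.commutatorElement_mem_frattini hUp ⟨α a, hb⟩⁻¹ ⟨a, ha⟩
        rw [inv_inv] at h1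
        exact h1
      have ha2 : a ^ 2 ∈ Φ := ⟨⟨a, ha⟩ ^ 2, FGB.pow_mem_frattini hUp _, rfl⟩
      have hza : Commute a z := hcen z hzΦ a ha
      have hzb : Commute (α a) z := hcen z hzΦ _ hb
      have hsq : α a ^ 2 = a ^ 2 := by rw [← map_pow, hfixΦ _ ha2]
      have hrel : a * α a = α a * z * a := by rw [hzdef]; group
      have hz2 : z ^ 2 = 1 := by
        have h1 : a ^ 2 * α a = α a * a ^ 2 := (hcen _ ha2 _ hb).symm
        have h2 : a ^ 2 * α a = α a * z ^ 2 * a ^ 2 := by
          calc a ^ 2 * α a = a * (a * α a) := by rw [pow_two, mul_assoc]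
            _ = a * (α a * z * a) := by rw [hrel]
            _ = (a * α a) * z * a := by group
            _ = α a * z * (a * z) * a := by rw [hrel]; group
            _ = α a * z * (z * a) * a := by rw [hza.eq]
            _ = α a * z ^ 2 * a ^ 2 := by rw [pow_two, pow_two]; group
        rw [h1] at h2
        have := mul_right_cancel h2
        exact left_eq_mul.mp this
      have hw : (a⁻¹ * α a) ^ 4 = 1 := by
        have h1 : (a⁻¹ * α a) ^ 2 = z⁻¹ := by
          have h3 : α a * a⁻¹ = a⁻¹ * α a * z := by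
            calc α a * a⁻¹ = a⁻¹ * (a * α a) * a⁻¹ := by group
              _ = a⁻¹ * (α a * z * a) * a⁻¹ := by rw [hrel]
              _ = _ := by group
          calc (a⁻¹ * α a) ^ 2 = a⁻¹ * (α a * a⁻¹) * α a := by rw [pow_two]; group
            _ = a⁻¹ * a⁻¹ * α a * (z * α a) := by rw [h3]; group
            _ = a⁻¹ * a⁻¹ * (α a * α a) * z := by rw [← hzb.eq]; group
            _ = a⁻¹ * a⁻¹ * (a * a) * z := by rw [← pow_two (α a), hsq, pow_two]
            _ = z := by group
            _ = z⁻¹ := by rw [eq_inv_iff_mul_eq_one, ← pow_two, hz2]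
        rw [show (4 : ℕ) = 2 * 2 from rfl, pow_mul, h1, inv_pow, hz2, inv_one]
      exact Coprime23.eq_of_commutator_fixed hP α hcop (h _ hw)
    · have hClt : C < U := lt_of_le_of_ne inf_le_left hCU
      have hCinv : ∀ u ∈ C, α u ∈ C := by
        rintro u ⟨hu, hu'⟩
        refine ⟨hinv u hu, ?_⟩
        have hu'' := Subgroup.mem_centralizer_iff.mp hu'
        refine Subgroup.mem_centralizer_iff.mpr fun v hv => ?_
        rw [← hfixΦ v hv, ← map_mul, ← map_mul, hu'' v hv]
      exact Coprime23.eq_of_commutator_fixed hP α hcop (ih C hClt hCinv _ (hcC a ha))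

/-- An automorphism of order prime to `p (p - 1)` acts trivially on an invariant cyclic quotient. -/
theorem quot_fix {H : Type*} [Group H] [Finite H] {p : ℕ} [Fact p.Prime] (hH : IsPGroup p H)
    (N : Subgroup H) [N.Normal] [IsCyclic (H ⧸ N)] (σ : MulAut H) (hσN : ∀ n ∈ N, σ n ∈ N)
    (hp : (orderOf σ).Coprime p) (hp1 : (orderOf σ).Coprime (p - 1)) (h : H) :
    σ h * h⁻¹ ∈ N := by
  have hmap : N.map σ.toMonoidHom = N := Subgroup.eq_of_le_of_card_ge (by
    rintro _ ⟨n, hn, rfl⟩; exact hσN n hn)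
    (Subgroup.card_map_of_injective σ.injective).ge
  let τ : MulAut (H ⧸ N) := QuotientGroup.congr N N σ hmap
  have hτ : ∀ (n : ℕ) (y : H), (τ ^ n) (y : H ⧸ N) = (((σ ^ n) y : H) : H ⧸ N) := by
    intro n
    induction n with
    | zero => intro y; simp
    | succ n ih => intro y; rw [pow_succ', pow_succ', MulAut.mul_apply, MulAut.mul_apply, ih]; rfl
  have h1 : τ ^ orderOf σ = 1 := by
    refine MulEquiv.ext fun q => ?_
    induction q using QuotientGroup.induction_on with
    | _ y => rw [hτ, pow_orderOf_eq_one]; rfl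
  have h2 : orderOf τ ∣ Nat.card (MulAut (H ⧸ N)) := orderOf_dvd_natCard τ
  obtain ⟨k, hk⟩ := IsPGroup.iff_card.1 (hH.to_quotient N)
  rw [IsCyclic.card_mulAut, hk] at h2
  have h3 : orderOf τ = 1 := by
    refine Nat.eq_one_of_dvd_coprimes ?_ (orderOf_dvd_of_pow_eq_one h1) h2
    rcases Nat.eq_zero_or_pos k with rfl | hk0
    · simp
    · rw [Nat.totient_prime_pow Fact.out hk0]
      exact (hp.pow_right _).mul_right hp1
  rw [orderOf_eq_one_iff] at h3
  have h4 : τ (h : H ⧸ N) = (h : H ⧸ N) := by rw [h3]; rfl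
  rw [← QuotientGroup.eq_one_iff, QuotientGroup.mk_mul, QuotientGroup.mk_inv, mul_inv_eq_one]
  exact h4

variable {G : Type*} [Group G]

/-- The automorphism of a normalized subgroup induced by conjugation has coprime order. -/
theorem orderOf_normalizerHom_coprime {T : Subgroup G} {x : G}
    (hxT : x ∈ Subgroup.normalizer (T : Set G)) {m : ℕ} (hx : (orderOf x).Coprime m) :
    (orderOf (T.normalizerMonoidHom ⟨x, hxT⟩)).Coprime m :=
  hx.coprime_dvd_left ((orderOf_map_dvd _ _).trans (dvd_of_eq (Subgroup.orderOf_coe ⟨x, hxT⟩).symm))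


/-- An element of order prime to `p (p - 1)` acts trivially on the quotient by an invariant index-`p` subgroup. -/
theorem conj_mul_inv_mem [Finite G] {p : ℕ} [hp : Fact p.Prime] {T U : Subgroup G} (hT : IsPGroup p T)
    (hUT : U ≤ T) (hcard : Nat.card U * p = Nat.card T) {x : G}
    (hxT : x ∈ Subgroup.normalizer (T : Set G)) (hxU : x ∈ Subgroup.normalizer (U : Set G))
    (hx : (orderOf x).Coprime p) (hx1 : (orderOf x).Coprime (p - 1)) :
    ∀ y ∈ T, x * y * x⁻¹ * y⁻¹ ∈ U := by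
  intro y hy
  have hidx : (U.subgroupOf T).index = p := by
    have h1 := Subgroup.card_mul_index (U.subgroupOf T)
    rw [Nat.card_congr (Subgroup.subgroupOfEquivOfLe hUT).toEquiv, ← hcard] at h1
    exact Nat.eq_of_mul_eq_mul_left Nat.card_pos h1
  haveI hn : (U.subgroupOf T).Normal := by
    haveI := hT.isNilpotent
    obtain h | ⟨M, hM, hle⟩ := eq_top_or_exists_le_coatom (U.subgroupOf T)
    · exfalso
      rw [h, Subgroup.index_top] at hidx
      exact hp.out.one_lt.ne hidx
    · have hMi := FGB.coatom_normal_and_index hT hM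
      have : U.subgroupOf T = M := Subgroup.eq_of_le_of_card_ge hle (by
        have h1 := Subgroup.card_mul_index (U.subgroupOf T)
        have h2 := Subgroup.card_mul_index M
        rw [hidx, ← h2, hMi.2] at h1
        exact (Nat.eq_of_mul_eq_mul_right hp.out.pos h1).ge)
      rw [this]; exact hMi.1
  haveI : IsCyclic (↥T ⧸ U.subgroupOf T) :=
    isCyclic_of_prime_card (p := p) ((Subgroup.index_eq_card _).symm.trans hidx)
  exact quot_fix hT (U.subgroupOf T) (T.normalizerMonoidHom ⟨x, hxT⟩)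
    (fun n hn => (Subgroup.mem_normalizer_iff.1 hxU (n : G)).1 hn)
    (orderOf_normalizerHom_coprime hxT hx) (orderOf_normalizerHom_coprime hxT hx1) ⟨y, hy⟩

/-- An element of order prime to `p (p - 1)` normalizing a cyclic `p`-group centralizes it. -/
theorem commute_of_cyclic [Finite G] {p : ℕ} [hp : Fact p.Prime] {T : Subgroup G} [IsCyclic T]
    (hT : IsPGroup p T) {x : G} (hxT : x ∈ Subgroup.normalizer (T : Set G))
    (hx : (orderOf x).Coprime p) (hx1 : (orderOf x).Coprime (p - 1)) :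
    ∀ y ∈ T, Commute x y := by
  intro y hy
  haveI : IsCyclic (↥T ⧸ (⊥ : Subgroup T)) :=
    isCyclic_of_surjective (QuotientGroup.mk' ⊥) (QuotientGroup.mk'_surjective _)
  have h := quot_fix hT ⊥ (T.normalizerMonoidHom ⟨x, hxT⟩)
    (fun n hn => by rw [Subgroup.mem_bot] at hn ⊢; rw [hn, map_one])
    (orderOf_normalizerHom_coprime hxT hx) (orderOf_normalizerHom_coprime hxT hx1) ⟨y, hy⟩
  rw [Subgroup.mem_bot] at h
  exact mul_inv_eq_iff_eq_mul.1 (mul_inv_eq_one.1 (congrArg Subtype.val h))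

/-- A `p'`-element acting trivially on the Frattini quotient of a `p`-group centralizes it. -/
theorem commute_of_frattini [Finite G] {p : ℕ} [Fact p.Prime] {T : Subgroup G} (hT : IsPGroup p T) {x : G}
    (hxT : x ∈ Subgroup.normalizer (T : Set G)) (hx : (orderOf x).Coprime p)
    (h : ∀ y ∈ T, x * y * x⁻¹ * y⁻¹ ∈ (frattini ↥T).map T.subtype) : ∀ y ∈ T, Commute x y := by
  set Φ := (frattini ↥T).map T.subtype with hΦ
  have hΦT : Φ ≤ T := Subgroup.map_subtype_le _
  have hxΦ : x ∈ Subgroup.normalizer (Φ : Set G) := by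
    refine mem_normalizer_of_conj_mem ?_
    rintro _ ⟨v, hv, rfl⟩
    refine ⟨T.normalizerMonoidHom ⟨x, hxT⟩ v, ?_, rfl⟩
    have := (Subgroup.characteristic_iff_comap_eq.mp (frattini_characteristic (G := T)))
      (T.normalizerMonoidHom ⟨x, hxT⟩)
    rw [← this] at hv
    exact hv
  have hTΦ : T ≤ Subgroup.normalizer (Φ : Set G) := fun t ht => mem_normalizer_of_conj_mem (by
    rintro _ ⟨v, hv, rfl⟩
    exact ⟨⟨t, ht⟩ * v * ⟨t, ht⟩⁻¹, (inferInstance : (frattini ↥T).Normal).conj_mem v hv _, rfl⟩)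
  set A := Subgroup.zpowers x with hA
  have hcop : (Nat.card A).Coprime (Nat.card Φ) := by
    obtain ⟨k, hk⟩ := IsPGroup.iff_card.1 (hT.to_le hΦT)
    rw [Nat.card_zpowers, hk]
    exact hx.pow_right k
  have hfix : ∀ a ∈ A, ∀ k ∈ T, a * k * a⁻¹ * k⁻¹ ∈ Φ := by
    intro a ha
    rw [hA, ← (isOfFinOrder_of_finite x).mem_powers_iff_mem_zpowers] at ha
    obtain ⟨i, rfl⟩ := ha
    induction i with
    | zero => intro k _; simp only [pow_zero, one_mul, inv_one, mul_one, mul_inv_cancel]; exact one_mem _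
    | succ i ih =>
      intro k hk
      have hk' : x ^ i * k * (x ^ i)⁻¹ ∈ T :=
        (Subgroup.mem_normalizer_iff.1 ((Subgroup.normalizer (T : Set G)).pow_mem hxT i) k).1 hk
      have := Φ.mul_mem (h _ hk') (ih k hk)
      simp only [pow_succ'] at *
      convert this using 1
      group
  intro y hy
  set C : Subgroup G := T ⊓ Subgroup.centralizer (A : Set G) with hC
  have hCtop : C.subgroupOf T = ⊤ := by
    apply frattini_nongenerating
    refine (Subgroup.eq_top_iff' _).2 fun t => ?_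
    obtain ⟨c, hc, hct⟩ := Basics.exists_centralizer_mem_coset A Φ (Subgroup.zpowers_le.2 hxΦ) hcop
      (Or.inl (by infer_instance)) (t : G) (hTΦ t.2) (fun a ha => hfix a ha _ t.2)
    have hcT : c ∈ T := by simpa using T.mul_mem t.2 (hΦT hct)
    obtain ⟨v, hv, hve⟩ := hct
    have : t = (⟨c, hcT⟩ : T) * v⁻¹ := Subtype.ext (by
      have hve' : (v : G) = (t : G)⁻¹ * c := hve
      simp [hve'])
    rw [this]
    exact Subgroup.mul_mem _ (Subgroup.mem_sup_left (Subgroup.mem_subgroupOf.2 ⟨hcT, hc⟩))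
      (Subgroup.mem_sup_right (Subgroup.inv_mem _ hv))
  have hyC := Subgroup.subgroupOf_eq_top.1 hCtop hy
  exact Subgroup.mem_centralizer_iff.1 hyC.2 x (Subgroup.mem_zpowers x)

/-- A `p'`-element normalizing a `p`-group and centralizing its elements of order `p` (or dividing 4
when `p = 2`) centralizes it. -/
theorem commute_of_omega [Finite G] {p : ℕ} [hp : Fact p.Prime] {T : Subgroup G} (hT : IsPGroup p T) {x : G}
    (hxT : x ∈ Subgroup.normalizer (T : Set G)) (hx : (orderOf x).Coprime p)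
    (h : ∀ y ∈ T, (y ^ p = 1 ∨ (p = 2 ∧ y ^ 4 = 1)) → Commute x y) : ∀ y ∈ T, Commute x y := by
  intro y hy
  set α := T.normalizerMonoidHom ⟨x, hxT⟩ with hα
  have hα' : ∀ u : T, (u : G) ^ p = 1 ∨ (p = 2 ∧ (u : G) ^ 4 = 1) → α u = u := fun u hu =>
    Subtype.ext (mul_inv_eq_iff_eq_mul.2 (h u u.2 hu).eq)
  have hc := orderOf_normalizerHom_coprime hxT hx
  have key : α ⟨y, hy⟩ = ⟨y, hy⟩ := by
    by_cases h2 : p = 2
    · subst h2
      exact fix_of_fix_four hT α hc (fun u hu => hα' u (Or.inr ⟨rfl, congrArg Subtype.val hu⟩)) _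
    · exact Coprime23.fix_of_fix_omega hT h2 α hc (fun u hu => hα' u (Or.inl (congrArg Subtype.val hu))) _
  exact mul_inv_eq_iff_eq_mul.1 (congrArg Subtype.val key)

theorem exists_card_pow_le [Finite G] {p : ℕ} [Fact p.Prime] {T H : Subgroup G} (hT : IsPGroup p T)
    (hHT : H ≤ T) {m : ℕ} (h1 : Nat.card H ≤ p ^ m) (h2 : p ^ m ≤ Nat.card T) :
    ∃ K : Subgroup G, H ≤ K ∧ K ≤ T ∧ Nat.card K = p ^ m := by
  have hp := (Fact.out : p.Prime)
  obtain ⟨t, ht⟩ := IsPGroup.iff_card.1 hT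
  obtain ⟨n, hn⟩ := IsPGroup.iff_card.1 (hT.to_le hHT)
  rw [hn] at h1; rw [ht] at h2
  obtain ⟨K, hK, hle⟩ := Sylow.exists_subgroup_card_pow_prime_le (G := ↥T) p (n := n) (m := m)
    (ht ▸ Nat.pow_dvd_pow p ((Nat.pow_le_pow_iff_right hp.one_lt).1 h2)) (H.subgroupOf T)
    (by rw [Nat.card_congr (Subgroup.subgroupOfEquivOfLe hHT).toEquiv, hn])
    ((Nat.pow_le_pow_iff_right hp.one_lt).1 h1)
  refine ⟨K.map T.subtype, fun u hu => ⟨⟨u, hHT hu⟩, hle (Subgroup.mem_subgroupOf.2 hu), rfl⟩,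
    Subgroup.map_subtype_le _, ?_⟩
  rw [Subgroup.card_map_of_injective T.subtype_injective, hK]

/-- A `p'`-element, of order prime to `p - 1`, normalizing every subgroup of a fixed order `p ^ e` (and
of order 4 if that order is 2) of a strictly larger `p`-group centralizes the `p`-group. -/
theorem commute_of_fixed_order [Finite G] {p : ℕ} [hp : Fact p.Prime] {T : Subgroup G} (hT : IsPGroup p T)
    {x : G} (hxT : x ∈ Subgroup.normalizer (T : Set G)) (hx : (orderOf x).Coprime p)
    (hx1 : (orderOf x).Coprime (p - 1)) {e : ℕ} (he : 1 ≤ e) (hlt : p ^ e < Nat.card T)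
    (h : ∀ E : Subgroup G, E ≤ T → (Nat.card E = p ^ e ∨ (p ^ e = 2 ∧ Nat.card E = 4)) →
      x ∈ Subgroup.normalizer (E : Set G)) : ∀ y ∈ T, Commute x y := by
  refine commute_of_omega hT hxT hx fun y hy hyp => ?_
  have hord : Nat.card (Subgroup.zpowers y) ≤ p ^ e ∨ (p ^ e = 2 ∧ Nat.card (Subgroup.zpowers y) = 4) := by
    rw [Nat.card_zpowers]
    rcases hyp with h1 | ⟨rfl, h4⟩
    · exact Or.inl ((Nat.le_of_dvd hp.out.pos (orderOf_dvd_of_pow_eq_one h1)).trans
        (Nat.le_self_pow (by omega) p))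
    · have h5 : orderOf y ∣ 2 ^ 2 := orderOf_dvd_of_pow_eq_one h4
      obtain ⟨i, hi, hi'⟩ := (Nat.dvd_prime_pow Nat.prime_two).1 h5
      rcases lt_or_ge i (e + 1) with h6 | h6
      · exact Or.inl (hi' ▸ Nat.pow_le_pow_right two_pos (by omega))
      · obtain ⟨rfl, rfl⟩ : i = 2 ∧ e = 1 := by omega
        exact Or.inr ⟨rfl, hi'⟩
  have hyT : Subgroup.zpowers y ≤ T := Subgroup.zpowers_le.2 hy
  rcases hord with h1 | h4
  swap
  · exact commute_of_cyclic (hT.to_le hyT) (h _ hyT (Or.inr h4)) hx hx1 y (Subgroup.mem_zpowers y)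
  obtain ⟨E, hyE, hET, hE⟩ := exists_card_pow_le hT hyT h1 hlt.le
  have hlt' : p ^ (e + 1) ≤ Nat.card T := by
    obtain ⟨t, ht⟩ := IsPGroup.iff_card.1 hT
    rw [ht] at hlt ⊢
    exact Nat.pow_le_pow_right hp.out.pos ((Nat.pow_lt_pow_iff_right hp.out.one_lt).1 hlt)
  obtain ⟨W, hEW, hWT, hW⟩ := exists_card_pow_le hT hET
    (hE.le.trans (Nat.pow_le_pow_right hp.out.pos e.le_succ)) hlt'
  have hWp : IsPGroup p W := hT.to_le hWT
  by_cases hcyc : IsCyclic W
  · haveI : IsCyclic E := isCyclic_of_injective (Subgroup.inclusion hEW) (Subgroup.inclusion_injective hEW)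
    exact commute_of_cyclic (hT.to_le hET) (h E hET (Or.inl hE)) hx hx1 y (hyE (Subgroup.mem_zpowers y))
  have hcoat : ∀ M : Subgroup W, IsCoatom M → Nat.card (M.map W.subtype) = p ^ e := by
    intro M hM
    have h2 := Subgroup.card_mul_index M
    rw [(FGB.coatom_normal_and_index hWp hM).2, hW, pow_succ] at h2
    rw [Subgroup.card_map_of_injective W.subtype_injective]
    exact Nat.eq_of_mul_eq_mul_right hp.out.pos h2
  have hEne : E.subgroupOf W ≠ ⊤ := fun h2 => by
    have := Subgroup.eq_of_le_of_card_ge hEW (Subgroup.card_dvd_of_le (Subgroup.subgroupOf_eq_top.1 h2) |>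
      Nat.le_of_dvd Nat.card_pos)
    rw [this, hW] at hE
    exact absurd (Nat.pow_right_injective hp.out.two_le hE) (by omega)
  obtain ⟨z, hz⟩ : ∃ z : W, z ∉ E.subgroupOf W := by
    by_contra hne
    push Not at hne
    exact hEne ((Subgroup.eq_top_iff' _).2 hne)
  obtain h2 | ⟨U, hU, hzU⟩ := eq_top_or_exists_le_coatom (Subgroup.zpowers z)
  · exact absurd (⟨z, fun w => (h2 ▸ Subgroup.mem_top w : w ∈ Subgroup.zpowers z)⟩ : IsCyclic W) hcyc
  have hxW : x ∈ Subgroup.normalizer (W : Set G) := by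
    have hsup : E ⊔ U.map W.subtype = W := by
      refine le_antisymm (sup_le hEW (Subgroup.map_subtype_le _)) ?_
      intro w hw
      have h3 : E.subgroupOf W ⊔ U = ⊤ := hU.2 _ (lt_of_le_of_ne le_sup_right fun h4 => hz (by
        have h5 : E.subgroupOf W ≤ U := h4.symm ▸ le_sup_left
        have h6 : E = U.map W.subtype := Subgroup.eq_of_le_of_card_ge
          (fun u hu => ⟨⟨u, hEW hu⟩, h5 (Subgroup.mem_subgroupOf.2 hu), rfl⟩) (by rw [hcoat U hU, hE])
        rw [h6, Subgroup.mem_subgroupOf]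
        exact ⟨z, hzU (Subgroup.mem_zpowers z), rfl⟩))
      have h4 : (⟨w, hw⟩ : W) ∈ E.subgroupOf W ⊔ U := h3 ▸ Subgroup.mem_top _
      have h5 := Subgroup.mem_map_of_mem W.subtype h4
      rw [Subgroup.map_sup, Subgroup.map_subgroupOf_eq_of_le hEW] at h5
      exact h5
    refine mem_normalizer_of_conjMap_le ?_
    rw [← hsup, Subgroup.map_sup, conjMap_eq_of_mem_normalizer (h E hET (Or.inl hE)),
      conjMap_eq_of_mem_normalizer (h _ ((Subgroup.map_subtype_le U).trans hWT) (Or.inl (hcoat U hU)))]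
  refine commute_of_frattini hWp hxW hx (fun w hw => ?_) y (hEW (hyE (Subgroup.mem_zpowers y)))
  refine ⟨⟨x * w * x⁻¹ * w⁻¹,
    W.mul_mem ((Subgroup.mem_normalizer_iff.1 hxW w).1 hw) (W.inv_mem hw)⟩, ?_, rfl⟩
  rw [SetLike.mem_coe, frattini, Order.radical]
  simp only [Subgroup.mem_iInf]
  intro M hM
  have h3 := conj_mul_inv_mem hWp (Subgroup.map_subtype_le M)
    (by rw [hcoat M hM, hW, pow_succ]) hxW
    (h _ ((Subgroup.map_subtype_le M).trans hWT) (Or.inl (hcoat M hM))) hx hx1 w hw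
  obtain ⟨m, hm, hme⟩ := h3
  rwa [show (⟨x * w * x⁻¹ * w⁻¹, _⟩ : W) = m from Subtype.ext hme.symm]

end Cfsg.Agent.LocalEvenB
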