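import Cfsg.Agent.Lib.LocalEvenB.FixedOrder
import Cfsg.Agent.Lib.Transfer.Residual
import Cfsg.Prelude.Def_SolvableStructure

/-!
Normal `p`-subgroups with cyclic series normal in the whole group.
-/

set_option autoImplicit false
set_option linter.style.haveILetI false
set_option linter.unusedSectionVars false

namespace Cfsg.Agent.LocalEvenB

open scoped commutatorElement

variable {G : Type*} [Group G]

theorem eq_of_card_eq_of_isCyclic {S : Type*} [Group S] [Finite S] [IsCyclic S] {A B : Subgroup S}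
    (h : Nat.card A = Nat.card B) : A = B := by
  letI : CommGroup S := IsCyclic.commGroup
  have key : ∀ C : Subgroup S, C = (powMonoidHom (Nat.card C) : S →* S).ker := fun C => by
    refine Subgroup.eq_of_le_of_card_ge (fun x hx => ?_) ?_
    · rw [MonoidHom.mem_ker, powMonoidHom_apply, ← orderOf_dvd_iff_pow_eq_one]
      exact Subgroup.orderOf_dvd_natCard C hx
    · rw [IsCyclic.card_powMonoidHom_ker]
      exact Nat.le_of_dvd Nat.card_pos (Nat.gcd_dvd_right _ _)
  rw [key A, key B, h]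

/-- `CycReach B`: there is a series of normal subgroups of the whole group from `⊥` to `B` with cyclic steps. -/
inductive CycReach : Subgroup G → Prop
  | bot : CycReach ⊥
  | step {A : Subgroup G} (g : G) : CycReach A → (A ⊔ Subgroup.zpowers g).Normal →
      CycReach (A ⊔ Subgroup.zpowers g)

theorem CycReach.normal {A : Subgroup G} (h : CycReach A) : A.Normal := by
  cases h with
  | bot => infer_instance
  | step g _ hn => exact hn

theorem CycReach.exists_series {A : Subgroup G} (h : CycReach A) :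
    ∃ (n : ℕ) (H : Fin (n + 1) → Subgroup G), H 0 = ⊥ ∧ H (Fin.last n) = A ∧ (∀ i, (H i).Normal) ∧
      ∀ i : Fin n, ∃ g : G, H i.succ = H i.castSucc ⊔ Subgroup.zpowers g := by
  induction h with
  | bot => exact ⟨0, fun _ => ⊥, rfl, rfl, fun _ => inferInstance, fun i => i.elim0⟩
  | @step A g _ hn ih =>
    obtain ⟨n, H, h0, hl, hH, hs⟩ := ih
    refine ⟨n + 1, Fin.snoc H (A ⊔ Subgroup.zpowers g), ?_, Fin.snoc_last _ _, ?_, ?_⟩
    · rw [show (0 : Fin (n + 2)) = (0 : Fin (n + 1)).castSucc from rfl, Fin.snoc_castSucc]; exact h0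
    · intro i
      induction i using Fin.lastCases with
      | last => rw [Fin.snoc_last]; exact hn
      | cast j => rw [Fin.snoc_castSucc]; exact hH j
    · intro i
      induction i using Fin.lastCases with
      | last => exact ⟨g, by rw [Fin.succ_last, Fin.snoc_last, Fin.snoc_castSucc, hl]⟩
      | cast j =>
        obtain ⟨y, hy⟩ := hs j
        exact ⟨y, by rw [Fin.succ_castSucc, Fin.snoc_castSucc, Fin.snoc_castSucc]; exact hy⟩

theorem isSupersolvable_of_cycReach (h : CycReach (⊤ : Subgroup G)) : Cfsg.IsSupersolvable G :=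
  h.exists_series

/-- A supersolvable quotient by a reachable subgroup. -/
theorem cycReach_top_of_quotient (E : Subgroup G) [E.Normal] (hq : Cfsg.IsSupersolvable (G ⧸ E))
    (hE : CycReach E) : CycReach (⊤ : Subgroup G) := by
  obtain ⟨n, H, h0, hl, hn, hs⟩ := hq
  have key : ∀ i : Fin (n + 1), CycReach ((H i).comap (QuotientGroup.mk' E)) := by
    intro i
    induction i using Fin.induction with
    | zero =>
      rwa [h0, MonoidHom.comap_bot, QuotientGroup.ker_mk']
    | succ j ih =>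
      obtain ⟨q, hq'⟩ := hs j
      obtain ⟨g, rfl⟩ := QuotientGroup.mk'_surjective E q
      have e : (H j.succ).comap (QuotientGroup.mk' E) =
          (H j.castSucc).comap (QuotientGroup.mk' E) ⊔ Subgroup.zpowers g := by
        have hker : E ≤ (H j.castSucc).comap (QuotientGroup.mk' E) := fun y hy => by
          rw [Subgroup.mem_comap, show QuotientGroup.mk' E y = 1 from (QuotientGroup.eq_one_iff y).2 hy]
          exact one_mem _
        rw [hq', ← Subgroup.map_comap_eq_self_of_surjective (QuotientGroup.mk'_surjective E) (H j.castSucc),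
          ← MonoidHom.map_zpowers, ← Subgroup.map_sup, Subgroup.comap_map_eq, QuotientGroup.ker_mk',
          Subgroup.map_comap_eq_self_of_surjective (QuotientGroup.mk'_surjective E),
          sup_eq_left.2 (hker.trans le_sup_left)]
      rw [e]
      exact CycReach.step g ih (e ▸ (hn _).comap _)
  have := key (Fin.last n)
  rwa [hl, Subgroup.comap_top] at this

/-- A series inside a supplement lifts. -/
theorem cycReach_sup {K H : Subgroup G} (hKH : K ⊔ H = ⊤) (hK : CycReach K) {B : Subgroup H}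
    (hB : CycReach B) : CycReach (K ⊔ B.map H.subtype) := by
  haveI := hK.normal
  induction hB with
  | bot => rwa [Subgroup.map_bot, sup_bot_eq]
  | @step A g _ hn ih =>
    have e : K ⊔ (A ⊔ Subgroup.zpowers g).map H.subtype = (K ⊔ A.map H.subtype) ⊔ Subgroup.zpowers (g : G) := by
      rw [Subgroup.map_sup, MonoidHom.map_zpowers, sup_assoc]; rfl
    rw [e]
    refine CycReach.step (g : G) ih ?_
    rw [← e, ← Subgroup.normalizer_eq_top_iff, ← top_le_iff, ← hKH]
    refine sup_le (le_sup_left.trans Subgroup.le_normalizer) fun h hh => ?_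
    have h1 : ∀ a ∈ H, ∀ y ∈ K ⊔ (A ⊔ Subgroup.zpowers g).map H.subtype,
        a * y * a⁻¹ ∈ K ⊔ (A ⊔ Subgroup.zpowers g).map H.subtype := by
      intro a ha y hy
      obtain ⟨k, hk, _, ⟨b, hb, rfl⟩, rfl⟩ := Subgroup.mem_sup_of_normal_left.1 hy
      rw [show a * (k * H.subtype b) * a⁻¹ = (a * k * a⁻¹) * (a * H.subtype b * a⁻¹) by group]
      exact Subgroup.mul_mem_sup (Subgroup.Normal.conj_mem inferInstance k hk a)
        ⟨⟨a, ha⟩ * b * ⟨a, ha⟩⁻¹, hn.conj_mem b hb _, rfl⟩
    refine Subgroup.mem_normalizer_iff.2 fun y => ⟨h1 h hh y, fun hy => ?_⟩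
    have h2 := h1 h⁻¹ (H.inv_mem hh) _ hy
    rwa [show h⁻¹ * (h * y * h⁻¹) * h⁻¹⁻¹ = y by group] at h2

section Extend

variable [Finite G] {p : ℕ} [hp : Fact p.Prime]

/-- Eigenvector lemma over the prime field. -/
theorem exists_eigen_zmod {W : Type*} [AddCommGroup W] [Module (ZMod p) W] (T : Module.End (ZMod p) W)
    (hT : T ^ p = T) {v : W} (hv : v ≠ 0) : ∃ (a : ZMod p) (w : W), w ≠ 0 ∧ T w = a • w := by
  classical
  have hpoly : (Polynomial.X ^ p - Polynomial.X : Polynomial (ZMod p))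
      = ∏ a : ZMod p, (Polynomial.X - Polynomial.C a) := by
    have h := FiniteField.roots_X_pow_card_sub_X (ZMod p)
    rw [ZMod.card] at h
    have hm : (Polynomial.X ^ p - Polynomial.X : Polynomial (ZMod p)).Monic :=
      Polynomial.monic_X_pow_sub (by simpa using hp.out.one_lt)
    have := Polynomial.prod_multiset_X_sub_C_of_monic_of_roots_card_eq hm (by
      rw [h, FiniteField.X_pow_card_sub_X_natDegree_eq _ hp.out.one_lt]; simp)
    rw [h] at this
    exact this.symm
  by_contra hne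
  push Not at hne
  have hprod : ∀ (s : Finset (ZMod p)) (x : W), x ≠ 0 →
      (Polynomial.aeval T (∏ a ∈ s, (Polynomial.X - Polynomial.C a))) x ≠ 0 := by
    intro s
    induction s using Finset.induction_on with
    | empty => intro x hx; simpa using hx
    | @insert a s ha ih =>
      intro x hx
      rw [Finset.prod_insert ha, map_mul, Module.End.mul_apply]
      intro h0
      simp only [map_sub, Polynomial.aeval_X, Polynomial.aeval_C, LinearMap.sub_apply,
        Module.algebraMap_end_apply, sub_eq_zero] at h0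
      exact hne a _ (ih x hx) h0
  refine hprod Finset.univ v hv ?_
  rw [← hpoly]
  simp [hT]

theorem exists_eigen_iterate {W : Type*} [AddCommGroup W] [Module (ZMod p) W] (f : W →+ W)
    (hf : ∀ x, f^[p] x = f x) {v : W} (hv : v ≠ 0) : ∃ (k : ℕ) (w : W), w ≠ 0 ∧ f w = k • w := by
  obtain ⟨a, w, hw, hwa⟩ := exists_eigen_zmod (f.toZModLinearMap p : Module.End (ZMod p) W)
    (LinearMap.ext fun x => by rw [Module.End.pow_apply]; exact hf x) hv
  refine ⟨a.val, w, hw, ?_⟩
  rw [← ZMod.natCast_zmod_val a, Nat.cast_smul_eq_nsmul] at hwa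
  exact hwa

/-- Eigenvector lemma for an endomorphism of a group of exponent `p`. -/
theorem exists_eigen_add {W : Type*} [AddCommGroup W] (hW : ∀ x : W, p • x = 0) (f : W →+ W)
    (hf : ∀ x, f^[p] x = f x) {v : W} (hv : v ≠ 0) : ∃ (k : ℕ) (w : W), w ≠ 0 ∧ f w = k • w :=
  @exists_eigen_iterate p hp W _ (AddCommGroup.zmodModule hW) f hf v hv

/-- Eigenvector lemma for an automorphism with `σ ^ (p - 1) = 1` of a group of exponent `p`. -/
theorem exists_pow_eigen {V : Type*} [CommGroup V] (hV : ∀ v : V, v ^ p = 1) (σ : MulAut V)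
    (hσ : σ ^ (p - 1) = 1) {v : V} (hv : v ≠ 1) : ∃ (k : ℕ) (w : V), w ≠ 1 ∧ σ w = w ^ k := by
  have hit : ∀ (n : ℕ) (x : Additive V),
      (MonoidHom.toAdditive σ.toMonoidHom)^[n] x = Additive.ofMul ((σ ^ n) x.toMul) := by
    intro n
    induction n with
    | zero => intro x; rfl
    | succ n ih =>
      intro x
      rw [Function.iterate_succ_apply', ih, pow_succ', MulAut.mul_apply]
      rfl
  obtain ⟨k, w, hw, hwk⟩ := exists_eigen_add (p := p) (W := Additive V)
    (fun x => congrArg Additive.ofMul (hV x.toMul)) (MonoidHom.toAdditive σ.toMonoidHom)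
    (fun x => by
      rw [hit, show p = p - 1 + 1 from (Nat.succ_pred_eq_of_pos hp.out.pos).symm, pow_add, hσ, one_mul, pow_one]
      rfl) (v := Additive.ofMul v) (fun h => hv (congrArg Additive.toMul h))
  exact ⟨k, w.toMul, fun h => hw (congrArg Additive.ofMul h), congrArg Additive.toMul hwk⟩

/-- If the `p'`-elements of a normal `M` centralize a normal `p`-subgroup `Q` and `G / M` is abelian of
exponent dividing `p - 1`, then `Q` has a cyclic series normal in `G`. -/
theorem cycReach_of_centralized {Q M : Subgroup G} [Q.Normal] [M.Normal] (hQ : IsPGroup p Q)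
    (hcomm : ∀ g h : G, ⁅g, h⁆ ∈ M) (hexp : ∀ g : G, g ^ (p - 1) ∈ M)
    (hM : ∀ m ∈ M, (orderOf m).Coprime p → ∀ y ∈ Q, Commute m y) : CycReach Q := by
  suffices H : ∀ (k : ℕ) (A : Subgroup G), CycReach A → A ≤ Q → Nat.card Q ≤ Nat.card A + k → CycReach Q from
    H (Nat.card Q) ⊥ CycReach.bot bot_le (by omega)
  intro k
  induction k with
  | zero => intro A hA hAQ hc; rwa [← Subgroup.eq_of_le_of_card_ge hAQ (by omega)]
  | succ k ih =>
    intro A hA hAQ hc
    by_cases hAQ' : A = Q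
    · rwa [← hAQ']
    haveI := hA.normal
    set π := QuotientGroup.mk' A with hπ
    have hπs : Function.Surjective π := QuotientGroup.mk'_surjective A
    set R := Q.map π with hR
    set Mb := M.map π with hMb
    haveI : R.Normal := Subgroup.Normal.map inferInstance π hπs
    haveI : Mb.Normal := Subgroup.Normal.map inferInstance π hπs
    have hRp : IsPGroup p R := hQ.map π
    have hRne : R ≠ ⊥ := fun h => hAQ' (le_antisymm hAQ (by
      have h1 := Subgroup.map_eq_bot_iff _ |>.1 h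
      rwa [QuotientGroup.ker_mk'] at h1))
    -- a central element of `Q/A` centralized by `M`
    obtain ⟨S⟩ : Nonempty (Sylow p M) := inferInstance
    set T := Q ⊔ (S : Subgroup M).map M.subtype with hT
    have hTp : IsPGroup p ↥(T.map π) :=
      (hQ.to_sup_of_normal_left (S.isPGroup'.map M.subtype)).map π
    haveI := hTp.isNilpotent
    have hRT : R ≤ T.map π := Subgroup.map_mono le_sup_left
    obtain ⟨c, hcR, hcZ, hc1⟩ := exists_mem_center_ne_one (R.subgroupOf (T.map π)) (fun h => hRne (by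
      rw [← Subgroup.map_subgroupOf_eq_of_le hRT, h, Subgroup.map_bot]))
    set c' : G ⧸ A := (c : G ⧸ A) with hc'
    have hcT : ∀ y ∈ T.map π, Commute y c' := fun y hy =>
      congrArg Subtype.val (Subgroup.mem_center_iff.1 hcZ ⟨y, hy⟩)
    have hcM : c' ∈ Subgroup.centralizer ((R ⊔ Mb : Subgroup (G ⧸ A)) : Set (G ⧸ A)) := by
      have hsup : R ⊔ Mb ≤ Subgroup.centralizer ({c'} : Set (G ⧸ A)) := by
        refine sup_le (fun y hy => Subgroup.mem_centralizer_singleton_iff.2 (hcT y (hRT hy)).eq) ?_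
        have : (⊤ : Subgroup M) ≤ ((Subgroup.centralizer ({c'} : Set (G ⧸ A))).comap π).subgroupOf M := by
          rw [← Transfer.pResidual_sup_sylow S]
          refine sup_le ((Subgroup.closure_le _).2 fun u hu => ?_) fun u hu => ?_
          · obtain ⟨y, hy, hyc⟩ := (show c' ∈ R from hcR)
            refine Subgroup.mem_centralizer_singleton_iff.2 ?_
            rw [← hyc]
            exact ((hM u u.2 (by rwa [Subgroup.orderOf_coe]) y hy).map π).eq
          · exact Subgroup.mem_centralizer_singleton_iff.2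
              (hcT _ ⟨u, Subgroup.mem_sup_right ⟨u, hu, rfl⟩, rfl⟩).eq
        rintro _ ⟨m, hm, rfl⟩
        exact this (Subgroup.mem_top (⟨m, hm⟩ : M))
      exact Subgroup.mem_centralizer_iff.2 fun y hy =>
        Subgroup.mem_centralizer_singleton_iff.1 (hsup hy)
    set C2 := R ⊓ Subgroup.centralizer ((R ⊔ Mb : Subgroup (G ⧸ A)) : Set (G ⧸ A)) with hC2
    haveI : (Subgroup.centralizer ((R ⊔ Mb : Subgroup (G ⧸ A)) : Set (G ⧸ A))).Normal := by
      refine ⟨fun n hn g => Subgroup.mem_centralizer_iff.2 fun y hy => ?_⟩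
      have h1 := Subgroup.mem_centralizer_iff.1 hn _
        (Subgroup.Normal.conj_mem' (inferInstance : (R ⊔ Mb).Normal) y hy g)
      calc y * (g * n * g⁻¹) = g * ((g⁻¹ * y * g) * n) * g⁻¹ := by group
        _ = g * (n * (g⁻¹ * y * g)) * g⁻¹ := by rw [h1]
        _ = g * n * g⁻¹ * y := by group
    have hC2c : ∀ u ∈ C2, ∀ v ∈ C2, Commute u v := fun u hu v hv =>
      Subgroup.mem_centralizer_iff.1 hv.2 u (Subgroup.mem_sup_left hu.1)
    let Ω : Subgroup (G ⧸ A) :=
      { carrier := {u | u ∈ C2 ∧ u ^ p = 1}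
        one_mem' := ⟨one_mem _, one_pow p⟩
        mul_mem' := fun {u v} hu hv => ⟨mul_mem hu.1 hv.1, by
          rw [(hC2c u hu.1 v hv.1).mul_pow, hu.2, hv.2, one_mul]⟩
        inv_mem' := fun {u} hu => ⟨inv_mem hu.1, by rw [inv_pow, hu.2, inv_one]⟩ }
    haveI : C2.Normal := inferInstanceAs ((R ⊓ _ : Subgroup (G ⧸ A)).Normal)
    have hΩn : Ω.Normal := ⟨fun u hu g => ⟨Subgroup.Normal.conj_mem inferInstance u hu.1 g, by
      rw [conj_pow, hu.2, mul_one, mul_inv_cancel]⟩⟩
    have hΩne : Ω ≠ ⊥ := by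
      intro h
      have hc2 : c' ∈ C2 := ⟨hcR, hcM⟩
      obtain ⟨i, hi⟩ := IsPGroup.iff_orderOf.1 hRp ⟨c', hcR⟩
      rw [← Subgroup.orderOf_coe] at hi
      rcases i with _ | i
      · rw [pow_zero, orderOf_eq_one_iff] at hi
        exact hc1 (Subtype.ext hi)
      · have h1 : c' ^ p ^ i ∈ Ω := ⟨pow_mem hc2 _, by
          rw [← pow_mul, ← pow_succ, ← hi, pow_orderOf_eq_one]⟩
        rw [h, Subgroup.mem_bot, ← orderOf_dvd_iff_pow_eq_one, hi,
          Nat.pow_dvd_pow_iff_le_right hp.out.one_lt] at h1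
        omega
    obtain ⟨N, hN⟩ := Set.Finite.exists_minimal
      (Set.toFinite {N : Subgroup (G ⧸ A) | N.Normal ∧ N ≠ ⊥ ∧ N ≤ Ω}) ⟨Ω, hΩn, hΩne, le_rfl⟩
    haveI := hN.1.1
    have hNc : ∀ u ∈ N, ∀ v ∈ N, Commute u v := fun u hu v hv => hC2c u (hN.1.2.2 hu).1 v (hN.1.2.2 hv).1
    have hNM : ∀ u ∈ N, ∀ m ∈ M, Commute (π m) u := fun u hu m hm =>
      Subgroup.mem_centralizer_iff.1 (hN.1.2.2 hu).1.2 (π m) (Subgroup.mem_sup_right ⟨m, hm, rfl⟩)
    have hpow : ∀ (g : G), ∀ u ∈ N, ∃ j : ℕ, π g * u * (π g)⁻¹ = u ^ j := by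
      intro g
      letI : CommGroup ↥N :=
        { (inferInstance : Group ↥N) with mul_comm := fun a b => Subtype.ext (hNc a a.2 b b.2).eq }
      have hσ : (MulAut.conjNormal (H := N) (π g)) ^ (p - 1) = 1 := by
        refine MulEquiv.ext fun u => Subtype.ext ?_
        rw [← map_pow, ← map_pow, MulAut.conjNormal_apply, MulAut.one_apply,
          (hNM u u.2 _ (hexp g)).eq, mul_inv_cancel_right]
      obtain ⟨u, hu⟩ := Subgroup.ne_bot_iff_exists_ne_one.1 hN.1.2.1
      obtain ⟨j, w, hw, hwj⟩ := exists_pow_eigen (p := p)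
        (fun v : ↥N => Subtype.ext (hN.1.2.2 v.2).2) (MulAut.conjNormal (H := N) (π g)) hσ hu
      let Nj : Subgroup (G ⧸ A) :=
        { carrier := {v | v ∈ N ∧ π g * v * (π g)⁻¹ = v ^ j}
          one_mem' := ⟨one_mem _, by simp⟩
          mul_mem' := fun {a b} ha hb => ⟨mul_mem ha.1 hb.1, by
            rw [(hNc a ha.1 b hb.1).mul_pow, ← ha.2, ← hb.2]; group⟩
          inv_mem' := fun {a} ha => ⟨inv_mem ha.1, by rw [inv_pow, ← ha.2]; group⟩ }
      have hNjn : Nj.Normal := by
        refine ⟨fun v hv q => ?_⟩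
        obtain ⟨h, rfl⟩ := hπs q
        refine ⟨Subgroup.Normal.conj_mem inferInstance v hv.1 _, ?_⟩
        have h1 : π g * π h = π ⁅g, h⁆ * (π h * π g) := by
          rw [← map_mul, ← map_mul, ← map_mul]; congr 1; rw [commutatorElement_def]; group
        have h2 : Commute (π ⁅g, h⁆) (π h * (π g * v * (π g)⁻¹) * (π h)⁻¹) :=
          hNM _ (Subgroup.Normal.conj_mem inferInstance _ (Subgroup.Normal.conj_mem inferInstance v hv.1 _) _) _ (hcomm g h)
        calc π g * (π h * v * (π h)⁻¹) * (π g)⁻¹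
            = (π g * π h) * v * (π g * π h)⁻¹ := by group
          _ = π ⁅g, h⁆ * (π h * (π g * v * (π g)⁻¹) * (π h)⁻¹) * (π ⁅g, h⁆)⁻¹ := by rw [h1]; group
          _ = π h * (π g * v * (π g)⁻¹) * (π h)⁻¹ := by rw [h2.eq, mul_inv_cancel_right]
          _ = (π h * v * (π h)⁻¹) ^ j := by rw [hv.2, conj_pow]
      have hle : N ≤ Nj := hN.2 ⟨hNjn, fun h => hw (Subtype.ext
        ((Subgroup.eq_bot_iff_forall _).1 h _ ⟨w.2, congrArg Subtype.val hwj⟩)),
        fun v hv => hN.1.2.2 hv.1⟩ (fun v hv => hv.1)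
      exact fun v hv => ⟨j, (hle hv).2⟩
    obtain ⟨z, hz⟩ := Subgroup.ne_bot_iff_exists_ne_one.1 hN.1.2.1
    obtain ⟨z0, hz0Q, hz0⟩ := (show (z : G ⧸ A) ∈ R from (hN.1.2.2 z.2).1.1)
    have hzn : (Subgroup.zpowers (z : G ⧸ A)).Normal := by
      refine ⟨fun v hv q => ?_⟩
      obtain ⟨g, rfl⟩ := hπs q
      obtain ⟨j, hj⟩ := hpow g v (Subgroup.zpowers_le.2 z.2 hv)
      rw [hj]
      exact pow_mem hv j
    have hB : (A ⊔ Subgroup.zpowers z0).Normal := by
      have h1 : (Subgroup.zpowers (z : G ⧸ A)).comap π = A ⊔ Subgroup.zpowers z0 := by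
        rw [← hz0, ← MonoidHom.map_zpowers, Subgroup.comap_map_eq, QuotientGroup.ker_mk', sup_comm]
      rw [← h1]
      exact hzn.comap π
    have hzA : z0 ∉ A := fun h => hz (Subtype.ext (by
      rw [← hz0]; exact (QuotientGroup.eq_one_iff z0).2 h))
    refine ih _ (CycReach.step z0 hA hB) (sup_le hAQ (Subgroup.zpowers_le.2 hz0Q)) ?_
    have : Nat.card A < Nat.card ↥(A ⊔ Subgroup.zpowers z0) := by
      by_contra hle
      exact hzA ((Subgroup.eq_of_le_of_card_ge le_sup_left (not_lt.1 hle)).symm ▸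
        Subgroup.mem_sup_right (Subgroup.mem_zpowers z0) : z0 ∈ A)
    omega

/-- A subgroup of order `p ^ (e+1)` that is not cyclic is normalized by whoever normalizes all its subgroups
of order `p ^ e`. -/
theorem mem_normalizer_of_not_cyclic {W : Subgroup G} (hW : IsPGroup p W) {e : ℕ}
    (hWc : Nat.card W = p ^ (e + 1)) (hcyc : ¬ IsCyclic W) {x : G}
    (h : ∀ E : Subgroup G, E ≤ W → Nat.card E = p ^ e → x ∈ Subgroup.normalizer (E : Set G)) :
    x ∈ Subgroup.normalizer (W : Set G) := by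
  refine mem_normalizer_of_conj_mem fun w hw => ?_
  obtain h2 | ⟨U, hU, hwU⟩ := eq_top_or_exists_le_coatom (Subgroup.zpowers (⟨w, hw⟩ : W))
  · exact absurd (⟨⟨w, hw⟩, fun u => (h2 ▸ Subgroup.mem_top u :
      u ∈ Subgroup.zpowers (⟨w, hw⟩ : W))⟩ : IsCyclic W) hcyc
  have hc : Nat.card (U.map W.subtype) = p ^ e := by
    have h3 := Subgroup.card_mul_index U
    rw [(FGB.coatom_normal_and_index hW hU).2, hWc, pow_succ] at h3
    rw [Subgroup.card_map_of_injective W.subtype_injective]
    exact Nat.eq_of_mul_eq_mul_right hp.out.pos h3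
  have h4 : w ∈ U.map W.subtype := ⟨⟨w, hw⟩, hwU (Subgroup.mem_zpowers _), rfl⟩
  exact Subgroup.map_subtype_le U
    ((Subgroup.mem_normalizer_iff.1 (h _ (Subgroup.map_subtype_le U) hc) w).1 h4)

/-- The elements acting trivially on every normal section of order `p`. -/
noncomputable def actTrivial (p : ℕ) : Subgroup G :=
  ⨅ (X : {X : Subgroup G × Subgroup G //
      X.1.Normal ∧ X.2.Normal ∧ X.1 ≤ X.2 ∧ Nat.card X.1 * p = Nat.card X.2}),
    (haveI := X.2.1; haveI := X.2.2.1
     haveI : (X.1.2.map (QuotientGroup.mk' X.1.1)).Normal :=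
       Subgroup.Normal.map inferInstance _ (QuotientGroup.mk'_surjective _)
     ((MulAut.conjNormal (H := X.1.2.map (QuotientGroup.mk' X.1.1))).comp (QuotientGroup.mk' X.1.1)).ker)

theorem actTrivial_spec : (actTrivial (G := G) p).Normal ∧ (∀ g h : G, ⁅g, h⁆ ∈ actTrivial (G := G) p) ∧
    (∀ g : G, g ^ (p - 1) ∈ actTrivial (G := G) p) ∧
    ∀ m ∈ actTrivial (G := G) p, ∀ U W : Subgroup G, U.Normal → W.Normal → U ≤ W →
      Nat.card U * p = Nat.card W → ∀ w ∈ W, m * w * m⁻¹ * w⁻¹ ∈ U := by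
  have hcard : ∀ X : Subgroup G × Subgroup G, ∀ (_ : X.1.Normal), X.1 ≤ X.2 →
      Nat.card X.1 * p = Nat.card X.2 → Nat.card ↥(X.2.map (QuotientGroup.mk' X.1)) = p := by
    intro X hn hle hc
    have h1 := Subgroup.card_mul_index (X.1.subgroupOf X.2)
    rw [Nat.card_congr (Subgroup.subgroupOfEquivOfLe hle).toEquiv, ← hc] at h1
    have h2 : (X.1.subgroupOf X.2).index = p := Nat.eq_of_mul_eq_mul_left Nat.card_pos h1
    rw [← h2]
    conv_rhs => rw [show X.1.subgroupOf X.2 = ((QuotientGroup.mk' X.1).comp X.2.subtype).ker by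
      rw [← MonoidHom.comap_ker, QuotientGroup.ker_mk']; rfl]
    rw [Subgroup.index_ker, MonoidHom.range_comp, Subgroup.range_subtype]
  refine ⟨Subgroup.normal_iInf_normal fun X => ?_, fun g h => ?_, fun g => ?_, fun m hm U W hU hW hle hc w hw => ?_⟩
  · exact MonoidHom.normal_ker _
  all_goals first
    | (simp only [actTrivial, Subgroup.mem_iInf]
       rintro ⟨⟨U, W⟩, hU, hW, hle, hc⟩
       haveI := hU
       haveI := hW
       haveI : IsCyclic ↥(W.map (QuotientGroup.mk' U)) := isCyclic_of_prime_card (hcard (U, W) hU hle hc)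
       rw [MonoidHom.mem_ker]
       first
         | (rw [map_commutatorElement, commutatorElement_eq_one_iff_mul_comm]
            apply (IsCyclic.mulAutMulEquiv ↥(W.map (QuotientGroup.mk' U))).injective
            rw [map_mul, map_mul, mul_comm])
         | (rw [map_pow]
            have h3 := IsCyclic.card_mulAut ↥(W.map (QuotientGroup.mk' U))
            rw [hcard (U, W) hU hle hc, Nat.totient_prime hp.out] at h3
            rw [← h3, pow_card_eq_one']))
    | skip
  haveI := hU
  haveI := hW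
  simp only [actTrivial, Subgroup.mem_iInf] at hm
  have h1 := hm ⟨(U, W), hU, hW, hle, hc⟩
  rw [MonoidHom.mem_ker, MonoidHom.comp_apply] at h1
  have h2 := congrArg Subtype.val (MulEquiv.congr_fun h1 ⟨QuotientGroup.mk' U w, ⟨w, hw, rfl⟩⟩)
  rw [MulAut.conjNormal_apply, MulAut.one_apply] at h2
  rw [← QuotientGroup.eq_one_iff]
  simp only [QuotientGroup.mk'_apply] at h2
  simp only [QuotientGroup.mk_mul, QuotientGroup.mk_inv, h2, mul_inv_cancel]

/-- A normal `p`-subgroup all of whose subgroups of order `p ^ e` (and 4 if that order is 2) are normal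
has a cyclic series normal in the whole group. -/
theorem cycReach_of_fixed_order {Q : Subgroup G} [Q.Normal] (hQ : IsPGroup p Q) {e : ℕ} (he : 1 ≤ e)
    (hlt : p ^ e < Nat.card Q)
    (h : ∀ E : Subgroup G, E ≤ Q → (Nat.card E = p ^ e ∨ (p ^ e = 2 ∧ Nat.card E = 4)) → E.Normal) :
    CycReach Q := by
  obtain ⟨hn, hcomm, hexp, hact⟩ := actTrivial_spec (G := G) (p := p)
  haveI := hn
  refine cycReach_of_centralized hQ hcomm hexp fun m hm hmp => ?_
  have hmQ : m ∈ Subgroup.normalizer (Q : Set G) := by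
    rw [Subgroup.normalizer_eq_top]; exact Subgroup.mem_top m
  have hcycE : ∀ E : Subgroup G, E ≤ Q → E.Normal → IsCyclic E → ∀ y ∈ E, Commute m y := by
    intro E hEQ hEn hEc y hy
    haveI := hEn
    have hEp := hQ.to_le hEQ
    obtain ⟨i, hi⟩ := IsPGroup.iff_card.1 hEp
    rcases i with _ | i
    · rw [pow_zero] at hi
      have : E = ⊥ := Subgroup.eq_bot_of_card_eq _ hi
      rw [this, Subgroup.mem_bot] at hy
      rw [hy]; exact Commute.one_right m
    refine commute_of_frattini hEp (by rw [Subgroup.normalizer_eq_top]; exact Subgroup.mem_top m) hmp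
      (fun w hw => ?_) y hy
    refine ⟨⟨m * w * m⁻¹ * w⁻¹, E.mul_mem (hEn.conj_mem w hw m) (E.inv_mem hw)⟩, ?_, rfl⟩
    rw [SetLike.mem_coe, frattini, Order.radical]
    simp only [Subgroup.mem_iInf]
    intro U hU
    have hUc : Nat.card (U.map E.subtype) * p = Nat.card E := by
      have h1 := Subgroup.card_mul_index U
      rw [(FGB.coatom_normal_and_index hEp hU).2] at h1
      rw [Subgroup.card_map_of_injective E.subtype_injective]
      exact h1
    have hUn : (U.map E.subtype).Normal := by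
      refine ⟨fun v hv g => ?_⟩
      let φ : MulAut ↥E := MulAut.conjNormal g
      have h3 : U.map φ.toMonoidHom = U := eq_of_card_eq_of_isCyclic
        (Subgroup.card_map_of_injective φ.injective)
      obtain ⟨u, hu, rfl⟩ := hv
      exact ⟨φ u, h3.le ⟨u, hu, rfl⟩, MulAut.conjNormal_apply g u⟩
    obtain ⟨v, hv, hve⟩ := hact m hm _ E hUn hEn (Subgroup.map_subtype_le U) hUc w hw
    rwa [show (⟨m * w * m⁻¹ * w⁻¹, _⟩ : E) = v from Subtype.ext hve.symm]
  refine commute_of_omega hQ hmQ hmp fun y hy hyp => ?_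
  have hyQ : Subgroup.zpowers y ≤ Q := Subgroup.zpowers_le.2 hy
  have hord : Nat.card (Subgroup.zpowers y) ≤ p ^ e ∨ (p ^ e = 2 ∧ Nat.card (Subgroup.zpowers y) = 4) := by
    rw [Nat.card_zpowers]
    rcases hyp with h1 | ⟨rfl, h4⟩
    · exact Or.inl ((Nat.le_of_dvd hp.out.pos (orderOf_dvd_of_pow_eq_one h1)).trans
        (Nat.le_self_pow (by omega) p))
    · obtain ⟨i, hi, hi'⟩ := (Nat.dvd_prime_pow Nat.prime_two).1 (orderOf_dvd_of_pow_eq_one h4 : orderOf y ∣ 2 ^ 2)
      rcases lt_or_ge i (e + 1) with h6 | h6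
      · exact Or.inl (hi' ▸ Nat.pow_le_pow_right two_pos (by omega))
      · obtain ⟨rfl, rfl⟩ : i = 2 ∧ e = 1 := by omega
        exact Or.inr ⟨rfl, hi'⟩
  rcases hord with h1 | h4
  swap
  · exact hcycE _ hyQ (h _ hyQ (Or.inr h4)) inferInstance y (Subgroup.mem_zpowers y)
  obtain ⟨E, hyE, hEQ, hE⟩ := exists_card_pow_le hQ hyQ h1 hlt.le
  by_cases hEc : IsCyclic E
  · exact hcycE E hEQ (h E hEQ (Or.inl hE)) hEc y (hyE (Subgroup.mem_zpowers y))
  have hlt' : p ^ (e + 1) ≤ Nat.card Q := by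
    obtain ⟨t, ht⟩ := IsPGroup.iff_card.1 hQ
    rw [ht] at hlt ⊢
    exact Nat.pow_le_pow_right hp.out.pos ((Nat.pow_lt_pow_iff_right hp.out.one_lt).1 hlt)
  obtain ⟨W, hEW, hWQ, hW⟩ := exists_card_pow_le hQ hEQ
    (hE.le.trans (Nat.pow_le_pow_right hp.out.pos e.le_succ)) hlt'
  have hWp := hQ.to_le hWQ
  have hWnc : ¬ IsCyclic W := fun hc => hEc
    (isCyclic_of_injective (Subgroup.inclusion hEW) (Subgroup.inclusion_injective hEW))
  have hWn : W.Normal := Subgroup.normalizer_eq_top_iff.1 ((Subgroup.eq_top_iff' _).2 fun g =>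
    mem_normalizer_of_not_cyclic hWp hW hWnc fun F hF hFc => by
      haveI := h F (hF.trans hWQ) (Or.inl hFc)
      rw [Subgroup.normalizer_eq_top]; exact Subgroup.mem_top g)
  haveI := hWn
  refine commute_of_frattini hWp (by rw [Subgroup.normalizer_eq_top]; exact Subgroup.mem_top m) hmp
    (fun w hw => ?_) y (hEW (hyE (Subgroup.mem_zpowers y)))
  refine ⟨⟨m * w * m⁻¹ * w⁻¹, W.mul_mem (hWn.conj_mem w hw m) (W.inv_mem hw)⟩, ?_, rfl⟩
  rw [SetLike.mem_coe, frattini, Order.radical]
  simp only [Subgroup.mem_iInf]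
  intro U hU
  have hUc : Nat.card (U.map W.subtype) = p ^ e := by
    have h1 := Subgroup.card_mul_index U
    rw [(FGB.coatom_normal_and_index hWp hU).2, hW, pow_succ] at h1
    rw [Subgroup.card_map_of_injective W.subtype_injective]
    exact Nat.eq_of_mul_eq_mul_right hp.out.pos h1
  obtain ⟨v, hv, hve⟩ := hact m hm _ W (h _ ((Subgroup.map_subtype_le U).trans hWQ) (Or.inl hUc)) hWn
    (Subgroup.map_subtype_le U) (by rw [hUc, hW, pow_succ]) w hw
  rwa [show (⟨m * w * m⁻¹ * w⁻¹, _⟩ : W) = v from Subtype.ext hve.symm]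

end Extend

end Cfsg.Agent.LocalEvenB
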