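import Cfsg.Prelude.Def_BaumannBlocks
import Cfsg.Agent.Lib.LocalEvenB.Basic

/-! The Chermak–Delgado measure `|H| · |C(H)|`. -/

set_option autoImplicit false

namespace Cfsg.Agent.LocalEvenB

open scoped Pointwise

variable {G : Type*} [Group G] [Finite G]

theorem card_mul_relIndex {H K : Subgroup G} (h : H ≤ K) :
    Nat.card ↥H * H.relIndex K = Nat.card ↥K := by
  rw [← Subgroup.relIndex_bot_left H, ← Subgroup.relIndex_bot_left K]
  exact Subgroup.relIndex_mul_relIndex ⊥ H K bot_le h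

theorem card_mul_card_le (H K : Subgroup G) :
    Nat.card ↥H * Nat.card ↥K ≤ Nat.card ↥(H ⊔ K) * Nat.card ↥(H ⊓ K) := by
  have h1 : H.relIndex K ≤ H.relIndex (H ⊔ K) :=
    Subgroup.relIndex_le_of_le_right le_sup_right Subgroup.index_ne_zero_of_finite
  have h2 := card_mul_relIndex (inf_le_right : H ⊓ K ≤ K)
  rw [Subgroup.inf_relIndex_right] at h2
  have h3 := card_mul_relIndex (le_sup_left : H ≤ H ⊔ K)
  calc Nat.card ↥H * Nat.card ↥K = Nat.card ↥H * H.relIndex K * Nat.card ↥(H ⊓ K) := by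
        rw [← h2]; ring
    _ ≤ Nat.card ↥H * H.relIndex (H ⊔ K) * Nat.card ↥(H ⊓ K) :=
        Nat.mul_le_mul_right _ (Nat.mul_le_mul_left _ h1)
    _ = Nat.card ↥(H ⊔ K) * Nat.card ↥(H ⊓ K) := by rw [h3]

theorem coe_sup_eq_mul_of_card_eq (H K : Subgroup G)
    (h : Nat.card ↥H * Nat.card ↥K = Nat.card ↥(H ⊔ K) * Nat.card ↥(H ⊓ K)) :
    ((H ⊔ K : Subgroup G) : Set G) = (H : Set G) * (K : Set G) := by
  refine Set.Subset.antisymm (fun j hj => ?_) ?_
  swap
  · rintro _ ⟨a, ha, b, hb, rfl⟩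
    exact Subgroup.mul_mem_sup ha hb
  have h2 := card_mul_relIndex (inf_le_right : H ⊓ K ≤ K)
  rw [Subgroup.inf_relIndex_right] at h2
  have h3 := card_mul_relIndex (le_sup_left : H ≤ H ⊔ K)
  have heq : H.relIndex K = H.relIndex (H ⊔ K) := by
    have : Nat.card ↥H * H.relIndex K * Nat.card ↥(H ⊓ K)
        = Nat.card ↥H * H.relIndex (H ⊔ K) * Nat.card ↥(H ⊓ K) := by
      rw [h3, ← h, ← h2]; ring
    exact Nat.eq_of_mul_eq_mul_left Nat.card_pos (Nat.eq_of_mul_eq_mul_right Nat.card_pos this)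
  set f := Subgroup.quotientSubgroupOfEmbeddingOfLE H (le_sup_right : K ≤ H ⊔ K)
  have hbij : Function.Bijective f := by
    exact (Nat.bijective_iff_injective_and_card f).2 ⟨f.injective, heq⟩
  obtain ⟨q, hq⟩ := hbij.2 (QuotientGroup.mk (⟨j⁻¹, inv_mem hj⟩ : ↥(H ⊔ K)))
  obtain ⟨k, rfl⟩ := QuotientGroup.mk_surjective q
  rw [Subgroup.quotientSubgroupOfEmbeddingOfLE_apply_mk, QuotientGroup.eq,
    Subgroup.mem_subgroupOf] at hq
  refine ⟨((k : G)⁻¹ * j⁻¹)⁻¹, H.inv_mem (by simpa using hq), (k : G)⁻¹, K.inv_mem k.2, ?_⟩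
  simp

theorem centralizer_sup (H K : Subgroup G) :
    Subgroup.centralizer ((H ⊔ K : Subgroup G) : Set G)
      = Subgroup.centralizer (H : Set G) ⊓ Subgroup.centralizer (K : Set G) :=
  le_antisymm (le_inf (Subgroup.centralizer_le (SetLike.coe_subset_coe.2 le_sup_left))
    (Subgroup.centralizer_le (SetLike.coe_subset_coe.2 le_sup_right)))
    (Subgroup.le_centralizer_iff.1 (sup_le (Subgroup.le_centralizer_iff.1 inf_le_left)
      (Subgroup.le_centralizer_iff.1 inf_le_right)))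

theorem sup_centralizer_le (H K : Subgroup G) :
    Subgroup.centralizer (H : Set G) ⊔ Subgroup.centralizer (K : Set G)
      ≤ Subgroup.centralizer ((H ⊓ K : Subgroup G) : Set G) :=
  sup_le (Subgroup.centralizer_le (SetLike.coe_subset_coe.2 inf_le_left))
    (Subgroup.centralizer_le (SetLike.coe_subset_coe.2 inf_le_right))

/-- `|H| · |C(H)|`. -/
noncomputable def cdMeasure (H : Subgroup G) : ℕ :=
  Nat.card ↥H * Nat.card ↥(Subgroup.centralizer (H : Set G))

theorem cdMeasure_pos (H : Subgroup G) : 0 < cdMeasure H := Nat.mul_pos Nat.card_pos Nat.card_pos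

theorem isCentralizerLarge_iff (H : Subgroup G) :
    Cfsg.IsCentralizerLarge H ↔ ∀ K : Subgroup G, cdMeasure K ≤ cdMeasure H := by
  have hne : {k : ℕ | ∃ R : Subgroup G, Nat.card ↥R * Nat.card ↥(Subgroup.centralizer (R : Set G)) = k}.Nonempty :=
    ⟨_, ⊥, rfl⟩
  have hbdd : BddAbove {k : ℕ | ∃ R : Subgroup G, Nat.card ↥R * Nat.card ↥(Subgroup.centralizer (R : Set G)) = k} :=
    (Set.finite_range fun R : Subgroup G => Nat.card ↥R * Nat.card ↥(Subgroup.centralizer (R : Set G))).bddAbove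
  constructor
  · intro h K
    exact le_of_le_of_eq (le_csSup hbdd ⟨K, rfl⟩) h.symm
  · intro h
    refine le_antisymm (le_csSup hbdd ⟨H, rfl⟩) (csSup_le hne ?_)
    rintro k ⟨K, rfl⟩
    exact h K

theorem exists_isCentralizerLarge (G : Type*) [Group G] [Finite G] :
    ∃ H : Subgroup G, Cfsg.IsCentralizerLarge H := by
  haveI := Fintype.ofFinite (Subgroup G)
  obtain ⟨H, -, hH⟩ := Finset.univ.exists_max_image (cdMeasure (G := G)) Finset.univ_nonempty
  exact ⟨H, (isCentralizerLarge_iff H).2 fun K => hH K (Finset.mem_univ K)⟩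

theorem cdMeasure_mul_le (H K : Subgroup G) :
    cdMeasure H * cdMeasure K ≤ cdMeasure (H ⊔ K) * cdMeasure (H ⊓ K) := by
  unfold cdMeasure
  rw [centralizer_sup]
  calc _ = (Nat.card ↥H * Nat.card ↥K) *
        (Nat.card ↥(Subgroup.centralizer (H : Set G)) * Nat.card ↥(Subgroup.centralizer (K : Set G))) := by ring
    _ ≤ (Nat.card ↥(H ⊔ K) * Nat.card ↥(H ⊓ K)) *
        (Nat.card ↥(Subgroup.centralizer (H : Set G) ⊔ Subgroup.centralizer (K : Set G)) *
          Nat.card ↥(Subgroup.centralizer (H : Set G) ⊓ Subgroup.centralizer (K : Set G))) :=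
      Nat.mul_le_mul (card_mul_card_le _ _) (card_mul_card_le _ _)
    _ ≤ (Nat.card ↥(H ⊔ K) * Nat.card ↥(H ⊓ K)) *
        (Nat.card ↥(Subgroup.centralizer ((H ⊓ K : Subgroup G) : Set G)) *
          Nat.card ↥(Subgroup.centralizer (H : Set G) ⊓ Subgroup.centralizer (K : Set G))) :=
      Nat.mul_le_mul_left _ (Nat.mul_le_mul_right _ (Subgroup.card_le_of_le (sup_centralizer_le H K)))
    _ = _ := by ring

/-- The Chermak–Delgado lattice. -/
theorem isCentralizerLarge_sup_inf {H K : Subgroup G} (hH : Cfsg.IsCentralizerLarge H)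
    (hK : Cfsg.IsCentralizerLarge K) :
    Cfsg.IsCentralizerLarge (H ⊔ K) ∧ Cfsg.IsCentralizerLarge (H ⊓ K) ∧
      ((H ⊔ K : Subgroup G) : Set G) = (H : Set G) * (K : Set G) ∧
      Subgroup.centralizer ((H ⊓ K : Subgroup G) : Set G)
        = Subgroup.centralizer (H : Set G) ⊔ Subgroup.centralizer (K : Set G) := by
  rw [isCentralizerLarge_iff] at hH hK
  have hm : cdMeasure H = cdMeasure K := le_antisymm (hK H) (hH K)
  have h := cdMeasure_mul_le H K
  have hs := hH (H ⊔ K)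
  have hi := hH (H ⊓ K)
  have es : cdMeasure (H ⊔ K) = cdMeasure H := by
    refine le_antisymm hs (Nat.le_of_mul_le_mul_right ?_ (cdMeasure_pos H))
    calc cdMeasure H * cdMeasure H ≤ cdMeasure (H ⊔ K) * cdMeasure (H ⊓ K) := by
          nth_rewrite 2 [hm]; exact h
      _ ≤ cdMeasure (H ⊔ K) * cdMeasure H := Nat.mul_le_mul_left _ hi
  have ei : cdMeasure (H ⊓ K) = cdMeasure H := by
    refine le_antisymm hi (Nat.le_of_mul_le_mul_left ?_ (cdMeasure_pos H))
    calc cdMeasure H * cdMeasure H ≤ cdMeasure (H ⊔ K) * cdMeasure (H ⊓ K) := by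
          nth_rewrite 2 [hm]; exact h
      _ = cdMeasure H * cdMeasure (H ⊓ K) := by rw [es]
  have heq : cdMeasure H * cdMeasure K = cdMeasure (H ⊔ K) * cdMeasure (H ⊓ K) := by rw [es, ei, hm]
  set CH := Subgroup.centralizer (H : Set G)
  set CK := Subgroup.centralizer (K : Set G)
  have l1 := card_mul_card_le H K
  have l2 := card_mul_card_le CH CK
  have l3 : Nat.card ↥(CH ⊔ CK) ≤ Nat.card ↥(Subgroup.centralizer ((H ⊓ K : Subgroup G) : Set G)) :=
    Subgroup.card_le_of_le (sup_centralizer_le H K)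
  simp only [cdMeasure, centralizer_sup] at heq
  set a := Nat.card ↥(H ⊔ K) * Nat.card ↥(H ⊓ K)
  set b := Nat.card ↥(Subgroup.centralizer ((H ⊓ K : Subgroup G) : Set G)) * Nat.card ↥(CH ⊓ CK)
  have l4 : Nat.card ↥(CH ⊔ CK) * Nat.card ↥(CH ⊓ CK) ≤ b := Nat.mul_le_mul_right _ l3
  have heq' : (Nat.card ↥H * Nat.card ↥K) * (Nat.card ↥CH * Nat.card ↥CK) = a * b := by
    calc _ = Nat.card ↥H * Nat.card ↥CH * (Nat.card ↥K * Nat.card ↥CK) := by ring
      _ = _ := heq
      _ = a * b := by ring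
  have hpos : 0 < Nat.card ↥CH * Nat.card ↥CK := Nat.mul_pos Nat.card_pos Nat.card_pos
  have hpos' : 0 < a := Nat.mul_pos Nat.card_pos Nat.card_pos
  have ea : Nat.card ↥H * Nat.card ↥K = a := by
    refine le_antisymm l1 (Nat.le_of_mul_le_mul_right ?_ hpos)
    rw [heq']
    exact Nat.mul_le_mul_left _ (l2.trans l4)
  have eb : Nat.card ↥CH * Nat.card ↥CK = b := Nat.eq_of_mul_eq_mul_left hpos' (by rw [← heq', ea])
  refine ⟨(isCentralizerLarge_iff _).2 fun L => es ▸ hH L,
    (isCentralizerLarge_iff _).2 fun L => ei ▸ hH L, coe_sup_eq_mul_of_card_eq H K ea,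
    (Subgroup.eq_of_le_of_card_ge (sup_centralizer_le H K) ?_).symm⟩
  exact Nat.le_of_mul_le_mul_right (by rw [show Nat.card ↥(Subgroup.centralizer ((H ⊓ K : Subgroup G) : Set G)) * Nat.card ↥(CH ⊓ CK) = b from rfl, ← eb]; exact l2) Nat.card_pos

theorem centralizer_centralizer_of_large {H : Subgroup G} (hH : Cfsg.IsCentralizerLarge H) :
    Cfsg.IsCentralizerLarge (Subgroup.centralizer (H : Set G)) ∧
      H = Subgroup.centralizer ((Subgroup.centralizer (H : Set G) : Subgroup G) : Set G) := by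
  rw [isCentralizerLarge_iff] at hH
  have hle : H ≤ Subgroup.centralizer ((Subgroup.centralizer (H : Set G) : Subgroup G) : Set G) :=
    Subgroup.le_centralizer_iff.1 le_rfl
  have h1 : cdMeasure H ≤ cdMeasure (Subgroup.centralizer (H : Set G)) := by
    unfold cdMeasure
    rw [mul_comm]
    exact Nat.mul_le_mul_left _ (Subgroup.card_le_of_le hle)
  refine ⟨(isCentralizerLarge_iff _).2 fun L => (hH L).trans h1, Subgroup.eq_of_le_of_card_ge hle ?_⟩
  have h2 := hH (Subgroup.centralizer (H : Set G))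
  unfold cdMeasure at h2
  rw [mul_comm (Nat.card ↥H)] at h2
  exact Nat.le_of_mul_le_mul_left h2 Nat.card_pos

theorem cdMeasure_conjMap (g : G) (H : Subgroup G) :
    cdMeasure (H.map (MulAut.conj g).toMonoidHom) = cdMeasure H := by
  unfold cdMeasure
  rw [conjMap_card]
  congr 1
  rw [← conjMap_card g (Subgroup.centralizer (H : Set G))]
  congr 2
  ext c
  simp only [Subgroup.mem_centralizer_iff, mem_conjMap, SetLike.mem_coe]
  constructor
  · intro h u hu
    have h1 := h (g * u * g⁻¹) (by simpa [mul_assoc] using hu)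
    have h2 := congrArg (fun z => g⁻¹ * z * g) h1
    simpa [mul_assoc] using h2
  · intro h u hu
    have h1 := h _ hu
    have h2 := congrArg (fun z => g * z * g⁻¹) h1
    simpa [mul_assoc] using h2

end Cfsg.Agent.LocalEvenB
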