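import Cfsg.Prelude.Def_PLocal
import Cfsg.Agent.Lib.LocalEvenB.Measure

/-! Centrally large subgroups (Glauberman–Solomon). -/

set_option autoImplicit false

namespace Cfsg.Agent.LocalEvenB

open scoped Pointwise commutatorElement

variable {G : Type*} [Group G] [Finite G]

local notation "C[" H "]" => Subgroup.centralizer ((H : Subgroup G) : Set G)

omit [Finite G] in
theorem card_center (Q : Subgroup G) :
    Nat.card ↥(Subgroup.center ↥Q) = Nat.card ↥(Q ⊓ C[Q]) :=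
  Nat.card_congr
    { toFun := fun x => ⟨(x : ↥Q), (x : ↥Q).2, Subgroup.mem_centralizer_iff.2 fun h hh =>
        congrArg Subtype.val (Subgroup.mem_center_iff.1 x.2 ⟨h, hh⟩)⟩
      invFun := fun x => ⟨⟨(x : G), x.2.1⟩, Subgroup.mem_center_iff.2 fun y =>
        Subtype.ext (Subgroup.mem_centralizer_iff.1 x.2.2 y y.2)⟩
      left_inv := fun x => rfl
      right_inv := fun x => rfl }

theorem maxCentralizerProduct_eq {H : Subgroup G} (h : Cfsg.IsCentralizerLarge H) :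
    Cfsg.maxCentralizerProduct G = cdMeasure H := h.symm

theorem central_le_cdMeasure (Q : Subgroup G) :
    Nat.card ↥Q * Nat.card ↥(Subgroup.center ↥Q) ≤ cdMeasure Q :=
  Nat.mul_le_mul_left _ (by rw [card_center]; exact Subgroup.card_le_of_le inf_le_right)

/-- The two largest values agree. -/
theorem maxCentralProduct_eq : Cfsg.maxCentralProduct G = Cfsg.maxCentralizerProduct G := by
  obtain ⟨H, hH⟩ := exists_isCentralizerLarge G
  obtain ⟨hC, hHH⟩ := centralizer_centralizer_of_large hH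
  obtain ⟨hT, -, -, -⟩ := isCentralizerLarge_sup_inf hH hC
  have hbdd : BddAbove {k : ℕ | ∃ R : Subgroup G, Nat.card ↥R * Nat.card ↥(Subgroup.center ↥R) = k} :=
    (Set.finite_range fun R : Subgroup G => Nat.card ↥R * Nat.card ↥(Subgroup.center ↥R)).bddAbove
  refine le_antisymm (csSup_le ⟨_, ⊥, rfl⟩ ?_) (le_csSup hbdd ⟨H ⊔ C[H], ?_⟩)
  · rintro k ⟨R, rfl⟩
    exact (central_le_cdMeasure R).trans (maxCentralizerProduct_eq hH ▸ (isCentralizerLarge_iff H).1 hH R)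
  · rw [maxCentralizerProduct_eq hT, cdMeasure, card_center, centralizer_sup, ← hHH,
      inf_eq_right.2 (inf_le_right.trans le_sup_left)]

theorem isCentrallyLarge_iff (Q : Subgroup G) :
    Cfsg.IsCentrallyLarge Q ↔ Cfsg.IsCentralizerLarge Q ∧ C[Q] ≤ Q := by
  constructor
  · intro h
    unfold Cfsg.IsCentrallyLarge at h
    rw [maxCentralProduct_eq] at h
    obtain ⟨H, hH⟩ := exists_isCentralizerLarge G
    have h2 : cdMeasure Q ≤ cdMeasure H := (isCentralizerLarge_iff H).1 hH Q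
    rw [maxCentralizerProduct_eq hH] at h
    have h3 : cdMeasure Q = cdMeasure H := le_antisymm h2 (h ▸ central_le_cdMeasure Q)
    refine ⟨(isCentralizerLarge_iff Q).2 fun L => h3 ▸ (isCentralizerLarge_iff H).1 hH L, ?_⟩
    rw [← h3, cdMeasure] at h
    have h4 : Nat.card ↥(Subgroup.center ↥Q) = Nat.card ↥C[Q] := Nat.eq_of_mul_eq_mul_left Nat.card_pos h
    exact inf_eq_right.1 (Subgroup.eq_of_le_of_card_ge inf_le_right (by rw [← card_center, h4]))
  · rintro ⟨h, hC⟩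
    unfold Cfsg.IsCentrallyLarge
    rw [maxCentralProduct_eq, card_center, inf_eq_right.2 hC]
    exact h

theorem cl_center {Q : Subgroup G} (hQ : Cfsg.IsCentrallyLarge Q) : Q ⊓ C[Q] = C[Q] :=
  inf_eq_right.2 ((isCentrallyLarge_iff Q).1 hQ).2

theorem cl_sup {Q R : Subgroup G} (hQ : Cfsg.IsCentrallyLarge Q) (hR : Cfsg.IsCentrallyLarge R) :
    ((Q ⊔ R : Subgroup G) : Set G) = (Q : Set G) * (R : Set G) ∧ Cfsg.IsCentrallyLarge (Q ⊔ R) := by
  rw [isCentrallyLarge_iff] at hQ hR ⊢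
  obtain ⟨hs, -, hmul, -⟩ := isCentralizerLarge_sup_inf hQ.1 hR.1
  refine ⟨hmul, hs, ?_⟩
  rw [centralizer_sup]
  exact inf_le_left.trans (hQ.2.trans le_sup_left)

theorem exists_isCentrallyLarge (G : Type*) [Group G] [Finite G] :
    ∃ Q : Subgroup G, Cfsg.IsCentrallyLarge Q := by
  obtain ⟨H, hH⟩ := exists_isCentralizerLarge G
  obtain ⟨hC, hHH⟩ := centralizer_centralizer_of_large hH
  refine ⟨_, (isCentrallyLarge_iff _).2 ⟨(isCentralizerLarge_sup_inf hH hC).1, ?_⟩⟩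
  rw [centralizer_sup]
  exact inf_le_left.trans le_sup_right

theorem exists_isMinimalCentrallyLarge_le {Q : Subgroup G} (hQ : Cfsg.IsCentrallyLarge Q) :
    ∃ R : Subgroup G, R ≤ Q ∧ Cfsg.IsMinimalCentrallyLarge R := by
  obtain ⟨R, hRQ, hR, hmin⟩ := Finite.exists_le_minimal (p := fun R : Subgroup G => Cfsg.IsCentrallyLarge R) hQ
  exact ⟨R, hRQ, hR, fun R' h h' => le_antisymm h (hmin h' h)⟩

theorem centrallyLargeJoin_cl : Cfsg.IsCentrallyLarge (Cfsg.centrallyLargeJoin G) :=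
  exists_sSup_eq (S := {R : Subgroup G | Cfsg.IsCentrallyLarge R}) (exists_isCentrallyLarge G)
    fun _ hA _ hB => (cl_sup hA hB).2

theorem minimalCentrallyLargeJoin_cl : Cfsg.IsCentrallyLarge (Cfsg.minimalCentrallyLargeJoin G) := by
  obtain ⟨Q, hQ⟩ := exists_isCentrallyLarge G
  obtain ⟨R, -, hR⟩ := exists_isMinimalCentrallyLarge_le hQ
  set M := Cfsg.minimalCentrallyLargeJoin G with hM
  have h := exists_sSup_eq (S := {L : Subgroup G | Cfsg.IsCentrallyLarge L ∧ L ≤ M})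
    ⟨R, hR.1, le_sSup hR⟩ fun A hA B hB => ⟨(cl_sup hA.1 hB.1).2, sup_le hA.2 hB.2⟩
  have : sSup {L : Subgroup G | Cfsg.IsCentrallyLarge L ∧ L ≤ M} = M :=
    le_antisymm (sSup_le fun L hL => hL.2) (sSup_le fun L hL => le_sSup ⟨hL.1, le_sSup hL⟩)
  exact this ▸ h.1

theorem maxAbelian_centralizer {A : Subgroup G} (hA : A ∈ Cfsg.maxAbelianSubgroups G) : C[A] = A := by
  haveI := hA.1
  have hle : A ≤ C[A] := Subgroup.le_centralizer_iff_isMulCommutative.2 hA.1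
  refine le_antisymm (fun x hx => ?_) hle
  set B : Subgroup G := Subgroup.closure (insert x (A : Set G))
  have hB : IsMulCommutative ↥B := by
    refine Subgroup.isMulCommutative_closure ?_
    rintro u (rfl | hu) v (rfl | hv)
    · rfl
    · exact (Subgroup.mem_centralizer_iff.1 hx v hv).symm
    · exact Subgroup.mem_centralizer_iff.1 hx u hu
    · exact Subgroup.mem_centralizer_iff.1 (hle hv) u hu
  have h1 : B = A := (Subgroup.eq_of_le_of_card_ge
    (fun a ha => Subgroup.subset_closure (Set.mem_insert_of_mem _ ha)) (hA.2 B hB)).symm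
  exact h1 ▸ Subgroup.subset_closure (Set.mem_insert x _)

/-- `QA` is centrally large for every abelian subgroup `A` of largest order. -/
theorem cl_sup_maxAbelian {Q A : Subgroup G} (hQ : Cfsg.IsCentrallyLarge Q)
    (hA : A ∈ Cfsg.maxAbelianSubgroups G) :
    ((Q ⊔ A : Subgroup G) : Set G) = (Q : Set G) * (A : Set G) ∧ Cfsg.IsCentrallyLarge (Q ⊔ A) ∧
      C[(Q ⊓ A) ⊔ C[Q]] = (Q ⊓ A) ⊔ C[Q] := by
  obtain ⟨hQl, hQc⟩ := (isCentrallyLarge_iff Q).1 hQ
  haveI := hA.1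
  set Z := C[Q] with hZ
  set T := Q ⊓ A with hT
  have hZT : IsMulCommutative ↥(T ⊔ Z : Subgroup G) := by
    refine Subgroup.le_centralizer_iff_isMulCommutative.1 ?_
    rw [centralizer_sup]
    refine sup_le (le_inf ?_ ?_) (le_inf ?_ ?_)
    · exact ((inf_le_right : T ≤ A).trans (Subgroup.le_centralizer_iff_isMulCommutative.2 hA.1)).trans
        (Subgroup.centralizer_le (SetLike.coe_subset_coe.2 inf_le_right))
    · exact Subgroup.le_centralizer_iff.1 (Subgroup.centralizer_le (SetLike.coe_subset_coe.2 inf_le_left))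
    · exact Subgroup.centralizer_le (SetLike.coe_subset_coe.2 inf_le_left)
    · exact Subgroup.centralizer_le (SetLike.coe_subset_coe.2 hQc)
  have hd : Nat.card ↥(T ⊔ Z : Subgroup G) ≤ Nat.card ↥A := hA.2 _ hZT
  have hJ : C[Q ⊔ A] = Z ⊓ A := by rw [centralizer_sup, maxAbelian_centralizer hA]
  have hTZ : T ⊓ Z = Z ⊓ A := by
    rw [hT, inf_assoc, inf_comm A Z, ← inf_assoc, inf_eq_right.2 hQc]
  have i1 : Nat.card ↥Q * Nat.card ↥A ≤ Nat.card ↥(Q ⊔ A) * Nat.card ↥T := card_mul_card_le Q A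
  have i2 : Nat.card ↥T * Nat.card ↥Z ≤ Nat.card ↥A * Nat.card ↥(Z ⊓ A) := by
    refine (card_mul_card_le T Z).trans ?_
    rw [hTZ]
    exact Nat.mul_le_mul_right _ hd
  have hm : cdMeasure (Q ⊔ A) ≤ cdMeasure Q := (isCentralizerLarge_iff Q).1 hQl _
  unfold cdMeasure at hm
  rw [hJ] at hm
  have i3 : Nat.card ↥Q * Nat.card ↥Z * Nat.card ↥T ≤ Nat.card ↥(Q ⊔ A) * Nat.card ↥(Z ⊓ A) * Nat.card ↥T := by
    calc Nat.card ↥Q * Nat.card ↥Z * Nat.card ↥T = Nat.card ↥Q * (Nat.card ↥T * Nat.card ↥Z) := by ring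
      _ ≤ Nat.card ↥Q * (Nat.card ↥A * Nat.card ↥(Z ⊓ A)) := Nat.mul_le_mul_left _ i2
      _ = Nat.card ↥Q * Nat.card ↥A * Nat.card ↥(Z ⊓ A) := by ring
      _ ≤ Nat.card ↥(Q ⊔ A) * Nat.card ↥T * Nat.card ↥(Z ⊓ A) := Nat.mul_le_mul_right _ i1
      _ = _ := by ring
  have e3 : Nat.card ↥(Q ⊔ A) * Nat.card ↥(Z ⊓ A) = Nat.card ↥Q * Nat.card ↥Z :=
    le_antisymm hm (Nat.le_of_mul_le_mul_right i3 Nat.card_pos)
  have e1 : Nat.card ↥Q * Nat.card ↥A = Nat.card ↥(Q ⊔ A) * Nat.card ↥T := by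
    refine le_antisymm i1 (Nat.le_of_mul_le_mul_right ?_ (Nat.card_pos (α := ↥(Z ⊓ A : Subgroup G))))
    calc Nat.card ↥(Q ⊔ A) * Nat.card ↥T * Nat.card ↥(Z ⊓ A)
        = Nat.card ↥(Q ⊔ A) * Nat.card ↥(Z ⊓ A) * Nat.card ↥T := by ring
      _ = Nat.card ↥Q * (Nat.card ↥T * Nat.card ↥Z) := by rw [e3]; ring
      _ ≤ Nat.card ↥Q * (Nat.card ↥A * Nat.card ↥(Z ⊓ A)) := Nat.mul_le_mul_left _ i2
      _ = _ := by ring
  have e2 : Nat.card ↥A ≤ Nat.card ↥(T ⊔ Z : Subgroup G) := by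
    have h := card_mul_card_le T Z
    rw [hTZ] at h
    refine Nat.le_of_mul_le_mul_right ?_ (Nat.card_pos (α := ↥(Z ⊓ A : Subgroup G)))
    refine le_trans ?_ (Nat.mul_le_mul_right _ le_rfl)
    refine Nat.le_of_mul_le_mul_left ?_ (Nat.card_pos (α := ↥Q))
    calc Nat.card ↥Q * (Nat.card ↥A * Nat.card ↥(Z ⊓ A))
        = Nat.card ↥(Q ⊔ A) * Nat.card ↥(Z ⊓ A) * Nat.card ↥T := by rw [← mul_assoc, e1]; ring
      _ = Nat.card ↥Q * (Nat.card ↥T * Nat.card ↥Z) := by rw [e3]; ring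
      _ ≤ Nat.card ↥Q * (Nat.card ↥(T ⊔ Z : Subgroup G) * Nat.card ↥(T ⊓ Z : Subgroup G)) :=
          Nat.mul_le_mul_left _ (card_mul_card_le T Z)
      _ = _ := by rw [hTZ]
  refine ⟨coe_sup_eq_mul_of_card_eq Q A e1, (isCentrallyLarge_iff _).2 ⟨?_, ?_⟩,
    maxAbelian_centralizer (A := T ⊔ Z) ⟨hZT, fun B hB => (hA.2 B hB).trans e2⟩⟩
  · refine (isCentralizerLarge_iff _).2 fun L => ((isCentralizerLarge_iff Q).1 hQl L).trans ?_
    unfold cdMeasure
    rw [hJ, e3]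
  · rw [hJ]; exact inf_le_left.trans (hQc.trans le_sup_left)

theorem cl_sup_thompson {Q : Subgroup G} (hQ : Cfsg.IsCentrallyLarge Q) :
    Cfsg.IsCentrallyLarge (Q ⊔ Cfsg.thompsonSubgroupA G) := by
  set J := Cfsg.thompsonSubgroupA G
  set S : Set (Subgroup G) := {R | Cfsg.IsCentrallyLarge R ∧ R ≤ Q ⊔ J} with hS
  have h : sSup S ∈ S := exists_sSup_eq ⟨Q, hQ, le_sup_left⟩
    fun A hA B hB => ⟨(cl_sup hA.1 hB.1).2, sup_le hA.2 hB.2⟩
  have he : sSup S = Q ⊔ J := by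
    refine le_antisymm (sSup_le fun R hR => hR.2) (sup_le (le_sSup ⟨hQ, le_sup_left⟩) (sSup_le fun A hA => ?_))
    exact le_sup_right.trans (le_sSup
      ⟨(cl_sup_maxAbelian hQ hA).2.1, sup_le_sup_left (le_sSup hA) Q⟩)
  exact he ▸ h.1

/-- A centrally large subgroup containing `J` contains `C(Z(J))`. -/
theorem centralizer_centerThompson_le {L : Subgroup G} (hL : Cfsg.IsCentrallyLarge L)
    (hJL : Cfsg.thompsonSubgroupA G ≤ L) :
    C[Cfsg.thompsonSubgroupA G ⊓ C[Cfsg.thompsonSubgroupA G]] ≤ L := by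
  obtain ⟨hLl, hLc⟩ := (isCentrallyLarge_iff L).1 hL
  have hZ : C[L] ≤ Cfsg.thompsonSubgroupA G ⊓ C[Cfsg.thompsonSubgroupA G] := by
    refine le_inf ?_ (Subgroup.centralizer_le (SetLike.coe_subset_coe.2 hJL))
    haveI := Fintype.ofFinite {A : Subgroup G // IsMulCommutative ↥A}
    haveI : Nonempty {A : Subgroup G // IsMulCommutative ↥A} := ⟨⟨⊥, inferInstance⟩⟩
    obtain ⟨⟨A, hAc⟩, -, hA⟩ := Finset.univ.exists_max_image
      (fun A : {A : Subgroup G // IsMulCommutative ↥A} => Nat.card ↥A.1) Finset.univ_nonempty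
    have hAm : A ∈ Cfsg.maxAbelianSubgroups G := ⟨hAc, fun B hB => hA ⟨B, hB⟩ (Finset.mem_univ _)⟩
    have hAJ : A ≤ Cfsg.thompsonSubgroupA G := le_sSup hAm
    exact ((Subgroup.centralizer_le (SetLike.coe_subset_coe.2 (hAJ.trans hJL))).trans
      (maxAbelian_centralizer hAm).le).trans hAJ
  exact (Subgroup.centralizer_le (SetLike.coe_subset_coe.2 hZ)).trans
    (centralizer_centralizer_of_large hLl).2.ge

theorem minCL_eq {Q R : Subgroup G} (hQ : Cfsg.IsMinimalCentrallyLarge Q)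
    (hR : Cfsg.IsMinimalCentrallyLarge R) : (Q ⊓ R) ⊔ C[Q] = Q := by
  obtain ⟨hQl, hQc⟩ := (isCentrallyLarge_iff Q).1 hQ.1
  obtain ⟨hRl, hRc⟩ := (isCentrallyLarge_iff R).1 hR.1
  obtain ⟨-, hi, -, hci⟩ := isCentralizerLarge_sup_inf hQl hRl
  have hcQ := (centralizer_centralizer_of_large hQl).1
  have hcR := (centralizer_centralizer_of_large hRl).1
  obtain ⟨hT, -, -, -⟩ := isCentralizerLarge_sup_inf hi hcQ
  refine hQ.2 _ (sup_le inf_le_left hQc) ((isCentrallyLarge_iff _).2 ⟨hT, ?_⟩)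
  rw [centralizer_sup, ← (centralizer_centralizer_of_large hQl).2, hci]
  rintro x ⟨hx, hxQ⟩
  replace hx : x ∈ ((C[Q] ⊔ C[R] : Subgroup G) : Set G) := hx
  rw [(isCentralizerLarge_sup_inf hcQ hcR).2.2.1] at hx
  obtain ⟨z, hz, w, hw, rfl⟩ := hx
  have hwQ : w ∈ Q := by simpa using Q.mul_mem (Q.inv_mem (hQc hz)) hxQ
  exact Subgroup.mul_mem _ (le_sup_right (α := Subgroup G) hz)
    (le_sup_left (α := Subgroup G) (show w ∈ Q ⊓ R from ⟨hwQ, hRc hw⟩))

theorem minCL_commutator {Q R : Subgroup G} (hQ : Cfsg.IsMinimalCentrallyLarge Q)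
    (hR : Cfsg.IsMinimalCentrallyLarge R) : ⁅Q, Q⁆ = ⁅Q ⊓ R, Q ⊓ R⁆ := by
  refine le_antisymm ?_ (Subgroup.commutator_mono inf_le_left inf_le_left)
  rw [Subgroup.commutator_le]
  have hz : ∀ z ∈ C[Q], ∀ x ∈ Q, Commute z x := fun z hz x hx =>
    (Subgroup.mem_centralizer_iff.1 hz x hx).symm
  have hform : ∀ x ∈ Q, ∃ t ∈ Q ⊓ R, ∃ z ∈ C[Q], x = t * z := by
    intro x hx
    have hnorm : C[Q] ≤ Subgroup.normalizer ((Q ⊓ R : Subgroup G) : Set G) := by
      refine fun z hz' => mem_normalizer_of_conj_mem fun t ht => ?_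
      rw [(hz z hz' t ht.1).eq, mul_inv_cancel_right]
      exact ht
    have h := (minCL_eq hQ hR).ge hx
    rw [← SetLike.mem_coe, Subgroup.coe_mul_of_right_le_normalizer_left _ _ hnorm] at h
    obtain ⟨t, ht, z, hz', rfl⟩ := h
    exact ⟨t, ht, z, hz', rfl⟩
  intro x hx y hy
  obtain ⟨t, ht, z, hzc, rfl⟩ := hform x hx
  obtain ⟨t', ht', z', hzc', rfl⟩ := hform y hy
  have e : ⁅t * z, t' * z'⁆ = ⁅t, t'⁆ := by
    have h1 : z * (t' * z') * z⁻¹ = t' * z' := by rw [(hz z hzc _ hy).eq, mul_inv_cancel_right]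
    have h2 : z' * t⁻¹ = t⁻¹ * z' := (hz z' hzc' _ (Q.inv_mem ht.1)).eq
    calc ⁅t * z, t' * z'⁆ = t * (z * (t' * z') * z⁻¹) * t⁻¹ * (t' * z')⁻¹ := by
          rw [commutatorElement_def]; group
      _ = t * t' * (z' * t⁻¹) * z'⁻¹ * t'⁻¹ := by rw [h1]; group
      _ = ⁅t, t'⁆ := by rw [h2, commutatorElement_def]; group
  rw [e]
  exact Subgroup.commutator_mem_commutator ht ht'

theorem minCL_inter_center {Q R : Subgroup G} (hQ : Cfsg.IsMinimalCentrallyLarge Q)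
    (hR : Cfsg.IsMinimalCentrallyLarge R) : (Q ⊓ R) ⊓ C[Q] = (Q ⊓ R) ⊓ C[Q ⊓ R] := by
  refine le_antisymm (inf_le_inf_left _ (Subgroup.centralizer_le (SetLike.coe_subset_coe.2 inf_le_left))) ?_
  refine le_inf inf_le_left ?_
  have : C[Q] = C[(Q ⊓ R) ⊔ C[Q]] := by rw [minCL_eq hQ hR]
  rw [this, centralizer_sup]
  exact le_inf inf_le_right
    (inf_le_left.trans (inf_le_left.trans (Subgroup.le_centralizer_iff.1 le_rfl)))

theorem minCL_card {Q R : Subgroup G} (hQ : Cfsg.IsMinimalCentrallyLarge Q)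
    (hR : Cfsg.IsMinimalCentrallyLarge R) :
    Nat.card ↥Q = Nat.card ↥R ∧ Nat.card ↥C[Q] = Nat.card ↥C[R] := by
  have key : ∀ {Q R : Subgroup G}, Cfsg.IsMinimalCentrallyLarge Q → Cfsg.IsMinimalCentrallyLarge R →
      Nat.card ↥Q * Nat.card ↥((Q ⊓ R) ⊓ C[Q ⊓ R]) = Nat.card ↥(Q ⊓ R) * Nat.card ↥C[Q] := by
    intro Q R hQ hR
    have hnorm : C[Q] ≤ Subgroup.normalizer ((Q ⊓ R : Subgroup G) : Set G) :=
      (Subgroup.centralizer_le (SetLike.coe_subset_coe.2 inf_le_left)).trans (Subgroup.centralizer_le_normalizer _)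
    have hri : (Q ⊓ R).relIndex ((Q ⊓ R) ⊔ C[Q]) = (Q ⊓ R).relIndex C[Q] := by
      have hle : (Q ⊓ R) ⊔ C[Q] ≤ Subgroup.normalizer ((Q ⊓ R : Subgroup G) : Set G) :=
        sup_le Subgroup.le_normalizer hnorm
      haveI : ((Q ⊓ R).subgroupOf ((Q ⊓ R) ⊔ C[Q])).Normal :=
        Subgroup.normal_subgroupOf_of_le_normalizer hle
      have h := Subgroup.relIndex_sup_left (H := C[Q].subgroupOf ((Q ⊓ R) ⊔ C[Q]))
        (K := (Q ⊓ R).subgroupOf ((Q ⊓ R) ⊔ C[Q]))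
      rw [← Subgroup.subgroupOf_sup le_sup_left le_sup_right, Subgroup.relIndex_subgroupOf le_rfl,
        Subgroup.relIndex_subgroupOf le_sup_right] at h
      exact h
    have h1 := card_mul_relIndex (le_sup_left : Q ⊓ R ≤ (Q ⊓ R) ⊔ C[Q])
    have h2 := card_mul_relIndex (inf_le_right : (Q ⊓ R) ⊓ C[Q] ≤ C[Q])
    rw [hri, minCL_eq hQ hR] at h1
    rw [Subgroup.inf_relIndex_right, minCL_inter_center hQ hR] at h2
    rw [← h1, ← h2]
    ring
  have h1 := key hQ hR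
  have h2 := key hR hQ
  rw [inf_comm R Q] at h2
  have hm : cdMeasure Q = cdMeasure R :=
    ((isCentrallyLarge_iff Q).1 hQ.1).1.trans ((isCentrallyLarge_iff R).1 hR.1).1.symm
  unfold cdMeasure at hm
  set a := Nat.card ↥((Q ⊓ R) ⊓ C[Q ⊓ R])
  set t := Nat.card ↥(Q ⊓ R)
  have e : Nat.card ↥C[Q] = Nat.card ↥C[R] := by
    have : t * (Nat.card ↥C[Q] * Nat.card ↥C[Q]) = t * (Nat.card ↥C[R] * Nat.card ↥C[R]) := by
      rw [← mul_assoc, ← h1, ← mul_assoc, ← h2]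
      calc Nat.card ↥Q * a * Nat.card ↥C[Q] = Nat.card ↥Q * Nat.card ↥C[Q] * a := by ring
        _ = _ := by rw [hm]; ring
    exact Nat.mul_self_inj.1 (Nat.eq_of_mul_eq_mul_left Nat.card_pos this)
  refine ⟨Nat.eq_of_mul_eq_mul_right (Nat.card_pos (α := ↥C[Q])) ?_, e⟩
  rw [hm, e]

theorem minCL_abelian {Q : Subgroup G} (hQ : Cfsg.IsMinimalCentrallyLarge Q)
    (hQa : IsMulCommutative ↥Q) (X : Subgroup G) :
    Cfsg.IsMinimalCentrallyLarge X ↔ X ∈ Cfsg.maxAbelianSubgroups G := by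
  have hQm : ∀ {Y : Subgroup G}, IsMulCommutative ↥Y → Nat.card ↥Y * Nat.card ↥Y ≤ cdMeasure Y :=
    fun {Y} hY => Nat.mul_le_mul_left _
      (Subgroup.card_le_of_le (Subgroup.le_centralizer_iff_isMulCommutative.2 hY))
  obtain ⟨hQl, hQc⟩ := (isCentrallyLarge_iff Q).1 hQ.1
  have hQsq : cdMeasure Q = Nat.card ↥Q * Nat.card ↥Q := by
    unfold cdMeasure
    rw [le_antisymm hQc (Subgroup.le_centralizer_iff_isMulCommutative.2 hQa)]
  have hQmax : Q ∈ Cfsg.maxAbelianSubgroups G := ⟨hQa, fun B hB => Nat.mul_self_le_mul_self_iff.1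
    ((hQm hB).trans (hQsq ▸ (isCentralizerLarge_iff Q).1 hQl B))⟩
  constructor
  · intro hX
    have h1 : IsMulCommutative ↥X := by
      refine Subgroup.le_centralizer_iff_isMulCommutative.1 ?_
      refine Subgroup.commutator_eq_bot_iff_le_centralizer.1 ?_
      rw [minCL_commutator hX hQ, inf_comm, ← minCL_commutator hQ hX]
      exact Subgroup.commutator_eq_bot_iff_le_centralizer.2 (Subgroup.le_centralizer_iff_isMulCommutative.2 hQa)
    exact ⟨h1, fun B hB => (minCL_card hX hQ).1 ▸ hQmax.2 B hB⟩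
  · intro hX
    have hcard : Nat.card ↥X = Nat.card ↥Q := le_antisymm (hQmax.2 X hX.1) (hX.2 Q hQa)
    have hXc : C[X] = X := maxAbelian_centralizer hX
    refine ⟨(isCentrallyLarge_iff X).2 ⟨(isCentralizerLarge_iff X).2 fun L =>
      ((isCentralizerLarge_iff Q).1 hQl L).trans ?_, hXc.le⟩, fun R hR hRcl => ?_⟩
    · rw [hQsq, cdMeasure, hXc, hcard]
    · obtain ⟨hRl, hRc⟩ := (isCentrallyLarge_iff R).1 hRcl
      have hXR : X ≤ C[R] := hXc.ge.trans (Subgroup.centralizer_le (SetLike.coe_subset_coe.2 hR))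
      exact le_antisymm hR (hXR.trans hRc)

end Cfsg.Agent.LocalEvenB
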