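import Cfsg.Agent.Lib.LocalEvenB.Basic

/-! Elementary facts about a subgroup `H` with `p ∤ |H ∩ Hᵍ|` for `g ∉ H` (classical strong embedding). -/

set_option autoImplicit false

namespace Cfsg.Agent.LocalEvenB

variable {G : Type*} [Group G]

/-- The hypothesis of classical strong `p`-embedding. -/
def ClassicalSE (p : ℕ) (H : Subgroup G) : Prop :=
  ∀ g : G, g ∉ H → ¬ p ∣ Nat.card ↥(H ⊓ H.map (MulAut.conj g).toMonoidHom)

theorem pSubgroup_dvd [Finite G] {p : ℕ} [Fact p.Prime] {Q K : Subgroup G} (hQ : IsPGroup p ↥Q)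
    (hne : Q ≠ ⊥) (hQK : Q ≤ K) : p ∣ Nat.card ↥K := by
  haveI := (Subgroup.nontrivial_iff_ne_bot Q).mpr hne
  obtain ⟨n, hn, hn'⟩ := hQ.nontrivial_iff_card.mp inferInstance
  exact (hn' ▸ dvd_pow_self p hn.ne' : p ∣ Nat.card Q).trans (Subgroup.card_dvd_of_le hQK)

theorem cse_normalizer_le [Finite G] {p : ℕ} [Fact p.Prime] {H : Subgroup G} (hse : ClassicalSE p H)
    {Q : Subgroup G} (hQ : IsPGroup p ↥Q) (hQH : Q ≤ H) (hne : Q ≠ ⊥) :
    Subgroup.normalizer (Q : Set G) ≤ H := by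
  intro g hg
  by_contra hgH
  refine hse g hgH (pSubgroup_dvd hQ hne (le_inf hQH ?_))
  rw [← conjMap_eq_of_mem_normalizer hg]
  exact Subgroup.map_mono hQH

/-- A Sylow subgroup meeting `H` nontrivially lies in `H`. -/
theorem cse_sylow_le [Finite G] {p : ℕ} [Fact p.Prime] {H : Subgroup G} (hse : ClassicalSE p H)
    (T : Sylow p G) (hne : (T : Subgroup G) ⊓ H ≠ ⊥) : (T : Subgroup G) ≤ H := by
  have hp : IsPGroup p ↥((T : Subgroup G) ⊓ H) := T.isPGroup'.to_le inf_le_left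
  have h := eq_of_inf_normalizer_le T.isPGroup' (inf_le_left : (T : Subgroup G) ⊓ H ≤ T)
    (inf_le_inf_left _ (cse_normalizer_le hse hp inf_le_right hne))
  exact h.le.trans inf_le_right

theorem cse_exists_sylow_le [Finite G] {p : ℕ} [Fact p.Prime] {H : Subgroup G} (hse : ClassicalSE p H)
    (hpH : p ∣ Nat.card H) : ∃ S : Sylow p G, (S : Subgroup G) ≤ H ∧ (S : Subgroup G) ≠ ⊥ := by
  obtain ⟨x, hx⟩ := exists_prime_orderOf_dvd_card' p hpH
  have hxp : IsPGroup p ↥(Subgroup.zpowers (x : G)) :=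
    isPGroup_zpowers ⟨1, by rw [Subgroup.orderOf_coe, hx, pow_one]⟩
  obtain ⟨S, hS⟩ := hxp.exists_le_sylow
  have hx1 : (x : G) ≠ 1 := by
    intro h
    rw [← Subgroup.orderOf_coe, h, orderOf_one] at hx
    exact (Fact.out : p.Prime).one_lt.ne hx
  have hmem : (x : G) ∈ (S : Subgroup G) ⊓ H := ⟨hS (Subgroup.mem_zpowers _), x.2⟩
  have hne : (S : Subgroup G) ⊓ H ≠ ⊥ := fun h => hx1 (by rwa [h, Subgroup.mem_bot] at hmem)
  refine ⟨S, cse_sylow_le hse S hne, fun h => hne ?_⟩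
  rw [h, bot_inf_eq]

/-- Two elements carrying a Sylow subgroup of `H` into `H`. -/
theorem cse_mem_of_sylow_conj [Finite G] {p : ℕ} [Fact p.Prime] {H : Subgroup G} (hse : ClassicalSE p H)
    {Q : Subgroup G} (hQ : IsPGroup p ↥Q) (hne : Q ≠ ⊥) (hQH : Q ≤ H) {g : G}
    (hgQ : Q.map (MulAut.conj g).toMonoidHom ≤ H) : g ∈ H := by
  by_contra hgH
  refine hse g hgH (pSubgroup_dvd (hQ.map (MulAut.conj g).toMonoidHom) ?_ (le_inf hgQ (Subgroup.map_mono hQH)))
  rw [Ne, Subgroup.map_eq_bot_iff_of_injective _ (MulAut.conj g).injective]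
  exact hne

end Cfsg.Agent.LocalEvenB
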