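import Mathlib
import Cfsg.Agent.Lib.InvChar.OneSubgroup
import Cfsg.Agent.Lib.PermGp.NearFieldLinear.Degrees
import Cfsg.Agent.Lib.Basics.CoprimeGen

/-! Odd order automorphisms of 2-groups with one involution; coprime generation for automorphism groups. -/

set_option autoImplicit false

namespace Cfsg.Agent.LocalEvenB.AutOneInvol

/-- An odd power-order element of a finite group of 2-power order is trivial. -/
theorem eq_one_of_odd {A : Type*} [Group A] [Finite A] {m : ℕ} (hA : Nat.card A ∣ 2 ^ m) (σ : A)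
    (hσ : Odd (orderOf σ)) : σ = 1 := by
  rw [← orderOf_eq_one_iff]
  exact Nat.eq_one_of_dvd_coprimes ((Nat.coprime_two_right.2 hσ).pow_right m) dvd_rfl ((orderOf_dvd_natCard σ).trans hA)

theorem cyclic_case {Q : Type*} [Group Q] [Finite Q] [IsCyclic Q] (hQ : IsPGroup 2 Q) (σ : MulAut Q)
    (hσ : Odd (orderOf σ)) : σ = 1 := by
  haveI : Fact (Nat.Prime 2) := ⟨Nat.prime_two⟩
  obtain ⟨m, hm⟩ := IsPGroup.iff_card.1 hQ
  refine eq_one_of_odd (m := m) ?_ σ hσ
  rw [IsCyclic.card_mulAut, hm]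
  rcases m with _ | m
  · simp
  · rw [Nat.totient_prime_pow_succ Nat.prime_two]
    simp [pow_succ]

open QuaternionGroup in
theorem large_case {k : ℕ} (σ : MulAut (QuaternionGroup (2 ^ (k + 2)))) (hσ : Odd (orderOf σ)) : σ = 1 := by
  haveI : NeZero (2 ^ (k + 2)) := ⟨by positivity⟩
  haveI : NeZero (2 * 2 ^ (k + 2)) := ⟨by positivity⟩
  set m := orderOf σ with hm
  obtain ⟨i, hi⟩ : ∃ i, σ (a 1) = a i := by
    rcases h : σ (a 1) with i | i
    · exact ⟨i, rfl⟩
    · exfalso
      have h1 : orderOf (σ (a 1)) = 2 * 2 ^ (k + 2) := by rw [MulEquiv.orderOf_eq, orderOf_a_one]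
      rw [h, orderOf_xa] at h1
      have := Nat.one_le_pow k 2 (by norm_num)
      rw [pow_add] at h1
      omega
  have ha : ∀ j : ZMod (2 * 2 ^ (k + 2)), σ (a j) = a (i * j) := by
    intro j
    rw [← ZMod.natCast_zmod_val j, ← a_one_pow, map_pow, hi]
    generalize j.val = r
    induction r with
    | zero => rw [pow_zero, Nat.cast_zero, mul_zero]; rfl
    | succ r ih => rw [pow_succ (a i), ih, a_mul_a, Nat.cast_succ, mul_add, mul_one]
  have hit : ∀ (r : ℕ) j, (σ ^ r) (a j) = a (i ^ r * j) := by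
    intro r
    induction r with
    | zero => simp
    | succ r ih => intro j; rw [pow_succ σ, MulAut.mul_apply, ha, ih, pow_succ i, mul_assoc]
  have him : i ^ m = 1 := by
    have h1 := hit m 1
    rw [hm, pow_orderOf_eq_one, MulAut.one_apply, mul_one] at h1
    exact (QuaternionGroup.a.inj h1).symm
  have hunit : IsUnit i := IsUnit.of_pow_eq_one him hσ.pos.ne'
  have hi1 : i = 1 := by
    have : hunit.unit = 1 := by
      refine eq_one_of_odd (m := k + 3) ?_ _ (hσ.of_dvd_nat ?_)
      · rw [Nat.card_eq_fintype_card, ZMod.card_units_eq_totient, show 2 * 2 ^ (k + 2) = 2 ^ (k + 2 + 1) by ring,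
          Nat.totient_prime_pow_succ Nat.prime_two]
        simp [pow_succ]
      · exact orderOf_dvd_of_pow_eq_one (Units.ext (by rw [Units.val_pow_eq_pow_val, IsUnit.unit_spec, him]; rfl))
    rw [← hunit.unit_spec, this, Units.val_one]
  have ha' : ∀ j, σ (a j) = a j := fun j => by rw [ha, hi1, one_mul]
  obtain ⟨c, hc⟩ : ∃ c, σ (xa 0) = xa c := by
    rcases h : σ (xa 0) with c | c
    · exfalso
      have := σ.injective (h.trans (ha' c).symm)
      simp at this
    · exact ⟨c, rfl⟩
  have hx : ∀ r : ℕ, (σ ^ r) (xa 0) = xa ((r : ZMod (2 * 2 ^ (k + 2))) * c) := by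
    intro r
    induction r with
    | zero => simp
    | succ r ih =>
      rw [pow_succ' σ, MulAut.mul_apply, ih,
        show (xa ((r : ZMod (2 * 2 ^ (k + 2))) * c) : QuaternionGroup (2 ^ (k + 2))) = xa 0 * a ((r : ZMod (2 * 2 ^ (k + 2))) * c) by
          rw [xa_mul_a, zero_add],
        map_mul, hc, ha', xa_mul_a, Nat.cast_succ]
      congr 1
      ring
  have hc0 : c = 0 := by
    have h1 := hx m
    rw [hm, pow_orderOf_eq_one, MulAut.one_apply] at h1
    have h2 : ((m : ZMod (2 * 2 ^ (k + 2))) * c) = 0 := (QuaternionGroup.xa.inj h1).symm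
    have hu : IsUnit (m : ZMod (2 * 2 ^ (k + 2))) := by
      rw [ZMod.isUnit_iff_coprime]
      exact Nat.Coprime.mul_right (Nat.coprime_two_right.2 hσ) ((Nat.coprime_two_right.2 hσ).pow_right _)
    exact hu.mul_right_eq_zero.1 h2
  ext u
  rw [MulAut.one_apply]
  rcases u with j | j
  · exact ha' j
  · rw [show (xa j : QuaternionGroup (2 ^ (k + 2))) = xa 0 * a j by rw [xa_mul_a, zero_add],
      map_mul, hc, hc0, ha']

/-- A nontrivial odd order automorphism of a 2-group with one involution. -/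
theorem main {Q : Type*} [Group Q] [Finite Q] (hQ : IsPGroup 2 Q)
    (huniq : ∀ x y : Q, orderOf x = 2 → orderOf y = 2 → x = y) (σ : MulAut Q) (hσ : Odd (orderOf σ)) (h1 : σ ≠ 1) :
    orderOf σ = 3 ∧ Nat.card Q = 8 ∧ ¬ IsMulCommutative Q ∧
      Nat.card (σ.toMonoidHom.eqLocus (MonoidHom.id Q)) = 2 := by
  haveI : Fact (Nat.Prime 2) := ⟨Nat.prime_two⟩
  have hH : ∀ H K : Subgroup Q, Nat.card H = 2 → Nat.card K = 2 → H = K := by
    intro H K hH hK
    obtain ⟨x, hx⟩ := exists_prime_orderOf_dvd_card' (G := H) 2 (by rw [hH])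
    obtain ⟨y, hy⟩ := exists_prime_orderOf_dvd_card' (G := K) 2 (by rw [hK])
    rw [← Subgroup.orderOf_coe] at hx hy
    have e1 : Subgroup.zpowers (x : Q) = H := Subgroup.eq_of_le_of_card_ge (Subgroup.zpowers_le.2 x.2)
      (by rw [Nat.card_zpowers, hx, hH])
    have e2 : Subgroup.zpowers (y : Q) = K := Subgroup.eq_of_le_of_card_ge (Subgroup.zpowers_le.2 y.2)
      (by rw [Nat.card_zpowers, hy, hK])
    rw [← e1, ← e2, huniq _ _ hx hy]
  rcases InvChar.cyclic_or_quaternion hQ hH with hc | ⟨-, k, ⟨e⟩⟩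
  · exact absurd (cyclic_case hQ σ hσ) h1
  set τ : MulAut (QuaternionGroup (2 ^ k)) := MulAut.congr e σ
  have hτ : orderOf τ = orderOf σ := MulEquiv.orderOf_eq (MulAut.congr e) σ
  have hτ1 : τ ≠ 1 := fun h => h1 ((MulAut.congr e).injective (by rw [map_one]; exact h))
  rcases k with _ | _ | k
  · exfalso
    haveI : IsCyclic (QuaternionGroup (2 ^ 0)) := by
      refine isCyclic_of_orderOf_eq_card (QuaternionGroup.xa 0) ?_
      haveI : NeZero (2 ^ 0) := ⟨by norm_num⟩
      rw [QuaternionGroup.orderOf_xa, Nat.card_eq_fintype_card, QuaternionGroup.card]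
      rfl
    refine hτ1 (cyclic_case ?_ τ (hτ ▸ hσ))
    exact hQ.of_surjective e.toMonoidHom e.surjective
  · have hdvd : orderOf σ ∣ 24 := by
      rw [← hτ]; exact (orderOf_dvd_natCard τ).trans PermGp.NFLin.card_mulAut_quaternion_dvd
    have h3 : orderOf σ = 3 := by
      have hdd : orderOf σ ∣ 3 :=
        ((Nat.coprime_two_right.2 hσ).pow_right 3).dvd_of_dvd_mul_left (show orderOf σ ∣ 2 ^ 3 * 3 from hdvd)
      rcases (Nat.dvd_prime Nat.prime_three).1 hdd with h | h
      · exact absurd (orderOf_eq_one_iff.1 h) h1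
      · exact h
    have h8 : Nat.card Q = 8 := by
      rw [Nat.card_congr e.toEquiv, Nat.card_eq_fintype_card, QuaternionGroup.card]; rfl
    have hna : ¬ IsMulCommutative Q := by
      intro h
      have hd : ∃ a b : QuaternionGroup 2, a * b ≠ b * a := by decide
      obtain ⟨a, b, hab⟩ := hd
      refine hab (e.symm.injective ?_)
      rw [map_mul, map_mul]
      exact h.is_comm.comm _ _
    refine ⟨h3, h8, hna, ?_⟩
    set F := σ.toMonoidHom.eqLocus (MonoidHom.id Q)
    haveI : Fact (Nat.Prime 3) := ⟨Nat.prime_three⟩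
    have hP : IsPGroup 3 (Subgroup.zpowers σ) := IsPGroup.of_card (n := 1) (by rw [Nat.card_zpowers, h3, pow_one])
    letI : MulAction (Subgroup.zpowers σ) Q :=
      { smul := fun f q => (f : MulAut Q) q
        one_smul := fun q => rfl
        mul_smul := fun f g q => rfl }
    have hmod := hP.card_modEq_card_fixedPoints Q
    have hfix : MulAction.fixedPoints (Subgroup.zpowers σ) Q = (F : Set Q) := by
      ext q
      constructor
      · intro h; exact h ⟨σ, Subgroup.mem_zpowers σ⟩
      · intro h f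
        have hs : σ ∈ MulAction.stabilizer (MulAut Q) q := h
        exact Subgroup.zpowers_le.2 hs f.2
    rw [hfix, h8] at hmod
    have hF : Nat.card F ∣ 8 := h8 ▸ F.card_subgroup_dvd_card
    have hne : Nat.card F ≠ 8 := fun h => h1 (MulEquiv.ext fun q => by
      have : F = ⊤ := Subgroup.eq_top_of_card_eq _ (h.trans h8.symm)
      exact (this ▸ Subgroup.mem_top q : q ∈ F))
    have hle := Nat.le_of_dvd (by norm_num) hF
    rw [SetLike.coe_sort_coe] at hmod
    generalize Nat.card F = r at *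
    unfold Nat.ModEq at hmod
    interval_cases r <;> omega
  · exact absurd (large_case τ (hτ ▸ hσ)) hτ1

/-- The fixed points of an automorphism. -/
def fixd {W : Type*} [Group W] (f : MulAut W) : Subgroup W := f.toMonoidHom.eqLocus (MonoidHom.id W)

theorem mem_fixd {W : Type*} [Group W] {f : MulAut W} {x : W} : x ∈ fixd f ↔ f x = x := Iff.rfl

/-- Coprime generation by fixed points of a non-cyclic abelian group of automorphisms. -/
theorem generation {W : Type*} [Group W] [Finite W] (E : Subgroup (MulAut W)) [IsMulCommutative E]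
    (hnc : ¬ IsCyclic E) (hcop : (Nat.card E).Coprime (Nat.card W)) (X : Subgroup W)
    (hX : ∀ f ∈ E, ∀ x ∈ X, f x ∈ X) :
    X ≤ ⨆ e ∈ {e : MulAut W | e ∈ E ∧ e ≠ 1}, X ⊓ fixd e := by
  haveI : Finite (SemidirectProduct W E E.subtype) := Finite.of_equiv _ SemidirectProduct.equivProd.symm
  set A : Subgroup (SemidirectProduct W E E.subtype) := (SemidirectProduct.inr : E →* (SemidirectProduct W E E.subtype)).range
  set K : Subgroup (SemidirectProduct W E E.subtype) := X.map (SemidirectProduct.inl : W →* (SemidirectProduct W E E.subtype))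
  have hconj : ∀ (f : E) (x : W), (SemidirectProduct.inr f : (SemidirectProduct W E E.subtype)) * SemidirectProduct.inl x * (SemidirectProduct.inr f)⁻¹ =
      SemidirectProduct.inl ((f : MulAut W) x) := fun f x => by
    rw [← map_inv]; exact (SemidirectProduct.inl_aut f x).symm
  haveI : IsMulCommutative A := ⟨⟨by
    rintro ⟨_, f, rfl⟩ ⟨_, g, rfl⟩
    exact Subtype.ext (by simp only [Subgroup.coe_mul]; rw [← map_mul, ← map_mul, IsMulCommutative.is_comm.comm f g])⟩⟩
  have hkey : ∀ a ∈ A, ∀ y ∈ K, a * y * a⁻¹ ∈ K := by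
    rintro _ ⟨f, rfl⟩ _ ⟨x, hx, rfl⟩
    exact ⟨_, hX f f.2 x hx, (hconj f x).symm⟩
  have hAK : A ≤ Subgroup.normalizer (K : Set (SemidirectProduct W E E.subtype)) := fun a ha => by
    rw [Subgroup.mem_normalizer_iff]
    refine fun y => ⟨hkey a ha y, fun hy => ?_⟩
    have h := hkey a⁻¹ (A.inv_mem ha) _ hy
    rwa [show a⁻¹ * (a * y * a⁻¹) * a⁻¹⁻¹ = y by group] at h
  have hcA : Nat.card A = Nat.card E :=
    (Nat.card_congr (MonoidHom.ofInjective SemidirectProduct.inr_injective).toEquiv).symm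
  have hcK : Nat.card K = Nat.card X :=
    (Nat.card_congr (X.equivMapOfInjective _ SemidirectProduct.inl_injective).toEquiv).symm
  have hle := Basics.le_iSup_inf_centralizer_cyclic A K hAK
    (by rw [hcA, hcK]; exact hcop.coprime_dvd_right X.card_subgroup_dvd_card)
  have main : K ≤ (⨆ e ∈ {e : MulAut W | e ∈ E ∧ e ≠ 1}, X ⊓ fixd e).map SemidirectProduct.inl := by
    refine hle.trans (iSup₂_le fun B hB => ?_)
    obtain ⟨hBA, x, hxA, hsup⟩ := hB
    obtain ⟨f, rfl⟩ := hxA
    obtain ⟨b, hbB, hb1⟩ : ∃ b ∈ B, b ≠ 1 := by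
      by_contra hno
      push Not at hno
      have hB : B = ⊥ := (Subgroup.eq_bot_iff_forall B).2 hno
      rw [hB, bot_sup_eq] at hsup
      refine hnc ⟨f, fun g => ?_⟩
      have hg : (SemidirectProduct.inr g : (SemidirectProduct W E E.subtype)) ∈ Subgroup.zpowers (SemidirectProduct.inr f) := by
        rw [hsup]; exact ⟨g, rfl⟩
      obtain ⟨j, hj⟩ := Subgroup.mem_zpowers_iff.1 hg
      exact ⟨j, SemidirectProduct.inr_injective (by rw [← hj, map_zpow])⟩
    obtain ⟨g, rfl⟩ := hBA hbB
    have hg1 : (g : MulAut W) ≠ 1 := fun e => hb1 (by rw [show g = 1 from Subtype.ext e, map_one])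
    rintro y ⟨⟨z, hz, rfl⟩, hy⟩
    refine Subgroup.mem_map_of_mem _ ?_
    refine Subgroup.mem_iSup_of_mem (g : MulAut W) (Subgroup.mem_iSup_of_mem ⟨g.2, hg1⟩ ⟨hz, ?_⟩)
    have h := Subgroup.mem_centralizer_iff.1 hy _ hbB
    have h2 := hconj g z
    rw [h, mul_inv_cancel_right] at h2
    exact (SemidirectProduct.inl_injective h2).symm
  intro x hx
  obtain ⟨y, hy, hyx⟩ := main (Subgroup.mem_map_of_mem _ hx)
  exact SemidirectProduct.inl_injective hyx ▸ hy

end Cfsg.Agent.LocalEvenB.AutOneInvol
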