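import Cfsg.Agent.Lib.Components.PTimesQ
import Cfsg.Agent.Lib.ClassK.CharTwo
import Cfsg.Agent.Lib.LocalEvenA.Core
import Cfsg.Agent.Lib.LocalEvenB.Basic

/-! Groups of characteristic `p`: subgroups inheriting the property. -/

set_option autoImplicit false

namespace Cfsg.Agent.LocalEvenB

open Subgroup

variable {G : Type*} [Group G] [Finite G] {p : ℕ} [Fact p.Prime]

/-- `G` has characteristic `p`: `C_G(O_p(G)) ≤ O_p(G)`. -/
def IsCharPGroup (p : ℕ) (G : Type*) [Group G] : Prop :=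
  Subgroup.centralizer (Cfsg.pCore p G : Set G) ≤ Cfsg.pCore p G

theorem isCharPGroup_equiv {H : Type*} [Group H] (e : G ≃* H) (h : IsCharPGroup p G) :
    IsCharPGroup p H := by
  intro y hy
  have hm := LocalEvenA.pCore_map_iso (p := p) e
  rw [← hm]
  refine ⟨e.symm y, h (mem_centralizer_iff.2 fun a ha => e.injective ?_), by simp⟩
  have := mem_centralizer_iff.1 hy (e a) (hm ▸ ⟨a, ha, rfl⟩)
  simpa using this

theorem isCharPGroup_subnormal (h : IsCharPGroup p G) {Y : Subgroup G} (hY : Y.IsSubnormal) :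
    IsCharPGroup p ↥Y := by
  obtain ⟨hE, hO⟩ := Components.charP_iff_layer_and_core.mp h
  refine Components.charP_iff_layer_and_core.mpr ⟨?_, ?_⟩
  · rw [← le_bot_iff, ← map_le_map_iff_of_injective Y.subtype_injective, Subgroup.map_bot]
    exact (Components.component_map_layer_le hY).trans hE.le
  · rw [← le_bot_iff, ← map_le_map_iff_of_injective Y.subtype_injective, Subgroup.map_bot,
      Components.map_subtype_pPrimeCore_of_subnormal hY]
    exact inf_le_left.trans hO.le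

theorem isCharPGroup_of_subgroupOf {N Y : Subgroup G} (hYN : Y ≤ N)
    (hsn : (Y.subgroupOf N).IsSubnormal) (h : IsCharPGroup p ↥N) : IsCharPGroup p ↥Y :=
  isCharPGroup_equiv (subgroupOfEquivOfLe hYN) (isCharPGroup_subnormal h hsn)

/-- An element of order prime to `p` in a `p`-subgroup is trivial. -/
theorem eq_one_of_mem_pGroup {H : Subgroup G} (hH : IsPGroup p ↥H) {y : G} (hy : y ∈ H)
    (hyo : (orderOf y).Coprime p) : y = 1 := by
  obtain ⟨k, hk⟩ := hH ⟨y, hy⟩
  exact LocalEvenA.eq_one_of_pPow_of_coprime (congrArg Subtype.val hk) hyo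

/-- To show that a group has characteristic `p` it is enough to kill the `p'`-elements of `C(O_p)`. -/
theorem isCharPGroup_of_coprime
    (h : ∀ y ∈ Subgroup.centralizer (Cfsg.pCore p G : Set G), (orderOf y).Coprime p → y = 1) :
    IsCharPGroup p G := by
  haveI := LocalEvenA.pCore_normal' p G
  exact LocalEvenA.le_pCore_of_normal inferInstance (LocalEvenA.isPGroup_of_forall_coprime h)

/-- In a subgroup, the elements of `C(O_p)` centralize every `p`-subgroup it normalizes. -/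
theorem le_pCore_sub {P L : Subgroup G} (hP : IsPGroup p ↥P) (hPn : L ≤ normalizer (P : Set G)) :
    (P ⊓ L).subgroupOf L ≤ Cfsg.pCore p ↥L := by
  refine LocalEvenA.le_pCore_of_normal ⟨fun a ha l => ?_⟩
    (((hP.to_le inf_le_left).comap_of_injective L.subtype L.subtype_injective))
  rw [mem_subgroupOf] at ha ⊢
  exact ⟨(mem_normalizer_iff.1 (hPn l.2) _).1 ha.1, (l * a * l⁻¹).2⟩

theorem top_le_normalizer (H : Subgroup G) [H.Normal] (L : Subgroup G) :
    L ≤ normalizer (H : Set G) := by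
  rw [normalizer_eq_top_iff.mpr inferInstance]; exact le_top

theorem isCharPGroup_of_normalized (hG : IsCharPGroup p G) (L : Subgroup G)
    (hL : Cfsg.pCore p G ≤ normalizer (L : Set G)) : IsCharPGroup p ↥L := by
  haveI := LocalEvenA.pCore_normal' p G
  have hPp := LocalEvenA.pCore_isPGroup' p G
  refine isCharPGroup_of_coprime fun y hy hyo => ?_
  rw [← orderOf_coe] at hyo
  have hall : ∀ a ∈ Cfsg.pCore p G, Commute (y : G) a := by
    intro a ha
    have hb : a⁻¹ * ((y : G) * a * (y : G)⁻¹) ∈ Cfsg.pCore p G ⊓ L := by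
      refine ⟨(Cfsg.pCore p G).mul_mem ((Cfsg.pCore p G).inv_mem ha) (Normal.conj_mem inferInstance a ha _), ?_⟩
      have h1 : a⁻¹ * y * a ∈ L := (mem_normalizer_iff''.1 (hL ha) y).1 y.2
      simpa [mul_assoc] using mul_mem h1 (inv_mem y.2)
    obtain ⟨k, hk⟩ := hPp ⟨_, hb.1⟩
    refine LocalEvenA.comm_of_coprime_chain hyo ⟨k, congrArg Subtype.val hk⟩ ?_
    have hm : (⟨_, hb.2⟩ : ↥L) ∈ Cfsg.pCore p ↥L :=
      le_pCore_sub hPp (top_le_normalizer _ L) (mem_subgroupOf.2 hb)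
    exact (congrArg Subtype.val (mem_centralizer_iff.1 hy _ hm)).symm
  have hyP : (y : G) ∈ Cfsg.pCore p G := hG (mem_centralizer_iff.2 fun a ha => (hall a ha).eq.symm)
  exact Subtype.ext (eq_one_of_mem_pGroup hPp hyP hyo)

/-- A normal subgroup `Q` of a Sylow subgroup `T` with `C_T(Q) ≤ Q` satisfies `C_G(Q) ≤ Q`. -/
theorem centralizer_le_of_sylow (hG : IsCharPGroup p G) (T : Sylow p G) {Q : Subgroup G}
    (hQT : Q ≤ (T : Subgroup G)) (hQn : (T : Subgroup G) ≤ normalizer (Q : Set G))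
    (hC : (T : Subgroup G) ⊓ centralizer (Q : Set G) ≤ Q) : centralizer (Q : Set G) ≤ Q := by
  haveI := LocalEvenA.pCore_normal' p G
  have hPp := LocalEvenA.pCore_isPGroup' p G
  have hCp : IsPGroup p ↥(centralizer (Q : Set G)) := by
    refine LocalEvenA.isPGroup_of_forall_coprime fun y hy hyo => ?_
    have hall : ∀ a ∈ Cfsg.pCore p G, Commute y a := by
      refine ClassK.axb_lemma (T.isPGroup'.to_le hQT) hPp (top_le_normalizer _ Q)
        (top_le_normalizer _ ⊤ (mem_top y)) hyo (fun u hu a _ => ?_) (fun a ha hau => ?_)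
      · rw [← mem_centralizer_iff.1 hy u hu, mul_inv_cancel_right, mul_inv_cancel]
        exact Commute.one_left a
      · exact (mem_centralizer_iff.1 hy a
          (hC ⟨pCore_le_sylow T ha, mem_centralizer_iff.2 fun u hu => (hau u hu).eq⟩)).symm
    exact eq_one_of_mem_pGroup hPp (hG (mem_centralizer_iff.2 fun a ha => (hall a ha).eq.symm)) hyo
  have hTC : (T : Subgroup G) ≤ normalizer ((centralizer (Q : Set G) : Subgroup G) : Set G) := by
    refine fun t ht => mem_normalizer_of_conj_mem fun c hc => mem_centralizer_iff.2 fun u hu => ?_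
    have h1 := mem_centralizer_iff.1 hc (t⁻¹ * u * t) ((mem_normalizer_iff''.1 (hQn ht) u).1 hu)
    have h2 := congrArg (fun z => t * z * t⁻¹) h1
    simpa [mul_assoc] using h2
  have hsup : (T : Subgroup G) ⊔ centralizer (Q : Set G) = T :=
    T.is_maximal' (T.isPGroup'.to_sup_of_normal_right' hCp hTC) le_sup_left
  exact fun c hc => hC ⟨hsup ▸ le_sup_right (a := (T : Subgroup G)) hc, hc⟩

/-- MSS 1.2(e): subgroups containing such a `Q` have characteristic `p`. -/
theorem isCharPGroup_of_sylow_normal_le (hG : IsCharPGroup p G) (T : Sylow p G) {Q : Subgroup G}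
    (hQT : Q ≤ (T : Subgroup G)) (hQn : (T : Subgroup G) ≤ normalizer (Q : Set G))
    (hC : (T : Subgroup G) ⊓ centralizer (Q : Set G) ≤ Q) (L : Subgroup G) (hQL : Q ≤ L) :
    IsCharPGroup p ↥L := by
  haveI := LocalEvenA.pCore_normal' p G
  haveI := LocalEvenA.pCore_normal' p ↥L
  have hPp := LocalEvenA.pCore_isPGroup' p G
  have hPconj : ∀ (g : G) {a : G}, a ∈ Cfsg.pCore p G → g * a * g⁻¹ ∈ Cfsg.pCore p G :=
    fun g a ha => Normal.conj_mem inferInstance a ha g
  set D : Subgroup ↥L := centralizer (Cfsg.pCore p ↥L : Set ↥L) with hD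
  have hcen : ∀ x ∈ D, ∀ m : G, m ∈ Cfsg.pCore p G → m ∈ L → Commute (x : G) m := by
    intro x hx m hm hmL
    have hm' : (⟨m, hmL⟩ : ↥L) ∈ Cfsg.pCore p ↥L :=
      le_pCore_sub hPp (top_le_normalizer _ L) (mem_subgroupOf.2 (show m ∈ _ ⊓ L from ⟨hm, hmL⟩))
    exact (congrArg Subtype.val (mem_centralizer_iff.1 hx _ hm')).symm
  -- the elements of `D` acting trivially on `O_p(G)` modulo `L`
  let E : Subgroup ↥L :=
    { carrier := {x | x ∈ D ∧ ∀ a ∈ Cfsg.pCore p G, a⁻¹ * (x : G) * a ∈ L}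
      one_mem' := ⟨one_mem D, fun a _ => by simp⟩
      mul_mem' := fun {x y} hx hy => ⟨mul_mem hx.1 hy.1, fun a ha => by
        simpa [mul_assoc] using mul_mem (hx.2 a ha) (hy.2 a ha)⟩
      inv_mem' := fun {x} hx => ⟨inv_mem hx.1, fun a ha => by
        simpa [mul_assoc] using inv_mem (hx.2 a ha)⟩ }
  have hEp : IsPGroup p ↥E := by
    refine LocalEvenA.isPGroup_of_forall_coprime fun x hx hxo => ?_
    rw [← orderOf_coe] at hxo
    have hall : ∀ a ∈ Cfsg.pCore p G, Commute (x : G) a := by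
      intro a ha
      have hb : a⁻¹ * ((x : G) * a * (x : G)⁻¹) ∈ Cfsg.pCore p G := mul_mem (inv_mem ha) (hPconj _ ha)
      obtain ⟨k, hk⟩ := hPp ⟨_, hb⟩
      refine LocalEvenA.comm_of_coprime_chain hxo ⟨k, congrArg Subtype.val hk⟩ (hcen x hx.1 _ hb ?_)
      simpa [mul_assoc] using mul_mem (hx.2 a ha) (inv_mem x.2)
    exact Subtype.ext (eq_one_of_mem_pGroup hPp
      (hG (mem_centralizer_iff.2 fun a ha => (hall a ha).eq.symm)) hxo)
  have hED : E ≤ D := fun x hx => hx.1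
  have hEn : (E.subgroupOf D).Normal := ⟨fun x hx d => by
    rw [mem_subgroupOf] at hx ⊢
    refine ⟨(d * x * d⁻¹).2, fun a ha => ?_⟩
    have h0 := hx.2 (((d : ↥L) : G)⁻¹ * a * ((d : ↥L) : G)) (by
      simpa using hPconj (((d : ↥L) : G)⁻¹) ha)
    have h1 := mul_mem (mul_mem (d : ↥L).2 h0) (inv_mem (d : ↥L).2)
    simpa [mul_assoc] using h1⟩
  have hER : E ≤ Cfsg.pCore p ↥L :=
    LocalEvenA.subnormal_le_pCore (.step E D hED (Subgroup.Normal.isSubnormal inferInstance) hEn) hEp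
  refine isCharPGroup_of_coprime fun y hy hyo => ?_
  rw [← orderOf_coe] at hyo
  have hyQ : ∀ q ∈ Q, Commute (y : G) q := by
    intro q hq
    set qL : ↥L := ⟨q, hQL hq⟩
    have hcD : y * qL * y⁻¹ * qL⁻¹ ∈ D := by
      have : y * qL * y⁻¹ * qL⁻¹ = y * (qL * y⁻¹ * qL⁻¹) := by group
      rw [this]
      exact mul_mem hy (Normal.conj_mem (H := D) inferInstance _ (inv_mem hy) qL)
    have hcE : y * qL * y⁻¹ * qL⁻¹ ∈ E := by
      refine ⟨hcD, fun a ha => ?_⟩
      -- modulo `L`, both `q` and hence the commutator act trivially on `O_p(G)`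
      have hm : ∀ u ∈ Q, ∀ a ∈ Cfsg.pCore p G, a⁻¹ * (u * a * u⁻¹) ∈ Cfsg.pCore p G ⊓ L := by
        intro u hu a ha
        refine ⟨(Cfsg.pCore p G).mul_mem ((Cfsg.pCore p G).inv_mem ha) (hPconj _ ha), hQL ?_⟩
        have h1 := (mem_normalizer_iff''.1 (hQn (pCore_le_sylow T ha)) u).1 hu
        simpa [mul_assoc] using mul_mem h1 (inv_mem hu)
      have hq' : q⁻¹ ∈ Q := inv_mem hq
      set m := a⁻¹ * (q⁻¹ * a * q⁻¹⁻¹) with hmdef
      have hmmem := hm _ hq' a ha
      set a' := (y : G)⁻¹ * a * (y : G) with ha'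
      have ha'P : a' ∈ Cfsg.pCore p G := by simpa using hPconj ((y : G)⁻¹) ha
      set m' := a'⁻¹ * (q * a' * q⁻¹) with hm'def
      have hm'mem := hm _ hq a' ha'P
      have hm'' : q * m * q⁻¹ ∈ Cfsg.pCore p G ⊓ L :=
        ⟨hPconj _ hmmem.1, L.mul_mem (L.mul_mem (hQL hq) hmmem.2) (L.inv_mem (hQL hq))⟩
      have hmn : (m' * (q * m * q⁻¹)) ∈ Cfsg.pCore p G ⊓ L := mul_mem hm'mem hm''
      have hcom1 := (hcen y hy m hmmem.1 hmmem.2).inv_left
      have hcom2 := hcen y hy _ hmn.1 hmn.2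
      have key : ((y * qL * y⁻¹ * qL⁻¹ : ↥L) : G) * a * ((y * qL * y⁻¹ * qL⁻¹ : ↥L) : G)⁻¹
          = a * (m' * (q * m * q⁻¹)) := by
        calc ((y * qL * y⁻¹ * qL⁻¹ : ↥L) : G) * a * ((y * qL * y⁻¹ * qL⁻¹ : ↥L) : G)⁻¹
            = y * q * ((y : G)⁻¹ * a * (m * y)) * q⁻¹ * (y : G)⁻¹ := by
              simp only [qL, Subgroup.coe_mul, InvMemClass.coe_inv, hmdef]; group
          _ = y * q * ((y : G)⁻¹ * a * (y * m)) * q⁻¹ * (y : G)⁻¹ := by
              rw [(Commute.inv_left_iff.1 hcom1).eq]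
          _ = y * a' * (m' * (q * m * q⁻¹)) * (y : G)⁻¹ := by rw [hm'def, ha']; group
          _ = y * a' * ((m' * (q * m * q⁻¹)) * (y : G)⁻¹) := by group
          _ = y * a' * ((y : G)⁻¹ * (m' * (q * m * q⁻¹))) := by rw [hcom2.inv_left.eq]
          _ = a * (m' * (q * m * q⁻¹)) := by rw [ha']; group
      have h2 : a⁻¹ * ((y * qL * y⁻¹ * qL⁻¹ : ↥L) : G) * a
          = (m' * (q * m * q⁻¹)) * ((y * qL * y⁻¹ * qL⁻¹ : ↥L) : G) := by
        calc a⁻¹ * ((y * qL * y⁻¹ * qL⁻¹ : ↥L) : G) * a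
            = a⁻¹ * (((y * qL * y⁻¹ * qL⁻¹ : ↥L) : G) * a * ((y * qL * y⁻¹ * qL⁻¹ : ↥L) : G)⁻¹)
                * ((y * qL * y⁻¹ * qL⁻¹ : ↥L) : G) := by group
          _ = _ := by rw [key]; group
      rw [h2]
      exact mul_mem hmn.2 (y * qL * y⁻¹ * qL⁻¹ : ↥L).2
    have hR := hER hcE
    have hb : qL⁻¹ * (y * qL * y⁻¹) ∈ Cfsg.pCore p ↥L := by
      simpa [mul_assoc] using Normal.conj_mem' (H := Cfsg.pCore p ↥L) inferInstance _ hR qL
    obtain ⟨k, hk⟩ := LocalEvenA.pCore_isPGroup' p ↥L ⟨_, hb⟩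
    have hkk : (qL⁻¹ * (y * qL * y⁻¹)) ^ p ^ k = 1 := congrArg Subtype.val hk
    have hcomm : Commute y qL := LocalEvenA.comm_of_coprime_chain
      (by rwa [← orderOf_coe]) ⟨k, hkk⟩ (mem_centralizer_iff.1 hy _ hb).symm
    exact hcomm.map L.subtype
  have hy1 : (y : G) ∈ Q :=
    centralizer_le_of_sylow hG T hQT hQn hC (mem_centralizer_iff.2 fun q hq => (hyQ q hq).eq.symm)
  exact Subtype.ext (eq_one_of_mem_pGroup (T.isPGroup'.to_le hQT) hy1 hyo)

end Cfsg.Agent.LocalEvenB
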