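import Mathlib
import Cfsg.Agent.Lib.Supersolv.Basic

/-! Irreducible modules whose prime-power elements act with two eigenvalues. -/

set_option autoImplicit false

namespace Cfsg.Agent.LocalEvenB.ConjPair

theorem zmod2_cases (c : ZMod 2) : c = 0 ∨ c = 1 := by revert c; decide

/-- A lift of prime-power order of an element of prime-power order. -/
theorem exists_lift {A B : Type*} [Group A] [Group B] [Finite A] {p : ℕ} (hp : p.Prime) (f : A →* B) (b : A)
    {a : ℕ} (hb : orderOf (f b) = p ^ a) : ∃ x : A, f x = f b ∧ ∃ k, orderOf x = p ^ k := by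
  have : Fact p.Prime := ⟨hp⟩
  set n := orderOf b
  set m := n / p ^ n.factorization p
  have hn : n ≠ 0 := (orderOf_pos b).ne'
  have hm : (p ^ a).Coprime m := Nat.Coprime.pow_left a (Nat.coprime_ordCompl hp hn)
  obtain ⟨c, hc⟩ := Nat.chineseRemainder hm 1 0
  refine ⟨b ^ c, ?_, ?_⟩
  · have hca : c % p ^ a = 1 % p ^ a := hc.1
    rw [map_pow, ← pow_one (f b), ← pow_mul, one_mul, pow_eq_pow_iff_modEq, hb]
    exact hca
  · have h1 : (b ^ c) ^ p ^ n.factorization p = 1 := by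
      have h2 : m ∣ c := Nat.modEq_zero_iff_dvd.1 hc.2
      obtain ⟨d, rfl⟩ := h2
      rw [← pow_mul, show m * d * p ^ n.factorization p = p ^ n.factorization p * m * d by ring,
        Nat.ordProj_mul_ordCompl_eq_self n p, pow_mul, pow_orderOf_eq_one, one_pow]
    obtain ⟨k, -, hk⟩ := (Nat.dvd_prime_pow hp).1 (orderOf_dvd_of_pow_eq_one h1)
    exact ⟨k, hk⟩

/-- A subgroup containing all elements of prime-power order is everything. -/
theorem eq_top_of_primePow {H : Type*} [Group H] [Finite H] (P : Subgroup H)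
    (h : ∀ r : ℕ, r.Prime → ∀ y : H, (∃ k, orderOf y = r ^ k) → y ∈ P) : P = ⊤ := by
  refine Subgroup.eq_top_of_card_eq _ (Nat.dvd_antisymm (Subgroup.card_subgroup_dvd_card P) ?_)
  refine (Nat.dvd_iff_prime_pow_dvd_dvd (Nat.card P) (Nat.card H)).2 fun r k hr hd => ?_
  have : Fact r.Prime := ⟨hr⟩
  obtain ⟨S, hS⟩ := Sylow.exists_subgroup_card_pow_prime r hd
  refine hS ▸ Subgroup.card_dvd_of_le fun y hy => h r hr y ?_
  obtain ⟨j, hj⟩ := IsPGroup.iff_orderOf.1 (IsPGroup.of_card hS) (⟨y, hy⟩ : S)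
  exact ⟨j, by rw [← hj, Subgroup.orderOf_mk]⟩

variable {q : ℕ} [Fact q.Prime] {V : Type*} [AddCommGroup V] [Module (ZMod q) V]

/-- A map for which every vector of a range is an eigenvector is scalar on it. -/
theorem exists_scalar (T D : Module.End (ZMod q) V) (h : ∀ v, ∃ c : ZMod q, T (D v) = c • D v) :
    ∃ c : ZMod q, T * D = c • D := by
  by_cases h0 : ∀ v, D v = 0
  · exact ⟨0, LinearMap.ext fun v => by rw [Module.End.mul_apply, h0, map_zero, LinearMap.smul_apply, zero_smul]⟩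
  push Not at h0
  obtain ⟨v0, hv0⟩ := h0
  obtain ⟨c, hc⟩ := h v0
  refine ⟨c, LinearMap.ext fun v => ?_⟩
  rw [Module.End.mul_apply, LinearMap.smul_apply]
  obtain ⟨d, hd⟩ := h v
  obtain ⟨e, he⟩ := h (v + v0)
  rw [map_add, map_add, hd, hc, smul_add] at he
  have h1 : (d - e) • D v = (e - c) • D v0 := by
    rw [sub_smul, sub_smul]
    linear_combination (norm := abel) he
  by_cases hde : d = e
  · rw [hde, sub_self, zero_smul] at h1
    rw [hd, hde, sub_eq_zero.1 ((smul_eq_zero.1 h1.symm).resolve_right hv0)]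
  · have h2 : D v = ((d - e)⁻¹ * (e - c)) • D v0 := by
      rw [mul_smul, ← h1, inv_smul_smul₀ (sub_ne_zero.2 hde)]
    rw [h2, map_smul, hc, smul_comm]

variable {H : Type*} [Group H] [Finite H]

/-- The elements acting as scalars. -/
def scalars (σ : H →* Module.End (ZMod q) V) : Subgroup H where
  carrier := {h | ∃ c : ZMod q, σ h = c • 1}
  one_mem' := ⟨1, by rw [map_one, one_smul]⟩
  mul_mem' := by
    rintro a b ⟨c, hc⟩ ⟨d, hd⟩
    exact ⟨c * d, by rw [map_mul, hc, hd, smul_mul_smul_comm, one_mul]⟩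
  inv_mem' := by
    rintro a ⟨c, hc⟩
    have h1 : σ a⁻¹ * σ a = 1 := by rw [← map_mul, inv_mul_cancel, map_one]
    rw [hc, mul_smul_comm, mul_one] at h1
    by_cases h0 : c = 0
    · rw [h0, zero_smul] at h1
      exact ⟨1, by rw [one_smul]; exact eq_of_zero_eq_one h1 _ _⟩
    · exact ⟨c⁻¹, by rw [← h1, inv_smul_smul₀ h0]⟩

instance scalars_normal (σ : H →* Module.End (ZMod q) V) : (scalars σ).Normal :=
  ⟨fun a ha b => by
    obtain ⟨c, hc⟩ := ha
    exact ⟨c, by rw [map_mul, map_mul, hc, mul_smul_comm, mul_one, smul_mul_assoc, ← map_mul, mul_inv_cancel, map_one]⟩⟩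

variable [FiniteDimensional (ZMod q) V] [Nontrivial V]

theorem scalar_eq_top (σ : H →* Module.End (ZMod q) V) (hσ : Function.Injective σ)
    (hss : Cfsg.IsSupersolvable H)
    (hirr : ∀ W : Submodule (ZMod q) V, (∀ h : H, ∀ w ∈ W, σ h w ∈ W) → W = ⊥ ∨ W = ⊤)
    (hP : ∀ p : ℕ, p.Prime → p ≠ q → ∀ x : H, (∃ k, orderOf x = p ^ k) →
      ∃ c : ZMod q, σ x * (σ x - 1) = c • (σ x - 1)) :
    scalars σ = ⊤ := by
  have hq : q.Prime := Fact.out
  have : Finite V := Module.finite_of_finite (ZMod q)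
  have hcomp : ∀ (a b : H) (v : V), σ (a * b) v = σ a (σ b v) := fun a b v => by
    rw [map_mul, Module.End.mul_apply]
  have hpow : ∀ (a : H) (v : V) (c : ZMod q) (i : ℕ), σ a v = c • v → σ (a ^ i) v = c ^ i • v := by
    intro a v c i ha
    induction i with
    | zero => simp
    | succ i ih => rw [pow_succ, hcomp, ha, map_smul, ih, smul_smul, pow_succ']
  have hinvb : ∀ (a : H) (v : V), σ a⁻¹ (σ a v) = v := fun a v => by
    rw [← hcomp, inv_mul_cancel, map_one, Module.End.one_apply]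
  have hne0 : ∀ (a : H) (v : V) (c : ZMod q), v ≠ 0 → σ a v = c • v → c ≠ 0 := fun a v c hv ha h0 => by
    rw [h0, zero_smul] at ha
    refine hv ?_
    rw [← hinvb a v, ha, map_zero]
  by_contra hne
  have : Nontrivial (H ⧸ scalars σ) := QuotientGroup.nontrivial_iff.2 hne
  obtain ⟨C0, hC0, hC0p⟩ := FGB.exists_normal_prime_subgroup (Supersolv.quotient hss (scalars σ))
  set p := Nat.card C0 with hpdef
  have : Fact p.Prime := ⟨hC0p⟩
  obtain ⟨xb, hxb⟩ := exists_prime_orderOf_dvd_card' (G := C0) p dvd_rfl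
  have hxb' : orderOf (xb : H ⧸ scalars σ) = p := by rw [Subgroup.orderOf_coe, hxb]
  obtain ⟨b, hb⟩ := QuotientGroup.mk'_surjective (scalars σ) (xb : H ⧸ scalars σ)
  obtain ⟨x, hx, hxk⟩ := exists_lift hC0p (QuotientGroup.mk' (scalars σ)) b (a := 1) (by rw [hb, hxb', pow_one])
  rw [hb] at hx
  obtain ⟨k, hk⟩ := hxk
  have hxZ : x ∉ scalars σ := fun h => by
    have : (QuotientGroup.mk' (scalars σ)) x = 1 := (QuotientGroup.eq_one_iff x).2 h
    rw [hx] at this
    rw [this, orderOf_one] at hxb'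
    exact hC0p.one_lt.ne hxb'
  have hC0z : C0 = Subgroup.zpowers (xb : H ⧸ scalars σ) := by
    refine (Subgroup.eq_of_le_of_card_ge (Subgroup.zpowers_le.2 xb.2) ?_).symm
    rw [Nat.card_zpowers, hxb']
  have hconj : ∀ y : H, ∃ z ∈ scalars σ, ∃ i : ℕ, y⁻¹ * x * y = z * x ^ i := fun y => by
    have h1 : QuotientGroup.mk' (scalars σ) (y⁻¹ * x * y) ∈ C0 := by
      rw [map_mul, map_mul, map_inv, hx]
      simpa using hC0.conj_mem _ xb.2 (QuotientGroup.mk' (scalars σ) y)⁻¹
    rw [hC0z, ← mem_powers_iff_mem_zpowers] at h1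
    obtain ⟨i, hi⟩ := h1
    refine ⟨y⁻¹ * x * y * (x ^ i)⁻¹, ?_, i, by group⟩
    rw [← QuotientGroup.eq_one_iff]
    show QuotientGroup.mk' (scalars σ) _ = 1
    rw [map_mul, map_inv _ (x ^ i), map_pow, hx, ← hi]
    exact mul_inv_cancel _
  obtain ⟨v1, hv1⟩ := exists_ne (0 : V)
  rcases eq_or_ne p q with hpq | hpq
  · -- a normal subgroup of `q`-power order acts trivially
    have hQn : (Subgroup.zpowers x).Normal := by
      refine ⟨fun n hn y => ?_⟩
      obtain ⟨j, rfl⟩ := Subgroup.mem_zpowers_iff.1 hn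
      rw [← conj_zpow]
      refine Subgroup.zpow_mem _ ?_ j
      obtain ⟨z, hz, i, hi⟩ := hconj y⁻¹
      rw [inv_inv] at hi
      rw [hi]
      refine Subgroup.mul_mem _ ?_ (Subgroup.pow_mem _ (Subgroup.mem_zpowers x) i)
      obtain ⟨c, hc⟩ := hz
      have hz1 : z ^ (q - 1) = 1 := hσ (by
        rw [map_pow, hc, smul_pow, one_pow, ZMod.pow_card_sub_one_eq_one
          (hne0 z v1 c hv1 (by rw [hc]; rfl)), one_smul, map_one])
      have hz2 : z ^ q ^ k = 1 := by
        have hxpow : x ^ q ^ k = 1 := by rw [← hpq, ← hk, pow_orderOf_eq_one]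
        have e : z = y * x * y⁻¹ * (x ^ i)⁻¹ := by rw [hi]; group
        have hcz : Commute z (x ^ i) := hσ (by
          rw [map_mul, map_mul, hc, smul_mul_assoc, one_mul, mul_smul_comm, mul_one])
        have h3 : (z * x ^ i) ^ q ^ k = 1 := by
          rw [← hi, conj_pow, hxpow, mul_one, mul_inv_cancel]
        rwa [hcz.mul_pow, ← pow_mul x, mul_comm i, pow_mul, hxpow, one_pow, mul_one] at h3
      have : z = 1 := orderOf_eq_one_iff.1 (Nat.eq_one_of_dvd_coprimes
        (Nat.Coprime.pow_left k ((Nat.coprime_self_sub_right hq.one_le).2 (Nat.coprime_one_right q)))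
        (orderOf_dvd_of_pow_eq_one hz2) (orderOf_dvd_of_pow_eq_one hz1))
      rw [this]; exact Subgroup.one_mem _
    let F : Submodule (ZMod q) V := LinearMap.ker (σ x - 1)
    have hF : ∀ v, v ∈ F ↔ σ x v = v := fun v => by simp [F, LinearMap.mem_ker, sub_eq_zero]
    have hFinv : ∀ h : H, ∀ w ∈ F, σ h w ∈ F := fun h w hw => by
      rw [hF] at hw ⊢
      obtain ⟨j, hj⟩ := Subgroup.mem_zpowers_iff.1 (hQn.conj_mem x (Subgroup.mem_zpowers x) h⁻¹)
      rw [inv_inv] at hj
      have hfix : σ (x ^ j) w = w := by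
        obtain ⟨i, hi : x ^ i = x ^ j⟩ := mem_powers_iff_mem_zpowers.2
          (Subgroup.zpow_mem _ (Subgroup.mem_zpowers x) j)
        rw [← hi, hpow x w 1 i (by rw [one_smul, hw]), one_pow, one_smul]
      rw [← hcomp, show x * h = h * (h⁻¹ * x * h) by group, ← hj, hcomp, hfix]
    have hxq : (σ x - 1) ^ q ^ k = 0 := by
      have : CharP (Module.End (ZMod q) V) q := charP_of_injective_algebraMap
        (RingHom.injective (algebraMap (ZMod q) (Module.End (ZMod q) V))) q
      have hxpow : x ^ q ^ k = 1 := by rw [← hpq, ← hk, pow_orderOf_eq_one]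
      rw [sub_pow_char_pow_of_commute q k (Commute.one_right _), one_pow, ← map_pow, hxpow, map_one, sub_self]
    rcases hirr F hFinv with h | h
    · obtain ⟨v, hv⟩ := exists_ne (0 : V)
      have hinj : Function.Injective ⇑(σ x - 1) := LinearMap.ker_eq_bot.1 h
      have : Function.Injective ⇑((σ x - 1) ^ q ^ k) := by
        rw [Module.End.coe_pow]; exact hinj.iterate _
      exact hv (this (by rw [hxq]; simp))
    · refine hxZ ⟨1, ?_⟩
      apply LinearMap.ext; intro v
      rw [one_smul, Module.End.one_apply]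
      exact (hF v).1 (h ▸ Submodule.mem_top)
  obtain ⟨l, hl⟩ := hP p hC0p hpq x ⟨k, hk⟩
  have hl1 : l ≠ 1 := by
    rintro rfl
    rw [one_smul] at hl
    have hD : (σ x - 1) * (σ x - 1) = 0 := by rw [sub_mul, one_mul, hl, sub_self]
    have : CharP (Module.End (ZMod q) V) q := charP_of_injective_algebraMap
      (RingHom.injective (algebraMap (ZMod q) (Module.End (ZMod q) V))) q
    have hDq : (σ x - 1) ^ q = 0 := by
      exact pow_eq_zero_of_le hq.two_le (by rw [pow_two, hD])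
    rw [sub_pow_char_of_commute q (Commute.one_right _), one_pow, sub_eq_zero, ← map_pow, ← map_one σ] at hDq
    have h1 := orderOf_dvd_of_pow_eq_one (hσ hDq)
    rw [hk] at h1
    rcases Nat.eq_zero_or_pos k with rfl | hk0
    · rw [pow_zero, orderOf_eq_one_iff] at hk
      exact hxZ (hk ▸ Subgroup.one_mem _)
    · exact hpq ((Nat.prime_dvd_prime_iff_eq hC0p hq).1 ((dvd_pow_self p hk0.ne').trans h1))
  let E : ZMod q → Submodule (ZMod q) V := fun c => LinearMap.ker (σ x - c • 1)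
  have hE : ∀ c v, v ∈ E c ↔ σ x v = c • v := fun c v => by simp [E, LinearMap.mem_ker, sub_eq_zero]
  have hdec : ∀ v, ∃ u ∈ E 1, ∃ w ∈ E l, v = u + w := fun v => by
    have h1 := LinearMap.congr_fun hl v
    simp only [Module.End.mul_apply, LinearMap.sub_apply, Module.End.one_apply, LinearMap.smul_apply, map_sub,
      smul_sub] at h1
    refine ⟨(1 - l)⁻¹ • (σ x v - l • v), ?_, (l - 1)⁻¹ • (σ x v - v), ?_, ?_⟩
    · rw [hE, one_smul, map_smul, map_sub, map_smul]
      congr 1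
      linear_combination (norm := abel) h1
    · rw [hE, map_smul, map_sub, smul_comm l]
      congr 1
      linear_combination (norm := module) h1
    · have e : (1 - l)⁻¹ = -(l - 1)⁻¹ := by rw [← inv_neg, neg_sub]
      rw [e, neg_smul, ← smul_neg, ← smul_add, show -(σ x v - l • v) + (σ x v - v) = (l - 1) • v by module,
        inv_smul_smul₀ (sub_ne_zero.2 hl1)]
  have huniq : ∀ c d v, v ∈ E c → v ∈ E d → c ≠ d → v = 0 := fun c d v hc hd hcd => by
    rw [hE] at hc hd
    have : (c - d) • v = 0 := by rw [sub_smul, ← hc, ← hd, sub_self]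
    exact (smul_eq_zero.1 this).resolve_left (sub_ne_zero.2 hcd)
  have hscal : ∀ (h : H) (c : ZMod q), (∀ v ∈ E 1, σ h v = c • v) → (∀ v ∈ E l, σ h v = c • v) →
      h ∈ scalars σ := fun h c h1 h2 => ⟨c, LinearMap.ext fun v => by
    obtain ⟨u, hu, w, hw, rfl⟩ := hdec v
    simp only [map_add, h1 u hu, h2 w hw, LinearMap.smul_apply, Module.End.one_apply]⟩
  obtain ⟨u0, hu0, hu0n⟩ : ∃ u ∈ E 1, u ≠ 0 := by
    by_contra h; push Not at h
    exact hxZ (hscal x l (fun v hv => by rw [h v hv, map_zero, smul_zero]) fun v hv => (hE l v).1 hv)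
  obtain ⟨w0, hw0, hw0n⟩ : ∃ w ∈ E l, w ≠ 0 := by
    by_contra h; push Not at h
    exact hxZ (hscal x 1 (fun v hv => (hE 1 v).1 hv) fun v hv => by rw [h v hv, map_zero, smul_zero])
  have hl0 : l ≠ 0 := hne0 x w0 l hw0n ((hE l w0).1 hw0)
  have heig : ∀ c v, v ∈ E c → v ≠ 0 → c = 1 ∨ c = l := fun c v hv hv0 => by
    obtain ⟨u, hu, w, hw, rfl⟩ := hdec v
    rw [hE, map_add, (hE 1 u).1 hu, (hE l w).1 hw, smul_add] at hv
    have h1 : (1 - c) • u = (c - l) • w := by
      rw [sub_smul, sub_smul]; linear_combination (norm := abel) hv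
    by_contra hc; push Not at hc
    have h2 : (1 - c) • u = 0 := huniq 1 l _ (Submodule.smul_mem _ _ hu) (h1 ▸ Submodule.smul_mem _ _ hw) (Ne.symm hl1)
    have h3 : u = 0 := (smul_eq_zero.1 h2).resolve_left (sub_ne_zero.2 (Ne.symm hc.1))
    rw [h2] at h1
    have h4 : w = 0 := (smul_eq_zero.1 h1.symm).resolve_left (sub_ne_zero.2 hc.2)
    exact hv0 (by rw [h3, h4, add_zero])
  have hmove : ∀ y : H, ((∀ v ∈ E 1, σ y v ∈ E 1) ∧ ∀ v ∈ E l, σ y v ∈ E l) ∨
      ((∀ v ∈ E 1, σ y v ∈ E l) ∧ ∀ v ∈ E l, σ y v ∈ E 1) := by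
    intro y
    obtain ⟨z, ⟨c, hc⟩, i, hi⟩ := hconj y
    have hxy : ∀ d v, v ∈ E d → σ y v ∈ E (c * d ^ i) := fun d v hv => by
      rw [hE, ← hcomp, show x * y = y * (y⁻¹ * x * y) by group, hi, hcomp, hcomp,
        hpow x v d i ((hE d v).1 hv), hc]
      simp [smul_smul, mul_comm]
    have hnz : ∀ v, v ≠ 0 → σ y v ≠ 0 := fun v hv h => hv (by rw [← hinvb y v, h, map_zero])
    have hab : c * (1 : ZMod q) ^ i ≠ c * l ^ i := fun h => by
      rw [one_pow, mul_one] at h
      have h2 : y⁻¹ * x * y ∈ scalars σ := by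
        refine hscal _ c (fun v hv => ?_) fun v hv => ?_ <;>
          rw [hi, hcomp, hpow x v _ i ((hE _ v).1 hv), hc]
        · simp
        · simp [smul_smul, mul_comm, ← h]
      refine hxZ ?_
      have := (scalars_normal σ).conj_mem _ h2 y
      rwa [show y * (y⁻¹ * x * y) * y⁻¹ = x by group] at this
    rcases heig _ _ (hxy 1 u0 hu0) (hnz _ hu0n) with h | h <;>
      rcases heig _ _ (hxy l w0 hw0) (hnz _ hw0n) with h' | h'
    · exact absurd (h.trans h'.symm) hab
    · exact Or.inl ⟨fun v hv => h ▸ hxy 1 v hv, fun v hv => h' ▸ hxy l v hv⟩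
    · exact Or.inr ⟨fun v hv => h ▸ hxy 1 v hv, fun v hv => h' ▸ hxy l v hv⟩
    · exact absurd (h.trans h'.symm) hab
  have hexcl : ∀ y : H, σ y u0 ∈ E 1 → σ y u0 ∈ E l → False := fun y h1 h2 => hu0n (by
    rw [← hinvb y u0, huniq _ _ _ h1 h2 (Ne.symm hl1), map_zero])
  let St : Subgroup H :=
    { carrier := {y | (∀ v ∈ E 1, σ y v ∈ E 1) ∧ ∀ v ∈ E l, σ y v ∈ E l}
      one_mem' := by simp
      mul_mem' := fun {a b} ha hb => ⟨fun v hv => by rw [hcomp]; exact ha.1 _ (hb.1 v hv),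
        fun v hv => by rw [hcomp]; exact ha.2 _ (hb.2 v hv)⟩
      inv_mem' := fun {a} ha => by
        rcases hmove a⁻¹ with h | h
        · exact h
        · refine (hexcl 1 (by rw [map_one, Module.End.one_apply]; exact hu0) ?_).elim
          rw [← inv_mul_cancel a, hcomp]
          exact h.1 _ (ha.1 u0 hu0) }
  obtain ⟨r, hr, y, hyr, hyS⟩ : ∃ r : ℕ, r.Prime ∧ ∃ y : H, (∃ j, orderOf y = r ^ j) ∧ y ∉ St := by
    by_contra h; push Not at h
    have hall : St = ⊤ := eq_top_of_primePow St fun r hr y hy => h r hr y hy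
    rcases hirr (E 1) (fun h' v hv => ((hall ▸ Subgroup.mem_top h' : h' ∈ St)).1 v hv) with hb | hb
    · exact hu0n (by simpa [hb] using hu0)
    · exact hw0n (huniq l 1 w0 hw0 (hb ▸ Submodule.mem_top) hl1)
  have hswap : ∀ y : H, y ∉ St → (∀ v ∈ E 1, σ y v ∈ E l) ∧ ∀ v ∈ E l, σ y v ∈ E 1 := fun y hy =>
    (hmove y).resolve_left hy
  have hsq : ∀ y : H, y ∉ St → y ^ 2 ∈ St := fun y hy => by
    obtain ⟨h1, h2⟩ := hswap y hy
    exact ⟨fun v hv => by rw [pow_two, hcomp]; exact h2 _ (h1 v hv),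
      fun v hv => by rw [pow_two, hcomp]; exact h1 _ (h2 v hv)⟩
  have hr2 : r = 2 := by
    by_contra hr2
    obtain ⟨j, hj⟩ := hyr
    have hodd : Odd (r ^ j) := (hr.odd_of_ne_two hr2).pow
    obtain ⟨t, ht⟩ := hodd
    have h1 : y ^ (2 * t + 1) = 1 := by rw [← ht, ← hj, pow_orderOf_eq_one]
    rw [pow_succ, pow_mul] at h1
    exact hyS (by rw [← inv_eq_of_mul_eq_one_right h1]; exact St.inv_mem (St.pow_mem (hsq y hyS) t))
  subst hr2
  have hq2 : q ≠ 2 := by
    rintro rfl
    rcases zmod2_cases l with h | h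
    · exact hl0 h
    · exact hl1 h
  have hinvol : ∀ y : H, (∃ j, orderOf y = 2 ^ j) → y ∉ St → ∀ v, σ y (σ y v) = v := by
    intro y hy hyS
    obtain ⟨μ, hμ⟩ := hP 2 Nat.prime_two (Ne.symm hq2) y hy
    obtain ⟨h1, h2⟩ := hswap y hyS
    have hpart : ∀ c d, c ≠ d → ∀ v ∈ E c, v ≠ 0 → (σ y v ∈ E d) → (σ y (σ y v) ∈ E c) → σ y (σ y v) = v := by
      intro c d hcd v hv hv0 hyv hyyv
      have e := LinearMap.congr_fun hμ v
      simp only [Module.End.mul_apply, LinearMap.sub_apply, Module.End.one_apply, LinearMap.smul_apply, map_sub,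
        smul_sub] at e
      have e2 : σ y (σ y v) + μ • v = (1 + μ) • σ y v := by
        rw [add_smul, one_smul]; linear_combination (norm := abel) e
      have h0 : (1 + μ) • σ y v = 0 := huniq c d _ (e2 ▸ Submodule.add_mem _ hyyv (Submodule.smul_mem _ _ hv))
        (Submodule.smul_mem _ _ hyv) hcd
      have hμ1 : 1 + μ = 0 := (smul_eq_zero.1 h0).resolve_right fun h => hv0 (by rw [← hinvb y v, h, map_zero])
      rw [h0, eq_neg_of_add_eq_zero_right hμ1, neg_smul, one_smul, ← sub_eq_add_neg, sub_eq_zero] at e2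
      exact e2
    intro v
    obtain ⟨u, hu, w, hw, rfl⟩ := hdec v
    rw [map_add, map_add]
    congr 1
    · rcases eq_or_ne u 0 with rfl | hu'
      · rw [map_zero, map_zero]
      · exact hpart 1 l (Ne.symm hl1) u hu hu' (h1 u hu) (h2 _ (h1 u hu))
    · rcases eq_or_ne w 0 with rfl | hw'
      · rw [map_zero, map_zero]
      · exact hpart l 1 hl1 w hw hw' (h2 w hw) (h1 _ (h2 w hw))
  obtain ⟨h1, h2⟩ := hswap y hyS
  have hy2 := hinvol y hyr hyS
  let x' := y * x * y
  have hx'1 : ∀ v ∈ E 1, σ x' v = l • v := fun v hv => by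
    rw [hcomp, hcomp, (hE l _).1 (h1 v hv), map_smul, hy2]
  have hxl : l ^ orderOf x = 1 := by
    have e := hpow x w0 l (orderOf x) ((hE l w0).1 hw0)
    rw [pow_orderOf_eq_one, map_one, Module.End.one_apply] at e
    have : (l ^ orderOf x - 1) • w0 = 0 := by rw [sub_smul, one_smul, ← e, sub_self]
    exact sub_eq_zero.1 ((smul_eq_zero.1 this).resolve_right hw0n)
  have hx'l : ∀ v ∈ E l, σ x' v = v := fun v hv => by
    rw [hcomp, hcomp, (hE 1 _).1 (h2 v hv), one_smul, hy2]
  by_cases hp2 : p = 2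
  · -- `x * y` swaps and squares to a scalar
    have hw2 : ∀ v, σ ((x * y) * (x * y)) v = l • v := fun v => by
      rw [show x * y * (x * y) = x * x' by simp only [x']; group, hcomp]
      obtain ⟨u, hu, w, hw, rfl⟩ := hdec v
      rw [map_add, map_add, hx'1 u hu, hx'l w hw, map_smul, (hE 1 u).1 hu, (hE l w).1 hw, one_smul, smul_add]
    have hwS : x * y ∉ St := fun h => by
      refine hexcl (x * y) (h.1 u0 hu0) ?_
      rw [hcomp, hE]
      exact congrArg (σ x) ((hE l _).1 (h1 u0 hu0)) |>.trans (by rw [map_smul])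
    have hw4 : (x * y) ^ (2 * 2 ^ k) = 1 := hσ (LinearMap.ext fun v => by
      rw [map_one, Module.End.one_apply, pow_mul, pow_two, hpow _ v l _ (hw2 v), ← hp2, ← hk, hxl, one_smul])
    obtain ⟨j, -, hj⟩ := (Nat.dvd_prime_pow Nat.prime_two).1
      (show orderOf (x * y) ∣ 2 ^ (k + 1) by rw [pow_succ']; exact orderOf_dvd_of_pow_eq_one hw4)
    have h3 := hinvol (x * y) ⟨j, hj⟩ hwS u0
    rw [← hcomp, hw2] at h3
    have : (l - 1) • u0 = 0 := by rw [sub_smul, h3, one_smul, sub_self]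
    exact hl1 (sub_eq_zero.1 ((smul_eq_zero.1 this).resolve_right hu0n))
  · -- the product `x * x'^2`
    have hc1 : ∀ v ∈ E 1, σ (x * x' ^ 2) v = (l ^ 2) • v := fun v hv => by
      rw [hcomp, hpow x' v l 2 (hx'1 v hv), map_smul, (hE 1 v).1 hv, one_smul]
    have hcl : ∀ v ∈ E l, σ (x * x' ^ 2) v = l • v := fun v hv => by
      rw [hcomp, hpow x' v 1 2 (by rw [hx'l v hv, one_smul]), one_pow, one_smul, (hE l v).1 hv]
    have hord : (x * x' ^ 2) ^ p ^ k = 1 := hσ (LinearMap.ext fun v => by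
      obtain ⟨u, hu, w, hw, rfl⟩ := hdec v
      rw [map_add, hpow _ u _ _ (hc1 u hu), hpow _ w _ _ (hcl w hw), ← pow_mul, mul_comm, pow_mul, ← hk, hxl,
        one_pow, one_smul, one_smul, map_one, Module.End.one_apply])
    obtain ⟨j, -, hj⟩ := (Nat.dvd_prime_pow hC0p).1 (orderOf_dvd_of_pow_eq_one hord)
    obtain ⟨ν, hν⟩ := hP p hC0p hpq _ ⟨j, hj⟩
    have key : ∀ c v, v ≠ 0 → σ (x * x' ^ 2) v = c • v → c = 1 ∨ c = ν := fun c v hv0 hc => by
      have e := LinearMap.congr_fun hν v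
      simp only [Module.End.mul_apply, LinearMap.sub_apply, Module.End.one_apply, LinearMap.smul_apply, map_sub,
        hc, map_smul, smul_smul, smul_sub] at e
      have e2 : ((c - ν) * (c - 1)) • v = 0 := by
        rw [show (c - ν) * (c - 1) = (c * c - c) - (ν * c - ν) by ring, sub_smul, sub_smul, sub_smul, e, sub_self]
      rcases mul_eq_zero.1 ((smul_eq_zero.1 e2).resolve_right hv0) with h | h
      · exact Or.inr (sub_eq_zero.1 h)
      · exact Or.inl (sub_eq_zero.1 h)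
    have hll : l ^ 2 ≠ 1 := fun h => by
      rw [hk] at hxl
      obtain ⟨t, ht⟩ := ((hC0p.odd_of_ne_two hp2).pow : Odd (p ^ k))
      rw [ht, pow_succ, pow_mul, h, one_pow, one_mul] at hxl
      exact hl1 hxl
    rcases key _ _ hu0n (hc1 u0 hu0) with h | h
    · exact hll h
    · rcases key _ _ hw0n (hcl w0 hw0) with h' | h'
      · exact hl1 h'
      · rw [← h', pow_two] at h
        exact hl1 (mul_left_cancel₀ hl0 (h.trans (mul_one l).symm))

/-- Such a module is one-dimensional. -/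
theorem finrank_eq_one (σ : H →* Module.End (ZMod q) V) (hσ : Function.Injective σ)
    (hss : Cfsg.IsSupersolvable H)
    (hirr : ∀ W : Submodule (ZMod q) V, (∀ h : H, ∀ w ∈ W, σ h w ∈ W) → W = ⊥ ∨ W = ⊤)
    (hP : ∀ p : ℕ, p.Prime → p ≠ q → ∀ x : H, (∃ k, orderOf x = p ^ k) →
      ∃ c : ZMod q, σ x * (σ x - 1) = c • (σ x - 1)) :
    Module.finrank (ZMod q) V = 1 := by
  obtain ⟨v, hv⟩ := exists_ne (0 : V)
  have htop := scalar_eq_top σ hσ hss hirr hP
  rcases hirr (Submodule.span (ZMod q) {v}) (fun h w hw => by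
    obtain ⟨c, hc⟩ := (htop ▸ Subgroup.mem_top h : h ∈ scalars σ)
    rw [hc, LinearMap.smul_apply]
    exact Submodule.smul_mem _ _ hw) with hb | ht
  · exact absurd ((Submodule.span_singleton_eq_bot).1 hb) hv
  · rw [← finrank_top, ← ht]
    exact finrank_span_singleton hv

end Cfsg.Agent.LocalEvenB.ConjPair
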