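import Mathlib
import Cfsg.Prelude.Def_Transfer
import Cfsg.Agent.Lib.Supersolv.Orders
import Cfsg.Agent.Lib.Transfer.Fusion
import Cfsg.Agent.Lib.LocalEvenB.ConjPairLinear

/-! Supersolvability from the orders of subgroups generated by two conjugates. -/

set_option autoImplicit false

namespace Cfsg.Agent.LocalEvenB.ConjPair

open Subgroup
open scoped IsMulCommutative

universe u

/-- The hypothesis. -/
def PairHyp (G : Type u) [Group G] : Prop :=
  ∀ (p q : ℕ), p.Prime → q.Prime → p ≠ q → ∀ (x g : G), (∃ a : ℕ, orderOf x = p ^ a) → (∃ b : ℕ, orderOf g = q ^ b) →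
    ¬ q ^ 2 ∣ Nat.card ↥(Subgroup.zpowers x ⊔ Subgroup.zpowers (g * x * g⁻¹))

theorem pairHyp_subgroup {G : Type u} [Group G] (h : PairHyp G) (K : Subgroup G) : PairHyp K := by
  intro p q hp hq hpq x g hx hg hd
  refine h p q hp hq hpq x g (by rw [Subgroup.orderOf_coe]; exact hx) (by rw [Subgroup.orderOf_coe]; exact hg) ?_
  rwa [← Subgroup.card_map_of_injective K.subtype_injective, Subgroup.map_sup, MonoidHom.map_zpowers,
    MonoidHom.map_zpowers] at hd

theorem pairHyp_quotient {G : Type u} [Group G] [Finite G] (h : PairHyp G) (N : Subgroup G) [N.Normal] :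
    PairHyp (G ⧸ N) := by
  intro p q hp hq hpq x g ⟨a, ha⟩ ⟨b, hb⟩ hd
  obtain ⟨x0, rfl⟩ := QuotientGroup.mk'_surjective N x
  obtain ⟨g0, rfl⟩ := QuotientGroup.mk'_surjective N g
  obtain ⟨x1, hx1, hx2⟩ := exists_lift hp (QuotientGroup.mk' N) x0 ha
  obtain ⟨g1, hg1, hg2⟩ := exists_lift hq (QuotientGroup.mk' N) g0 hb
  refine h p q hp hq hpq x1 g1 hx2 hg2 (hd.trans ?_)
  have e : (zpowers x1 ⊔ zpowers (g1 * x1 * g1⁻¹)).map (QuotientGroup.mk' N) =
      zpowers (QuotientGroup.mk' N x0) ⊔ zpowers (QuotientGroup.mk' N g0 * QuotientGroup.mk' N x0 * (QuotientGroup.mk' N g0)⁻¹) := by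
    rw [Subgroup.map_sup, MonoidHom.map_zpowers, MonoidHom.map_zpowers, map_mul, map_mul, map_inv, hx1, hg1]
  rw [← e]
  exact Subgroup.card_map_dvd _ _

/-- A finite supersolvable group has a normal complement for its smallest prime. -/
theorem hasNormalPComplement {K : Type u} [Group K] [Finite K] (hK : Cfsg.IsSupersolvable K) (p : ℕ) [hp : Fact p.Prime]
    (hmin : ∀ r, r.Prime → r ∣ Nat.card K → p ≤ r) : Cfsg.HasNormalPComplement p K := by
  obtain ⟨n, S, h0, hl, hn, hstep, hmono, -⟩ := Supersolv.exists_prime_chain hK (Nat.card K)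
    fun r _ hd => Nat.le_of_dvd Nat.card_pos hd
  have hcard : ∀ i : Fin n, Nat.card (S i.succ) = Nat.card (S i.castSucc) * (S i.castSucc).relIndex (S i.succ) :=
    fun i => by
      rw [← Subgroup.relIndex_bot_left (S i.succ), ← Subgroup.relIndex_bot_left (S i.castSucc),
        Subgroup.relIndex_mul_relIndex _ _ _ bot_le (hstep i).1]
  obtain ⟨P⟩ : Nonempty (Sylow p K) := inferInstance
  suffices H : ∃ N : Subgroup K, N.Normal ∧ ¬ p ∣ Nat.card N ∧ ∃ e, N.index = p ^ e by
    obtain ⟨N, hN, hpN, e, he⟩ := H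
    refine ⟨P, N, hN, ?_⟩
    have hcop : (Nat.card N).Coprime (Nat.card P) := by
      obtain ⟨j, hj⟩ := IsPGroup.iff_card.1 P.2
      rw [hj]
      exact Nat.Coprime.pow_right j ((hp.out.coprime_iff_not_dvd.2 hpN).symm)
    have hPcard : Nat.card P = N.index := by
      refine Nat.dvd_antisymm ?_ ?_
      · exact hcop.symm.dvd_of_dvd_mul_left (by rw [Subgroup.card_mul_index]; exact Subgroup.card_subgroup_dvd_card _)
      · rw [he, Sylow.card_eq_multiplicity]
        refine pow_dvd_pow p ((hp.out.pow_dvd_iff_le_factorization Nat.card_pos.ne').1 ?_)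
        exact he ▸ Subgroup.index_dvd_card N
    exact Subgroup.isComplement'_of_coprime (by rw [hPcard, Subgroup.card_mul_index]) hcop
  classical
  have hind : ∀ i : Fin (n + 1), ¬ p ∣ Nat.card (S i) ∨ ∃ j : Fin n, j.castSucc < i ∧ (S j.castSucc).relIndex (S j.succ) = p := by
    intro i
    induction i using Fin.induction with
    | zero => left; rw [h0, Subgroup.card_bot]; exact hp.out.not_dvd_one
    | succ i ih =>
      rcases ih with hi | ⟨j, hj, hjp⟩
      · by_cases he : (S i.castSucc).relIndex (S i.succ) = p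
        · exact Or.inr ⟨i, i.castSucc_lt_succ, he⟩
        · left
          rw [hcard i]
          exact fun hd => (hp.out.dvd_mul.1 hd).elim hi fun h => he
            ((Nat.prime_dvd_prime_iff_eq hp.out (hstep i).2).1 h).symm
      · exact Or.inr ⟨j, lt_trans hj i.castSucc_lt_succ, hjp⟩
  by_cases hall : ∀ j : Fin n, (S j.castSucc).relIndex (S j.succ) ≠ p
  · refine ⟨⊤, inferInstance, ?_, 0, by rw [Subgroup.index_top, pow_zero]⟩
    rcases hind (Fin.last n) with h | ⟨j, -, hj⟩
    · rwa [← hl]
    · exact absurd hj (hall j)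
  push Not at hall
  obtain ⟨j0, hj0⟩ := hall
  let s : Finset (Fin n) := Finset.univ.filter fun j => (S j.castSucc).relIndex (S j.succ) = p
  have hs : s.Nonempty := ⟨j0, by simp [s, hj0]⟩
  set j := s.min' hs
  have hjp : (S j.castSucc).relIndex (S j.succ) = p := (Finset.mem_filter.1 (s.min'_mem hs)).2
  refine ⟨S j.castSucc, hn _, ?_, ?_⟩
  · rcases hind j.castSucc with h | ⟨i, hi, hip⟩
    · exact h
    · exact absurd (s.min'_le i (by simp [s, hip])) (not_le.2 (Fin.castSucc_lt_castSucc_iff.1 hi))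
  · have hup : ∀ i : Fin (n + 1), j.castSucc ≤ i → ∃ e, (S j.castSucc).relIndex (S i) = p ^ e ∧ S j.castSucc ≤ S i := by
      intro i
      induction i using Fin.induction with
      | zero => intro hi; exact ⟨0, by rw [Fin.le_zero_iff.1 hi, Subgroup.relIndex_self, pow_zero],
          by rw [Fin.le_zero_iff.1 hi]⟩
      | succ i ih =>
        intro hi
        rcases eq_or_lt_of_le hi with h | h
        · exact ⟨0, by rw [← h, Subgroup.relIndex_self, pow_zero], by rw [← h]⟩
        · have hji : j.castSucc ≤ i.castSucc := Fin.le_castSucc_iff.2 h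
          obtain ⟨e, he, hle⟩ := ih hji
          refine ⟨e + 1, ?_, hle.trans (hstep i).1⟩
          rw [← Subgroup.relIndex_mul_relIndex _ _ _ hle (hstep i).1, he, pow_succ]
          congr 1
          refine le_antisymm (hjp ▸ hmono j i (Fin.castSucc_le_castSucc_iff.1 hji)) (hmin _ (hstep i).2 ?_)
          have := hcard i ▸ Subgroup.card_subgroup_dvd_card (S i.succ)
          exact (dvd_mul_left _ _).trans this
    obtain ⟨e, he, -⟩ := hup (Fin.last n) (Fin.le_last _)
    exact ⟨e, by rw [← he, hl, Subgroup.relIndex_top_right]⟩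

/-- Automorphisms as linear maps. -/
def toEndHom {M : Type*} [CommGroup M] (q : ℕ) [Module (ZMod q) (Additive M)] :
    MulAut M →* Module.End (ZMod q) (Additive M) where
  toFun f := AddMonoidHom.toZModLinearMap q (MonoidHom.toAdditive f.toMonoidHom)
  map_one' := LinearMap.ext fun _ => rfl
  map_mul' _ _ := LinearMap.ext fun _ => rfl

theorem toEndHom_injective {M : Type*} [CommGroup M] (q : ℕ) [Module (ZMod q) (Additive M)] :
    Function.Injective (toEndHom (M := M) q) := fun f g h => MulEquiv.ext fun a =>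
  congrArg Additive.toMul (LinearMap.congr_fun h (Additive.ofMul a))

/-- The linear step. -/
theorem cyclic_of_action {G : Type u} [Group G] [Finite G] {M : Type*} [CommGroup M] [Finite M] [Nontrivial M]
    (q : ℕ) [Fact q.Prime] (hexp : ∀ a : M, a ^ q = 1) (act : G →* MulAut M)
    (hss : Cfsg.IsSupersolvable (G ⧸ act.ker))
    (hirr : ∀ U : Subgroup M, (∀ g, ∀ a ∈ U, act g a ∈ U) → U = ⊥ ∨ U = ⊤)
    (hP : ∀ p : ℕ, p.Prime → p ≠ q → ∀ x : G, (∃ k, orderOf x = p ^ k) →
      ∀ v : M, ∃ i : ℕ, act x (act x v / v) = (act x v / v) ^ i) : IsCyclic M := by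
  have hqz : ∀ v : Additive M, q • v = 0 := fun v => by
    show Additive.ofMul (v.toMul ^ q) = 0
    rw [hexp]; rfl
  let mM : Module (ZMod q) (Additive M) := @AddCommGroup.zmodModule q (Additive M) inferInstance hqz
  have : Module.Finite (ZMod q) (Additive M) := Module.Finite.of_finite
  let toEnd : MulAut M →* Module.End (ZMod q) (Additive M) := toEndHom q
  have htinj : Function.Injective toEnd := toEndHom_injective q
  let σ : G ⧸ act.ker →* Module.End (ZMod q) (Additive M) := toEnd.comp (QuotientGroup.kerLift act)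
  have hirr' : ∀ W : Submodule (ZMod q) (Additive M), (∀ a, ∀ w ∈ W, σ a w ∈ W) → W = ⊥ ∨ W = ⊤ := by
    intro W hW
    rcases hirr (AddSubgroup.toSubgroup' W.toAddSubgroup) (fun g a ha => hW (QuotientGroup.mk g) _ ha) with h | h
    · exact Or.inl ((Submodule.eq_bot_iff _).2 fun w hw =>
        Additive.toMul.injective ((Subgroup.mem_bot).1 (h.le (show w.toMul ∈ AddSubgroup.toSubgroup' W.toAddSubgroup from hw))))
    · exact Or.inr (Submodule.eq_top_iff'.2 fun w => h.ge (Subgroup.mem_top w.toMul))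
  have hq1 := finrank_eq_one σ (htinj.comp (QuotientGroup.kerLift_injective act)) hss hirr' ?_
  · refine isCyclic_of_prime_card (p := q) ?_
    rw [Nat.card_congr Additive.ofMul, Module.natCard_eq_pow_finrank (K := ZMod q), hq1, Nat.card_zmod, pow_one]
  intro p hp hpq xb ⟨k, hk⟩
  obtain ⟨b, rfl⟩ := QuotientGroup.mk'_surjective act.ker xb
  obtain ⟨x, hx, hxk⟩ := exists_lift hp (QuotientGroup.mk' act.ker) b hk
  rw [← hx]
  refine exists_scalar _ _ fun v => ?_
  obtain ⟨i, hi⟩ := hP p hp hpq x hxk v.toMul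
  refine ⟨(i : ZMod q), ?_⟩
  rw [Nat.cast_smul_eq_nsmul]
  exact congrArg Additive.ofMul hi

/-- The criterion. -/
theorem isSupersolvable {G : Type u} [Group G] [Finite G] (h : PairHyp G) : Cfsg.IsSupersolvable G := by
  suffices ∀ (n : ℕ) (G : Type u) [Group G] [Finite G], Nat.card G = n → PairHyp G → Cfsg.IsSupersolvable G from
    this _ G rfl h
  intro n
  induction n using Nat.strong_induction_on with
  | _ n ih =>
  intro G _ _ hn h
  rcases subsingleton_or_nontrivial G with hsub | hnt
  · exact Supersolv.of_subsingleton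
  have hsubg : ∀ K : Subgroup G, K ≠ ⊤ → Cfsg.IsSupersolvable K := fun K hK => by
    refine ih _ ?_ K rfl (pairHyp_subgroup h K)
    rw [← hn]
    exact lt_of_le_of_ne (Subgroup.card_le_card_group K) fun e => hK (Subgroup.eq_top_of_card_eq K e)
  have hquot : ∀ (N : Subgroup G) [N.Normal], N ≠ ⊥ → Cfsg.IsSupersolvable (G ⧸ N) := fun N _ hN => by
    refine ih _ ?_ _ rfl (pairHyp_quotient h N)
    rw [← hn, ← Subgroup.index_eq_card, ← Subgroup.card_mul_index N]
    exact lt_mul_of_one_lt_left (Nat.pos_of_ne_zero Subgroup.index_ne_zero_of_finite)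
      (Nat.one_lt_iff_ne_zero_and_ne_one.2 ⟨Nat.card_pos.ne', fun e => hN (Subgroup.eq_bot_of_card_eq N e)⟩)
  have hsol : Group.IsSolvable G := by
    by_cases hsimp : ∃ N : Subgroup G, N.Normal ∧ N ≠ ⊥ ∧ N ≠ ⊤
    · obtain ⟨N, hN, hb, ht⟩ := hsimp
      have := Supersolv.isSolvable (hsubg N ht)
      have := Supersolv.isSolvable (hquot N hb)
      exact Group.isSolvable_of_ker_le_range N.subtype (QuotientGroup.mk' N) (by simp)
    push Not at hsimp
    obtain ⟨p, hp, hpd, hmin⟩ : ∃ p, p.Prime ∧ p ∣ Nat.card G ∧ ∀ r, r.Prime → r ∣ Nat.card G → p ≤ r :=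
      ⟨_, Nat.minFac_prime Finite.one_lt_card.ne', Nat.minFac_dvd _, fun r hr hd => Nat.minFac_le_of_dvd hr.two_le hd⟩
    have : Fact p.Prime := ⟨hp⟩
    by_cases hG : IsPGroup p G
    · have := hG.isNilpotent
      infer_instance
    have hnc : Cfsg.HasNormalPComplement p G := by
      refine Transfer.hasNormalPComplement_of_frobenius fun D hD g hg ho => ?_
      by_cases hD1 : D = ⊥
      · subst hD1
        intro x hx
        obtain rfl : x = 1 := by simpa using hx
        simp
      have hne : Subgroup.normalizer (D : Set G) ≠ ⊤ := fun e => by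
        have hn' : D.Normal := Subgroup.normalizer_eq_top_iff.1 e
        rw [hsimp D hn' hD1] at hD
        exact hG (hD.of_equiv Subgroup.topEquiv)
      have h2 := Transfer.centralizes_of_hasNormalPComplement (hasNormalPComplement (hsubg _ hne) p
          fun r hr hd => hmin r hr (hd.trans (Subgroup.card_subgroup_dvd_card _)))
        (D.subgroupOf (normalizer (D : Set G))) hD.comap_subtype ⟨g, hg⟩
        (mem_normalizer_iff.mpr fun y => mem_normalizer_iff.mp hg y) (by rwa [← Subgroup.orderOf_coe])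
      intro x hx
      exact congrArg Subtype.val (h2 ⟨x, le_normalizer hx⟩ hx)
    obtain ⟨P, N, hN, hc⟩ := hnc
    by_cases hNb : N = ⊥
    · rw [hNb, Subgroup.isComplement'_bot_left] at hc
      exact absurd ((show IsPGroup p (⊤ : Subgroup G) from hc ▸ P.2).of_equiv Subgroup.topEquiv) hG
    · rw [hsimp N hN hNb, Subgroup.isComplement'_top_left] at hc
      exact absurd ((P.card_eq_multiplicity).symm.trans (by rw [hc, Subgroup.card_bot]))
        (Nat.one_lt_pow (hp.factorization_pos_of_dvd Nat.card_pos.ne' hpd).ne' hp.one_lt).ne'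
  obtain ⟨N, ⟨hNn, hNb⟩, hNmin⟩ := (Set.toFinite {N : Subgroup G | N.Normal ∧ N ≠ ⊥}).exists_minimal
    ⟨⊤, inferInstance, top_ne_bot⟩
  have hmin : ∀ U : Subgroup G, U.Normal → U ≤ N → U ≠ ⊥ → U = N := fun U hU hle hne =>
    le_antisymm hle (hNmin ⟨hU, hne⟩ hle)
  have hNab : IsMulCommutative N := by
    have hNnt : Nontrivial N := (Subgroup.nontrivial_iff_ne_bot N).2 hNb
    have hlt : _root_.commutator N ≠ ⊤ := (Group.IsSolvable.commutator_lt_top_of_nontrivial N).ne
    have hcmap : (_root_.commutator N).map N.subtype = ⊥ := by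
      by_contra hne
      refine hlt ?_
      have h1 := hmin _ inferInstance (Subgroup.map_subtype_le _) hne
      refine Subgroup.map_injective N.subtype_injective ?_
      rw [h1, ← MonoidHom.range_eq_map, Subgroup.range_subtype]
    refine ⟨⟨fun a b => commutatorElement_eq_one_iff_mul_comm.1 ?_⟩⟩
    rw [Subgroup.map_eq_bot_iff_of_injective _ N.subtype_injective] at hcmap
    rw [← Subgroup.mem_bot, ← hcmap, _root_.commutator_def]
    exact Subgroup.commutator_mem_commutator (Subgroup.mem_top a) (Subgroup.mem_top b)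
  have hNone : Nat.card N ≠ 1 := fun e => hNb (Subgroup.eq_bot_of_card_eq N e)
  set q := (Nat.card N).minFac with hqdef
  have : Fact q.Prime := ⟨Nat.minFac_prime hNone⟩
  have hexp : ∀ a ∈ N, a ^ q = 1 := by
    let U : Subgroup G :=
      { carrier := {a | a ∈ N ∧ a ^ q = 1}
        one_mem' := ⟨one_mem N, one_pow q⟩
        mul_mem' := fun {a b} ha hb => ⟨mul_mem ha.1 hb.1, by
          rw [Commute.mul_pow (congrArg Subtype.val (hNab.1.1 ⟨a, ha.1⟩ ⟨b, hb.1⟩)), ha.2, hb.2, one_mul]⟩
        inv_mem' := fun {a} ha => ⟨inv_mem ha.1, by rw [inv_pow, ha.2, inv_one]⟩ }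
    have hUn : U.Normal := ⟨fun a ha g => ⟨hNn.conj_mem a ha.1 g, by rw [conj_pow, ha.2, mul_one, mul_inv_cancel]⟩⟩
    obtain ⟨a, ha⟩ := exists_prime_orderOf_dvd_card' (G := N) q (Nat.minFac_dvd _)
    have hU : U = N := hmin U hUn (fun a ha => ha.1) fun e => by
      have h1 : (a : G) ∈ U := ⟨a.2, by rw [← ha, ← Subgroup.orderOf_coe, pow_orderOf_eq_one]⟩
      rw [e, Subgroup.mem_bot] at h1
      rw [show a = 1 from Subtype.ext h1, orderOf_one] at ha
      exact (Fact.out (p := q.Prime)).one_lt.ne ha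
    exact fun a ha => (hU.ge ha).2
  have hcyc : IsCyclic N := by
    have : Nontrivial N := (Subgroup.nontrivial_iff_ne_bot N).2 hNb
    let act : G →* MulAut N := MulAut.conjNormal
    have hNker : N ≤ act.ker := fun a ha => by
      rw [MonoidHom.mem_ker]
      refine MulEquiv.ext fun v => Subtype.ext ?_
      rw [MulAut.conjNormal_apply]
      have h1 : a * (v : G) = v * a := congrArg Subtype.val (hNab.1.1 ⟨a, ha⟩ v)
      rw [h1, mul_inv_cancel_right]; rfl
    have hss : Cfsg.IsSupersolvable (G ⧸ act.ker) :=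
      FGB.isSupersolvable_of_surjective (QuotientGroup.map N act.ker (MonoidHom.id G) hNker) (fun x => by
        obtain ⟨g, rfl⟩ := QuotientGroup.mk_surjective x
        exact ⟨QuotientGroup.mk g, rfl⟩) (hquot N hNb)
    refine cyclic_of_action q (fun a => Subtype.ext (hexp a a.2)) act hss (fun U hU => ?_) ?_
    · by_cases hUb : U = ⊥
      · exact Or.inl hUb
      · right
        have hUn : (U.map N.subtype).Normal := ⟨fun a ha g => by
          obtain ⟨b, hb, rfl⟩ := ha
          exact ⟨act g b, hU g b hb, MulAut.conjNormal_apply g b⟩⟩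
        refine Subgroup.map_injective N.subtype_injective ?_
        rw [← MonoidHom.range_eq_map, Subgroup.range_subtype]
        exact hmin _ hUn (Subgroup.map_subtype_le _) fun e =>
          hUb ((Subgroup.map_eq_bot_iff_of_injective _ N.subtype_injective).1 e)
    intro p hp hpq x hxk v
    set g : G := (v : G) with hgdef
    set d : G := x * g * x⁻¹ * g⁻¹ with hddef
    have hdD : ((act x v / v : N) : G) = d := by
      rw [Subgroup.coe_div, MulAut.conjNormal_apply, div_eq_mul_inv]
    have hgq : ∃ b, orderOf g = q ^ b := by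
      obtain ⟨j, -, hj⟩ := (Nat.dvd_prime_pow Fact.out).1
        (show orderOf g ∣ q ^ 1 by rw [pow_one]; exact orderOf_dvd_of_pow_eq_one (hexp g v.2))
      exact ⟨j, hj⟩
    set S := Subgroup.zpowers x ⊔ Subgroup.zpowers (g * x * g⁻¹) with hS
    have hxS : x ∈ S := (le_sup_left : _ ≤ S) (mem_zpowers x)
    have hdS : d ∈ S := by
      rw [show d = x * (g * x * g⁻¹)⁻¹ by rw [hddef]; group]
      exact mul_mem hxS (inv_mem ((le_sup_right : _ ≤ S) (mem_zpowers _)))
    have hdN : d ∈ N := by rw [← hdD]; exact (act x v / v : N).2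
    have hmem : x * d * x⁻¹ ∈ Subgroup.zpowers d := by
      by_contra hnot
      have hd1 : d ≠ 1 := fun e => hnot (by rw [e, mul_one, mul_inv_cancel]; exact one_mem _)
      let A := Subgroup.zpowers d ⊔ Subgroup.zpowers (x * d * x⁻¹)
      have hAN : A ≤ N := sup_le (zpowers_le.2 hdN) (zpowers_le.2 (hNn.conj_mem d hdN x))
      have hAS : A ≤ S := sup_le (zpowers_le.2 hdS) (zpowers_le.2 (mul_mem (mul_mem hxS hdS) (inv_mem hxS)))
      have hAp : IsPGroup q A := fun a => ⟨1, Subtype.ext (by rw [pow_one]; exact hexp a (hAN a.2))⟩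
      obtain ⟨j, hj⟩ := IsPGroup.iff_card.1 hAp
      have hlt : Nat.card (zpowers d) < Nat.card A := by
        refine lt_of_le_of_ne (Subgroup.card_le_of_le le_sup_left) fun e => hnot ?_
        rw [Subgroup.eq_of_le_of_card_ge (le_sup_left : zpowers d ≤ A) e.ge]
        exact (le_sup_right : _ ≤ A) (mem_zpowers _)
      rw [Nat.card_zpowers, orderOf_eq_prime (hexp d hdN) hd1, hj] at hlt
      have hj2 : 2 ≤ j := by
        by_contra hj2
        interval_cases j
        · rw [pow_zero] at hlt; have := (Fact.out : q.Prime).two_le; omega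
        · rw [pow_one] at hlt; exact lt_irrefl _ hlt
      exact h p q hp Fact.out hpq x g hxk hgq
        ((pow_dvd_pow q hj2).trans (hj ▸ Subgroup.card_dvd_of_le hAS))
    obtain ⟨i, hi⟩ := mem_powers_iff_mem_zpowers.2 hmem
    refine ⟨i, Subtype.ext ?_⟩
    rw [MulAut.conjNormal_apply, Subgroup.coe_pow, hdD]
    exact hi.symm
  exact Supersolv.of_cyclic_quotient N (hquot N hNb)

end Cfsg.Agent.LocalEvenB.ConjPair
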