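import Cfsg.Agent.Lib.InvChar.BrauerSuzuki

/-!
# Coprime automorphisms centralizing the centralizer of an involution

Let `β` have prime order `r` prime to `|G|` and fix `C(τ)`; put `H = C(β)`, `D = τ^G`.
Every element of `D` fixes exactly one point of `G/H`, and every `y ∈ H` fixes an odd number
of points, so a pair in `D` with product `y ∈ H` has both fixed points in the fixed set of `y`.
Comparing with the Cauchy–Schwarz bound gives `|D ∩ H| = 1`, so `Z*` applies.
-/

set_option autoImplicit false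

namespace Cfsg.Agent.LocalEvenB.CoprimeInvol

open Subgroup

variable {G : Type*} [Group G] [Finite G]

/-- The fixed subgroup of an automorphism. -/
def fixed (β : MulAut G) : Subgroup G where
  carrier := {g | β g = g}
  one_mem' := map_one β
  mul_mem' {x y} hx hy := by show β (x * y) = x * y; rw [map_mul, hx, hy]
  inv_mem' {x} hx := by show β x⁻¹ = x⁻¹; rw [map_inv, hx]

omit [Finite G] in
theorem mem_fixed {β : MulAut G} {g : G} : g ∈ fixed β ↔ β g = g := Iff.rfl

variable {r : ℕ} {β : MulAut G}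

theorem not_dvd_of_dvd (hcop : ¬ r ∣ Nat.card G) {m : ℕ} (h : m ∣ Nat.card G) : ¬ r ∣ m :=
  fun h' => hcop (h'.trans h)

omit [Finite G] in
theorem perm_fixed {X : Type*} [Finite X] (hr : r.Prime) (σ : Equiv.Perm X) (hσ : σ ^ r = 1)
    (h : ¬ r ∣ Nat.card X) : ∃ x, σ x = x := by
  haveI := Fintype.ofFinite X
  classical
  haveI : Fact r.Prime := ⟨hr⟩
  rw [Nat.card_eq_fintype_card] at h
  exact Equiv.Perm.exists_fixed_point_of_prime h (n := 1) (by rw [pow_one]; exact hσ)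

/-- A fixed element in an invariant set of size prime to `r`. -/
theorem exists_fixed_mem (hr : r.Prime) (hβ : β ^ r = 1) (T : Set G) (hT : ∀ x ∈ T, β x ∈ T)
    (hcard : ¬ r ∣ T.ncard) : ∃ x ∈ T, β x = x := by
  let f : ↥T → ↥T := fun x => ⟨β x, hT x x.2⟩
  have hf : Function.Injective f := fun x y h => Subtype.ext (β.injective (congrArg Subtype.val h))
  let σ : Equiv.Perm ↥T := Equiv.ofBijective f ⟨hf, Finite.surjective_of_injective hf⟩
  have hpow : ∀ (k : ℕ) (x : ↥T), ((σ ^ k) x : G) = (β ^ k) (x : G) := by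
    intro k
    induction k with
    | zero => intro x; rfl
    | succ k ih =>
      intro x
      rw [pow_succ', pow_succ', Equiv.Perm.mul_apply, MulAut.mul_apply, ← ih]
      rfl
  have hσ : σ ^ r = 1 := Equiv.ext fun x => Subtype.ext (by rw [hpow, hβ]; rfl)
  obtain ⟨x, hx⟩ := perm_fixed hr σ hσ (by rwa [Nat.card_coe_set_eq])
  exact ⟨x, x.2, congrArg Subtype.val hx⟩

/-- Fixed elements that are conjugate are conjugate by a fixed element. -/
theorem fusion (hr : r.Prime) (hβ : β ^ r = 1) (hcop : ¬ r ∣ Nat.card G) {t g : G}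
    (ht : t ∈ fixed β) (hg : g * t * g⁻¹ ∈ fixed β) :
    ∃ h ∈ fixed β, h * t * h⁻¹ = g * t * g⁻¹ := by
  let T : Set G := {x | x * t * x⁻¹ = g * t * g⁻¹}
  have hT : ∀ x ∈ T, β x ∈ T := fun x (hx : x * t * x⁻¹ = g * t * g⁻¹) => by
    have h := congrArg β hx
    rw [map_mul, map_mul, map_inv, mem_fixed.mp ht, mem_fixed.mp hg] at h
    exact h
  have hTc : T = (fun c => g * c) '' (Subgroup.centralizer ({t} : Set G) : Set G) := by
    ext x
    refine ⟨fun hx => ⟨g⁻¹ * x, ?_, by group⟩, ?_⟩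
    · refine Subgroup.mem_centralizer_singleton_iff.mpr ?_
      have hx' : x * t * x⁻¹ = g * t * g⁻¹ := hx
      calc g⁻¹ * x * t = g⁻¹ * (x * t * x⁻¹) * x := by group
        _ = g⁻¹ * (g * t * g⁻¹) * x := by rw [hx']
        _ = t * (g⁻¹ * x) := by group
    · rintro ⟨c, hc, rfl⟩
      show g * c * t * (g * c)⁻¹ = g * t * g⁻¹
      calc g * c * t * (g * c)⁻¹ = g * (c * t) * (g * c)⁻¹ := by group
        _ = g * (t * c) * (g * c)⁻¹ := by rw [Subgroup.mem_centralizer_singleton_iff.mp hc]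
        _ = _ := by group
  have hcard : ¬ r ∣ T.ncard := by
    rw [hTc, Set.ncard_image_of_injective _ (mul_right_injective g), ← Nat.card_coe_set_eq]
    exact not_dvd_of_dvd hcop (Subgroup.card_subgroup_dvd_card _)
  obtain ⟨x, hx, hxf⟩ := exists_fixed_mem hr hβ T hT hcard
  exact ⟨x, hxf, hx⟩

/-- An invariant `2`-subgroup lies in an invariant Sylow `2`-subgroup. -/
theorem exists_invariant_sylow (hr : r.Prime) (hβ : β ^ r = 1) (hcop : ¬ r ∣ Nat.card G) :
    ∀ (k : ℕ) (P : Subgroup G), Nat.card G - Nat.card ↥P ≤ k → IsPGroup 2 ↥P →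
      (∀ x ∈ P, β x ∈ P) → ∃ Q : Sylow 2 G, P ≤ Q ∧ ∀ x ∈ (Q : Subgroup G), β x ∈ (Q : Subgroup G) := by
  intro k
  induction k using Nat.strong_induction_on with
  | _ k ih =>
  intro P hk hP hinv
  haveI : Fact (Nat.Prime 2) := ⟨Nat.prime_two⟩
  obtain ⟨Q₀, hQ₀⟩ := hP.exists_le_sylow
  by_cases heq : P = Q₀
  · exact ⟨Q₀, hQ₀, fun x hx => heq ▸ hinv x (heq ▸ hx)⟩
  obtain ⟨N, hN⟩ : ∃ N, N = Subgroup.normalizer (P : Set G) := ⟨_, rfl⟩
  have hPN : P ≤ N := hN ▸ Subgroup.le_normalizer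
  have hPimg : ∀ x, β x ∈ P ↔ x ∈ P := by
    intro x
    refine ⟨fun h => ?_, hinv x⟩
    let f : ↥P → ↥P := fun y => ⟨β y, hinv y y.2⟩
    have hf : Function.Injective f := fun a b hab => Subtype.ext (β.injective (congrArg Subtype.val hab))
    obtain ⟨y, hy⟩ := Finite.surjective_of_injective hf ⟨β x, h⟩
    exact β.injective (congrArg Subtype.val hy) ▸ y.2
  have hNimg : ∀ x, x ∈ N → β x ∈ N := by
    intro x hx
    rw [hN, Subgroup.mem_normalizer_iff] at hx ⊢
    intro y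
    obtain ⟨y, rfl⟩ := β.surjective y
    rw [← map_inv, ← map_mul, ← map_mul, hPimg, hPimg]
    exact hx y
  let f : ↥N →* ↥N := (β.toMonoidHom.comp N.subtype).codRestrict N fun x => hNimg x x.2
  have hfi : Function.Injective f := fun a b hab => Subtype.ext (β.injective (congrArg Subtype.val hab))
  let γ : MulAut ↥N := MulEquiv.ofBijective f ⟨hfi, Finite.surjective_of_injective hfi⟩
  have hγ : ∀ (k : ℕ) (x : ↥N), ((γ ^ k) x : G) = (β ^ k) (x : G) := by
    intro k
    induction k with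
    | zero => intro x; rfl
    | succ k ih =>
      intro x
      rw [pow_succ', pow_succ', MulAut.mul_apply, MulAut.mul_apply, ← ih]
      rfl
  have hγr : γ ^ r = 1 := MulEquiv.ext fun x => Subtype.ext (by rw [hγ, hβ]; rfl)
  let σ : Equiv.Perm (Sylow 2 ↥N) := MulAction.toPerm γ
  have hσ : σ ^ r = 1 := by
    have : σ = MulAction.toPermHom (MulAut ↥N) (Sylow 2 ↥N) γ := rfl
    rw [this, ← map_pow, hγr, map_one]
  haveI : Nonempty (Sylow 2 ↥N) := Sylow.nonempty
  have hdvd : Nat.card (Sylow 2 ↥N) ∣ Nat.card G :=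
    ((Sylow.card_dvd_index (Classical.arbitrary (Sylow 2 ↥N))).trans
      (Subgroup.index_dvd_card _)).trans (Subgroup.card_subgroup_dvd_card N)
  obtain ⟨R, hR⟩ := perm_fixed hr σ hσ (not_dvd_of_dvd hcop hdvd)
  haveI : (P.subgroupOf N).Normal := hN ▸ Subgroup.normal_in_normalizer
  have hPR : P.subgroupOf N ≤ (R : Subgroup ↥N) := by
    have hp : IsPGroup 2 ↥(P.subgroupOf N) :=
      hP.of_equiv (Subgroup.subgroupOfEquivOfLe hPN).symm
    have h := R.is_maximal' (hp.to_sup_of_normal_left R.2) le_sup_right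
    exact h ▸ le_sup_left
  have hP' : P ≤ (R : Subgroup ↥N).map N.subtype :=
    fun x hx => ⟨⟨x, hPN hx⟩, hPR hx, rfl⟩
  have hlt : P < (R : Subgroup ↥N).map N.subtype := by
    refine lt_of_le_of_ne hP' fun h => heq ?_
    -- `P` is a Sylow subgroup of its normalizer
    refine le_antisymm hQ₀ ?_
    by_contra hcon
    have hlt : P.subgroupOf Q₀ < ⊤ := lt_top_iff_ne_top.mpr fun h' => hcon (Subgroup.subgroupOf_eq_top.mp h')
    haveI : Group.IsNilpotent ↥(Q₀ : Subgroup G) := Q₀.2.isNilpotent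
    have hn := normalizerCondition_of_isNilpotent (P.subgroupOf Q₀) hlt
    obtain ⟨x, hx, hxP⟩ := SetLike.exists_of_lt hn
    have hxN : (x : G) ∈ N := by
      rw [hN, Subgroup.mem_normalizer_iff]
      intro y
      rw [Subgroup.mem_normalizer_iff] at hx
      constructor
      · intro hy
        exact (hx ⟨y, hQ₀ hy⟩).mp hy
      · intro hy
        have hyQ : y ∈ (Q₀ : Subgroup G) := by
          have h1 := (Q₀ : Subgroup G).mul_mem ((Q₀ : Subgroup G).mul_mem ((Q₀ : Subgroup G).inv_mem x.2) (hQ₀ hy)) x.2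
          simpa [mul_assoc] using h1
        exact (hx ⟨y, hyQ⟩).mpr hy
    let X : Subgroup ↥N := (Q₀ : Subgroup G).subgroupOf N
    have hXp : IsPGroup 2 ↥X :=
      Q₀.2.comap_of_injective N.subtype N.subtype_injective
    have hXR : (R : Subgroup ↥N) ≤ X := fun z hz => hQ₀ (h.ge ⟨z, hz, rfl⟩)
    have hXeq := R.is_maximal' hXp hXR
    have hmem : (⟨x, hxN⟩ : ↥N) ∈ X := x.2
    rw [hXeq] at hmem
    exact hxP (h.ge ⟨_, hmem, rfl⟩)
  obtain ⟨Q, hQ, hQinv⟩ := ih (Nat.card G - Nat.card ↥((R : Subgroup ↥N).map N.subtype))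
    (by
      have h1 := Set.ncard_lt_ncard (show (P : Set G) ⊂ ((R : Subgroup ↥N).map N.subtype : Set G) from hlt)
      rw [← Nat.card_coe_set_eq, ← Nat.card_coe_set_eq] at h1
      have h2 := Subgroup.card_le_card_group ((R : Subgroup ↥N).map N.subtype)
      simp only [SetLike.coe_sort_coe] at h1
      omega)
    ((R : Subgroup ↥N).map N.subtype) le_rfl (R.2.map N.subtype)
    (by
      rintro _ ⟨z, hz, rfl⟩
      have h : γ z ∈ ((γ • R : Sylow 2 ↥N) : Subgroup ↥N) :=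
        Subgroup.smul_mem_pointwise_smul z γ (R : Subgroup ↥N) hz
      rw [show γ • R = R from hR] at h
      exact ⟨γ z, h, rfl⟩)
  exact ⟨Q, hP'.trans hQ, hQinv⟩

variable {τ : G}

/-- A coprime automorphism fixing `C(τ)` fixes a Sylow `2`-subgroup containing `τ`. -/
theorem exists_sylow_fixed (hr : r.Prime) (hβ : β ^ r = 1) (hcop : ¬ r ∣ Nat.card G)
    (hτ : orderOf τ = 2) (hC : Subgroup.centralizer ({τ} : Set G) ≤ fixed β) :
    ∃ S : Sylow 2 G, τ ∈ S ∧ (S : Subgroup G) ≤ fixed β := by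
  haveI : Fact (Nat.Prime 2) := ⟨Nat.prime_two⟩
  have hτf : β τ = τ := hC (Subgroup.mem_centralizer_singleton_iff.mpr rfl)
  obtain ⟨Q, hQ, hQinv⟩ := exists_invariant_sylow hr hβ hcop (Nat.card G) (Subgroup.zpowers τ) (Nat.sub_le _ _)
    (IsPGroup.of_card (n := 1) (by rw [Nat.card_zpowers, hτ, pow_one]))
    (by
      intro x hx
      obtain ⟨m, rfl⟩ := Subgroup.mem_zpowers_iff.mp hx
      rw [map_zpow, hτf]
      exact Subgroup.zpow_mem _ (Subgroup.mem_zpowers _) m)
  have hτQ : τ ∈ (Q : Subgroup G) := hQ (Subgroup.mem_zpowers τ)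
  refine ⟨Q, hτQ, ?_⟩
  by_contra hne
  let F : Subgroup ↥(Q : Subgroup G) := (fixed β).subgroupOf Q
  have hlt : F < ⊤ := lt_top_iff_ne_top.mpr fun h => hne (Subgroup.subgroupOf_eq_top.mp h)
  haveI : Group.IsNilpotent ↥(Q : Subgroup G) := Q.2.isNilpotent
  obtain ⟨x, hx, hxF⟩ := SetLike.exists_of_lt (normalizerCondition_of_isNilpotent F hlt)
  apply hxF
  show β (x : G) = x
  obtain ⟨c, hc⟩ : ∃ c, c = (x : G)⁻¹ * β x := ⟨_, rfl⟩
  have hcQ : c ∈ (Q : Subgroup G) :=
    hc ▸ (Q : Subgroup G).mul_mem ((Q : Subgroup G).inv_mem x.2) (hQinv _ x.2)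
  have hcC : c ∈ Subgroup.centralizer ({τ} : Set G) := by
    refine Subgroup.mem_centralizer_singleton_iff.mpr ?_
    have h := (Subgroup.mem_normalizer_iff.mp hx ⟨τ, hτQ⟩).mp (show β τ = τ from hτf)
    have h' : β ((x : G) * τ * (x : G)⁻¹) = (x : G) * τ * (x : G)⁻¹ := h
    rw [map_mul, map_mul, map_inv, hτf] at h'
    calc c * τ = (x : G)⁻¹ * (β x * τ * (β x)⁻¹) * β x := by rw [hc]; group
      _ = (x : G)⁻¹ * ((x : G) * τ * (x : G)⁻¹) * β x := by rw [h']
      _ = τ * c := by rw [hc]; group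
  have hcf : β c = c := hC hcC
  have hbx : β (x : G) = x * c := by rw [hc, mul_inv_cancel_left]
  have hk : ∀ k : ℕ, (β ^ k) (x : G) = x * c ^ k := by
    intro k
    induction k with
    | zero => simp
    | succ k ih => rw [pow_succ', MulAut.mul_apply, ih, map_mul, map_pow, hcf, hbx, mul_assoc, ← pow_succ']
  have hc1 : c ^ r = 1 := by
    have h := hk r
    rw [hβ] at h
    simpa using h
  have hc2 : c = 1 := orderOf_eq_one_iff.mp ((hr.eq_one_or_self_of_dvd _ (orderOf_dvd_of_pow_eq_one hc1)).resolve_right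
    fun h => hcop (h ▸ orderOf_dvd_natCard c))
  rw [hbx, hc2, mul_one]

/-- A fixed element fixes an odd number of cosets of the fixed subgroup. -/
theorem odd_fixed_points (hr : r.Prime) (hβ : β ^ r = 1) (hcop : ¬ r ∣ Nat.card G)
    (S : Sylow 2 G) (hS : (S : Subgroup G) ≤ fixed β) {y : G} (hy : y ∈ fixed β) :
    Odd ({ω : G ⧸ fixed β | y • ω = ω}.ncard) := by
  haveI : Fact (Nat.Prime 2) := ⟨Nat.prime_two⟩
  obtain ⟨C, hC⟩ : ∃ C, C = Subgroup.centralizer ({y} : Set G) := ⟨_, rfl⟩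
  obtain ⟨o, ho⟩ : ∃ o : G ⧸ fixed β, o = ((1 : G) : G ⧸ fixed β) := ⟨_, rfl⟩
  have horb : {ω : G ⧸ fixed β | y • ω = ω} = MulAction.orbit ↥C o := by
    ext ω
    obtain ⟨g, rfl⟩ := QuotientGroup.mk_surjective ω
    constructor
    · intro h
      have h1 : g⁻¹ * y * g ∈ fixed β := by
        have h' : ((y * g : G) : G ⧸ fixed β) = (g : G ⧸ fixed β) := h
        have h2 := (fixed β).inv_mem (QuotientGroup.eq.mp h')
        simpa [mul_assoc] using h2
      obtain ⟨h, hh, he⟩ := fusion hr hβ hcop (g := g⁻¹) hy (by simpa using h1)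
      rw [inv_inv] at he
      have hc : g * h ∈ C := by
        rw [hC, Subgroup.mem_centralizer_singleton_iff]
        calc g * h * y = g * (h * y * h⁻¹) * h := by group
          _ = g * (g⁻¹ * y * g) * h := by rw [he]
          _ = y * (g * h) := by group
      refine ⟨⟨g * h, hc⟩, ?_⟩
      rw [ho]
      show (((g * h) * 1 : G) : G ⧸ fixed β) = _
      exact QuotientGroup.eq.mpr (by simpa [mul_assoc] using (fixed β).inv_mem hh)
    · rintro ⟨⟨c, hc⟩, hce⟩
      rw [← hce, ho]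
      show ((y * (c * 1) : G) : G ⧸ fixed β) = ((c * 1 : G) : G ⧸ fixed β)
      rw [hC, Subgroup.mem_centralizer_singleton_iff] at hc
      rw [mul_one, ← hc]
      exact QuotientGroup.eq.mpr (by simpa using hy)
  rw [horb, ← MulAction.index_stabilizer]
  have hst : MulAction.stabilizer ↥C o = (fixed β).subgroupOf C := by
    ext ⟨c, hc⟩
    rw [MulAction.mem_stabilizer_iff, ho]
    show ((c * 1 : G) : G ⧸ fixed β) = ((1 : G) : G ⧸ fixed β) ↔ c ∈ fixed β
    rw [QuotientGroup.eq]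
    simp
  rw [hst]
  -- an invariant Sylow subgroup of the centralizer lies in the fixed subgroup
  have hCinv : ∀ x ∈ C, β x ∈ C := by
    intro x hx
    rw [hC, Subgroup.mem_centralizer_singleton_iff] at hx ⊢
    have h := congrArg β hx
    rwa [map_mul, map_mul, mem_fixed.mp hy] at h
  let f : ↥C →* ↥C := (β.toMonoidHom.comp C.subtype).codRestrict C fun x => hCinv x x.2
  have hfi : Function.Injective f := fun a b hab => Subtype.ext (β.injective (congrArg Subtype.val hab))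
  let γ : MulAut ↥C := MulEquiv.ofBijective f ⟨hfi, Finite.surjective_of_injective hfi⟩
  have hγ : ∀ (k : ℕ) (x : ↥C), ((γ ^ k) x : G) = (β ^ k) (x : G) := by
    intro k
    induction k with
    | zero => intro x; rfl
    | succ k ih =>
      intro x
      rw [pow_succ', pow_succ', MulAut.mul_apply, MulAut.mul_apply, ← ih]
      rfl
  have hγr : γ ^ r = 1 := MulEquiv.ext fun x => Subtype.ext (by rw [hγ, hβ]; rfl)
  obtain ⟨P, -, hPinv⟩ := exists_invariant_sylow (G := ↥C) hr hγr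
    (not_dvd_of_dvd hcop (Subgroup.card_subgroup_dvd_card C)) (Nat.card ↥C) ⊥ (Nat.sub_le _ _)
    IsPGroup.of_bot (fun x hx => by rw [Subgroup.mem_bot.mp hx, map_one]; exact Subgroup.one_mem _)
  obtain ⟨Q, hQ, hQinv⟩ := exists_invariant_sylow hr hβ hcop (Nat.card G)
    ((P : Subgroup ↥C).map C.subtype) (Nat.sub_le _ _) (P.2.map _)
    (by rintro _ ⟨z, hz, rfl⟩; exact ⟨γ z, hPinv z hz, rfl⟩)
  -- `Q` is a fixed conjugate of `S`
  obtain ⟨g, hg⟩ := MulAction.exists_smul_eq G S Q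
  let T : Set G := {x | x • S = Q}
  have hTinv : ∀ x ∈ T, β x ∈ T := by
    intro x (hx : x • S = Q)
    refine Sylow.ext ?_
    apply Subgroup.eq_of_le_of_card_ge ?_ (le_of_eq ?_)
    · intro w hw
      rw [Sylow.coe_subgroup_smul, Subgroup.mem_pointwise_smul_iff_inv_smul_mem] at hw
      have hw' : (β x)⁻¹ * w * β x ∈ (S : Subgroup G) := by
        simpa [MulAut.conj_symm_apply] using hw
      have hm : x * ((β x)⁻¹ * w * β x) * x⁻¹ ∈ (Q : Subgroup G) := by
        rw [← hx, Sylow.coe_subgroup_smul, Subgroup.mem_pointwise_smul_iff_inv_smul_mem]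
        simpa [MulAut.conj_symm_apply, mul_assoc] using hw'
      have h := hQinv _ hm
      rw [map_mul, map_mul, map_inv, show β ((β x)⁻¹ * w * β x) = (β x)⁻¹ * w * β x from hS hw'] at h
      simpa [mul_assoc] using h
    · rw [Sylow.card_eq_multiplicity, Sylow.card_eq_multiplicity]
  have hTc : T = (fun c => g * c) '' (MulAction.stabilizer G S : Set G) := by
    ext x
    refine ⟨fun hx => ⟨g⁻¹ * x, ?_, by group⟩, ?_⟩
    · show (g⁻¹ * x) • S = S
      rw [mul_smul, show x • S = Q from hx, ← hg, inv_smul_smul]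
    · rintro ⟨c, hc, rfl⟩
      show (g * c) • S = Q
      rw [mul_smul, show c • S = S from hc, hg]
  obtain ⟨h, hhT, hhf⟩ := exists_fixed_mem hr hβ T hTinv (by
    rw [hTc, Set.ncard_image_of_injective _ (mul_right_injective g), ← Nat.card_coe_set_eq]
    exact not_dvd_of_dvd hcop (Subgroup.card_subgroup_dvd_card _))
  have hQf : (Q : Subgroup G) ≤ fixed β := by
    intro w hw
    rw [← show h • S = Q from hhT, Sylow.coe_subgroup_smul,
      Subgroup.mem_pointwise_smul_iff_inv_smul_mem] at hw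
    have hw' : h⁻¹ * w * h ∈ fixed β := hS (by simpa [MulAut.conj_symm_apply] using hw)
    simpa [mul_assoc] using (fixed β).mul_mem ((fixed β).mul_mem (show h ∈ fixed β from hhf) hw')
      ((fixed β).inv_mem hhf)
  have hle : (P : Subgroup ↥C) ≤ (fixed β).subgroupOf C :=
    fun z hz => hQf (hQ ⟨z, hz, rfl⟩)
  rw [Nat.odd_iff, ← Nat.not_even_iff, even_iff_two_dvd]
  exact fun h => P.not_dvd_index (h.trans (Subgroup.index_dvd_of_le hle))

/-- No coprime automorphism of a simple group fixes the centralizer of an involution. -/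
theorem main [IsSimpleGroup G] (hG : ¬ IsMulCommutative G) (hr : r.Prime) (hβ : β ^ r = 1)
    (hβ1 : β ≠ 1) (hcop : ¬ r ∣ Nat.card G) (hτ : orderOf τ = 2)
    (hC : Subgroup.centralizer ({τ} : Set G) ≤ fixed β) : False := by
  classical
  obtain ⟨H, hH⟩ : ∃ H, H = fixed β := ⟨_, rfl⟩
  obtain ⟨S, hτS, hS⟩ := exists_sylow_fixed hr hβ hcop hτ hC
  have hτH : τ ∈ H := hH ▸ hS hτS
  have hτ2 : τ * τ = 1 := by
    have h := pow_orderOf_eq_one τ
    rwa [hτ, pow_two] at h
  have hHne : H ≠ ⊤ := fun h => hβ1 (MulEquiv.ext fun g => by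
    have hg : g ∈ fixed β := hH ▸ h.ge (Subgroup.mem_top g)
    exact hg)
  -- the conjugates of `τ` in `H`
  let D : Set G := {d | ∃ g, g * τ * g⁻¹ = d}
  have hD2 : ∀ d ∈ D, d * d = 1 := by
    rintro d ⟨g, rfl⟩
    calc g * τ * g⁻¹ * (g * τ * g⁻¹) = g * (τ * τ) * g⁻¹ := by group
      _ = 1 := by rw [hτ2]; group
  have hτfix : ∀ g : G, g⁻¹ * τ * g ∈ H → g ∈ H := by
    intro g hg
    obtain ⟨h, hh, he⟩ := fusion hr hβ hcop (g := g⁻¹) (hH ▸ hτH : τ ∈ fixed β)
      (by simpa using (hH ▸ hg : g⁻¹ * τ * g ∈ fixed β))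
    rw [inv_inv] at he
    have hc : g * h ∈ Subgroup.centralizer ({τ} : Set G) := by
      refine Subgroup.mem_centralizer_singleton_iff.mpr ?_
      calc g * h * τ = g * (h * τ * h⁻¹) * h := by group
        _ = g * (g⁻¹ * τ * g) * h := by rw [he]
        _ = τ * (g * h) := by group
    have := (fixed β).mul_mem (hC hc) ((fixed β).inv_mem hh)
    rw [mul_inv_cancel_right] at this
    exact hH ▸ this
  -- each conjugate fixes exactly one coset
  have hone : ∀ d ∈ D, ∃! ω : G ⧸ H, d • ω = ω := by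
    rintro d ⟨g, rfl⟩
    refine ⟨(g : G ⧸ H), QuotientGroup.eq.mpr ?_, fun ω hω => ?_⟩
    · simpa [mul_assoc] using H.inv_mem hτH
    · obtain ⟨x, rfl⟩ := QuotientGroup.mk_surjective ω
      have h1 := H.inv_mem (QuotientGroup.eq.mp hω)
      have h2 : (g⁻¹ * x)⁻¹ * τ * (g⁻¹ * x) ∈ H := by simpa [mul_assoc] using h1
      exact (QuotientGroup.eq.mpr (hτfix _ h2)).symm
  let E := {t : G // t ∈ D ∧ t ∈ H}
  let φ : (G ⧸ H) × E → ↥D := fun z => ⟨z.1.out * z.2.1 * z.1.out⁻¹, by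
    obtain ⟨g, hg⟩ := z.2.2.1
    exact ⟨z.1.out * g, by rw [← hg]; group⟩⟩
  have hφfix : ∀ z, (φ z : G) • z.1 = z.1 := by
    intro z
    conv_lhs => rw [← z.1.out_eq']
    conv_rhs => rw [← z.1.out_eq']
    exact QuotientGroup.eq.mpr (by
      have h := H.inv_mem z.2.2.2
      simpa [φ, mul_assoc] using h)
  have hφ : Function.Bijective φ := by
    constructor
    · intro z w h
      have h1 := (hone _ (φ z).2).unique (hφfix z) (by rw [h]; exact hφfix w)
      obtain ⟨ω, t⟩ := z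
      obtain ⟨ω', t'⟩ := w
      simp only at h1
      subst h1
      have h2 := congrArg Subtype.val h
      simp only [φ, mul_left_inj, mul_right_inj] at h2
      exact Prod.ext rfl (Subtype.ext h2)
    · rintro ⟨d, hd⟩
      obtain ⟨ω, hω, -⟩ := hone d hd
      obtain ⟨g, hg⟩ := hd
      have hm : ω.out⁻¹ * d * ω.out ∈ H := by
        rw [← ω.out_eq'] at hω
        have h := H.inv_mem (QuotientGroup.eq.mp hω)
        simpa [mul_assoc] using h
      exact ⟨(ω, ⟨ω.out⁻¹ * d * ω.out, ⟨ω.out⁻¹ * g, by rw [← hg]; group⟩, hm⟩),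
        Subtype.ext (by simp only [φ]; group)⟩
  -- two conjugates in `H` with a product moved out of `H`
  obtain ⟨t, t', hne⟩ : ∃ t t' : E, t.1 ≠ t'.1 := by
    by_contra hcon
    push_neg at hcon
    have hiso : ∀ g : G, g * τ * g⁻¹ ∈ S → g * τ * g⁻¹ = τ := fun g hg =>
      hcon ⟨_, ⟨g, rfl⟩, hH ▸ hS hg⟩ ⟨τ, ⟨1, by group⟩, hτH⟩
    obtain ⟨N, hN, hNodd, hNc⟩ := InvChar.zstarSylow S τ hτ hτS hiso
    rcases hN.eq_bot_or_eq_top with h | h
    · have hcen : τ ∈ Subgroup.center G := Subgroup.mem_center_iff.mpr fun g => by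
        have := hNc g
        rw [h, Subgroup.mem_bot, mul_inv_eq_one, mul_inv_eq_iff_eq_mul] at this
        exact this.symm
      rcases (inferInstance : (Subgroup.center G).Normal).eq_bot_or_eq_top with h' | h'
      · rw [h', Subgroup.mem_bot] at hcen
        simp [hcen] at hτ
      · exact hG (Subgroup.center_eq_top_iff.mp h')
    · rw [h, Nat.card_congr Subgroup.topEquiv.toEquiv, Nat.odd_iff] at hNodd
      have : 2 ∣ Nat.card G := hτ ▸ orderOf_dvd_natCard τ
      omega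
  obtain ⟨k, hk⟩ : ∃ k : G, k * (t.1 * t'.1) * k⁻¹ ∉ H := by
    by_contra hcon
    push_neg at hcon
    rcases (Subgroup.normalCore_normal H).eq_bot_or_eq_top with h | h
    · have hm : t.1 * t'.1 ∈ H.normalCore := hcon
      rw [h, Subgroup.mem_bot] at hm
      exact hne (by rw [mul_eq_one_iff_eq_inv.mp hm, inv_eq_of_mul_eq_one_left (hD2 _ t'.2.1)])
    · exact hHne (eq_top_iff.mpr (h ▸ Subgroup.normalCore_le H))
  -- the pairs
  haveI : Fintype (G ⧸ H) := Fintype.ofFinite _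
  haveI : Fintype ↥D := Fintype.ofFinite _
  let π : ↥D → G ⧸ H := fun d => ((d : G) : G ⧸ H)
  let P := {z : ↥D × ↥D // π z.1 = π z.2}
  have hodd : ∀ y ∈ H, Odd ({ω : G ⧸ H | y • ω = ω}.ncard) := by
    subst hH
    exact fun y hy => odd_fixed_points hr hβ hcop S hS hy
  -- both members of a pair fix the same point
  have hpair : ∀ z : P, ∀ ω : G ⧸ H, (z.1.1 : G) • ω = ω → (z.1.2 : G) • ω = ω := by
    rintro ⟨⟨d, e⟩, hz⟩ ω hω
    simp only at hω ⊢
    obtain ⟨y, hy⟩ : ∃ y, y = (d : G) * e := ⟨_, rfl⟩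
    have hyH : y ∈ H := by
      have h := QuotientGroup.eq.mp hz
      rw [inv_eq_of_mul_eq_one_left (hD2 _ d.2)] at h
      exact hy ▸ h
    have hdd : (d : G) * d = 1 := hD2 _ d.2
    have hee : (e : G) * e = 1 := hD2 _ e.2
    have hinv : ∀ ν : G ⧸ H, y • ν = ν → y • ((d : G) • ν) = (d : G) • ν := by
      intro ν hν
      have e1 : y * d = (d : G) * y⁻¹ := by
        rw [hy, mul_inv_rev, inv_eq_of_mul_eq_one_left hdd, inv_eq_of_mul_eq_one_left hee, mul_assoc]
      rw [← mul_smul, e1, mul_smul]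
      congr 1
      exact inv_smul_eq_iff.mpr hν.symm
    let σ : Equiv.Perm {ν : G ⧸ H // y • ν = ν} :=
      { toFun := fun ν => ⟨(d : G) • ν.1, hinv ν.1 ν.2⟩
        invFun := fun ν => ⟨(d : G) • ν.1, hinv ν.1 ν.2⟩
        left_inv := fun ν => Subtype.ext (by simp only; rw [← mul_smul, hdd, one_smul])
        right_inv := fun ν => Subtype.ext (by simp only; rw [← mul_smul, hdd, one_smul]) }
    obtain ⟨⟨ν, hν⟩, hfix⟩ := perm_fixed Nat.prime_two σ
      (Equiv.ext fun ν => Subtype.ext (by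
        show (d : G) • ((d : G) • ν.1) = ν.1
        rw [← mul_smul, hdd, one_smul]))
      (by
        have h := hodd y hyH
        rw [← Nat.card_coe_set_eq, Nat.odd_iff] at h
        intro h2
        have : Nat.card {ν : G ⧸ H // y • ν = ν} % 2 = 0 := Nat.mod_eq_zero_of_dvd h2
        exact absurd h (by rw [Set.coe_setOf, this]; omega))
    have hνd : (d : G) • ν = ν := congrArg Subtype.val hfix
    obtain rfl : ω = ν := (hone _ d.2).unique hω hνd
    have e2 : (e : G) = (d : G) * y := by rw [hy, ← mul_assoc, hdd, one_mul]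
    rw [e2, mul_smul, hν, hω]
  obtain ⟨ψ, hψ⟩ : ∃ ψ : ↥D ≃ (G ⧸ H) × E, ∀ z, ψ (φ z) = z :=
    ⟨(Equiv.ofBijective φ hφ).symm, fun z => (Equiv.ofBijective φ hφ).symm_apply_apply z⟩
  have hψfix : ∀ d : ↥D, (d : G) • (ψ d).1 = (ψ d).1 := by
    intro d
    obtain ⟨z, rfl⟩ := hφ.2 d
    rw [hψ]
    exact hφfix z
  have hψφ : ∀ d, φ (ψ d) = d := by
    intro d
    obtain ⟨z, rfl⟩ := hφ.2 d
    rw [hψ]
  let Φ : P → (G ⧸ H) × E × E := fun z => ((ψ z.1.1).1, (ψ z.1.1).2, (ψ z.1.2).2)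
  have hΦ1 : ∀ z : P, (ψ z.1.2).1 = (ψ z.1.1).1 := fun z =>
    (hone _ z.1.2.2).unique (hψfix _) (hpair z _ (hψfix _))
  have hΦinj : Function.Injective Φ := by
    intro z w h
    simp only [Φ, Prod.mk.injEq] at h
    have h1 : z.1.1 = w.1.1 := ψ.injective (Prod.ext h.1 h.2.1)
    have h2 : z.1.2 = w.1.2 := ψ.injective (Prod.ext (by rw [hΦ1, hΦ1, h.1]) h.2.2)
    exact Subtype.ext (Prod.ext h1 h2)
  -- a triple outside the image
  obtain ⟨ω₀, hω₀⟩ : ∃ ω₀ : G ⧸ H, ω₀ = ((k : G) : G ⧸ H) := ⟨_, rfl⟩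
  obtain ⟨h₀, hh₀, hk₀⟩ : ∃ h₀ ∈ H, k = ω₀.out * h₀ := by
    refine ⟨ω₀.out⁻¹ * k, ?_, by group⟩
    exact QuotientGroup.eq.mp ((QuotientGroup.out_eq' ω₀).trans hω₀)
  have hmv : ∀ s : E, h₀ * s.1 * h₀⁻¹ ∈ D ∧ h₀ * s.1 * h₀⁻¹ ∈ H := fun s => by
    obtain ⟨g, hg⟩ := s.2.1
    exact ⟨⟨h₀ * g, by rw [← hg]; group⟩, H.mul_mem (H.mul_mem hh₀ s.2.2) (H.inv_mem hh₀)⟩
  have hmiss : (ω₀, (⟨_, hmv t⟩ : E), (⟨_, hmv t'⟩ : E)) ∉ Set.range Φ := by
    rintro ⟨z, hz⟩
    simp only [Φ, Prod.mk.injEq] at hz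
    obtain ⟨hz1, hz2, hz3⟩ := hz
    apply hk
    have hd := congrArg Subtype.val (hψφ z.1.1)
    have he := congrArg Subtype.val (hψφ z.1.2)
    simp only [φ] at hd he
    rw [hz1, hz2] at hd
    rw [hΦ1, hz1, hz3] at he
    simp only at hd he
    have hyH := QuotientGroup.eq.mp z.2
    rw [inv_eq_of_mul_eq_one_left (hD2 _ z.1.1.2), ← hd, ← he] at hyH
    convert hyH using 1
    rw [hk₀]; group
  have hlt : Nat.card P < Nat.card ((G ⧸ H) × E × E) := by
    rcases lt_or_eq_of_le (Nat.card_le_card_of_injective Φ hΦinj) with h | h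
    · exact h
    · exfalso
      exact hmiss (((Nat.bijective_iff_injective_and_card Φ).mpr ⟨hΦinj, h⟩).2 _)
  -- Cauchy-Schwarz
  have hP : Nat.card P = ∑ ω : G ⧸ H, (Nat.card {d : ↥D // π d = ω}) ^ 2 := by
    let e : P ≃ Σ ω : G ⧸ H, {d : ↥D // π d = ω} × {d : ↥D // π d = ω} :=
      { toFun := fun z => ⟨π z.1.1, ⟨z.1.1, rfl⟩, ⟨z.1.2, z.2.symm⟩⟩
        invFun := fun s => ⟨(s.2.1.1, s.2.2.1), s.2.1.2.trans s.2.2.2.symm⟩
        left_inv := fun z => rfl
        right_inv := by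
          rintro ⟨ω, ⟨d, hd⟩, ⟨e, he⟩⟩
          subst hd
          rfl }
    rw [Nat.card_congr e, Nat.card_sigma]
    simp [Nat.card_prod, pow_two]
  have hDsum : Nat.card ↥D = ∑ ω : G ⧸ H, Nat.card {d : ↥D // π d = ω} := by
    rw [← Nat.card_sigma]
    exact Nat.card_congr (Equiv.sigmaFiberEquiv π).symm
  have hCS := sq_sum_le_card_mul_sum_sq (s := (Finset.univ : Finset (G ⧸ H)))
    (f := fun ω => Nat.card {d : ↥D // π d = ω})
  rw [← hP, ← hDsum, Finset.card_univ, ← Nat.card_eq_fintype_card] at hCS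
  have hDc : Nat.card ↥D = Nat.card (G ⧸ H) * Nat.card E := by
    rw [← Nat.card_congr (Equiv.ofBijective φ hφ), Nat.card_prod]
  rw [hDc] at hCS
  rw [Nat.card_prod, Nat.card_prod] at hlt
  have hpos : 0 < Nat.card (G ⧸ H) := Nat.card_pos
  nlinarith

end Cfsg.Agent.LocalEvenB.CoprimeInvol
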