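import Cfsg.Agent.Lib.LocalEvenB.DihEightSetup
import Cfsg.Agent.Lib.LinearGroups.PSL
import Cfsg.Agent.S0495
import Cfsg.Agent.S0497

/-!
# An involution with dihedral centralizer of order 8: one class of involutions
-/

set_option autoImplicit false
set_option linter.unusedSectionVars false

namespace Cfsg.Agent.DihEight

open Subgroup Cfsg Cfsg.Agent.Invol

variable {G : Type*} [Group G] [Finite G]

/-- An involution with trivial fixed points in a normal odd-order subgroup inverts it. -/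
theorem inverts_of_fixed_trivial {N : Subgroup G} [N.Normal] {w : G} (hw : orderOf w = 2)
    (hfix : ∀ n ∈ N, w * n = n * w → n = 1) : ∀ n ∈ N, w * n * w⁻¹ = n⁻¹ := by
  have hmem : ∀ x : N, (x : G)⁻¹ * (w * x * w⁻¹) ∈ N := fun x =>
    N.mul_mem (N.inv_mem x.2) (Normal.conj_mem inferInstance _ x.2 w)
  let f : N → N := fun x => ⟨(x : G)⁻¹ * (w * x * w⁻¹), hmem x⟩
  have hinj : Function.Injective f := by
    intro x y hxy
    have h : (x : G)⁻¹ * (w * x * w⁻¹) = (y : G)⁻¹ * (w * y * w⁻¹) := congrArg Subtype.val hxy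
    have h2 : w * (y * (x : G)⁻¹)⁻¹ * w⁻¹ = ((y : G) * (x : G)⁻¹)⁻¹ := by
      calc w * (y * (x : G)⁻¹)⁻¹ * w⁻¹ = (w * x * w⁻¹) * (w * y * w⁻¹)⁻¹ := by group
        _ = (x : G) * ((x : G)⁻¹ * (w * x * w⁻¹)) * (w * y * w⁻¹)⁻¹ := by group
        _ = ((y : G) * (x : G)⁻¹)⁻¹ := by rw [h]; group
    have h3 := hfix _ (N.inv_mem (N.mul_mem y.2 (N.inv_mem x.2))) (mul_inv_eq_iff_eq_mul.1 h2)
    rw [inv_eq_one, mul_inv_eq_one] at h3
    exact Subtype.ext h3.symm
  intro n hn
  obtain ⟨x, hx⟩ := (Finite.injective_iff_surjective.1 hinj) ⟨n, hn⟩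
  have hx' : (x : G)⁻¹ * (w * x * w⁻¹) = n := congrArg Subtype.val hx
  have hww : w * w = 1 := mul_self_of_orderOf_two hw
  subst hx'
  calc w * ((x : G)⁻¹ * (w * x * w⁻¹)) * w⁻¹ = w * (x : G)⁻¹ * w * x * (w * w)⁻¹ := by group
    _ = w * (x : G)⁻¹ * w⁻¹ * x := by rw [hww, inv_of_orderOf_two hw]; group
    _ = ((x : G)⁻¹ * (w * x * w⁻¹))⁻¹ := by group

namespace Data

variable {z : G} (T : Data z)

include T in
theorem z_order : orderOf z = 2 :=
  (congrArg orderOf T.hz).trans T.D.orderOf_gz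

/-- If some reflection is fused to `z` there is no normal subgroup of odd order. -/
theorem odd_normal_bot {i : ℤ} (hi : IsConj z (T.D.gs i)) (N : Subgroup G) [N.Normal]
    (hodd : Odd (Nat.card N)) : N = ⊥ := by
  have hconj : ∀ w : G, IsConj z w → orderOf w = 2 ∧ ∀ n ∈ N, w * n = n * w → n = 1 := by
    intro w hw
    refine ⟨?_, fun n hn hc => ?_⟩
    · obtain ⟨c, rfl⟩ := isConj_iff.1 hw
      rw [Invol.orderOf_conj, T.z_order]
    · have h1 : orderOf n ∣ 8 := by
        rw [← T.card_centralizer_conj hw]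
        exact orderOf_dvd_natCard _ (mem_centralizer_singleton_iff.2 hc.symm)
      have h2 : orderOf n ∣ Nat.card N := orderOf_dvd_natCard _ hn
      have h3 : Nat.Coprime (2 ^ 3) (Nat.card N) :=
        (Nat.coprime_two_left.2 hodd).pow_left 3
      exact orderOf_eq_one_iff.1 (Nat.eq_one_of_dvd_coprimes h3 h1 h2)
  have hinv : ∀ w : G, IsConj z w → ∀ n ∈ N, w * n * w⁻¹ = n⁻¹ := fun w hw =>
    inverts_of_fixed_trivial (hconj w hw).1 (hconj w hw).2
  rw [eq_bot_iff]
  intro n hn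
  have hi2 : IsConj z (T.D.gs (i + 2)) := hi.trans (T.D.isConj_gs ⟨-1, by ring⟩)
  have h := hinv _ hi2 n hn
  rw [← T.gz_mul_gs] at h
  have h' : z * T.D.gs i * n * (z * T.D.gs i)⁻¹ = n := by
    calc z * T.D.gs i * n * (z * T.D.gs i)⁻¹
        = z * (T.D.gs i * n * (T.D.gs i)⁻¹) * z⁻¹ := by group
      _ = (z * n * z⁻¹)⁻¹ := by rw [hinv _ hi n hn]; group
      _ = n := by rw [hinv z (IsConj.refl z) n hn, inv_inv]
  have hn2 : n * n = 1 := by
    rw [h'] at h; nth_rewrite 2 [h]; rw [mul_inv_cancel]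
  have h1 : orderOf n ∣ 2 := orderOf_dvd_of_pow_eq_one (by rw [pow_two]; exact hn2)
  have h2 : orderOf n ∣ Nat.card N := orderOf_dvd_natCard _ hn
  exact mem_bot.2 (orderOf_eq_one_iff.1
    (Nat.eq_one_of_dvd_coprimes (Nat.coprime_two_left.2 hodd) h1 h2))

/-- The Sylow subgroup is self-normalizing. -/
theorem normalizer_le : normalizer ((T.S : Subgroup G) : Set G) ≤ (T.S : Subgroup G) := by
  intro n hn
  refine T.hS.ge (mem_centralizer_singleton_iff.2 ?_)
  have hzS : z ∈ (T.S : Subgroup G) := T.hS.ge (mem_centralizer_singleton_iff.2 rfl)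
  have hv : n * z * n⁻¹ ∈ (T.S : Subgroup G) := (mem_normalizer_iff.1 hn z).1 hzS
  have hcen : ∀ s ∈ (T.S : Subgroup G), (n * z * n⁻¹) * s = s * (n * z * n⁻¹) := by
    intro s hs
    have hs' : n⁻¹ * s * n ∈ (T.S : Subgroup G) := (mem_normalizer_iff''.1 hn s).1 hs
    have := mem_centralizer_singleton_iff.1 (T.hS.le hs')
    calc n * z * n⁻¹ * s = n * (z * (n⁻¹ * s * n)) * n⁻¹ := by group
      _ = s * (n * z * n⁻¹) := by rw [← this]; group
  rcases T.D.involution_cases hv (by rw [Invol.orderOf_conj, T.z_order]) with h | ⟨a, h⟩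
  · have h' : n * z * n⁻¹ = z := h.trans T.hz.symm
    exact mul_inv_eq_iff_eq_mul.1 h'
  · exfalso
    have hc := hcen (T.D.gr 1) (T.D.gr_mem 1)
    rw [h, T.D.gs_mul_gr, T.D.gr_mul_gs, T.D.gs_eq_iff, T.hm] at hc
    push_cast at hc
    omega

theorem simple_of_one_class (h0 : IsConj z (T.D.gs 0)) (h1 : IsConj z (T.D.gs 1)) :
    IsSimpleGroup G := by
  haveI : Fact (Nat.Prime 2) := ⟨Nat.prime_two⟩
  haveI : Nontrivial G := ⟨⟨z, 1, ne_one_of_orderOf_two T.z_order⟩⟩
  refine ⟨fun N hN => ?_⟩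
  haveI := hN
  by_contra hne
  push Not at hne
  have heven : 2 ∣ Nat.card N := by
    by_contra hev
    exact hne.1 (T.odd_normal_bot h0 N (Nat.not_even_iff_odd.1 fun h => hev h.two_dvd))
  obtain ⟨⟨t, htN⟩, ht⟩ := exists_prime_orderOf_dvd_card' (G := N) 2 heven
  rw [Subgroup.orderOf_mk] at ht
  have hzt : IsConj t z := by
    rcases T.D.involution_class ht with h | h | h
    · rw [← T.hz] at h; exact h
    · exact h.trans h0.symm
    · exact h.trans h1.symm
  have hzN : z ∈ N := isConj_mem_normal hzt htN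
  have hgs : ∀ a, T.D.gs a ∈ N := fun a => by
    rcases T.D.isConj_gs_parity a with h | h
    · exact isConj_mem_normal (h0.trans h.symm) hzN
    · exact isConj_mem_normal (h1.trans h.symm) hzN
  have hSN : (T.S : Subgroup G) ≤ N := by
    intro s hs
    obtain ⟨a, rfl | rfl⟩ := T.D.repr_G hs
    · have := N.mul_mem (hgs 0) (hgs a)
      rwa [T.D.gs_mul_gs, sub_zero] at this
    · exact hgs a
  have htop := T.S.normalizer_sup_eq_top' hSN
  exact hne.2 (top_le_iff.1 (htop ▸ sup_le (T.normalizer_le.trans hSN) le_rfl))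

end Data

local notation "SL32" => Matrix.SpecialLinearGroup (Fin 3) (ZMod 2)

theorem card_SL32 : Nat.card SL32 = 168 := by
  haveI : Fact (Nat.Prime 2) := ⟨Nat.prime_two⟩
  have h := LinGrp.natCard_SL_mul (F := ZMod 2) 3 (by norm_num)
  rw [ZMod.card, Fin.prod_univ_three] at h
  norm_num at h
  rw [Nat.card_eq_fintype_card]
  exact h

theorem simple_SL32 : IsSimpleGroup SL32 := by
  haveI : Fact (Nat.Prime 2) := ⟨Nat.prime_two⟩
  have hc : Subgroup.center SL32 = ⊥ := by
    rw [Subgroup.eq_bot_iff_card, LinGrp.natCard_center_SL, Nat.card_zmod]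
    rfl
  haveI := LinGrp.isSimpleGroup_PSL (n := Fin 3) (F := ZMod 2) (by simp)
  exact MulEquiv.isSimpleGroup
    (((QuotientGroup.quotientMulEquivOfEq hc).trans QuotientGroup.quotientBot).symm)

theorem iso_of_one_class [IsSimpleGroup G] (h : Nat.card G = 168 ∨ Nat.card G = 360) :
    Nonempty (G ≃* SL32) ∨ Nonempty (G ≃* alternatingGroup (Fin 6)) := by
  rcases h with h | h
  · left
    haveI : Fact (Nat.Prime 7) := ⟨by norm_num⟩
    haveI := simple_SL32
    obtain ⟨e⟩ := S0495.result (G := G) h (F := ZMod 7) (ZMod.card 7)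
    obtain ⟨f⟩ := S0495.result (G := SL32) card_SL32 (F := ZMod 7) (ZMod.card 7)
    exact ⟨e.trans f.symm⟩
  · exact Or.inr (S0497.result h)

end Cfsg.Agent.DihEight
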