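import Cfsg.Prelude.Def_Balance
import Cfsg.Agent.Lib.Invol.DihStatements
import Cfsg.Agent.Lib.Blocks.DihedralOrder
import Cfsg.Agent.Lib.Blocks.DihedralMain
import Cfsg.Agent.Lib.Blocks.Knorr
import Cfsg.Agent.Lib.Invol.Count
import Cfsg.Agent.S4482
import Cfsg.Agent.S4481

/-!
# An involution with dihedral centralizer of order 8: setup and the order

`C(z) ≅ D₈` is a Sylow 2-subgroup; if all involutions are conjugate the group has order 168 or 360.
-/

set_option autoImplicit false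
set_option linter.unusedSectionVars false

namespace Cfsg.Agent.DihEight

open Subgroup Cfsg Cfsg.Agent.Invol

variable {G : Type*} [Group G] [Finite G]

/-- The data: `z` is the central involution of a Sylow subgroup equal to its centralizer. -/
structure Data (z : G) where
  S : Sylow 2 G
  D : DihData (S : Subgroup G)
  hm : D.m = 4
  hz : z = D.gz
  hS : (S : Subgroup G) = centralizer ({z} : Set G)

theorem exists_data {z : G} (hz : orderOf z = 2)
    (hC : Nonempty (centralizer ({z} : Set G) ≃* DihedralGroup 4)) : Nonempty (Data z) := by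
  haveI : Fact (Nat.Prime 2) := ⟨Nat.prime_two⟩
  obtain ⟨e⟩ := hC
  set C := centralizer ({z} : Set G) with hCdef
  have hC8 : Nat.card C = 8 := by rw [Nat.card_congr e.toEquiv, DihedralGroup.nat_card]
  have hCp : IsPGroup 2 C := IsPGroup.of_card (n := 3) (by rw [hC8]; norm_num)
  have hzC : z ∈ C := mem_centralizer_singleton_iff.2 rfl
  -- the centre of `C` is `⟨z⟩`
  have hcen : ∀ w ∈ C, (∀ c ∈ C, c * w = w * c) → w = 1 ∨ w = z := by
    intro w hw hwc
    have key : ∀ x : DihedralGroup 4, (∀ y, y * x = x * y) → x = 1 ∨ x = DihedralGroup.r 2 := by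
      decide
    have hx : ∀ x ∈ C, (∀ c ∈ C, c * x = x * c) →
        x = 1 ∨ x = ((e.symm (DihedralGroup.r 2) : C) : G) := by
      intro x hx hxc
      rcases key (e ⟨x, hx⟩) (fun y => by
        obtain ⟨c, rfl⟩ := e.surjective y
        rw [← map_mul, ← map_mul]
        exact congrArg e (Subtype.ext (hxc c c.2))) with h | h
      · exact Or.inl (congrArg Subtype.val (e.injective (h.trans e.map_one.symm)))
      · exact Or.inr (by rw [← h, e.symm_apply_apply])
    rcases hx z hzC (fun c hc => mem_centralizer_singleton_iff.1 hc) with h | h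
    · exact absurd h (ne_one_of_orderOf_two hz)
    · rw [← h] at hx; exact hx w hw hwc
  obtain ⟨S, hCS⟩ := hCp.exists_le_sylow
  have hSC : (S : Subgroup G) = C := by
    refine le_antisymm ?_ hCS
    have hSp := S.2
    haveI : Nontrivial (S : Subgroup G) :=
      ⟨⟨⟨z, hCS hzC⟩, 1, fun h => ne_one_of_orderOf_two hz (congrArg Subtype.val h)⟩⟩
    haveI := IsPGroup.center_nontrivial hSp
    obtain ⟨⟨⟨w, hwS⟩, hwc⟩, hw1⟩ := exists_ne (1 : center (S : Subgroup G))
    have hwS' : ∀ s ∈ (S : Subgroup G), s * w = w * s := fun s hs =>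
      congrArg Subtype.val (mem_center_iff.1 hwc ⟨s, hs⟩)
    have hwC : w ∈ C := mem_centralizer_singleton_iff.2 (hwS' z (hCS hzC)).symm
    rcases hcen w hwC (fun c hc => hwS' c (hCS hc)) with h | h
    · exact absurd (Subtype.ext (Subtype.ext h)) hw1
    · intro s hs
      exact mem_centralizer_singleton_iff.2 (h ▸ hwS' s hs)
  obtain ⟨D⟩ := dih_exists (S := S) (m := 4) (by norm_num)
    ((MulEquiv.subgroupCongr hSC).trans e) (by
      have h : Nat.card (S : Subgroup G) = Nat.card C := by rw [hSC]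
      omega)
  have hm : D.m = 4 := by
    have h := Nat.card_congr D.e.toEquiv
    rw [DihedralGroup.nat_card] at h
    have h' : Nat.card (S : Subgroup G) = Nat.card C := by rw [hSC]
    omega
  refine ⟨⟨S, D, hm, ?_, hSC⟩⟩
  rcases hcen D.gz (hSC ▸ D.gz_mem) (fun c hc => (D.gz_commute (show c ∈ (S : Subgroup G) by rw [hSC]; exact hc)).eq.symm) with
    h | h
  · exact absurd h D.gz_ne_one
  · exact h.symm

namespace Data

variable {z : G} (T : Data z)

theorem h_eq : T.D.h = 2 := by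
  have := T.D.m_eq; have := T.hm; omega

theorem card_S : Nat.card (T.S : Subgroup G) = 8 := by
  rw [Nat.card_congr T.D.e.toEquiv, DihedralGroup.nat_card, T.hm]

theorem gs_add_four (a : ℤ) : T.D.gs (a + 4) = T.D.gs a := by
  rw [T.D.gs_eq_iff, T.hm]; exact ⟨1, by push_cast; ring⟩

theorem gz_mul_gs (a : ℤ) : z * T.D.gs a = T.D.gs (a + 2) := by
  refine (congrArg (· * T.D.gs a) T.hz).trans ?_
  show T.D.gr T.D.h * T.D.gs a = _
  rw [T.D.gr_mul_gs, T.h_eq, ← T.gs_add_four (a - ((2 : ℕ) : ℤ))]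
  congr 1
  push_cast
  ring

theorem hzr : z = T.D.gr 2 :=
  T.hz.trans (congrArg T.D.gr (by rw [T.h_eq]; norm_num))

include T in
theorem card_centralizer_conj {w : G} (h : IsConj z w) :
    Nat.card (centralizer ({w} : Set G)) = 8 := by
  obtain ⟨c, rfl⟩ := isConj_iff.1 h
  rw [Invol.card_centralizer_conj c z, ← T.hS, T.card_S]

/-- The centralizer in `S` of a reflection has four elements. -/
theorem card_centralizer_pair (a : ℤ) :
    Nat.card (centralizer ({z, T.D.gs a} : Set G)) = 4 := by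
  classical
  have h : ((centralizer ({z, T.D.gs a} : Set G)) : Set G) =
      {1, z, T.D.gs a, T.D.gs (a + 2)} := by
    ext w
    rw [SetLike.mem_coe, mem_centralizer_iff]
    simp only [Set.mem_insert_iff, Set.mem_singleton_iff, forall_eq_or_imp, forall_eq]
    constructor
    · rintro ⟨h1, h2⟩
      have hwS : w ∈ (T.S : Subgroup G) := T.hS ▸ mem_centralizer_singleton_iff.2 h1.symm
      obtain ⟨b, rfl | rfl⟩ := T.D.repr_G hwS
      · rw [T.D.gs_mul_gr, T.D.gr_mul_gs, T.D.gs_eq_iff, T.hm] at h2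
        obtain ⟨c, hc⟩ := h2
        rcases Int.even_or_odd c with ⟨d, rfl⟩ | ⟨d, rfl⟩
        · left; rw [T.D.gr_eq_one_iff, T.hm]; exact ⟨d, by push_cast at hc ⊢; omega⟩
        · right; left
          refine Eq.trans ?_ T.hzr.symm
          rw [T.D.gr_eq_iff, T.hm]
          exact ⟨d, by push_cast at hc ⊢; omega⟩
      · rw [T.D.gs_mul_gs, T.D.gs_mul_gs, T.D.gr_eq_iff, T.hm] at h2
        obtain ⟨c, hc⟩ := h2
        rcases Int.even_or_odd c with ⟨d, rfl⟩ | ⟨d, rfl⟩
        · right; right; left; rw [T.D.gs_eq_iff, T.hm]; exact ⟨d, by push_cast at hc ⊢; omega⟩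
        · right; right; right; rw [T.D.gs_eq_iff, T.hm]
          exact ⟨d, by push_cast at hc ⊢; omega⟩
    · have hzc : ∀ {g : G}, g ∈ (T.S : Subgroup G) → z * g = g * z := fun {g} hg =>
        (mem_centralizer_singleton_iff.1 (T.hS.le hg)).symm
      rintro (rfl | rfl | rfl | rfl)
      · simp
      · exact ⟨rfl, (hzc (T.D.gs_mem a)).symm⟩
      · exact ⟨hzc (T.D.gs_mem a), rfl⟩
      · refine ⟨hzc (T.D.gs_mem _), ?_⟩
        rw [← T.gz_mul_gs, ← mul_assoc, ← hzc (T.D.gs_mem a), mul_assoc]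
  rw [show Nat.card (centralizer ({z, T.D.gs a} : Set G)) =
    ((centralizer ({z, T.D.gs a} : Set G)) : Set G).ncard from (Nat.card_coe_set_eq _), h]
  have hzs : ∀ b, z ≠ T.D.gs b := fun b hb => T.D.gr_ne_gs _ b (T.hzr.symm.trans hb)
  have hz1 : z ≠ 1 := fun h => T.D.gz_ne_one (T.hz.symm.trans h)
  have h2 : T.D.gs a ≠ T.D.gs (a + 2) := fun he => by
    rw [T.D.gs_eq_iff, T.hm] at he; push_cast at he; omega
  rw [Set.ncard_insert_of_notMem (by
      simp [hz1.symm, (T.D.gs_ne_one a).symm, (T.D.gs_ne_one (a + 2)).symm]),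
    Set.ncard_insert_of_notMem (by simp [hzs a, hzs (a + 2)]),
    Set.ncard_pair h2]

theorem gr_pow (a : ℤ) (l : ℕ) : T.D.gr a ^ l = T.D.gr (a * l) := by
  rw [← zpow_natCast, T.D.gr_zpow]

theorem card_eq (h0 : IsConj T.D.gz (T.D.gs 0)) (h1 : IsConj T.D.gz (T.D.gs 1)) :
    Nat.card G = 168 ∨ Nat.card G = 360 := by
  haveI : Fact (Nat.Prime 2) := ⟨Nat.prime_two⟩
  obtain ⟨M, hM⟩ := Blocks.exists_isPModular (p := 2) Nat.prime_two
  have hσo : orderOf (T.D.gr 1) = 2 ^ (3 - 1) := by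
    refine orderOf_eq_prime_pow (n := 1) ?_ ?_
    · rw [T.gr_pow, T.D.gr_eq_one_iff, T.hm]; norm_num
    · rw [T.gr_pow, T.D.gr_eq_one_iff, T.hm]; norm_num
  have hζ : IsPrimitiveRoot (Complex.exp (2 * Real.pi * Complex.I / ((2 ^ (3 - 1) : ℕ) : ℂ)))
      (2 ^ (3 - 1)) := Complex.isPrimitiveRoot_exp _ (by norm_num)
  have e' : (T.S : Subgroup G) ≃* DihedralGroup (2 ^ (3 - 1)) := by
    rw [show 2 ^ (3 - 1) = T.D.m by rw [T.hm]; norm_num]; exact T.D.e
  obtain ⟨-, χ₁, χ₂, χ₃, χ', δ₁, δ₂, δ₃, hδ₁, -, -, -, hne, -, -, -, -, -, -, hblock, hval, -⟩ :=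
    S4481.result M hM 3 le_rfl T.S ⟨e'⟩ (T.D.gr 1) (T.D.gr_mem 1) hσo _ hζ
  have hgen : closure ({T.D.gr 1, T.D.gs 0} : Set G) = (T.S : Subgroup G) := by
    refine le_antisymm ((closure_le _).2 ?_) fun s hs => ?_
    · rintro x (rfl | rfl)
      · exact T.D.gr_mem 1
      · exact T.D.gs_mem 0
    · obtain ⟨b, rfl | rfl⟩ := T.D.repr_G hs
      · rw [show T.D.gr b = T.D.gr 1 ^ b by rw [T.D.gr_zpow, one_mul]]
        exact zpow_mem (subset_closure (by simp)) b
      · rw [show T.D.gs b = T.D.gs 0 * T.D.gr 1 ^ b by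
          rw [T.D.gr_zpow, one_mul, T.D.gs_mul_gr, zero_add]]
        exact mul_mem (subset_closure (by simp)) (zpow_mem (subset_closure (by simp)) b)
  have hz2 : T.D.gr 1 ^ 2 ^ (3 - 2) = z := by
    refine Eq.trans ?_ T.hzr.symm
    rw [T.gr_pow]; norm_num
  have hrs : T.D.gr 1 * T.D.gs 0 = T.D.gs (-1) := by rw [T.D.gr_mul_gs]; norm_num
  have hc : IsConj T.D.gz (T.D.gs (-1)) := h1.trans (T.D.isConj_gs ⟨1, by ring⟩)
  have hmain := (S4482.result M hM 3 le_rfl T.S (T.D.gr 1) (T.D.gs 0) (T.D.gr_mem 1)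
    (T.D.gs_mem 0) hσo (T.D.orderOf_gs 0)
    (by rw [T.D.gs_conj_gr, ← T.D.gr_inv]) hgen
    (by rw [← T.hz] at h0 hc; rw [hz2, hrs]; exact ⟨h0, hc⟩) χ₁
    (by rw [hblock]; exact Or.inr (Or.inl rfl)) hne δ₁ hδ₁ (fun l a b => (hval l a b).1))
  rw [hz2, hrs, T.card_centralizer_pair, T.card_centralizer_pair, ← T.hS, T.card_S]
    at hmain
  obtain ⟨hxd, hq⟩ := hmain
  set x := Cfsg.charDegree (χ₁ : G → ℂ) with hx
  have hg8 : 8 ∣ Nat.card G := T.card_S ▸ Subgroup.card_subgroup_dvd_card _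
  have hg16 : ¬ 16 ∣ Nat.card G := fun h => by
    have hh := T.S.card_eq_multiplicity
    rw [T.card_S] at hh
    have h4 : (Nat.card G).factorization 2 = 3 := by
      have := Nat.pow_right_injective (le_refl 2) (a₁ := 3)
        (a₂ := (Nat.card G).factorization 2) (by simpa using hh)
      exact this.symm
    have := (Nat.Prime.pow_dvd_iff_le_factorization Nat.prime_two Nat.card_pos.ne').1
      (show 2 ^ 4 ∣ Nat.card G from h)
    omega
  have hzq : (Nat.card G : ℤ) * ((x : ℤ) - δ₁) ^ 2 = 256 * (x : ℤ) * ((x : ℤ) + δ₁) := by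
    have : ((Nat.card G : ℤ) * ((x : ℤ) - δ₁) ^ 2 : ℚ) =
        ((256 * (x : ℤ) * ((x : ℤ) + δ₁) : ℤ) : ℚ) := by
      push_cast
      rw [hq]; push_cast; ring
    exact_mod_cast this
  set d : ℤ := (x : ℤ) - δ₁ with hd
  have hd0 : d ≠ 0 := sub_ne_zero.2 hxd
  have hsq : δ₁ * δ₁ = 1 := by rcases hδ₁ with h | h <;> rw [h] <;> norm_num
  have hdvd : d ∣ 512 := by
    have h1 : d ∣ 256 * (x : ℤ) * ((x : ℤ) + δ₁) := ⟨(Nat.card G : ℤ) * d, by rw [← hzq]; ring⟩
    have h2 : d ∣ 256 * (x : ℤ) * ((x : ℤ) + δ₁) - d * (256 * (d + 3 * δ₁)) := h1.sub ⟨_, rfl⟩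
    have e : 256 * (x : ℤ) * ((x : ℤ) + δ₁) - d * (256 * (d + 3 * δ₁)) = 512 * (δ₁ * δ₁) := by
      rw [hd]; ring
    rwa [e, hsq, mul_one] at h2
  have hdvd2 : d.natAbs ∈ Nat.divisors 512 :=
    Nat.mem_divisors.2 ⟨Int.natAbs_dvd_natAbs.2 hdvd, by norm_num⟩
  have hxpos : 0 < (x : ℤ) + 1 := by omega
  have hlist : Nat.divisors 512 = {1, 2, 4, 8, 16, 32, 64, 128, 256, 512} := by decide
  rw [hlist] at hdvd2
  simp only [Finset.mem_insert, Finset.mem_singleton] at hdvd2
  obtain ⟨g, hg⟩ : ∃ g : ℕ, g = Nat.card G := ⟨_, rfl⟩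
  rw [← hg] at hg8 hg16 hzq ⊢
  have hgpos : 0 < g := hg ▸ Nat.card_pos
  rcases hdvd2 with h | h | h | h | h | h | h | h | h | h <;>
    rcases Int.natAbs_eq d with h' | h' <;> rw [h] at h' <;>
    rcases hδ₁ with hs | hs <;>
    (have hxv : (x : ℤ) = d + δ₁ := by rw [hd]; ring
     rw [h', hs] at hxv
     rw [hxv, h', hs] at hzq
     norm_num at hzq hxv
     omega)

end Data

end Cfsg.Agent.DihEight
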