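import Cfsg.Agent.Lib.LocalEvenB.DihEightOne
import Cfsg.Agent.Lib.InvChar.FourCentralizerApps
import Cfsg.Agent.Lib.Basics.Cores

/-!
# An involution with dihedral centralizer of order 8: two classes of involutions
-/

set_option autoImplicit false
set_option linter.unusedSectionVars false

namespace Cfsg.Agent.DihEight

open Subgroup Cfsg Cfsg.Agent.Invol

variable {G : Type*} [Group G] [Finite G]

theorem iso_sym_of_action {α : Type*} [Finite α] {n : ℕ} (f : G →* Equiv.Perm α)
    (hf : Function.Injective f) (hα : Nat.card α = n) (hG : Nat.card G = n.factorial) :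
    Nonempty (G ≃* Equiv.Perm (Fin n)) := by
  classical
  have hb : Function.Bijective f := (Nat.bijective_iff_injective_and_card f).2
    ⟨hf, by rw [Nat.card_perm, hα, hG]⟩
  exact ⟨(MulEquiv.ofBijective f hb).trans
    (Equiv.permCongrHom (Finite.equivFinOfCardEq hα))⟩

namespace Data

variable {z : G} (T : Data z)

include T in
theorem not_top {w : G} (hw : IsConj z w) (hwz : w ≠ z) : (T.S : Subgroup G) ≠ ⊤ := by
  intro h
  obtain ⟨c, rfl⟩ := isConj_iff.1 hw
  refine hwz ?_
  have hc : c ∈ centralizer ({z} : Set G) := T.hS.le (h ▸ mem_top c)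
  rw [mem_centralizer_singleton_iff] at hc
  rw [hc, mul_inv_cancel_right]

theorem two_class {i j : ℤ} (hij : ¬ 2 ∣ i - j) (hi : IsConj z (T.D.gs i))
    (hj : ¬ IsConj z (T.D.gs j)) :
    Nonempty (G ≃* Equiv.Perm (Fin 4)) ∨ Nonempty (G ≃* Equiv.Perm (Fin 5)) := by
  classical
  haveI : Fact (Nat.Prime 2) := ⟨Nat.prime_two⟩
  haveI : Fact (Nat.Prime 3) := ⟨Nat.prime_three⟩
  obtain ⟨K, hKn, hK2, hjK⟩ := T.D.exists_index_two_gs (i := j) (by rw [← T.hz]; exact hj)
  haveI := hKn
  have hzr := T.hzr
  have hzK : z ∈ K := by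
    rw [hzr, show (2 : ℤ) = 1 + 1 by norm_num, ← T.D.gr_mul_gr]
    exact (mul_mem_iff_of_index_two hK2).2 Iff.rfl
  have hgsK : ∀ a, T.D.gs a ∈ K ↔ 2 ∣ a - i := by
    intro a
    constructor
    · intro ha
      by_contra hd
      exact hjK (isConj_mem_normal (T.D.isConj_gs (by omega : (2 : ℤ) ∣ a - j)) ha)
    · intro hd
      exact isConj_mem_normal (hi.trans (T.D.isConj_gs hd).symm) hzK
  have hgrK : ∀ a, T.D.gr a ∈ K ↔ 2 ∣ a := by
    intro a
    have h : T.D.gs i * T.D.gr a = T.D.gs (i + a) := T.D.gs_mul_gr i a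
    rw [show (2 ∣ a) ↔ 2 ∣ (i + a) - i by rw [add_sub_cancel_left], ← hgsK, ← h,
      K.mul_mem_cancel_left ((hgsK i).2 (by simp))]
  -- the four-group
  obtain ⟨W, hW⟩ : ∃ W, W = centralizer ({z, T.D.gs i} : Set G) := ⟨_, rfl⟩
  have hW4 : Nat.card W = 4 := by rw [hW]; exact T.card_centralizer_pair i
  have hmemW : ∀ w, w ∈ W ↔ w ∈ (T.S : Subgroup G) ∧ w * T.D.gs i = T.D.gs i * w := by
    intro w
    rw [hW, mem_centralizer_iff, T.hS, mem_centralizer_singleton_iff]
    simp only [Set.mem_insert_iff, Set.mem_singleton_iff, forall_eq_or_imp, forall_eq]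
    exact ⟨fun h => ⟨h.1.symm, h.2.symm⟩, fun h => ⟨h.1.symm, h.2.symm⟩⟩
  have hWS : W ≤ (T.S : Subgroup G) := fun w hw => ((hmemW w).1 hw).1
  have hWlist : ∀ w ∈ W, w = 1 ∨ w = z ∨ w = T.D.gs i ∨ w = T.D.gs (i + 2) := by
    intro w hw
    obtain ⟨hwS, hc⟩ := (hmemW w).1 hw
    obtain ⟨b, rfl | rfl⟩ := T.D.repr_G hwS
    · rw [T.D.gr_mul_gs, T.D.gs_mul_gr, T.D.gs_eq_iff, T.hm] at hc
      rcases Int.even_or_odd (b / 2) with ⟨d, hd⟩ | ⟨d, hd⟩
      · left; rw [T.D.gr_eq_one_iff, T.hm]; exact ⟨d, by push_cast at hc ⊢; omega⟩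
      · right; left
        refine Eq.trans ?_ hzr.symm
        rw [T.D.gr_eq_iff, T.hm]; exact ⟨d, by push_cast at hc ⊢; omega⟩
    · rw [T.D.gs_mul_gs, T.D.gs_mul_gs, T.D.gr_eq_iff, T.hm] at hc
      rcases Int.even_or_odd ((b - i) / 2) with ⟨d, hd⟩ | ⟨d, hd⟩
      · right; right; left; rw [T.D.gs_eq_iff, T.hm]; exact ⟨d, by push_cast at hc ⊢; omega⟩
      · right; right; right; rw [T.D.gs_eq_iff, T.hm]; exact ⟨d, by push_cast at hc ⊢; omega⟩
  have hzS : z ∈ (T.S : Subgroup G) := T.hS.ge (mem_centralizer_singleton_iff.2 rfl)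
  have hzc : ∀ s ∈ (T.S : Subgroup G), s * z = z * s := fun s hs =>
    mem_centralizer_singleton_iff.1 (T.hS.le hs)
  have hzW : z ∈ W := (hmemW z).2 ⟨hzS, (hzc _ (T.D.gs_mem i)).symm⟩
  have hiW : T.D.gs i ∈ W := (hmemW _).2 ⟨T.D.gs_mem i, rfl⟩
  have hi2W : T.D.gs (i + 2) ∈ W := by rw [← T.gz_mul_gs]; exact W.mul_mem hzW hiW
  have hi2 : IsConj z (T.D.gs (i + 2)) := hi.trans (T.D.isConj_gs ⟨-1, by ring⟩)
  have hconjW : ∀ w ∈ W, w ≠ 1 → IsConj z w := by
    intro w hw h1
    rcases hWlist w hw with h | h | h | h <;> subst h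
    · exact absurd rfl h1
    · exact IsConj.refl _
    · exact hi
    · exact hi2
  have hWK : W ≤ K := fun w hw => by
    rcases hWlist w hw with h | h | h | h <;> subst h
    · exact one_mem _
    · exact hzK
    · exact (hgsK i).2 (by simp)
    · exact (hgsK _).2 ⟨1, by ring⟩
  have hKS : ∀ s ∈ (T.S : Subgroup G), s ∈ K → s ∈ W := by
    intro s hs hsK
    refine (hmemW s).2 ⟨hs, ?_⟩
    obtain ⟨b, rfl | rfl⟩ := T.D.repr_G hs
    · obtain ⟨d, rfl⟩ := (hgrK b).1 hsK
      rw [T.D.gr_mul_gs, T.D.gs_mul_gr, T.D.gs_eq_iff, T.hm]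
      exact ⟨-d, by push_cast; ring⟩
    · obtain ⟨d, hd⟩ := (hgsK b).1 hsK
      rw [T.D.gs_mul_gs, T.D.gs_mul_gs, T.D.gr_eq_iff, T.hm]
      exact ⟨-d, by push_cast; omega⟩
  have hzi : T.D.gs i ≠ z := fun h => T.D.gr_ne_gs 2 i (hzr.symm.trans h.symm)
  have hWsq : ∀ w ∈ W, w * w = 1 := by
    intro w hw
    rcases hWlist w hw with h | h | h | h <;> subst h
    · rw [mul_one]
    · exact mul_self_of_orderOf_two T.z_order
    · exact mul_self_of_orderOf_two (T.D.orderOf_gs _)
    · exact mul_self_of_orderOf_two (T.D.orderOf_gs _)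
  have hCW : centralizer (W : Set G) ≤ W := by
    intro x hx
    refine (hmemW x).2 ⟨T.hS.ge (mem_centralizer_singleton_iff.2 (hx z hzW).symm), ?_⟩
    exact (hx _ hiW).symm
  -- the centralizer of `z` in `K`
  have hCK : Nat.card (centralizer ({⟨z, hzK⟩} : Set K)) = 4 := by
    rw [← hW4, ← Subgroup.card_map_of_injective K.subtype_injective]
    congr 1
    apply congrArg
    ext w
    constructor
    · rintro ⟨⟨u, huK⟩, hu, rfl⟩
      rw [SetLike.mem_coe, mem_centralizer_singleton_iff] at hu
      exact hKS u (T.hS.ge (mem_centralizer_singleton_iff.2 (congrArg Subtype.val hu))) huK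
    · intro hw
      refine ⟨⟨w, hWK hw⟩, ?_, rfl⟩
      rw [SetLike.mem_coe, mem_centralizer_singleton_iff]
      exact Subtype.ext (hzc w (hWS hw))
  have hCKe : ∀ c ∈ centralizer ({⟨z, hzK⟩} : Set K), c ^ 2 = 1 := by
    intro c hc
    rw [mem_centralizer_singleton_iff] at hc
    exact Subtype.ext (by
      rw [SubmonoidClass.coe_pow, pow_two]
      exact hWsq _ (hKS c (T.hS.ge (mem_centralizer_singleton_iff.2 (congrArg Subtype.val hc))) c.2))
  have hzKo : orderOf (⟨z, hzK⟩ : K) = 2 := by rw [Subgroup.orderOf_mk]; exact T.z_order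
  have hcardK : Nat.card G = 2 * Nat.card K := by
    rw [← hK2, Subgroup.index_mul_card]
  have hnc : ¬ HasNormalPComplement 2 K := by
    rintro ⟨P, N, hN, hc⟩
    haveI := hN
    have hNodd : Odd (Nat.card N) := by
      have h1 : N.index = Nat.card P := hc.symm.index_eq_card
      have h2 := hc.card_mul_card
      rw [Nat.odd_iff]
      by_contra hev
      have h3 : 2 ∣ Nat.card N := by omega
      obtain ⟨k, hk⟩ := P.2.exists_card_eq
      have h4 : (Nat.card K).factorization 2 = k := by
        have := P.card_eq_multiplicity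
        rw [hk] at this
        exact (Nat.pow_right_injective le_rfl this).symm
      have h5 : 2 ^ (k + 1) ∣ Nat.card K := by
        rw [pow_succ, ← h2, ← hk, mul_comm (Nat.card N)]
        exact Nat.mul_dvd_mul_left _ h3
      have := (Nat.Prime.pow_dvd_iff_le_factorization Nat.prime_two Nat.card_pos.ne').1 h5
      omega
    have hNcore : N ≤ pPrimeCore 2 K := Basics.le_pPrimeCore (Nat.coprime_two_right.2 hNodd)
    haveI : ((pPrimeCore 2 K).map K.subtype).Normal :=
      ConjAct.normal_of_characteristic_of_normal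
    have hbot := T.odd_normal_bot hi ((pPrimeCore 2 K).map K.subtype) (by
      rw [Subgroup.card_map_of_injective K.subtype_injective]
      exact Nat.coprime_two_right.1 (Basics.pPrimeCore_coprime 2))
    rw [Subgroup.map_eq_bot_iff_of_injective _ K.subtype_injective] at hbot
    rw [hbot, le_bot_iff] at hNcore
    have hKP : IsPGroup 2 K := fun x => by
      have : x ∈ (P : Subgroup K) := by
        have := hc.sup_eq_top
        rw [hNcore, bot_sup_eq] at this
        exact this ▸ mem_top x
      obtain ⟨k, hk⟩ := P.2 ⟨x, this⟩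
      exact ⟨k, by simpa using congrArg Subtype.val hk⟩
    have hG2 : IsPGroup 2 G := by
      obtain ⟨k, hk⟩ := hKP.exists_card_eq
      exact IsPGroup.of_card (n := k + 1) (by rw [hcardK, hk, pow_succ']; )
    refine T.not_top hi hzi (T.S.3 (hG2.to_subgroup ⊤) le_top).symm
  have hG8 : 8 ∣ Nat.card G := T.card_S ▸ Subgroup.card_subgroup_dvd_card _
  by_cases hne : ∀ E : Subgroup K, E.Normal → IsElementaryAbelian 2 E →
      Nat.card ↥E ≠ 2 ∧ Nat.card ↥E ≠ 4
  · -- `K` is alternating of degree five
    right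
    obtain ⟨e⟩ := FourCent.card_four_case (⟨z, hzK⟩ : K) hzKo hCK hCKe hnc hne
    have h60 : Nat.card K = 60 := by
      rw [Nat.card_congr e.toEquiv]
      rw [nat_card_alternatingGroup, Nat.card_fin]; rfl
    haveI : IsSimpleGroup (alternatingGroup (Fin 5)) := alternatingGroup.isSimpleGroup_five
    haveI : IsSimpleGroup K := MulEquiv.isSimpleGroup e
    obtain ⟨M, hM⟩ : ∃ M, M = normalizer (W : Set G) := ⟨_, rfl⟩
    have hSM : (T.S : Subgroup G) ≤ M := by
      intro s hs
      rw [hM]
      refine ConjFunctor.cj_eq_iff.1 (Subgroup.eq_of_le_of_card_ge ?_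
        (le_of_eq (Subgroup.card_map_of_injective (MulAut.conj s).injective).symm))
      rintro _ ⟨w, hw, rfl⟩
      exact hKS _ (Subgroup.mul_mem _ (Subgroup.mul_mem _ hs (hWS hw)) (Subgroup.inv_mem _ hs))
        (hKn.conj_mem w (hWK hw) s)
    have hWnK : ∀ v ∈ W, v ∈ K := hWK
    have hker : (MulAction.toPermHom G (G ⧸ M)).ker = ⊥ := by
      rw [← Subgroup.normalCore_eq_ker]
      have hL := M.normalCore_normal
      have hLK : M.normalCore.subgroupOf K = ⊥ := by
        rcases (inferInstance : (M.normalCore.subgroupOf K).Normal).eq_bot_or_eq_top with h | h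
        · exact h
        · exfalso
          rw [subgroupOf_eq_top] at h
          have hn : (W.subgroupOf K).Normal := by
            refine ⟨fun w hw g => ?_⟩
            rw [mem_subgroupOf] at hw ⊢
            have hg := M.normalCore_le (h g.2)
            rw [hM] at hg
            exact (mem_normalizer_iff.1 hg _).1 hw
          rcases hn.eq_bot_or_eq_top with h' | h'
          · rw [subgroupOf_eq_bot, disjoint_iff, inf_of_le_left hWK] at h'
            rw [h', Subgroup.card_bot] at hW4
            omega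
          · rw [subgroupOf_eq_top] at h'
            rw [le_antisymm h' hWK, hW4] at h60
            omega
      rw [subgroupOf_eq_bot, disjoint_iff] at hLK
      rw [eq_bot_iff, ← hLK]
      refine le_inf le_rfl fun l hl => hWK (hCW fun w hw => ?_)
      have hmem : w * l * w⁻¹ * l⁻¹ ∈ M.normalCore ⊓ K := by
        refine ⟨M.normalCore.mul_mem (hL.conj_mem l hl w) (M.normalCore.inv_mem hl), ?_⟩
        rw [show w * l * w⁻¹ * l⁻¹ = w * (l * w⁻¹ * l⁻¹) by group]
        exact K.mul_mem (hWK hw) (hKn.conj_mem _ (K.inv_mem (hWK hw)) l)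
      rw [hLK, mem_bot] at hmem
      calc w * l = (w * l * w⁻¹ * l⁻¹) * (l * w) := by group
        _ = l * w := by rw [hmem, one_mul]
    have hinj : Function.Injective (MulAction.toPermHom G (G ⧸ M)) :=
      (MonoidHom.ker_eq_bot_iff _).1 hker
    have hG120 : Nat.card G = 120 := by omega
    obtain ⟨m, hm⟩ : ∃ m, m = M.index := ⟨_, rfl⟩
    have hm15 : m ∣ 15 := by
      have h1 : M.index ∣ (T.S : Subgroup G).index := Subgroup.index_dvd_of_le hSM
      have h2 := Subgroup.card_mul_index (T.S : Subgroup G)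
      rw [T.card_S, hG120] at h2
      rw [hm]
      rwa [show (T.S : Subgroup G).index = 15 by omega] at h1
    have hfact : 120 ∣ m.factorial := by
      rw [hm, Subgroup.index, ← Nat.card_perm, ← hG120]
      exact Subgroup.card_dvd_of_injective _ hinj
    have hm5 : m = 5 ∨ m = 15 := by
      have key : ∀ n ∈ Nat.divisors 15, 120 ∣ n.factorial → n = 5 ∨ n = 15 := by decide
      exact key m (Nat.mem_divisors.2 ⟨hm15, by norm_num⟩) hfact
    rcases hm5 with h5 | h15
    · exact iso_sym_of_action _ hinj (by rw [← h5, hm, Subgroup.index]) (by rw [hG120]; rfl)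
    · exfalso
      have hMS : M = (T.S : Subgroup G) := by
        refine (Subgroup.eq_of_le_of_card_ge hSM ?_).symm
        have := Subgroup.card_mul_index M
        rw [← hm, h15, hG120] at this
        rw [T.card_S]; omega
      have hW2 : IsPGroup 2 W := IsPGroup.of_card (n := 2) (by rw [hW4]; norm_num)
      obtain ⟨P, hP⟩ := (hW2.of_equiv (subgroupOfEquivOfLe hWK).symm).exists_le_sylow
      have hP4 : Nat.card P = 4 := by
        haveI : Fact (Nat.Prime 2) := ⟨Nat.prime_two⟩
        exact SmallSimple.card_sylow_of_eq (k := 2) (m := 15) P (by rw [h60]; norm_num) (by norm_num)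
      have hPW : (P : Subgroup K) = W.subgroupOf K := (Subgroup.eq_of_le_of_card_ge hP (by
        rw [Nat.card_congr (subgroupOfEquivOfLe hWK).toEquiv, hW4, hP4])).symm
      haveI : IsKleinFour (P : Subgroup K) := by
        refine ⟨hP4, ?_⟩
        have hd : Monoid.exponent (P : Subgroup K) ∣ 2 :=
          Monoid.exponent_dvd_of_forall_pow_eq_one fun x => Subtype.ext (Subtype.ext (by
            have hx : ((x : K) : G) ∈ W := mem_subgroupOf.1 (hPW ▸ x.2)
            rw [pow_two]; exact hWsq _ hx))
        rcases (Nat.dvd_prime Nat.prime_two).1 hd with h | h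
        · exfalso
          have := Monoid.exp_eq_one_iff.1 h
          rw [Nat.card_of_subsingleton (1 : (P : Subgroup K))] at hP4
          omega
        · exact h
      refine hnc (klein_complement_of_central P fun n hn v hv => ?_)
      have hnW : (n : G) ∈ M := by
        rw [hM]
        refine mem_normalizer_iff.2 fun w => ⟨fun hw => ?_, fun hw => ?_⟩
        · have h' := (mem_normalizer_iff.1 hn ⟨w, hWK hw⟩).1 (hPW ▸ mem_subgroupOf.2 hw)
          rw [hPW, mem_subgroupOf] at h'
          exact h'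
        · have hwK : w ∈ K := by
            have := hKn.conj_mem _ (hWK hw) (n : G)⁻¹
            rwa [show (n : G)⁻¹ * (n * w * (n : G)⁻¹) * (n : G)⁻¹⁻¹ = w by group] at this
          have h' := (mem_normalizer_iff.1 hn ⟨w, hwK⟩).2 (hPW ▸ mem_subgroupOf.2 hw)
          rw [hPW, mem_subgroupOf] at h'
          exact h'
      have hnW' : (n : G) ∈ W := hKS n (hMS ▸ hnW) n.2
      have hvW : (v : G) ∈ W := mem_subgroupOf.1 (hPW ▸ hv)
      apply Subtype.ext
      show (v : G) * n = n * v
      have h1 := hWsq _ (W.mul_mem hvW hnW')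
      calc (v : G) * n = (v : G) * n * (((v : G) * n) * ((v : G) * n))⁻¹ := by rw [h1, inv_one, mul_one]
        _ = (n : G)⁻¹ * (v : G)⁻¹ := by group
        _ = n * v := by
          rw [inv_eq_of_mul_eq_one_right (hWsq _ hnW'), inv_eq_of_mul_eq_one_right (hWsq _ hvW)]
  · -- the four-group is normal
    left
    push Not at hne
    obtain ⟨E, hEn, hEab, hE⟩ := hne
    haveI := hEn
    have hE2 : IsPGroup 2 E := fun x => ⟨1, Subtype.ext (by
      rw [pow_one, SubmonoidClass.coe_pow]; exact hEab.2 x x.2)⟩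
    haveI : ((pCore 2 K).map K.subtype).Normal := ConjAct.normal_of_characteristic_of_normal
    obtain ⟨V, hV⟩ : ∃ V, V = (pCore 2 K).map K.subtype := ⟨_, rfl⟩
    haveI hVn : V.Normal := hV ▸ inferInstance
    have hVp : IsPGroup 2 V := hV ▸ (Basics.pCore_isPGroup 2).map _
    have hVS : V ≤ (T.S : Subgroup G) := hVp.le_sylow_of_normal T.S
    have hVK : V ≤ K := hV ▸ map_subtype_le _
    have hVne : V ≠ ⊥ := by
      intro h
      rw [hV, Subgroup.map_eq_bot_iff_of_injective _ K.subtype_injective] at h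
      have hle : E ≤ (⊥ : Subgroup K) := h ▸ Basics.le_pCore hE2
      rw [le_bot_iff] at hle
      by_cases h2 : Nat.card E = 2
      · rw [hle, Subgroup.card_bot] at h2; omega
      · have := hE h2
        rw [hle, Subgroup.card_bot] at this; omega
    have hzV : z ∈ V := by
      obtain ⟨⟨v, hv⟩, hv1⟩ := Subgroup.ne_bot_iff_exists_ne_one.1 hVne
      rcases hWlist v (hKS v (hVS hv) (hVK hv)) with h | h | h | h
      · exact absurd (Subtype.ext h) hv1
      · rwa [h] at hv
      all_goals
        subst h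
        have h2 := V.mul_mem (hVn.conj_mem _ hv (T.D.gr 1)) hv
        rw [T.D.gr_conj_gs, T.D.gs_mul_gs] at h2
        ring_nf at h2
        rwa [← hzr] at h2
    have hVW : V = W := le_antisymm (fun v hv => hKS v (hVS hv) (hVK hv)) (fun w hw => by
      rcases hWlist w hw with h | h | h | h <;> subst h
      · exact one_mem _
      · exact hzV
      · exact isConj_mem_normal hi hzV
      · exact isConj_mem_normal hi2 hzV)
    haveI hWn : W.Normal := hVW ▸ hVn
    -- the order is 24
    let X := {w : G // w ∈ W ∧ w ≠ 1}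
    letI : MulAction G X :=
      { smul := fun g w => ⟨g * w.1 * g⁻¹, hWn.conj_mem _ w.2.1 g,
          fun h => w.2.2 (conj_eq_one_iff.1 h)⟩
        one_smul := fun w => Subtype.ext (show (1 : G) * w.1 * 1⁻¹ = w.1 by group)
        mul_smul := fun g h w => Subtype.ext
          (show g * h * w.1 * (g * h)⁻¹ = g * (h * w.1 * h⁻¹) * g⁻¹ by group) }
    have hX : Nat.card X = 3 := by
      have : Nat.card X = ((W : Set G) \ {1}).ncard :=
        (Nat.card_congr (Equiv.refl X)).trans (Nat.card_coe_set_eq ((W : Set G) \ {1}))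
      rw [this, Set.ncard_diff_singleton_of_mem (one_mem W), ← Nat.card_coe_set_eq]
      show Nat.card W - 1 = 3
      omega
    have hker : (MulAction.toPermHom G X).ker = W := by
      ext g
      rw [MonoidHom.mem_ker]
      constructor
      · intro h
        refine hCW fun w hw => ?_
        by_cases hw1 : w = 1
        · rw [hw1, one_mul, mul_one]
        · have h' : g * w * g⁻¹ = w :=
            congrArg Subtype.val (Equiv.ext_iff.1 h ⟨w, hw, hw1⟩)
          exact (mul_inv_eq_iff_eq_mul.1 h').symm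
      · intro hg
        refine Equiv.ext fun ⟨w, hw, hw1⟩ => Subtype.ext ?_
        show g * w * g⁻¹ = w
        rw [mul_inv_eq_iff_eq_mul]
        rcases hWlist g hg with h | h | h | h <;> subst h
        · rw [one_mul, mul_one]
        · exact (hzc w (hWS hw)).symm
        · exact ((hmemW w).1 hw).2.symm
        · rw [← T.gz_mul_gs, mul_assoc, ← ((hmemW w).1 hw).2, ← mul_assoc,
            ← hzc w (hWS hw), mul_assoc]
    have hdiv : W.index ∣ 6 := by
      rw [← hker, Subgroup.index_ker]
      have := Subgroup.card_subgroup_dvd_card (MulAction.toPermHom G X).range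
      rwa [Nat.card_perm, hX] at this
    have hG24 : Nat.card G = 24 := by
      have h1 := Subgroup.card_mul_index W
      rw [hW4] at h1
      have key : ∀ n ∈ Nat.divisors 6, 8 ∣ 4 * n → n = 2 ∨ n = 6 := by decide
      rcases key W.index (Nat.mem_divisors.2 ⟨hdiv, by norm_num⟩) (h1 ▸ hG8) with h | h
      · exfalso
        refine T.not_top hi hzi (Subgroup.eq_top_of_card_eq _ ?_)
        rw [T.card_S, ← h1, h]
      · rw [← h1, h]
    obtain ⟨P⟩ : Nonempty (Sylow 3 G) := inferInstance
    have hP3 : Nat.card P = 3 := SmallSimple.card_sylow_of_eq (k := 1) (m := 8) P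
      (by rw [hG24]; norm_num) (by norm_num)
    have hn3 : Nat.card (Sylow 3 G) = 4 := by
      have h1 := card_sylow_modEq_one 3 G
      have h2 := P.card_dvd_index
      have h3 := Subgroup.card_mul_index (P : Subgroup G)
      rw [hP3, hG24] at h3
      rw [show (P : Subgroup G).index = 8 by omega] at h2
      have key : ∀ n ∈ Nat.divisors 8, n % 3 = 1 → n = 1 ∨ n = 4 := by decide
      rcases key _ (Nat.mem_divisors.2 ⟨h2, by norm_num⟩) h1 with h | h
      · exfalso
        haveI : Subsingleton (Sylow 3 G) := (Nat.card_eq_one_iff_unique.1 h).1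
        have hPn : (P : Subgroup G).Normal := P.normal_of_subsingleton
        have hd : (P : Subgroup G) ⊓ W = ⊥ := inf_eq_bot_of_coprime (by rw [hP3, hW4]; norm_num)
        have hle : (P : Subgroup G) ≤ W := fun x hx => hCW fun w hw =>
          Subgroup.commute_of_normal_of_disjoint W (P : Subgroup G) hWn hPn
            (disjoint_iff.2 (by rw [inf_comm]; exact hd)) w x hw hx
        rw [inf_of_le_left hle] at hd
        rw [hd, Subgroup.card_bot] at hP3
        omega
      · exact h
    refine iso_sym_of_action (MulAction.toPermHom G (Sylow 3 G)) ?_ hn3 (by rw [hG24]; rfl)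
    rw [← MonoidHom.ker_eq_bot_iff, eq_bot_iff]
    obtain ⟨L, hL⟩ : ∃ L, L = (MulAction.toPermHom G (Sylow 3 G)).ker := ⟨_, rfl⟩
    haveI hLn : L.Normal := hL ▸ inferInstance
    rw [← hL]
    have hd : L ⊓ W = ⊥ := by
      rw [eq_bot_iff]
      intro v ⟨hvL, hvW⟩
      rw [mem_bot]
      by_contra hv1
      -- then every involution of `W` would lie in the kernel
      obtain ⟨c, hc⟩ := isConj_iff.1 (hconjW v hvW hv1)
      have hzL : z ∈ L := isConj_mem_normal (hconjW v hvW hv1).symm hvL
      have hWL : W ≤ L := fun w hw => by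
        by_cases h1 : w = 1
        · rw [h1]; exact one_mem _
        · exact isConj_mem_normal (hconjW w hw h1) hzL
      have hLN : L ≤ normalizer ((P : Subgroup G) : Set G) := fun l hl => by
        rw [hL, MonoidHom.mem_ker] at hl
        exact (P.smul_eq_iff_mem_normalizer).1 (Equiv.ext_iff.1 hl P)
      have h4 := (Subgroup.card_dvd_of_le (hWL.trans hLN))
      rw [hW4] at h4
      have h6 := SmallSimple.card_sylow_mul P
      rw [hn3, hG24] at h6
      rw [show Nat.card (normalizer ((P : Subgroup G) : Set G)) = 6 by omega] at h4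
      norm_num at h4
    intro l hl
    rw [← hd]
    refine ⟨hl, hCW fun w hw => ?_⟩
    exact Subgroup.commute_of_normal_of_disjoint W L hWn hLn
      (disjoint_iff.2 (by rw [inf_comm]; exact hd)) w l hw hl

/-- The classification. -/
theorem main (T : Data z) :
    (centralizer ({z} : Set G) ⊔ oddCore G = ⊤) ∨ Nonempty (G ≃* Equiv.Perm (Fin 4)) ∨
      Nonempty (G ≃* Equiv.Perm (Fin 5)) ∨
      Nonempty (G ≃* Matrix.SpecialLinearGroup (Fin 3) (ZMod 2)) ∨
      Nonempty (G ≃* ↥(alternatingGroup (Fin 6))) := by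
  haveI : Fact (Nat.Prime 2) := ⟨Nat.prime_two⟩
  have hz := T.hz
  by_cases h0 : IsConj z (T.D.gs 0) <;> by_cases h1 : IsConj z (T.D.gs 1)
  · haveI := T.simple_of_one_class h0 h1
    have hcard := T.card_eq (by rw [← hz]; exact h0) (by rw [← hz]; exact h1)
    rcases iso_of_one_class hcard with h | h
    · exact Or.inr (Or.inr (Or.inr (Or.inl h)))
    · exact Or.inr (Or.inr (Or.inr (Or.inr h)))
  · rcases T.two_class (i := 0) (j := 1) (by norm_num) h0 h1 with h | h
    · exact Or.inr (Or.inl h)
    · exact Or.inr (Or.inr (Or.inl h))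
  · rcases T.two_class (i := 1) (j := 0) (by norm_num) h1 h0 with h | h
    · exact Or.inr (Or.inl h)
    · exact Or.inr (Or.inr (Or.inl h))
  · left
    obtain ⟨P, N, hN, hc⟩ := T.D.case_complement (by rw [← hz]; exact h0) (by rw [← hz]; exact h1)
    haveI := hN
    have hP8 : Nat.card P = 8 := by
      rw [P.card_eq_multiplicity, ← T.S.card_eq_multiplicity, T.card_S]
    have hNodd : Odd (Nat.card N) := by
      rw [Nat.odd_iff]
      by_contra hev
      obtain ⟨k, hk⟩ : 2 ∣ Nat.card N := by omega
      have h := P.not_dvd_index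
      have h2 : (P : Subgroup G).index = Nat.card N := hc.index_eq_card
      exact h (h2 ▸ ⟨k, hk⟩)
    have hsup : N ⊔ (T.S : Subgroup G) = ⊤ := by
      refine (isComplement'_of_coprime ?_ ?_).sup_eq_top
      · rw [T.card_S, ← hP8]; exact hc.card_mul_card
      · rw [T.card_S]; exact ((Nat.coprime_two_left.2 hNodd).pow_left 3).symm
    rw [eq_top_iff, ← hsup]
    exact sup_le (le_sup_of_le_right (Basics.le_pPrimeCore (Nat.coprime_two_right.2 hNodd)))
      (le_sup_of_le_left T.hS.le)

end Data

end Cfsg.Agent.DihEight
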