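import Mathlib
import Cfsg.Agent.Lib.FGS.AutAlt

/-! Double transpositions and frames of pairs. -/

set_option autoImplicit false

namespace Cfsg.Agent.LocalEvenB.DoubleTransp

open Equiv Equiv.Perm

variable {α : Type*} [Fintype α] [DecidableEq α]

/-- A product of two disjoint transpositions. -/
def IsDT (y : Perm α) : Prop :=
  ∃ a b c d : α, a ≠ b ∧ a ≠ c ∧ a ≠ d ∧ b ≠ c ∧ b ≠ d ∧ c ≠ d ∧ y = swap a b * swap c d

theorem dt_supp {a b c d : α} (hab : a ≠ b) (hac : a ≠ c) (had : a ≠ d) (hbc : b ≠ c) (hbd : b ≠ d)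
    (hcd : c ≠ d) : (swap a b * swap c d).support = {a, b, c, d} := by
  have hdis : Disjoint (swap a b) (swap c d) := by
    rw [disjoint_iff_disjoint_support, support_swap hab, support_swap hcd]
    simp [hac.symm, hbc.symm, had.symm, hbd.symm]
  rw [hdis.support_mul, support_swap hab, support_swap hcd]
  ext x
  simp only [Finset.mem_union, Finset.mem_insert, Finset.mem_singleton]
  tauto

theorem IsDT.card_support {y : Perm α} (hy : IsDT y) : y.support.card = 4 := by
  obtain ⟨a, b, c, d, hab, hac, had, hbc, hbd, hcd, rfl⟩ := hy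
  rw [dt_supp hab hac had hbc hbd hcd]
  simp [hab, hac, had, hbc, hbd, hcd]

theorem IsDT.mul_self {y : Perm α} (hy : IsDT y) : y * y = 1 := by
  obtain ⟨a, b, c, d, hab, hac, had, hbc, hbd, hcd, rfl⟩ := hy
  refine Perm.ext fun x => ?_
  by_cases h1 : x = a
  · simp [h1, swap_apply_def, hac, had, hbc, hbd, hab.symm]
  by_cases h2 : x = b
  · simp [h2, swap_apply_def, hac, had, hbc, hbd, hab.symm]
  by_cases h3 : x = c
  · simp [h3, swap_apply_def, hac.symm, had.symm, hbc.symm, hbd.symm, hcd.symm]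
  by_cases h4 : x = d
  · simp [h4, swap_apply_def, hac.symm, had.symm, hbc.symm, hbd.symm, hcd.symm]
  simp [swap_apply_def, h1, h2, h3, h4]

theorem IsDT.apply_apply {y : Perm α} (hy : IsDT y) (x : α) : y (y x) = x := by
  rw [← Perm.mul_apply, hy.mul_self, Perm.one_apply]

theorem IsDT.conj {y : Perm α} (hy : IsDT y) (g : Perm α) : IsDT (g * y * g⁻¹) := by
  obtain ⟨a, b, c, d, hab, hac, had, hbc, hbd, hcd, rfl⟩ := hy
  refine ⟨g a, g b, g c, g d, g.injective.ne hab, g.injective.ne hac, g.injective.ne had, g.injective.ne hbc,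
    g.injective.ne hbd, g.injective.ne hcd, ?_⟩
  rw [swap_apply_apply, swap_apply_apply]
  group

theorem IsDT.form {y : Perm α} (hy : IsDT y) {p : α} (hp : p ∈ y.support) :
    ∃ q c d : α, p ≠ q ∧ p ≠ c ∧ p ≠ d ∧ q ≠ c ∧ q ≠ d ∧ c ≠ d ∧ y = swap p q * swap c d := by
  obtain ⟨a, b, c, d, hab, hac, had, hbc, hbd, hcd, rfl⟩ := hy
  have comm : swap a b * swap c d = swap c d * swap a b :=
    (disjoint_iff_disjoint_support.2 (by
      rw [support_swap hab, support_swap hcd]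
      simp [hac.symm, hbc.symm, had.symm, hbd.symm]) : Disjoint (swap a b) (swap c d)).commute.eq
  rw [dt_supp hab hac had hbc hbd hcd] at hp
  simp only [Finset.mem_insert, Finset.mem_singleton] at hp
  rcases hp with h | h | h | h <;> rw [h]
  · exact ⟨b, c, d, hab, hac, had, hbc, hbd, hcd, rfl⟩
  · exact ⟨a, c, d, hab.symm, hbc, hbd, hac, had, hcd, by rw [swap_comm b a]⟩
  · exact ⟨d, a, b, hcd, hac.symm, hbc.symm, had.symm, hbd.symm, hab, comm⟩
  · exact ⟨c, a, b, hcd.symm, had.symm, hbd.symm, hac.symm, hbc.symm, hab, by rw [swap_comm d c]; exact comm⟩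

theorem three_of_meet_one {x y : Perm α} (hx : IsDT x) (hy : IsDT y) {p : α} (hpx : p ∈ x.support)
    (hpy : p ∈ y.support) (huniq : ∀ q ∈ x.support, q ∈ y.support → q = p) :
    ((x * y) * (x * y)).IsThreeCycle := by
  obtain ⟨b, c, d, hab, hac, had, hbc, hbd, hcd, rfl⟩ := hx.form hpx
  obtain ⟨e, f, g, hae, haf, hag, hef, heg, hfg, rfl⟩ := hy.form hpy
  rw [dt_supp hab hac had hbc hbd hcd, dt_supp hae haf hag hef heg hfg] at huniq
  have ne1 : ∀ u, u = b ∨ u = c ∨ u = d → ∀ v, v = e ∨ v = f ∨ v = g → u ≠ v := by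
    intro u hu v hv e'
    have h1 : u ≠ p := by rcases hu with h | h | h <;> rw [h] <;> first | exact hab.symm | exact hac.symm | exact had.symm
    refine h1 (huniq u (by simp; tauto) ?_)
    rw [e']; simp; tauto
  have hbe := ne1 b (.inl rfl) e (.inl rfl)
  have hbf := ne1 b (.inl rfl) f (.inr (.inl rfl))
  have hbg := ne1 b (.inl rfl) g (.inr (.inr rfl))
  have hce := ne1 c (.inr (.inl rfl)) e (.inl rfl)
  have hcf := ne1 c (.inr (.inl rfl)) f (.inr (.inl rfl))
  have hcg := ne1 c (.inr (.inl rfl)) g (.inr (.inr rfl))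
  have hde := ne1 d (.inr (.inr rfl)) e (.inl rfl)
  have hdf := ne1 d (.inr (.inr rfl)) f (.inr (.inl rfl))
  have hdg := ne1 d (.inr (.inr rfl)) g (.inr (.inr rfl))
  convert FGS.AutAlt.c3_three hab hae hbe using 1
  refine Perm.ext fun z => ?_
  by_cases h1 : z = p
  · simp [h1, FGS.AutAlt.c3, swap_apply_def, hab, hab.symm, hac, hac.symm, had, had.symm, hbc, hbc.symm, hbd, hbd.symm,
      hcd, hcd.symm, hae, hae.symm, haf, haf.symm, hag, hag.symm, hef, hef.symm, heg, heg.symm, hfg, hfg.symm,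
      hbe, hbe.symm, hbf, hbf.symm, hbg, hbg.symm, hce, hce.symm, hcf, hcf.symm, hcg, hcg.symm, hde, hde.symm,
      hdf, hdf.symm, hdg, hdg.symm]
  by_cases h2 : z = b
  · simp [h2, FGS.AutAlt.c3, swap_apply_def, hab, hab.symm, hac, hac.symm, had, had.symm, hbc, hbc.symm, hbd, hbd.symm,
      hcd, hcd.symm, hae, hae.symm, haf, haf.symm, hag, hag.symm, hef, hef.symm, heg, heg.symm, hfg, hfg.symm,
      hbe, hbe.symm, hbf, hbf.symm, hbg, hbg.symm, hce, hce.symm, hcf, hcf.symm, hcg, hcg.symm, hde, hde.symm,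
      hdf, hdf.symm, hdg, hdg.symm]
  by_cases h3 : z = e
  · simp [h3, FGS.AutAlt.c3, swap_apply_def, hab, hab.symm, hac, hac.symm, had, had.symm, hbc, hbc.symm, hbd, hbd.symm,
      hcd, hcd.symm, hae, hae.symm, haf, haf.symm, hag, hag.symm, hef, hef.symm, heg, heg.symm, hfg, hfg.symm,
      hbe, hbe.symm, hbf, hbf.symm, hbg, hbg.symm, hce, hce.symm, hcf, hcf.symm, hcg, hcg.symm, hde, hde.symm,
      hdf, hdf.symm, hdg, hdg.symm]
  by_cases h4 : z = c
  · simp [h4, FGS.AutAlt.c3, swap_apply_def, hac.symm, hbc.symm, hcd.symm, hce, hcf, hcg, hde, hdf, hdg, had.symm, hbd.symm]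
  by_cases h5 : z = d
  · simp [h5, FGS.AutAlt.c3, swap_apply_def, hac.symm, hbc.symm, hcd.symm, hce, hcf, hcg, hde, hdf, hdg, had.symm, hbd.symm]
  by_cases h6 : z = f
  · simp [h6, FGS.AutAlt.c3, swap_apply_def, haf.symm, hag.symm, hef.symm, heg.symm, hfg.symm, hbf.symm, hbg.symm,
      hcf.symm, hcg.symm, hdf.symm, hdg.symm]
  by_cases h7 : z = g
  · simp [h7, FGS.AutAlt.c3, swap_apply_def, haf.symm, hag.symm, hef.symm, heg.symm, hfg.symm, hbf.symm, hbg.symm,
      hcf.symm, hcg.symm, hdf.symm, hdg.symm]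
  simp [FGS.AutAlt.c3, swap_apply_def, h1, h2, h3, h4, h5, h6, h7]

/-- A frame: `s` is an involution with at least four two-point orbits `{a j, s (a j)}` and at most one fixed point. -/
structure Frame (α : Type*) [Fintype α] [DecidableEq α] where
  m : ℕ
  hm : 4 ≤ m
  s : Perm α
  a : Fin m → α
  inv : ∀ x, s (s x) = x
  ne : ∀ j, s (a j) ≠ a j
  inj : ∀ i j, a i = a j ∨ a i = s (a j) → i = j
  fixed : ∀ x, (∀ j, x ≠ a j ∧ x ≠ s (a j)) → s x = x
  single : ∀ x y, s x = x → s y = y → x = y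

namespace Frame

variable (F : Frame α)

theorem cover {x : α} (hx : F.s x ≠ x) : ∃ j, x = F.a j ∨ x = F.s (F.a j) := by
  by_contra h
  push Not at h
  exact hx (F.fixed x h)

/-- The product of two pair swaps. -/
def el (i j : Fin F.m) : Perm α := swap (F.a i) (F.s (F.a i)) * swap (F.a j) (F.s (F.a j))

theorem el_dist {i j : Fin F.m} (h : i ≠ j) : F.a i ≠ F.s (F.a i) ∧ F.a i ≠ F.a j ∧ F.a i ≠ F.s (F.a j) ∧
    F.s (F.a i) ≠ F.a j ∧ F.s (F.a i) ≠ F.s (F.a j) ∧ F.a j ≠ F.s (F.a j) :=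
  ⟨(F.ne i).symm, fun e => h (F.inj _ _ (.inl e)), fun e => h (F.inj _ _ (.inr e)),
    fun e => h.symm (F.inj _ _ (.inr e.symm)), fun e => h (F.inj _ _ (.inl (F.s.injective e))), (F.ne j).symm⟩

theorem el_dt {i j : Fin F.m} (h : i ≠ j) : IsDT (F.el i j) :=
  ⟨_, _, _, _, (F.el_dist h).1, (F.el_dist h).2.1, (F.el_dist h).2.2.1, (F.el_dist h).2.2.2.1, (F.el_dist h).2.2.2.2.1,
    (F.el_dist h).2.2.2.2.2, rfl⟩

theorem el_supp {i j : Fin F.m} (h : i ≠ j) :
    (F.el i j).support = {F.a i, F.s (F.a i), F.a j, F.s (F.a j)} := by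
  obtain ⟨h1, h2, h3, h4, h5, h6⟩ := F.el_dist h
  exact dt_supp h1 h2 h3 h4 h5 h6

theorem swap_comm' (i j : Fin F.m) :
    Commute (swap (F.a i) (F.s (F.a i))) (swap (F.a j) (F.s (F.a j))) := by
  rcases eq_or_ne i j with rfl | h
  · exact Commute.refl _
  · obtain ⟨h1, h2, h3, h4, h5, h6⟩ := F.el_dist h
    refine (disjoint_iff_disjoint_support.2 ?_ : Disjoint _ _).commute
    rw [support_swap h1, support_swap h6]
    simp [h2.symm, h3.symm, h4.symm, h5.symm]

theorem el_comm (i j k l : Fin F.m) : Commute (F.el i j) (F.el k l) :=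
  ((F.swap_comm' i k).mul_right (F.swap_comm' i l)).mul_left ((F.swap_comm' j k).mul_right (F.swap_comm' j l))

theorem el_apply {i j : Fin F.m} (h : i ≠ j) (x : α) :
    F.el i j x = if x = F.a i ∨ x = F.s (F.a i) ∨ x = F.a j ∨ x = F.s (F.a j) then F.s x else x := by
  obtain ⟨h1, h2, h3, h4, h5, h6⟩ := F.el_dist h
  split_ifs with hx
  · rcases hx with hx | hx | hx | hx <;> rw [hx]
    · simp [el, swap_apply_def, h2, h3]
    · simp [el, swap_apply_def, h1.symm, h4, h5, F.inv]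
    · simp [el, swap_apply_def, h3.symm, h5.symm]
    · simp [el, swap_apply_def, h6.symm, h2.symm, h4.symm, F.inv]
  · push Not at hx
    simp [el, swap_apply_def, hx.1, hx.2.1, hx.2.2.1, hx.2.2.2]

theorem el_conj {g : Perm α} (hg : Commute g F.s) {i j : Fin F.m} (h : i ≠ j) :
    ∃ i' j', i' ≠ j' ∧ g * F.el i j * g⁻¹ = F.el i' j' := by
  have gs : ∀ x, g (F.s x) = F.s (g x) := fun x => congrFun (congrArg DFunLike.coe hg.eq) x
  have key : ∀ k, ∃ k', swap (g (F.a k)) (g (F.s (F.a k))) = swap (F.a k') (F.s (F.a k')) ∧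
      (g (F.a k) = F.a k' ∨ g (F.a k) = F.s (F.a k')) := by
    intro k
    have hne : F.s (g (F.a k)) ≠ g (F.a k) := by rw [← gs]; exact g.injective.ne (F.ne k)
    obtain ⟨k', hk'⟩ := F.cover hne
    refine ⟨k', ?_, hk'⟩
    rw [gs]
    rcases hk' with e | e <;> rw [e]
    rw [F.inv, swap_comm]
  obtain ⟨i', hi, hi'⟩ := key i
  obtain ⟨j', hj, hj'⟩ := key j
  refine ⟨i', j', fun e => ?_, ?_⟩
  · subst e
    have : g (F.a i) = g (F.a j) ∨ g (F.a i) = g (F.s (F.a j)) := by
      rcases hi' with u | u <;> rcases hj' with v | v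
      · exact .inl (u.trans v.symm)
      · exact .inr (by rw [gs, v, F.inv, u])
      · exact .inr (by rw [gs, v, u])
      · exact .inl (u.trans v.symm)
    exact h (F.inj _ _ (this.imp (fun e => g.injective e) (fun e => g.injective e)))
  · rw [el, el, ← hi, ← hj, swap_apply_apply, swap_apply_apply]
    group

end Frame

end Cfsg.Agent.LocalEvenB.DoubleTransp
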