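import Mathlib
import Cfsg.Agent.Lib.Invol.ExtraspecialModel

/-! The real representation of the extraspecial group of plus type. -/

set_option autoImplicit false

namespace Cfsg.Agent.LocalEvenB.ExtExt

open Cfsg.Agent.Invol.ExtraspecialModel Cfsg.Agent.Invol.ExtraspecialModel.Tw

variable {k : ℕ}

/-- Half of the symplectic space. -/
abbrev Cd (k : ℕ) := Fin (k + 1) → ZMod 2

/-- The sign character. -/
def sg (c : ZMod 2) : ℝ := if c = 0 then 1 else -1

theorem zmod_two (c : ZMod 2) : c = 0 ∨ c = 1 := by revert c; decide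

@[simp] theorem sg_zero : sg 0 = 1 := if_pos rfl

@[simp] theorem sg_one : sg 1 = -1 := if_neg one_ne_zero

theorem sg_add (a b : ZMod 2) : sg (a + b) = sg a * sg b := by
  rcases zmod_two a with rfl | rfl <;> rcases zmod_two b with rfl | rfl <;>
    simp [show (1 : ZMod 2) + 1 = 0 from rfl]

theorem sg_eq_one {c : ZMod 2} (h : sg c = 1) : c = 0 := by
  rcases zmod_two c with rfl | rfl
  · rfl
  · rw [sg_one] at h; norm_num at h

theorem sg_mul_self (c : ZMod 2) : sg c * sg c = 1 := by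
  rcases zmod_two c with rfl | rfl <;> simp

/-- An additive functional is a dot product. -/
theorem exists_dot (f : Cd k →+ ZMod 2) : ∃ x : Cd k, ∀ b, f b = x ⬝ᵥ b := by
  refine ⟨fun i => f (Pi.single i 1), fun b => ?_⟩
  conv_lhs => rw [← Finset.univ_sum_single b]
  rw [map_sum, dotProduct]
  refine Finset.sum_congr rfl fun i _ => ?_
  rcases zmod_two (b i) with h | h <;> rw [h] <;> simp

/-- Character orthogonality. -/
theorem sum_sg {x : Cd k} (hx : x ≠ 0) : ∑ b : Cd k, sg (x ⬝ᵥ b) = 0 := by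
  obtain ⟨i, hi⟩ := Function.ne_iff.1 hx
  have hi1 : x i = 1 := (zmod_two _).resolve_left hi
  have h1 : ∀ b : Cd k, sg (x ⬝ᵥ (b + Pi.single i 1)) = -sg (x ⬝ᵥ b) := fun b => by
    rw [dotProduct_add, sg_add, dotProduct_single, mul_one, hi1, sg_one, mul_neg_one]
  have h : ∑ b : Cd k, sg (x ⬝ᵥ (b + Pi.single i 1)) = ∑ b : Cd k, sg (x ⬝ᵥ b) :=
    Fintype.sum_bijective (fun b : Cd k => b + Pi.single i 1) (AddGroup.addRight_bijective _) _ _ fun _ => rfl
  rw [Finset.sum_congr rfl (fun b _ => h1 b), Finset.sum_neg_distrib] at h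
  exact (fun (S : ℝ) (hS : -S = S) => show S = 0 by linarith) _ h

/-- The representation space. -/
abbrev Sp (k : ℕ) := Cd k → ℝ

/-- The operator attached to a triple. -/
def phiLin (g : Tw k 0) : Module.End ℝ (Sp k) where
  toFun f x := sg (g.c + x ⬝ᵥ g.b) * f (x + g.a)
  map_add' f f' := by funext x; simp only [Pi.add_apply]; ring
  map_smul' r f := by funext x; simp only [Pi.smul_apply, smul_eq_mul, RingHom.id_apply]; ring

theorem phiLin_apply (g : Tw k 0) (f : Sp k) (x : Cd k) :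
    phiLin g f x = sg (g.c + x ⬝ᵥ g.b) * f (x + g.a) := rfl

/-- The representation. -/
def phi : Tw k 0 →* Module.End ℝ (Sp k) where
  toFun := phiLin
  map_one' := by
    apply LinearMap.ext; intro f; funext x
    simp [phiLin_apply]
  map_mul' g h := by
    apply LinearMap.ext; intro f; funext x
    rw [Module.End.mul_apply, phiLin_apply, phiLin_apply, phiLin_apply]
    simp only [Tw.mul_a, Tw.mul_b, Tw.mul_c, zero_mul, add_zero, dotProduct_add, add_dotProduct, sg_add, add_assoc]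
    ring

theorem phi_apply (g : Tw k 0) (f : Sp k) (x : Cd k) :
    phi g f x = sg (g.c + x ⬝ᵥ g.b) * f (x + g.a) := rfl

theorem phi_zz : phi (zz : Tw k 0) = -1 := by
  apply LinearMap.ext; intro f; funext x
  simp [phi_apply, zz]

/-- The projection to the symplectic space. -/
def proj : Tw k 0 →* Multiplicative (Cd k × Cd k) where
  toFun g := Multiplicative.ofAdd (g.a, g.b)
  map_one' := rfl
  map_mul' _ _ := rfl

/-- The quadratic form of plus type. -/
def Qf (u : Cd k × Cd k) : ZMod 2 := u.1 ⬝ᵥ u.2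

theorem sq_c (g : Tw k 0) : (g * g) = ⟨0, 0, g.a ⬝ᵥ g.b⟩ := by
  refine Tw.ext (char_two_fun _) (char_two_fun _) ?_
  simp [CharTwo.add_self_eq_zero]

theorem mul_self_iff (g : Tw k 0) : g * g = 1 ↔ Qf (g.a, g.b) = 0 := by
  rw [sq_c, Tw.ext_iff]
  simp [Qf]

theorem phi_injective : Function.Injective (phi : Tw k 0 → Module.End ℝ (Sp k)) := by
  intro g h hgh
  have key : ∀ g : Tw k 0, phi g = 1 → g = 1 := by
    intro g hg
    have h1 : ∀ (f : Sp k) (x : Cd k), sg (g.c + x ⬝ᵥ g.b) * f (x + g.a) = f x := fun f x => by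
      rw [← phi_apply, hg]; rfl
    have ha : g.a = 0 := by
      by_contra hne
      have h2 := h1 (Pi.single 0 1) 0
      rw [zero_add, Pi.single_eq_same, Pi.single_eq_of_ne hne, mul_zero] at h2
      exact zero_ne_one h2
    have h3 : ∀ x : Cd k, g.c + x ⬝ᵥ g.b = 0 := fun x => by
      have h2 := h1 (fun _ => 1) x
      rw [mul_one] at h2
      exact sg_eq_one h2
    have hc : g.c = 0 := by simpa using h3 0
    have hb : g.b = 0 := by
      funext i
      have h4 := h3 (Pi.single i 1)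
      rwa [hc, zero_add, single_dotProduct, one_mul] at h4
    exact Tw.ext ha hb hc
  have h2 := key (g * h⁻¹) (by rw [map_mul, hgh, ← map_mul, mul_inv_cancel, map_one])
  exact mul_inv_eq_one.1 h2

/-- Commutation up to sign. -/
theorem mul_comm_zz (g h : Tw k 0) :
    g * h = h * g * ⟨0, 0, g.a ⬝ᵥ h.b + h.a ⬝ᵥ g.b⟩ := by
  refine Tw.ext ?_ ?_ ?_
  · simp [add_comm]
  · simp [add_comm]
  · simp only [Tw.mul_c, zero_mul, add_zero, dotProduct_zero, Tw.mul_a]
    have : h.a ⬝ᵥ g.b + h.a ⬝ᵥ g.b = 0 := CharTwo.add_self_eq_zero _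
    linear_combination -this

theorem trace_phi (g : Tw k 0) (hg : (g.a, g.b) ≠ 0) :
    LinearMap.trace ℝ (Sp k) (phi g) = 0 := by
  have hh : ∃ h : Tw k 0, h * g = g * h * zz := by
    rcases eq_or_ne g.a 0 with ha | ha
    · have hb : g.b ≠ 0 := fun hb => hg (by rw [ha, hb]; rfl)
      obtain ⟨i, hi⟩ := Function.ne_iff.1 hb
      refine ⟨⟨Pi.single i 1, 0, 0⟩, ?_⟩
      rw [mul_comm_zz ⟨Pi.single i 1, 0, 0⟩ g]
      simp [ha, single_dotProduct, (zmod_two _).resolve_left hi, zz]
    · obtain ⟨i, hi⟩ := Function.ne_iff.1 ha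
      refine ⟨⟨0, Pi.single i 1, 0⟩, ?_⟩
      rw [mul_comm_zz ⟨0, Pi.single i 1, 0⟩ g]
      simp [dotProduct_single, (zmod_two _).resolve_left hi, zz]
  obtain ⟨h, hh⟩ := hh
  have h1 : phi (h * g * h⁻¹) = -phi g := by
    rw [hh, show g * h * zz * h⁻¹ = g * (h * zz * h⁻¹) by group,
      show h * zz * h⁻¹ = (zz : Tw k 0) from ?_, map_mul, phi_zz]
    · apply LinearMap.ext; intro f
      simp [Module.End.mul_apply]
    rw [mul_inv_eq_iff_eq_mul]
    exact Tw.ext (by simp [zz]) (by simp [zz]) (by simp [zz, add_comm])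
  have h2 : LinearMap.trace ℝ (Sp k) (phi (h * g * h⁻¹)) = LinearMap.trace ℝ (Sp k) (phi g) := by
    rw [map_mul phi, LinearMap.trace_mul_comm, ← map_mul phi, ← mul_assoc, inv_mul_cancel, one_mul]
  rw [h1, map_neg] at h2
  linarith

end Cfsg.Agent.LocalEvenB.ExtExt
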