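import Mathlib

/-! Hyperbolic coordinates for a quadratic form of plus type over the field with two elements. -/

set_option autoImplicit false

namespace Cfsg.Agent.LocalEvenB.ExtExt

theorem exists_coord {U : Type*} [AddCommGroup U] [Module (ZMod 2) U] [Module.Finite (ZMod 2) U] (n : ℕ)
    (hn : Module.finrank (ZMod 2) U = 2 * n) (q : QuadraticForm (ZMod 2) U)
    (hnd : (QuadraticMap.polarBilin q).Nondegenerate) (W : Submodule (ZMod 2) U)
    (hW : Module.finrank (ZMod 2) ↥W = n) (hq : ∀ w ∈ W, q w = 0) :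
    ∃ e : ((Fin n → ZMod 2) × (Fin n → ZMod 2)) ≃ₗ[ZMod 2] U, ∀ x, q (e x) = x.1 ⬝ᵥ x.2 := by
  let b := Module.finBasisOfFinrankEq (ZMod 2) ↥W hW
  let w : Fin n → U := fun i => (b i : U)
  set B := QuadraticMap.polarBilin q with hB
  have hsymm : ∀ x y, B x y = B y x := fun x y => QuadraticMap.polar_comm (⇑q) x y
  have hadd : ∀ x y, q (x + y) = q x + q y + B x y := fun x y => QuadraticMap.map_add q x y
  have hself : ∀ x, B x x = 0 := fun x => by
    show QuadraticMap.polar q x x = 0
    rw [QuadraticMap.polar_self, two_smul]; exact CharTwo.add_self_eq_zero _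
  have hWB : ∀ x ∈ W, ∀ y ∈ W, B x y = 0 := fun x hx y hy => by
    have := hadd x y
    rw [hq _ (W.add_mem hx hy), hq _ hx, hq _ hy] at this
    simpa using this.symm
  have hdual : Function.Bijective B := by
    refine ⟨fun x y h => sub_eq_zero.1 (hnd.1 (x - y) fun z => ?_), ?_⟩
    · rw [map_sub, h, sub_self, LinearMap.zero_apply]
    · refine (LinearMap.injective_iff_surjective_of_finrank_eq_finrank (by rw [Subspace.dual_finrank_eq])).1 ?_
      exact fun x y h => sub_eq_zero.1 (hnd.1 (x - y) fun z => by rw [map_sub, h, sub_self, LinearMap.zero_apply])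
  have hf : ∀ i, ∃ f : U, ∀ j, B f (w j) = if i = j then 1 else 0 := fun i => by
    obtain ⟨φ, hφ⟩ := LinearMap.exists_extend (b.coord i)
    obtain ⟨f, hf⟩ := hdual.2 φ
    refine ⟨f, fun j => ?_⟩
    have := LinearMap.congr_fun hφ (b j)
    rw [LinearMap.comp_apply, Submodule.subtype_apply] at this
    rw [hf]
    show φ (b j : U) = _
    rw [this, Module.Basis.coord_apply, b.repr_self, Finsupp.single_apply]
    simp only [eq_comm]
  choose f hf using hf
  let c : Fin n → Fin n → ZMod 2 := fun i j => if i = j then q (f i) else if i < j then B (f i) (f j) else 0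
  let f' : Fin n → U := fun i => f i + ∑ j, c i j • w j
  have hwW : ∀ j, w j ∈ W := fun j => (b j).2
  have hcW : ∀ i, (∑ j, c i j • w j) ∈ W := fun i =>
    Submodule.sum_mem _ fun j _ => W.smul_mem _ (hwW j)
  have hfc : ∀ i l, B (f i) (∑ j, c l j • w j) = c l i := fun i l => by
    simp [map_sum, hf]
  have hf'w : ∀ i j, B (f' i) (w j) = if i = j then 1 else 0 := fun i j => by
    rw [map_add, LinearMap.add_apply, hf, hWB _ (hcW i) _ (hwW j), add_zero]
  have hf'q : ∀ i, q (f' i) = 0 := fun i => by
    rw [hadd, hq _ (hcW i), add_zero, hfc]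
    simp only [c, if_pos rfl]
    exact CharTwo.add_self_eq_zero _
  have hf'f : ∀ i j, B (f' i) (f' j) = 0 := fun i j => by
    rcases eq_or_ne i j with rfl | hij
    · exact hself _
    · simp only [f', map_add, LinearMap.add_apply]
      rw [hsymm (∑ l, c i l • w l) (f j), hfc, hfc, hWB _ (hcW i) _ (hcW j)]
      simp only [c, if_neg hij, if_neg hij.symm, add_zero]
      rcases lt_or_gt_of_ne hij with h | h
      · rw [if_pos h, if_neg h.not_gt]; simp [CharTwo.add_self_eq_zero]
      · rw [if_neg h.not_gt, if_pos h, hsymm (f j)]; simp [CharTwo.add_self_eq_zero]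
  let L : ((Fin n → ZMod 2) × (Fin n → ZMod 2)) →ₗ[ZMod 2] U :=
    (Fintype.linearCombination (ZMod 2) w).coprod (Fintype.linearCombination (ZMod 2) f')
  have hL : ∀ x, L x = (∑ i, x.1 i • w i) + ∑ i, x.2 i • f' i := fun x => rfl
  have hqf : ∀ (s : Finset (Fin n)) (y : Fin n → ZMod 2), q (∑ i ∈ s, y i • f' i) = 0 := by
    intro s y
    induction s using Finset.induction_on with
    | empty => simp
    | insert a t ha ih =>
      rw [Finset.sum_insert ha, hadd, ih, QuadraticMap.map_smul, hf'q]
      simp [map_sum, hf'f]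
  have hqL : ∀ x, q (L x) = x.1 ⬝ᵥ x.2 := fun x => by
    rw [hL, hadd, hq _ (Submodule.sum_mem _ fun j _ => W.smul_mem _ (hwW j)), hqf, zero_add, zero_add,
      map_sum]
    simp only [map_smul, smul_eq_mul, dotProduct]
    refine Finset.sum_congr rfl fun i _ => ?_
    rw [map_sum, LinearMap.sum_apply]
    simp [hsymm (w _) (f' i), hf'w, mul_comm]
  have hinj : Function.Injective L := by
    rw [injective_iff_map_eq_zero]
    intro x hx
    have hWB' : ∀ i j, B (w i) (w j) = 0 := fun i j => hWB _ (hwW i) _ (hwW j)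
    refine Prod.ext (funext fun j => ?_) (funext fun j => ?_)
    · have h := congrArg (fun u => B u (f' j)) hx
      simpa [hL, map_sum, hf'f, hsymm (w _) (f' j), hf'w] using h
    · have h := congrArg (fun u => B u (w j)) hx
      simpa [hL, map_sum, hWB', hf'w] using h
  have hdim : Module.finrank (ZMod 2) ((Fin n → ZMod 2) × (Fin n → ZMod 2)) = Module.finrank (ZMod 2) U := by
    rw [Module.finrank_prod, Module.finrank_fin_fun, hn]; ring
  exact ⟨LinearEquiv.ofBijective L ⟨hinj, (LinearMap.injective_iff_surjective_of_finrank_eq_finrank hdim).1 hinj⟩,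
    hqL⟩

end Cfsg.Agent.LocalEvenB.ExtExt
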