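import Cfsg.Agent.Lib.LocalEvenB.ExtExtBase

/-! Realising a group of isometries on an extraspecial group of plus type. -/

set_option autoImplicit false

namespace Cfsg.Agent.LocalEvenB.ExtExt

open Cfsg.Agent.Invol.ExtraspecialModel Cfsg.Agent.Invol.ExtraspecialModel.Tw

variable {k : ℕ}

/-- The symplectic space. -/
abbrev Co (k : ℕ) := Cd k × Cd k

/-- The coordinates of a triple. -/
def pr (g : Tw k 0) : Co k := (g.a, g.b)

theorem pr_mul (g h : Tw k 0) : pr (g * h) = pr g + pr h := rfl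

/-- The central element with the given value. -/
def Zc (t : ZMod 2) : Tw k 0 := ⟨0, 0, t⟩

@[simp] theorem Zc_a (t : ZMod 2) : (Zc t : Tw k 0).a = 0 := rfl
@[simp] theorem Zc_b (t : ZMod 2) : (Zc t : Tw k 0).b = 0 := rfl
@[simp] theorem Zc_c (t : ZMod 2) : (Zc t : Tw k 0).c = t := rfl

theorem Zc_mul (t u : ZMod 2) : (Zc t : Tw k 0) * Zc u = Zc (t + u) :=
  Tw.ext (by simp) (by simp) (by simp)

theorem Zc_comm (t : ZMod 2) (g : Tw k 0) : Zc t * g = g * Zc t :=
  Tw.ext (by simp) (by simp) (by simp [add_comm])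

theorem eq_mul_Zc {g h : Tw k 0} (hp : pr g = pr h) : h = g * Zc (h.c + g.c) := by
  have ha : g.a = h.a := (Prod.ext_iff.1 hp).1
  have hb : g.b = h.b := (Prod.ext_iff.1 hp).2
  refine Tw.ext (by simp [ha]) (by simp [hb]) ?_
  simp only [Tw.mul_c, Zc_c, Zc_b, dotProduct_zero, zero_mul, add_zero]
  rw [add_comm h.c, ← add_assoc, CharTwo.add_self_eq_zero, zero_add]

theorem phi_Zc (t : ZMod 2) (f : Sp k) : phi (Zc t : Tw k 0) f = sg t • f := by
  funext x
  simp [phi_apply]

/-- A cyclic factor of a lift. -/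
def liftGen (w : Co k) (hw : Qf w = 0) : Multiplicative (ZMod 2) →* Tw k 0 where
  toFun y := if Multiplicative.toAdd y = 0 then 1 else ⟨w.1, w.2, 0⟩
  map_one' := if_pos rfl
  map_mul' y z := by
    have hsq : (⟨w.1, w.2, 0⟩ : Tw k 0) * ⟨w.1, w.2, 0⟩ = 1 := (mul_self_iff _).2 hw
    rcases zmod_two (Multiplicative.toAdd y) with hy | hy <;>
      rcases zmod_two (Multiplicative.toAdd z) with hz | hz <;>
      simp [toAdd_mul, hy, hz, show (1 : ZMod 2) + 1 = 0 from rfl, hsq]

theorem dot_polar {g : Co k → Co k} (hadd : ∀ u v, g (u + v) = g u + g v)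
    (hQ : ∀ u, Qf (g u) = Qf u) (u v : Co k) :
    (g u).1 ⬝ᵥ (g v).2 + (g v).1 ⬝ᵥ (g u).2 = u.1 ⬝ᵥ v.2 + v.1 ⬝ᵥ u.2 := by
  have h := hQ (u + v)
  have hu := hQ u
  have hv := hQ v
  rw [hadd] at h
  simp only [Qf, Prod.fst_add, Prod.snd_add, add_dotProduct, dotProduct_add] at h hu hv
  linear_combination h - hu - hv

/-- Lifting a totally singular embedding. -/
theorem exists_lift {e : Cd k → Co k} (hadd : ∀ x y, e (x + y) = e x + e y) (hQ : ∀ x, Qf (e x) = 0) :
    ∃ α : Cd k → Tw k 0, (∀ x y, α (x + y) = α x * α y) ∧ ∀ x, pr (α x) = e x := by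
  have he0 : e 0 = 0 := by simpa using hadd 0 0
  have horth : ∀ x y, (e x).1 ⬝ᵥ (e y).2 + (e y).1 ⬝ᵥ (e x).2 = 0 := fun x y => by
    have h := hQ (x + y)
    have hu := hQ x
    have hv := hQ y
    rw [hadd] at h
    simp only [Qf, Prod.fst_add, Prod.snd_add, add_dotProduct, dotProduct_add] at h hu hv
    linear_combination h - hu - hv
  let ϕ : ∀ _ : Fin (k + 1), Multiplicative (ZMod 2) →* Tw k 0 := fun i => liftGen (e (Pi.single i 1)) (hQ _)
  have hcomm : Pairwise fun i j => ∀ x y, Commute (ϕ i x) (ϕ j y) := fun i j _ x y => by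
    simp only [ϕ, liftGen, MonoidHom.coe_mk, OneHom.coe_mk]
    split_ifs <;> try exact Commute.one_left _
    · exact Commute.one_right _
    · show _ * _ = _ * _
      rw [mul_comm_zz]
      simp only
      rw [horth]
      exact Tw.ext (by simp) (by simp) (by simp)
  let A := MonoidHom.noncommPiCoprod ϕ hcomm
  refine ⟨fun x => A fun i => Multiplicative.ofAdd (x i), fun x y => ?_, fun x => ?_⟩
  · rw [← map_mul]; rfl
  · let P : Cd k →+ Co k :=
      { toFun := fun x => pr (A fun i => Multiplicative.ofAdd (x i))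
        map_zero' := by
          show pr (A 1) = 0
          rw [map_one]; rfl
        map_add' := fun x y => by
          rw [← pr_mul, ← map_mul]; rfl }
    let E : Cd k →+ Co k := { toFun := e, map_zero' := he0, map_add' := hadd }
    show P x = E x
    have hPE : P = E := by
      refine AddMonoidHom.functions_ext _ _ _ (fun i t => ?_)
      show pr (A fun j => Multiplicative.ofAdd ((Pi.single i t : Cd k) j)) = e (Pi.single i t)
      rw [show (fun j => Multiplicative.ofAdd ((Pi.single i t : Cd k) j)) = Pi.mulSingle i (Multiplicative.ofAdd t)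
        from funext fun j => by by_cases hji : j = i <;> simp [hji]]
      rw [MonoidHom.noncommPiCoprod_mulSingle]
      rcases zmod_two t with rfl | rfl
      · simp [ϕ, liftGen, pr, he0]
      · simp [ϕ, liftGen, pr]
    rw [hPE]

/-- Every isometry is induced by an operator of determinant `±1`. -/
theorem exists_op {g : Co k → Co k} (hadd : ∀ u v, g (u + v) = g u + g v) (hinj : Function.Injective g)
    (hQ : ∀ u, Qf (g u) = Qf u) :
    ∃ T : (Module.End ℝ (Sp k))ˣ, |LinearMap.det (T : Module.End ℝ (Sp k))| = 1 ∧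
      ∀ x : Tw k 0, ∃ h, (T : Module.End ℝ (Sp k)) * phi x = phi h * (T : Module.End ℝ (Sp k)) ∧ pr h = g (pr x) := by
  have hg0 : g 0 = 0 := by simpa using hadd 0 0
  obtain ⟨α, hα, hpα⟩ := exists_lift (e := fun x => g (x, 0))
    (fun x y => by rw [← hadd]; simp) (fun x => by rw [hQ]; simp [Qf])
  obtain ⟨β, hβ, hpβ⟩ := exists_lift (e := fun x => g (0, x))
    (fun x y => by rw [← hadd]; simp) (fun x => by rw [hQ]; simp [Qf])
  have hβ0 : β 0 = 1 := by
    have h := hβ 0 0
    rw [add_zero] at h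
    exact left_eq_mul.1 h
  have hcomm : ∀ y b, β b * α y = α y * β b * Zc (y ⬝ᵥ b) := fun y b => by
    rw [mul_comm_zz (β b) (α y)]
    congr 1
    refine Tw.ext rfl rfl ?_
    have h := dot_polar hadd hQ (0, b) (y, 0)
    rw [← hpα y, ← hpβ b] at h
    simpa [pr, Zc] using h
  obtain ⟨v0, hv0, hfix⟩ : ∃ v0 : Sp k, v0 ≠ 0 ∧ ∀ b, phi (β b) v0 = v0 := by
    let P : Module.End ℝ (Sp k) := ∑ b : Cd k, phi (β b)
    have htr : LinearMap.trace ℝ (Sp k) P ≠ 0 := by
      rw [map_sum, Finset.sum_eq_single (0 : Cd k)]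
      · rw [hβ0, map_one, LinearMap.trace_one, Module.finrank_fintype_fun_eq_card]
        exact Nat.cast_ne_zero.2 Fintype.card_ne_zero
      · intro b _ hb
        refine trace_phi _ fun h => hb ?_
        have h2 : g (0, b) = g 0 := by rw [← hpβ b, hg0]; exact h
        exact (Prod.ext_iff.1 (hinj h2)).2
      · exact fun h => absurd (Finset.mem_univ _) h
    obtain ⟨w, hw⟩ : ∃ w, P w ≠ 0 := by
      by_contra hall
      push Not at hall
      exact htr (by rw [show P = 0 from LinearMap.ext hall, map_zero])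
    refine ⟨P w, hw, fun b => ?_⟩
    have hP : phi (β b) * P = P := by
      rw [Finset.mul_sum]
      refine Fintype.sum_bijective (fun c : Cd k => b + c) (AddGroup.addLeft_bijective _) _ _ fun c => ?_
      rw [← map_mul, hβ]
    exact LinearMap.congr_fun hP w
  let T : Module.End ℝ (Sp k) :=
    { toFun := fun f => ∑ y : Cd k, f y • phi (α y) v0
      map_add' := fun f f' => by simp [add_smul, Finset.sum_add_distrib]
      map_smul' := fun r f => by simp [mul_smul, Finset.smul_sum] }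
  have hTapp : ∀ f, T f = ∑ y : Cd k, f y • phi (α y) v0 := fun f => rfl
  let θ : Tw k 0 → Tw k 0 := fun x => α x.a * β x.b * Zc (x.c + x.a ⬝ᵥ x.b)
  have hθ : ∀ x, T * phi x = phi (θ x) * T := by
    intro x
    apply LinearMap.ext; intro f
    rw [Module.End.mul_apply, Module.End.mul_apply, hTapp, hTapp, map_sum]
    refine Fintype.sum_bijective (fun y : Cd k => y + x.a) (AddGroup.addRight_bijective _) _ _ fun y => ?_
    rw [map_smul, phi_apply]
    have e1 : θ x * α (y + x.a) = α y * β x.b * Zc (x.c + y ⬝ᵥ x.b) := by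
      show α x.a * β x.b * Zc (x.c + x.a ⬝ᵥ x.b) * α (y + x.a) = _
      rw [mul_assoc, Zc_comm, ← mul_assoc, mul_assoc (α x.a), hcomm, ← mul_assoc, ← mul_assoc,
        ← hα, mul_assoc _ (Zc _) (Zc _), Zc_mul]
      have e2 : x.a + (y + x.a) = y := by
        rw [add_comm y, ← add_assoc, char_two_fun, zero_add]
      rw [e2]
      congr 2
      have := CharTwo.add_self_eq_zero (x.a ⬝ᵥ x.b)
      rw [add_dotProduct]
      linear_combination this
    rw [← Module.End.mul_apply, ← map_mul, e1, map_mul, map_mul, Module.End.mul_apply, Module.End.mul_apply,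
      phi_Zc, map_smul, hfix, map_smul, smul_smul, mul_comm]
  have heig : ∀ b y, phi (β b) (phi (α y) v0) = sg (y ⬝ᵥ b) • phi (α y) v0 := fun b y => by
    rw [← Module.End.mul_apply, ← map_mul, hcomm, map_mul, map_mul, Module.End.mul_apply, Module.End.mul_apply,
      phi_Zc, map_smul, hfix, map_smul]
  have hTinj : Function.Injective T := by
    rw [injective_iff_map_eq_zero]
    intro f hf
    funext y0
    have h1 : ∀ b : Cd k, ∑ y : Cd k, (sg (y0 ⬝ᵥ b) * sg (y ⬝ᵥ b)) • (f y • phi (α y) v0) = 0 := fun b => by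
      have h2 := congrArg (fun v => sg (y0 ⬝ᵥ b) • phi (β b) v) hf
      simp only [map_zero, smul_zero] at h2
      rw [hTapp, map_sum, Finset.smul_sum] at h2
      rw [← h2]
      refine Finset.sum_congr rfl fun y _ => ?_
      rw [map_smul, heig, smul_comm (f y), mul_smul]
    have h3 : ∑ b : Cd k, ∑ y : Cd k, (sg (y0 ⬝ᵥ b) * sg (y ⬝ᵥ b)) • (f y • phi (α y) v0) = 0 :=
      Finset.sum_eq_zero fun b _ => h1 b
    rw [Finset.sum_comm] at h3
    simp only [← Finset.sum_smul, ← sg_add, ← add_dotProduct] at h3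
    rw [Finset.sum_eq_single y0 (fun y _ hy => by
      rw [sum_sg, zero_smul]
      intro h
      refine hy ?_
      have : y0 + y + y = y := by rw [h, zero_add]
      rw [add_assoc, char_two_fun, add_zero] at this
      exact this.symm) (fun h => absurd (Finset.mem_univ _) h)] at h3
    simp only [char_two_fun, zero_dotProduct, sg_zero, Finset.sum_const, Finset.card_univ, nsmul_eq_mul, mul_one] at h3
    have hne : phi (α y0) v0 ≠ 0 := fun h => hv0 (by
      have h4 := congrArg (phi (α y0)⁻¹) h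
      rwa [← Module.End.mul_apply, ← map_mul, inv_mul_cancel, map_one, map_zero] at h4)
    rcases smul_eq_zero.1 h3 with h4 | h4
    · exact absurd h4 (Nat.cast_ne_zero.2 Fintype.card_ne_zero)
    · exact (smul_eq_zero.1 h4).resolve_right hne
  obtain ⟨U, hU⟩ : IsUnit T :=
    (Module.End.isUnit_iff T).2 ⟨hTinj, LinearMap.injective_iff_surjective.1 hTinj⟩
  have hdet : LinearMap.det T ≠ 0 := by
    rw [← hU]; exact (U.isUnit.map LinearMap.det).ne_zero
  set N := Module.finrank ℝ (Sp k) with hN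
  have hN0 : N ≠ 0 := by
    rw [hN, Module.finrank_fintype_fun_eq_card]; exact Fintype.card_ne_zero
  set c : ℝ := (|LinearMap.det T|⁻¹) ^ (N⁻¹ : ℝ) with hcdef
  have hc : c ^ N = |LinearMap.det T|⁻¹ := Real.rpow_inv_natCast_pow (by positivity) hN0
  have hc0 : c ≠ 0 := fun h => by
    rw [h, zero_pow hN0] at hc
    exact hdet (abs_eq_zero.1 (inv_eq_zero.1 hc.symm))
  have hu : IsUnit (c • T) := by
    rw [← hU, ← Units.smul_mk0 hc0]
    exact (U.isUnit).smul _
  refine ⟨hu.unit, ?_, fun x => ⟨θ x, ?_, ?_⟩⟩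
  · rw [IsUnit.unit_spec, LinearMap.det_smul, ← hN, abs_mul, hc, abs_inv, abs_abs]
    exact inv_mul_cancel₀ (abs_ne_zero.2 hdet)
  · rw [IsUnit.unit_spec, smul_mul_assoc, mul_smul_comm, hθ]
  · show pr (α x.a * β x.b * Zc _) = _
    rw [pr_mul, pr_mul, hpα, hpβ, ← hadd]
    simp [pr]

/-- Operators inducing the trivial isometry come from the extraspecial group. -/
theorem op_trivial (T : (Module.End ℝ (Sp k))ˣ) (hdet : |LinearMap.det (T : Module.End ℝ (Sp k))| = 1)
    (hT : ∀ x : Tw k 0, ∃ h, (T : Module.End ℝ (Sp k)) * phi x = phi h * (T : Module.End ℝ (Sp k)) ∧ pr h = pr x) :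
    ∃ x : Tw k 0, (T : Module.End ℝ (Sp k)) = phi x := by
  have hs : ∀ x : Tw k 0, ∃ t, (T : Module.End ℝ (Sp k)) * phi x = phi (x * Zc t) * (T : Module.End ℝ (Sp k)) := fun x => by
    obtain ⟨h, h1, h2⟩ := hT x
    exact ⟨_, by rw [← eq_mul_Zc h2.symm]; exact h1⟩
  choose s hs using hs
  have suniq : ∀ x t, (T : Module.End ℝ (Sp k)) * phi x = phi (x * Zc t) * (T : Module.End ℝ (Sp k)) → s x = t := fun x t h => by
    have h2 := phi_injective (T.isUnit.mul_left_injective ((hs x).symm.trans h))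
    have h3 := congrArg Tw.c (mul_left_cancel h2)
    simpa using h3
  have smul : ∀ x y, s (x * y) = s x + s y := fun x y => suniq _ _ (by
    rw [map_mul, ← mul_assoc, hs, mul_assoc, hs, ← mul_assoc, ← map_mul]
    congr 2
    rw [← Zc_mul, mul_assoc x, ← mul_assoc (Zc _), Zc_comm, mul_assoc y, ← mul_assoc x])
  obtain ⟨xa, hxa⟩ := exists_dot (AddMonoidHom.mk' (fun a : Cd k => s ⟨a, 0, 0⟩) fun a a' => by
    rw [← smul]; exact congrArg s (Tw.ext (by simp) (by simp) (by simp)))
  obtain ⟨xb, hxb⟩ := exists_dot (AddMonoidHom.mk' (fun b : Cd k => s ⟨0, b, 0⟩) fun b b' => by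
    rw [← smul]; exact congrArg s (Tw.ext (by simp) (by simp) (by simp)))
  simp only [AddMonoidHom.mk'_apply] at hxa hxb
  let g0 : Tw k 0 := ⟨xb, xa, 0⟩
  obtain ⟨T', hT'def⟩ : ∃ T' : Module.End ℝ (Sp k), T' = phi g0⁻¹ * (T : Module.End ℝ (Sp k)) := ⟨_, rfl⟩
  have hcom : ∀ x : Tw k 0, s x = g0.a ⬝ᵥ x.b + x.a ⬝ᵥ g0.b → T' * phi x = phi x * T' := fun x hx => by
    rw [hT'def]
    rw [mul_assoc, hs, ← mul_assoc, ← mul_assoc, ← map_mul, ← map_mul]
    congr 2
    rw [inv_mul_eq_iff_eq_mul, ← mul_assoc, mul_comm_zz g0 x, ← hx]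
    show x * Zc (s x) = x * g0 * Zc (s x) * g0⁻¹
    rw [mul_assoc (x * g0), Zc_comm, ← mul_assoc, mul_inv_cancel_right]
  have hcA : ∀ a, T' * phi ⟨a, 0, 0⟩ = phi ⟨a, 0, 0⟩ * T' := fun a => hcom _ (by
    rw [hxa]; simp [g0, dotProduct_comm])
  have hcB : ∀ b, T' * phi ⟨0, b, 0⟩ = phi ⟨0, b, 0⟩ * T' := fun b => hcom _ (by
    rw [hxb]; simp [g0])
  set d : Sp k := Pi.single 0 1 with hd
  have hdB : ∀ b, phi (⟨0, b, 0⟩ : Tw k 0) d = d := fun b => by
    funext x
    rw [phi_apply, add_zero]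
    rcases eq_or_ne x 0 with rfl | hx
    · simp
    · rw [hd, Pi.single_eq_of_ne hx, mul_zero]
  set v := T' d with hv
  have hv0 : v = v 0 • d := by
    funext x
    rcases eq_or_ne x 0 with rfl | hx
    · simp [hd]
    · rw [Pi.smul_apply, hd, Pi.single_eq_of_ne hx, smul_zero]
      obtain ⟨i, hi⟩ := Function.ne_iff.1 hx
      have h1 := congrFun (LinearMap.congr_fun (hcB (Pi.single i 1)) d) x
      rw [Module.End.mul_apply, Module.End.mul_apply, hdB, ← hv, phi_apply ⟨0, Pi.single i 1, 0⟩, add_zero, zero_add,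
        dotProduct_single, mul_one, (zmod_two _).resolve_left hi, sg_one] at h1
      linarith
  have hT' : T' = v 0 • 1 := by
    refine (Pi.basisFun ℝ (Cd k)).ext fun a => ?_
    have e : Pi.basisFun ℝ (Cd k) a = phi (⟨a, 0, 0⟩ : Tw k 0) d := by
      funext x
      rw [Pi.basisFun_apply, phi_apply, hd]
      rcases eq_or_ne x a with rfl | hx
      · simp [char_two_fun]
      · rw [Pi.single_eq_of_ne hx, Pi.single_eq_of_ne, mul_zero]
        intro h
        refine hx ?_
        have : x + a + a = a := by rw [h, zero_add]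
        rwa [add_assoc, char_two_fun, add_zero] at this
    rw [e, ← Module.End.mul_apply, hcA, Module.End.mul_apply, ← hv, LinearMap.smul_apply, Module.End.one_apply,
      ← map_smul, ← hv0]
  have habs : |v 0| = 1 := by
    have h1 : |LinearMap.det T'| = 1 := by
      rw [hT'def, map_mul, abs_mul, hdet, mul_one]
      have h4 : (g0⁻¹) * (g0⁻¹) * (g0⁻¹ * g0⁻¹) = (1 : Tw k 0) := by
        rw [sq_c]
        exact Tw.ext (by simp) (by simp) (by simp [CharTwo.add_self_eq_zero])
      have h5 : |LinearMap.det (phi g0⁻¹)| ^ 4 = 1 := by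
        rw [← abs_pow, ← map_pow, ← map_pow, show g0⁻¹ ^ 4 = (1 : Tw k 0) by
          rw [show (4 : ℕ) = 2 + 2 from rfl, pow_add, pow_two]; exact h4, map_one, map_one, abs_one]
      exact (pow_eq_one_iff_of_nonneg (abs_nonneg _) (by norm_num)).1 h5
    rw [hT', LinearMap.det_smul, map_one, mul_one, abs_pow] at h1
    refine (pow_eq_one_iff_of_nonneg (abs_nonneg _) ?_).1 h1
    rw [Module.finrank_fintype_fun_eq_card]; exact Fintype.card_ne_zero
  obtain ⟨t, ht⟩ : ∃ t, sg t = v 0 := by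
    rcases abs_eq (zero_le_one' ℝ) |>.1 habs with h | h
    · exact ⟨0, by rw [h, sg_zero]⟩
    · exact ⟨1, by rw [h, sg_one]⟩
  refine ⟨g0 * Zc t, ?_⟩
  have e1 : phi g0 * T' = (T : Module.End ℝ (Sp k)) := by
    rw [hT'def]
    rw [← mul_assoc, ← map_mul, mul_inv_cancel, map_one, one_mul]
  rw [← e1, hT', map_mul]
  congr 1
  apply LinearMap.ext; intro f
  rw [phi_Zc, ht]; rfl

/-- The group of operators inducing a group of isometries. -/
theorem realize {K : Type*} [Group K] (act : K → Co k → Co k)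
    (hadd : ∀ x u v, act x (u + v) = act x u + act x v) (hinj : Function.Injective act)
    (h1 : ∀ u, act 1 u = u) (hmul : ∀ x y u, act (x * y) u = act x (act y u))
    (hQ : ∀ x u, Qf (act x u) = Qf u) :
    ∃ (R : Type) (_ : Group R) (_ : Finite R) (p : R →* K) (ι : Tw k 0 →* R),
      Function.Surjective p ∧ Function.Injective ι ∧ ι.range = p.ker ∧
      ∀ r g, ∃ h, r * ι g * r⁻¹ = ι h ∧ pr h = act (p r) (pr g) := by
  have : Finite K := Finite.of_injective act hinj
  have hinjx : ∀ x, Function.Injective (act x) := fun x u v h => by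
    rw [← h1 u, ← h1 v, ← inv_mul_cancel x, hmul, hmul, h]
  let S : Subgroup ((Module.End ℝ (Sp k))ˣ × K) :=
    { carrier := {z | |LinearMap.det (z.1 : Module.End ℝ (Sp k))| = 1 ∧
        ∀ x : Tw k 0, ∃ h, (z.1 : Module.End ℝ (Sp k)) * phi x = phi h * (z.1 : Module.End ℝ (Sp k)) ∧ pr h = act z.2 (pr x)}
      one_mem' := ⟨by simp, fun x => ⟨x, by simp, (h1 _).symm⟩⟩
      mul_mem' := by
        rintro ⟨T, a⟩ ⟨T', a'⟩ ⟨hd, hT⟩ ⟨hd', hT'⟩
        refine ⟨?_, fun x => ?_⟩
        · show |LinearMap.det ((T * T' : _ˣ) : Module.End ℝ (Sp k))| = 1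
          rw [Units.val_mul, map_mul, abs_mul, hd, hd', mul_one]
        · obtain ⟨h', e', p'⟩ := hT' x
          obtain ⟨h, e, p⟩ := hT h'
          refine ⟨h, ?_, ?_⟩
          · show ((T * T' : _ˣ) : Module.End ℝ (Sp k)) * _ = _ * ((T * T' : _ˣ) : Module.End ℝ (Sp k))
            rw [Units.val_mul, mul_assoc, e', ← mul_assoc, e, mul_assoc]
          · show pr h = act (a * a') _
            rw [hmul, p, p']
      inv_mem' := by
        rintro ⟨T, a⟩ ⟨hd, hT⟩
        refine ⟨?_, fun x => ?_⟩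
        · show |LinearMap.det ((T⁻¹ : _ˣ) : Module.End ℝ (Sp k))| = 1
          have h := congrArg (fun z : (Module.End ℝ (Sp k))ˣ => |LinearMap.det (z : Module.End ℝ (Sp k))|) (inv_mul_cancel T)
          simp only [Units.val_mul, Units.val_one, map_mul, map_one, abs_mul, hd, mul_one, abs_one] at h
          exact h
        · obtain ⟨h, e, p⟩ := hT ⟨(act a⁻¹ (pr x)).1, (act a⁻¹ (pr x)).2, 0⟩
          have hp : pr h = pr x := by
            rw [p]; show act a (act a⁻¹ (pr x)) = pr x
            rw [← hmul, mul_inv_cancel, h1]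
          refine ⟨⟨(act a⁻¹ (pr x)).1, (act a⁻¹ (pr x)).2, 0⟩ * Zc (x.c + h.c), ?_, ?_⟩
          · show ((T⁻¹ : _ˣ) : Module.End ℝ (Sp k)) * phi x = _ * ((T⁻¹ : _ˣ) : Module.End ℝ (Sp k))
            rw [Units.eq_mul_inv_iff_mul_eq, mul_assoc, Units.inv_mul_eq_iff_eq_mul, map_mul, ← mul_assoc, e,
              mul_assoc (phi h)]
            have hc : (T : Module.End ℝ (Sp k)) * phi (Zc (x.c + h.c)) = phi (Zc (x.c + h.c)) * (T : Module.End ℝ (Sp k)) := by
              apply LinearMap.ext; intro f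
              rw [Module.End.mul_apply, Module.End.mul_apply, phi_Zc, phi_Zc, map_smul]
            rw [hc, ← mul_assoc, ← map_mul, ← eq_mul_Zc hp]
          · show pr _ = act a⁻¹ (pr x)
            rw [pr_mul]; simp [pr] }
  have hι : ∀ g : Tw k 0, ((phi.toHomUnits g, 1) : (Module.End ℝ (Sp k))ˣ × K) ∈ S := fun g => by
    refine ⟨?_, fun x => ⟨g * x * g⁻¹, ?_, ?_⟩⟩
    · have h4 : g * g * (g * g) = 1 := by
        rw [sq_c]; exact Tw.ext (by simp) (by simp) (by simp [CharTwo.add_self_eq_zero])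
      have h5 : |LinearMap.det (phi g)| ^ 4 = 1 := by
        rw [← abs_pow, ← map_pow, ← map_pow, show g ^ 4 = 1 by
          rw [show (4 : ℕ) = 2 + 2 from rfl, pow_add, pow_two]; exact h4, map_one, map_one, abs_one]
      exact (pow_eq_one_iff_of_nonneg (abs_nonneg _) (by norm_num)).1 h5
    · show phi g * phi x = phi (g * x * g⁻¹) * phi g
      rw [← map_mul, ← map_mul, inv_mul_cancel_right]
    · show pr (g * x * g⁻¹) = act 1 (pr x)
      rw [h1]
      simp only [pr, Tw.mul_a, Tw.mul_b, Tw.inv_a, Tw.inv_b]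
      congr 1 <;> abel
  let ι0 : Tw k 0 →* S :=
    { toFun := fun g => ⟨(phi.toHomUnits g, 1), hι g⟩
      map_one' := Subtype.ext (Prod.ext (map_one _) rfl)
      map_mul' := fun g h => Subtype.ext (Prod.ext (map_mul _ _ _) (one_mul 1).symm) }
  let p0 : S →* K := (MonoidHom.snd _ K).comp S.subtype
  have hker : ι0.range = p0.ker := by
    ext z
    constructor
    · rintro ⟨g, rfl⟩; rfl
    · intro hz
      obtain ⟨x, hx⟩ := op_trivial z.1.1 z.2.1 fun x => by
        obtain ⟨h, e, p⟩ := z.2.2 x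
        refine ⟨h, e, ?_⟩
        rw [p, show z.1.2 = 1 from hz, h1]
      exact ⟨x, Subtype.ext (Prod.ext (Units.ext hx.symm) (show (1 : K) = z.1.2 from (MonoidHom.mem_ker.1 hz).symm))⟩
  have hfin : Finite S := by
    have : Finite p0.ker := by
      rw [← hker]
      exact Finite.of_surjective ι0.rangeRestrict ι0.rangeRestrict_surjective
    have : Finite (S ⧸ p0.ker) := Finite.of_injective _ (QuotientGroup.kerLift_injective p0)
    exact Finite.of_equiv _ (Subgroup.groupEquivQuotientProdSubgroup (s := p0.ker)).symm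
  have := small_of_surjective (α := Fin (Nat.card S)) (Finite.equivFin S).symm.surjective
  have : Small.{0} S := this
  let e : Shrink.{0} S ≃* S := Shrink.mulEquiv
  refine ⟨Shrink.{0} S, inferInstance, Finite.of_equiv S e.symm.toEquiv, p0.comp e.toMonoidHom,
    e.symm.toMonoidHom.comp ι0, fun x => ?_, ?_, ?_, fun r g => ?_⟩
  · obtain ⟨T, hd, hT⟩ := exists_op (hadd x) (hinjx x) (hQ x)
    exact ⟨e.symm ⟨(T, x), hd, hT⟩, by simp [p0]⟩
  · intro g h hgh
    have h2 := congrArg (fun z : S => (z.1.1 : Module.End ℝ (Sp k))) (e.symm.injective hgh)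
    exact phi_injective h2
  · ext z
    constructor
    · rintro ⟨g, rfl⟩
      show p0 (e (e.symm (ι0 g))) = 1
      rw [e.apply_symm_apply]; rfl
    · intro hz
      have : e z ∈ ι0.range := hker ▸ hz
      obtain ⟨g, hg⟩ := this
      exact ⟨g, show e.symm (ι0 g) = z by rw [hg, e.symm_apply_apply]⟩
  · obtain ⟨h, eh, ph⟩ := (e r).2.2 g
    refine ⟨h, ?_, ph⟩
    show r * e.symm (ι0 g) * r⁻¹ = e.symm (ι0 h)
    apply e.injective
    rw [map_mul, map_mul, map_inv, e.apply_symm_apply, e.apply_symm_apply, mul_inv_eq_iff_eq_mul]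
    exact Subtype.ext (Prod.ext (Units.ext eh) (show (e r).1.2 * 1 = 1 * (e r).1.2 by rw [mul_one, one_mul]))

end Cfsg.Agent.LocalEvenB.ExtExt
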