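import Mathlib

/-!
Best offenders on an elementary abelian 2-group and the pieces of order three they invert.
-/

set_option autoImplicit false

namespace Cfsg.Agent.LocalEvenB.FF

open Subgroup

variable {U : Type*} [CommGroup U]

/-- The fixed points of a set of automorphisms. -/
def fixSet (B : Set (MulAut U)) : Subgroup U where
  carrier := {u | ∀ b ∈ B, b u = u}
  one_mem' := fun b _ => map_one b
  mul_mem' := fun {u v} hu hv b hb => by rw [map_mul, hu b hb, hv b hb]
  inv_mem' := fun {u} hu b hb => by rw [map_inv, hu b hb]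

theorem mem_fixSet {B : Set (MulAut U)} {u : U} : u ∈ fixSet B ↔ ∀ b ∈ B, b u = u := Iff.rfl

/-- `u ↦ u ^ g / u`. -/
def cm (g : MulAut U) : U →* U where
  toFun u := g u / u
  map_one' := by simp
  map_mul' u v := by rw [map_mul, mul_div_mul_comm]

theorem cm_apply (g : MulAut U) (u : U) : cm g u = g u / u := rfl

theorem cm_eq_one {g : MulAut U} {u : U} : cm g u = 1 ↔ g u = u := div_eq_one

theorem cm_range_comm {g h : MulAut U} (hgh : g * h = h * g) {u : U} (hu : u ∈ (cm g).range) :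
    h u ∈ (cm g).range := by
  obtain ⟨v, rfl⟩ := hu
  refine ⟨h v, ?_⟩
  rw [cm_apply, cm_apply, map_div]
  exact congrArg (· / h v) (DFunLike.congr_fun hgh v)

theorem cm_range_inv (g : MulAut U) : (cm g⁻¹).range = (cm g).range := by
  have key : ∀ g : MulAut U, (cm g⁻¹).range ≤ (cm g).range := by
    rintro g u ⟨v, rfl⟩
    refine ⟨(g⁻¹ v)⁻¹, ?_⟩
    rw [cm_apply, cm_apply, map_inv, MulAut.apply_inv_self, div_inv_eq_mul, inv_mul_eq_div]
  refine le_antisymm (key g) ?_
  have := key g⁻¹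
  rwa [inv_inv] at this

theorem cm_conj (g h : MulAut U) (u : U) : cm (h * g * h⁻¹) (h u) = h (cm g u) := by
  simp [cm_apply, map_div, MulAut.mul_apply]

theorem cm_range_conj (g h : MulAut U) :
    (cm (h * g * h⁻¹)).range = (cm g).range.map h.toMonoidHom := by
  ext u
  constructor
  · rintro ⟨v, rfl⟩
    refine ⟨cm g (h⁻¹ v), ⟨_, rfl⟩, ?_⟩
    rw [MulEquiv.coe_toMonoidHom, ← cm_conj, MulAut.apply_inv_self]
  · rintro ⟨w, ⟨v, rfl⟩, rfl⟩
    exact ⟨h v, cm_conj g h v⟩

theorem pow_fix {g : MulAut U} {u : U} (h : g u = u) : ∀ n : ℕ, (g ^ n) u = u := by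
  intro n
  induction n with
  | zero => rfl
  | succ n ih => rw [pow_succ, MulAut.mul_apply, h, ih]

theorem fix_of_sq {g : MulAut U} (hg : Odd (orderOf g)) {u : U} (h : (g * g) u = u) : g u = u := by
  obtain ⟨k, hk⟩ := hg
  have h1 := pow_fix h (k + 1)
  rw [← sq, ← pow_mul, show 2 * (k + 1) = orderOf g + 1 by omega, pow_succ, pow_orderOf_eq_one,
    one_mul] at h1
  exact h1

/-- An automorphism of odd order fixes no nontrivial element of its commutator image. -/
theorem eq_one_of_cm_fixed (h2 : ∀ u : U, u * u = 1) {g : MulAut U} (hg : Odd (orderOf g)) {v : U}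
    (hv : v ∈ (cm g).range) (hfix : g v = v) : v = 1 := by
  obtain ⟨w, rfl⟩ := hv
  have h1 : (g * g) w = w := by
    rw [cm_apply, map_div, div_eq_div_iff_mul_eq_mul] at hfix
    rw [h2] at hfix
    rw [MulAut.mul_apply]
    exact (eq_inv_of_mul_eq_one_left hfix).trans (inv_eq_of_mul_eq_one_right (h2 w))
  exact cm_eq_one.2 (fix_of_sq hg h1)

theorem sup_fix_eq_top [Finite U] (h2 : ∀ u : U, u * u = 1) {g : MulAut U} (hg : Odd (orderOf g)) :
    ∀ u : U, ∃ i ∈ (cm g).range, g (u / i) = u / i := by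
  intro u
  have hinj : Function.Injective (fun i : (cm g).range => (⟨cm g i, ⟨i, rfl⟩⟩ : (cm g).range)) := by
    intro i j hij
    have hd : cm g ((i : U) / j) = 1 := by
      rw [map_div, show cm g (i : U) = cm g j from congrArg Subtype.val hij, div_self']
    exact Subtype.ext (div_eq_one.1 (eq_one_of_cm_fixed h2 hg
      ((cm g).range.div_mem i.2 j.2) (cm_eq_one.1 hd)))
  obtain ⟨i, hi⟩ := (Finite.injective_iff_surjective.1 hinj) ⟨cm g u, ⟨u, rfl⟩⟩
  refine ⟨i, i.2, cm_eq_one.1 ?_⟩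
  rw [map_div, show cm g (i : U) = cm g u from congrArg Subtype.val hi, div_self']

/-- A 2-group of automorphisms fixes a nontrivial element of a nontrivial invariant subgroup. -/
theorem exists_fixed [Finite U] (h2 : ∀ u : U, u * u = 1) {B : Subgroup (MulAut U)}
    (hB2 : ∀ b ∈ B, b * b = 1) (hBc : ∀ b ∈ B, ∀ c ∈ B, b * c = c * b) {I : Subgroup U}
    (hI : ∀ b ∈ B, ∀ u ∈ I, b u ∈ I) {K : Subgroup U} (hK : ∀ b ∈ B, ∀ u ∈ K, b u ∈ K)
    (hne : ¬ I ≤ K) : ∃ u ∈ I, u ∉ K ∧ ∀ b ∈ B, cm b u ∈ K := by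
  classical
  obtain ⟨u0, hu0, hu0'⟩ := SetLike.not_le_iff_exists.1 hne
  let S : Set U := {u | u ∈ I ∧ u ∉ K}
  obtain ⟨u, ⟨huI, huK⟩, hmax⟩ := Set.exists_max_image S
    (fun u => Nat.card {b : B | (b : MulAut U) u = u}) (Set.toFinite _) ⟨u0, hu0, hu0'⟩
  refine ⟨u, huI, huK, fun b hb => ?_⟩
  by_contra hcon
  have hbb : b (b u) = u := by rw [← MulAut.mul_apply, hB2 b hb]; rfl
  have hfix : b (cm b u) = cm b u := by
    rw [cm_apply, map_div, hbb]
    have : ∀ v : U, v⁻¹ = v := fun v => inv_eq_of_mul_eq_one_right (h2 v)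
    rw [div_eq_mul_inv, div_eq_mul_inv, this, this, mul_comm]
  have hlt : {c : B | (c : MulAut U) u = u} ⊂ {c : B | (c : MulAut U) (cm b u) = cm b u} := by
    refine ⟨fun c hc => ?_, fun hsub => ?_⟩
    · show (c : MulAut U) (cm b u) = cm b u
      rw [cm_apply, map_div, ← MulAut.mul_apply, hBc _ c.2 b hb, MulAut.mul_apply, hc]
    · have : b u = u := hsub (show (⟨b, hb⟩ : B) ∈ _ from hfix)
      exact hcon ((cm_eq_one.2 this).symm ▸ K.one_mem)
  have h1 := hmax (cm b u) ⟨I.div_mem (hI b hb u huI) huI, hcon⟩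
  have h3 := Set.ncard_lt_ncard hlt (Set.toFinite _)
  rw [← Nat.card_coe_set_eq, ← Nat.card_coe_set_eq] at h3
  exact absurd h1 (not_le.2 h3)

theorem two_mul_card_le [Finite U] {H K : Subgroup U} (hle : H ≤ K) {x : U} (hx : x ∈ K)
    (hxH : x ∉ H) : 2 * Nat.card H ≤ Nat.card K := by
  obtain ⟨k, hk⟩ := card_dvd_of_le hle
  rcases k with _ | _ | k
  · exact absurd hk (by rw [mul_zero]; exact Nat.card_pos.ne')
  · exact absurd (eq_of_le_of_card_ge hle (by rw [hk]; simp)) (fun he => hxH (he ▸ hx))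
  · rw [hk, mul_comm]
    exact Nat.mul_le_mul_left _ (by omega)

/-- A piece: an automorphism of order three with a commutator image of order four. -/
def IsPiece (x : MulAut U) : Prop := orderOf x = 3 ∧ Nat.card (cm x).range = 4

theorem IsPiece.odd {x : MulAut U} (hx : IsPiece x) : Odd (orderOf x) := by
  rw [hx.1]; decide

theorem IsPiece.conj {x : MulAut U} (hx : IsPiece x) (h : MulAut U) : IsPiece (h * x * h⁻¹) := by
  refine ⟨?_, ?_⟩
  · rw [← hx.1]
    exact orderOf_injective (MulAut.conj h).toMonoidHom (MulAut.conj h).injective x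
  · rw [cm_range_conj, card_map_of_injective h.injective, hx.2]

theorem IsPiece.inv {x : MulAut U} (hx : IsPiece x) : IsPiece x⁻¹ :=
  ⟨by rw [orderOf_inv, hx.1], by rw [cm_range_inv, hx.2]⟩

/-- An automorphism commuting with a piece and fixing a nontrivial element of its image fixes all
of it. -/
theorem IsPiece.fix_all [Finite U] (h2 : ∀ u : U, u * u = 1) {x : MulAut U} (hx : IsPiece x)
    {b : MulAut U} (hc : x * b = b * x) {v : U} (hv : v ∈ (cm x).range) (hv1 : v ≠ 1)
    (hbv : b v = v) : ∀ u ∈ (cm x).range, b u = u := by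
  have hxv : x v ∈ (cm x).range := cm_range_comm rfl hv
  have hne : x v ≠ v := fun h => hv1 (eq_one_of_cm_fixed h2 hx.odd hv h)
  let H : Subgroup U := fixSet {b} ⊓ (cm x).range
  have hvH : v ∈ H := ⟨fun c hc' => by rw [Set.mem_singleton_iff.1 hc']; exact hbv, hv⟩
  have hxvH : x v ∈ H := by
    refine ⟨fun c hc' => ?_, hxv⟩
    rw [Set.mem_singleton_iff.1 hc', ← MulAut.mul_apply, ← hc, MulAut.mul_apply, hbv]
  have h1 : 2 * Nat.card (zpowers v) ≤ Nat.card H := by
    refine two_mul_card_le (zpowers_le.2 hvH) hxvH fun h => ?_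
    obtain ⟨k, hk⟩ := mem_zpowers_iff.1 h
    rcases Int.even_or_odd k with ⟨j, hj⟩ | ⟨j, hj⟩
    · rw [hj, zpow_add, ← mul_zpow, h2, one_zpow] at hk
      exact hv1 (x.injective (hk.symm.trans (map_one x).symm))
    · rw [hj, zpow_add, two_mul, zpow_add, ← mul_zpow, h2, one_zpow, one_mul, zpow_one] at hk
      exact hne hk.symm
  have h3 : Nat.card (zpowers v) = 2 := by
    rw [Nat.card_zpowers, orderOf_eq_prime (by rw [sq]; exact h2 v) hv1]
  have h4 : H = (cm x).range := eq_of_le_of_card_ge inf_le_right (by rw [hx.2]; omega)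
  intro u hu
  rw [← h4] at hu
  exact hu.1 b rfl

variable [Finite U]

/-- The step of Thompson's replacement: a hyperplane of a best offender and an element of odd order
inverted outside it give a piece. -/
theorem piece_step (h2 : ∀ u : U, u * u = 1) {A B : Subgroup (MulAut U)}
    (hA2 : ∀ b ∈ A, b * b = 1) (hAc : ∀ b ∈ A, ∀ c ∈ A, b * c = c * b)
    (hbest : ∀ B' ≤ A, Nat.card B' * Nat.card (fixSet (B' : Set (MulAut U))) ≤
      Nat.card A * Nat.card (fixSet (A : Set (MulAut U))))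
    (hB : B ≤ A) (hBi : B.relIndex A ≤ 2) {a : MulAut U} (ha : a ∈ A) (haB : a ∉ B)
    {x : MulAut U} (hxo : Odd (orderOf x)) (hx1 : x ≠ 1) (hxB : ∀ b ∈ B, x * b = b * x)
    (hax : a * x * a = x⁻¹) :
    IsPiece x ∧ (∀ b ∈ B, ∀ u ∈ (cm x).range, b u = u) := by
  classical
  have haa : a * a = 1 := hA2 a ha
  have hainv : a⁻¹ = a := inv_eq_of_mul_eq_one_right haa
  have hA0 := hA2
  set I := (cm x).range with hI
  have hIa : ∀ u ∈ I, a u ∈ I := by
    intro u hu
    have : I.map a.toMonoidHom = I := by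
      rw [hI, ← cm_range_conj, hainv, hax, cm_range_inv]
    exact this ▸ ⟨u, hu, rfl⟩
  have hIB : ∀ b ∈ B, ∀ u ∈ I, b u ∈ I := fun b hb u hu => cm_range_comm (hxB b hb) hu
  have hIx : ∀ u ∈ I, x u ∈ I := fun u hu => cm_range_comm rfl hu
  have hcomm : ∀ b ∈ B, a * b = b * a := fun b hb => hAc a ha b (hB hb)
  -- every element of `A` is in `B` or `aB`
  have hcos : ∀ c ∈ A, c ∈ B ∨ a * c ∈ B := by
    intro c hc
    have h1 : (B.subgroupOf A).index = 2 := by
      have h0 : B.relIndex A ≠ 1 := fun h => haB (relIndex_eq_one.1 h ha)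
      have h0' : (B.subgroupOf A).index ≠ 0 := index_ne_zero_of_finite
      rw [Subgroup.relIndex] at h0 hBi
      omega
    rcases mul_mem_iff_of_index_two h1 (a := (⟨a, ha⟩ : A)) (b := ⟨c, hc⟩) with ⟨-, h⟩
    by_cases hcB : c ∈ B
    · exact Or.inl hcB
    · exact Or.inr (h ⟨fun h' => absurd h' haB, fun h' => absurd h' hcB⟩)
  have hfixA : ∀ u ∈ fixSet (B : Set (MulAut U)), a u = u → u ∈ fixSet (A : Set (MulAut U)) := by
    intro u hu hau c hc
    rcases hcos c hc with h | h
    · exact hu c h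
    · calc c u = (a * (a * c)) u := by rw [← mul_assoc, haa, one_mul]
        _ = u := by rw [MulAut.mul_apply, hu _ h, hau]
  have hle : fixSet (A : Set (MulAut U)) ≤ fixSet (B : Set (MulAut U)) :=
    fun u hu b hb => hu b (hB hb)
  have hcard : Nat.card A ≤ 2 * Nat.card B := by
    rw [← card_mul_index (B.subgroupOf A), Nat.card_congr (subgroupOfEquivOfLe hB).toEquiv, mul_comm 2]
    exact Nat.mul_le_mul_left _ hBi
  have hfixcard : Nat.card (fixSet (B : Set (MulAut U))) ≤
      2 * Nat.card (fixSet (A : Set (MulAut U))) := by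
    refine Nat.le_of_mul_le_mul_left ?_ (Nat.card_pos : 0 < Nat.card B)
    refine (hbest B hB).trans ?_
    rw [← mul_assoc, mul_comm (Nat.card B) 2]
    exact Nat.mul_le_mul_right _ hcard
  set Cx : Subgroup U := I ⊓ fixSet (B : Set (MulAut U)) with hCx
  have hI1 : ¬ I ≤ (⊥ : Subgroup U) := by
    intro h
    exact hx1 (MulEquiv.ext fun u => cm_eq_one.1 (mem_bot.1 (h ⟨u, rfl⟩)))
  obtain ⟨v0, hv0I, hv0, hv0fix⟩ := exists_fixed h2 (fun b hb => hA2 b (hB hb))
    (fun b hb c hc => hAc b (hB hb) c (hB hc)) hIB (K := ⊥)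
    (fun b _ u hu => by rw [mem_bot] at hu; rw [hu, map_one]; exact one_mem _) hI1
  have hv0C : v0 ∈ Cx := ⟨hv0I, fun b hb => cm_eq_one.1 (mem_bot.1 (hv0fix b hb))⟩
  rw [mem_bot] at hv0
  have hCa : ∀ u ∈ Cx, a u ∈ Cx := fun u hu => ⟨hIa u hu.1, fun b hb => by
    rw [← MulAut.mul_apply, ← hcomm b hb, MulAut.mul_apply, hu.2 b hb]⟩
  have hCxx : ∀ u ∈ Cx, x u ∈ Cx := fun u hu => ⟨hIx u hu.1, fun b hb => by
    rw [← MulAut.mul_apply, ← hxB b hb, MulAut.mul_apply, hu.2 b hb]⟩
  -- no nontrivial element of `Cx` is fixed by `a` and `x a x⁻¹`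
  have hD : ∀ u ∈ Cx, a u = u → a (x⁻¹ u) = x⁻¹ u → u = 1 := by
    intro u hu h h'
    refine eq_one_of_cm_fixed h2 hxo hu.1 (fix_of_sq hxo ?_)
    have e : a * x⁻¹ = x * a := by
      rw [← hax, ← mul_assoc, ← mul_assoc, haa, one_mul]
    rw [← MulAut.mul_apply, e, MulAut.mul_apply, h] at h'
    rw [MulAut.mul_apply, h']
    exact MulAut.apply_inv_self _ _ _
  set D : Subgroup U := Cx ⊓ fixSet ({a} : Set (MulAut U)) with hDdef
  have hmemD : ∀ u : U, u ∈ D ↔ u ∈ Cx ∧ a u = u := fun u =>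
    ⟨fun h => ⟨h.1, h.2 a rfl⟩, fun h => ⟨h.1, fun c hc => by
      rw [Set.mem_singleton_iff.1 hc]; exact h.2⟩⟩
  -- `D` has index two in `Cx`
  have hidx : ∀ u ∈ Cx, ∀ v ∈ Cx, u ∉ D → v ∉ D → u / v ∈ D := by
    intro u hu v hv hu' hv'
    by_contra huv
    have hsub : fixSet (A : Set (MulAut U)) ≤
        (fixSet (A : Set (MulAut U)) ⊔ zpowers u : Subgroup U) := le_sup_left
    have hle2 : fixSet (A : Set (MulAut U)) ⊔ zpowers u ≤ fixSet (B : Set (MulAut U)) :=
      sup_le hle (zpowers_le.2 hu.2)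
    have h1 := two_mul_card_le hsub (mem_sup_right (mem_zpowers u))
      (fun h => hu' ((hmemD u).2 ⟨hu, h a ha⟩))
    have h3 : v ∉ (fixSet (A : Set (MulAut U)) ⊔ zpowers u : Subgroup U) := by
      intro h
      obtain ⟨f, hf, w, hw, rfl⟩ := mem_sup.1 h
      obtain ⟨k, rfl⟩ := mem_zpowers_iff.1 hw
      have hfC : f ∈ Cx := by
        have := Cx.mul_mem hv (Cx.inv_mem (Cx.zpow_mem hu k))
        rwa [mul_inv_cancel_right] at this
      have hfD : f ∈ D := (hmemD f).2 ⟨hfC, hf a ha⟩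
      rcases Int.even_or_odd k with ⟨j, hj⟩ | ⟨j, hj⟩
      · refine hv' ?_
        rw [hj, zpow_add, ← mul_zpow, h2, one_zpow, mul_one]
        exact hfD
      · refine huv ?_
        rw [hj, zpow_add, two_mul, zpow_add, ← mul_zpow, h2, one_zpow, one_mul, zpow_one,
          div_mul_eq_div_div, div_right_comm, div_self', one_div]
        exact D.inv_mem hfD
    have h4 := two_mul_card_le hle2 hv.2 h3
    have := (Nat.card_pos : 0 < Nat.card (fixSet (A : Set (MulAut U))))
    omega
  have hxD : ∀ u ∈ D, u ≠ 1 → x u ∉ D := by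
    intro u hu hu1 hxu
    obtain ⟨huC, hau⟩ := (hmemD u).1 hu
    refine hu1 (x.injective ((hD (x u) (hCxx u huC) ((hmemD _).1 hxu).2 ?_).trans (map_one x).symm))
    rw [MulAut.inv_apply_self, hau]
  have hD2 : ∀ u ∈ D, ∀ v ∈ D, u ≠ 1 → v ≠ 1 → u = v := by
    intro u hu v hv hu1 hv1
    by_contra huv
    have h1 := hidx _ (hCxx u ((hmemD u).1 hu).1) _ (hCxx v ((hmemD v).1 hv).1)
      (hxD u hu hu1) (hxD v hv hv1)
    rw [← map_div] at h1
    exact hxD _ (D.div_mem hu hv) (fun h => huv (div_eq_one.1 h)) h1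
  have haD : ∀ u ∈ Cx, cm a u ∈ D := by
    intro u hu
    refine (hmemD _).2 ⟨Cx.div_mem (hCa u hu) hu, ?_⟩
    rw [cm_apply, map_div, ← MulAut.mul_apply, haa, MulAut.one_apply]
    rw [div_eq_mul_inv, div_eq_mul_inv, inv_eq_of_mul_eq_one_right (h2 _),
      inv_eq_of_mul_eq_one_right (h2 _), mul_comm]
  obtain ⟨d, hdD, hd1⟩ : ∃ d ∈ D, d ≠ 1 := by
    by_cases h : a v0 = v0
    · exact ⟨v0, (hmemD v0).2 ⟨hv0C, h⟩, hv0⟩
    · exact ⟨cm a v0, haD v0 hv0C, fun h' => h (cm_eq_one.1 h')⟩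
  have hxd := hCxx d ((hmemD d).1 hdD).1
  have hCard : Nat.card Cx = 4 := by
    have h5 : Nat.card D = 2 := by
      rw [Nat.card_eq_two_iff]
      refine ⟨⟨1, one_mem _⟩, ⟨d, hdD⟩, fun h => hd1 (Subtype.ext_iff.1 h).symm, ?_⟩
      ext ⟨w, hw⟩
      by_cases hw1 : w = 1
      · simp [hw1]
      · simp [hD2 w hw d hdD hw1 hd1]
    have h6 : (D.subgroupOf Cx).index = 2 := by
      rw [index_eq_two_iff]
      refine ⟨⟨x d, hxd⟩, fun b => ?_⟩
      by_cases hb : (b : U) ∈ D
      · refine Or.inr ⟨hb, fun h => hxD d hdD hd1 ?_⟩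
        have h' : (b : U) * x d ∈ D := h
        simpa using D.mul_mem (D.inv_mem hb) h'
      · refine Or.inl ⟨?_, hb⟩
        show (b : U) * x d ∈ D
        have h' := hidx b b.2 _ hxd hb (hxD d hdD hd1)
        rwa [div_eq_mul_inv, inv_eq_of_mul_eq_one_right (h2 _)] at h'
    have h7 := card_mul_index (D.subgroupOf Cx)
    rw [h6, Nat.card_congr (subgroupOfEquivOfLe (inf_le_left : D ≤ Cx)).toEquiv, h5] at h7
    omega
  -- `B` fixes the whole image
  have hfull : I ≤ Cx := by
    by_contra hne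
    obtain ⟨e, heI, heC, heB⟩ := exists_fixed h2 (fun b hb => hA2 b (hB hb))
      (fun b hb c hc => hAc b (hB hb) c (hB hc)) hIB (K := Cx)
      (fun b hb u hu => by rw [hu.2 b hb]; exact hu) hne
    -- we may take it fixed by `a` modulo `Cx`
    obtain ⟨e', he'I, he'C, he'B, he'a⟩ : ∃ e' ∈ I, e' ∉ Cx ∧ (∀ b ∈ B, cm b e' ∈ Cx) ∧
        cm a e' ∈ Cx := by
      by_cases h : cm a e ∈ Cx
      · exact ⟨e, heI, heC, heB, h⟩
      · refine ⟨cm a e, I.div_mem (hIa e heI) heI, h, fun b hb => ?_, ?_⟩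
        · have : cm b (cm a e) = cm a (cm b e) := by
            simp only [cm_apply, map_div, ← MulAut.mul_apply, hcomm b hb]
            rw [div_div_div_comm]
          rw [this]
          exact Cx.div_mem (hCa _ (heB b hb)) (heB b hb)
        · have : cm a (cm a e) = 1 := by
            rw [cm_eq_one, cm_apply, map_div, ← MulAut.mul_apply, haa, MulAut.one_apply]
            rw [div_eq_mul_inv, div_eq_mul_inv, inv_eq_of_mul_eq_one_right (h2 _),
              inv_eq_of_mul_eq_one_right (h2 _), mul_comm]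
          rw [this]; exact Cx.one_mem
    have hval : ∀ b ∈ B, cm b e' ∈ D := by
      intro b hb
      refine (hmemD _).2 ⟨he'B b hb, ?_⟩
      have h1 : a (cm b e') = cm b (a e') := by
        simp only [cm_apply, map_div, ← MulAut.mul_apply, hcomm b hb]
      rw [h1, ← div_mul_cancel (a e') e', map_mul, ← cm_apply]
      rw [show cm b (cm a e') = 1 from cm_eq_one.2 (he'a.2 b hb), one_mul]
    let B' : Subgroup (MulAut U) :=
      { carrier := {b | b ∈ B ∧ b e' = e'}
        one_mem' := ⟨B.one_mem, rfl⟩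
        mul_mem' := fun {p q} hp hq => ⟨B.mul_mem hp.1 hq.1, by
          rw [MulAut.mul_apply, hq.2, hp.2]⟩
        inv_mem' := fun {p} hp => ⟨B.inv_mem hp.1, by
          conv_lhs => rw [← hp.2]
          exact MulAut.inv_apply_self _ _ _⟩ }
    have hB'B : B' ≤ B := fun b hb => hb.1
    have hB'i : Nat.card B ≤ 2 * Nat.card B' := by
      rw [← card_mul_index (B'.subgroupOf B), Nat.card_congr (subgroupOfEquivOfLe hB'B).toEquiv,
        mul_comm 2]
      refine Nat.mul_le_mul_left _ ?_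
      by_cases hall : ∀ b ∈ B, b e' = e'
      · have : B'.subgroupOf B = ⊤ := subgroupOf_eq_top.2 fun b hb => ⟨hb, hall b hb⟩
        rw [this, index_top]; omega
      · push Not at hall
        obtain ⟨b0, hb0, hb0'⟩ := hall
        refine le_of_eq ?_
        rw [index_eq_two_iff]
        refine ⟨⟨b0, hb0⟩, fun b => ?_⟩
        have key : ∀ p ∈ B, cm p e' = 1 ∨ cm p e' = cm b0 e' := fun p hp => by
          by_cases h : cm p e' = 1
          · exact Or.inl h
          · exact Or.inr (hD2 _ (hval p hp) _ (hval b0 hb0) h (fun h' => hb0' (cm_eq_one.1 h')))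
        by_cases hbf : (b : MulAut U) e' = e'
        · refine Or.inr ⟨⟨b.2, hbf⟩, fun h => hb0' ?_⟩
          have h' : ((b : MulAut U) * b0) e' = e' := h.2
          rw [← hAc b0 (hB hb0) b (hB b.2), MulAut.mul_apply, hbf] at h'
          exact h'
        · refine Or.inl ⟨⟨B.mul_mem b.2 hb0, ?_⟩, fun h => hbf h.2⟩
          have hbeq := (key b b.2).resolve_left (fun h => hbf (cm_eq_one.1 h))
          show ((b : MulAut U) * b0) e' = e'
          have h9 : b0 e' = cm b0 e' * e' := (div_mul_cancel _ _).symm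
          rw [MulAut.mul_apply, h9, map_mul, ← div_mul_cancel ((b : MulAut U) e') e', ← cm_apply,
            hbeq, (he'B b0 hb0).2 b b.2, ← mul_assoc, h2, one_mul]
    -- `B'` fixes too much
    set F := fixSet (B' : Set (MulAut U))
    have heF : e' ∈ F := fun b hb => hb.2
    have hxeF : x e' ∈ F := fun b hb => by
      rw [← MulAut.mul_apply, ← hxB b hb.1, MulAut.mul_apply, hb.2]
    have hBF : fixSet (B : Set (MulAut U)) ≤ F := fun u hu b hb => hu b hb.1
    have h1 : 2 * Nat.card (fixSet (B : Set (MulAut U))) ≤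
        Nat.card (fixSet (B : Set (MulAut U)) ⊔ zpowers e' : Subgroup U) :=
      two_mul_card_le le_sup_left (mem_sup_right (mem_zpowers e')) (fun h => he'C ⟨he'I, h⟩)
    have h3 : x e' ∉ (fixSet (B : Set (MulAut U)) ⊔ zpowers e' : Subgroup U) := by
      intro h
      obtain ⟨f, hf, w, hw, hfw⟩ := mem_sup.1 h
      obtain ⟨k, rfl⟩ := mem_zpowers_iff.1 hw
      have hfI : f ∈ I := by
        have := I.mul_mem (hIx e' he'I) (I.inv_mem (I.zpow_mem he'I k))
        rwa [← hfw, mul_inv_cancel_right] at this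
      rcases Int.even_or_odd k with ⟨j, hj⟩ | ⟨j, hj⟩
      · rw [hj, zpow_add, ← mul_zpow, h2, one_zpow, mul_one] at hfw
        refine he'C ?_
        have hfC : f ∈ Cx := ⟨hfI, hf⟩
        have h' : x⁻¹ f = e' := by rw [hfw, MulAut.inv_apply_self]
        have hinj : Function.Injective (fun u : Cx => (⟨x u, hCxx u u.2⟩ : Cx)) := fun p q hpq =>
          Subtype.ext (x.injective (Subtype.ext_iff.1 hpq))
        obtain ⟨p, hp⟩ := Finite.injective_iff_surjective.1 hinj ⟨f, hfC⟩
        have hp' : x p = x e' := (Subtype.ext_iff.1 hp).trans hfw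
        exact x.injective hp' ▸ p.2
      · rw [hj, zpow_add, two_mul, zpow_add, ← mul_zpow, h2, one_zpow, one_mul, zpow_one] at hfw
        have hfC : cm x e' ∈ Cx := by
          have : cm x e' = f := by rw [cm_apply, ← hfw, mul_div_cancel_right]
          rw [this]; exact ⟨hfI, hf⟩
        refine he'C ?_
        have hinj : Function.Injective (fun u : Cx => (⟨cm x u, Cx.div_mem (hCxx u u.2) u.2⟩ : Cx)) := by
          intro p q hpq
          have hd : cm x ((p : U) / q) = 1 := by
            rw [map_div, show cm x (p : U) = cm x q from congrArg Subtype.val hpq, div_self']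
          exact Subtype.ext (div_eq_one.1 (eq_one_of_cm_fixed h2 hxo (I.div_mem p.2.1 q.2.1)
            (cm_eq_one.1 hd)))
        obtain ⟨p, hp⟩ := Finite.injective_iff_surjective.1 hinj ⟨cm x e', hfC⟩
        have hd : cm x (e' / (p : U)) = 1 := by
          rw [map_div, show cm x (p : U) = cm x e' from congrArg Subtype.val hp, div_self']
        rw [div_eq_one.1 (eq_one_of_cm_fixed h2 hxo (I.div_mem he'I p.2.1) (cm_eq_one.1 hd))]
        exact p.2
    have h4 := two_mul_card_le (sup_le hBF (zpowers_le.2 heF)) hxeF h3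
    have h5 : 2 * Nat.card (fixSet (A : Set (MulAut U))) ≤ Nat.card (fixSet (B : Set (MulAut U))) :=
      two_mul_card_le hle hxd.2 (fun h => hxD d hdD hd1 ((hmemD _).2 ⟨hxd, h a ha⟩))
    have h6 := hbest B' (hB'B.trans hB)
    have h7 : 8 * Nat.card (fixSet (A : Set (MulAut U))) ≤ Nat.card F := by omega
    have h8 : Nat.card A ≤ 4 * Nat.card B' := by omega
    have h9 : 2 * (Nat.card A * Nat.card (fixSet (A : Set (MulAut U)))) ≤
        Nat.card B' * Nat.card F := by
      calc 2 * (Nat.card A * Nat.card (fixSet (A : Set (MulAut U))))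
          = 2 * Nat.card A * Nat.card (fixSet (A : Set (MulAut U))) := by ring
        _ ≤ 8 * Nat.card B' * Nat.card (fixSet (A : Set (MulAut U))) :=
            Nat.mul_le_mul_right _ (by omega)
        _ = Nat.card B' * (8 * Nat.card (fixSet (A : Set (MulAut U)))) := by ring
        _ ≤ _ := Nat.mul_le_mul_left _ h7
    have h10 := h9.trans h6
    have := Nat.mul_pos (Nat.card_pos : 0 < Nat.card A)
      (Nat.card_pos : 0 < Nat.card (fixSet (A : Set (MulAut U))))
    omega
  have hIeq : I = Cx := le_antisymm hfull inf_le_left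
  refine ⟨⟨?_, by rw [← hI, hIeq, hCard]⟩, fun b hb u hu => (hfull hu).2 b hb⟩
  -- the order is three
  refine orderOf_eq_prime (hp := ⟨Nat.prime_three⟩) ?_ hx1
  have hpt : ∀ u ∈ I, (x ^ 3) u = u := by
    intro u hu
    by_cases hu1 : u = 1
    · rw [hu1, map_one]
    classical
    let S : Finset U := ((I : Set U).toFinite.toFinset).erase 1
    have hS : S.card = 3 := by
      rw [Finset.card_erase_of_mem (by simp), ← Set.ncard_eq_toFinset_card _,
        ← Nat.card_coe_set_eq]
      simp only [SetLike.coe_sort_coe, hIeq, hCard]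
    have hmem : ∀ w, w ∈ S ↔ w ≠ 1 ∧ w ∈ I := fun w => by simp [S]
    have hxw : ∀ w ∈ S, x w ∈ S ∧ x w ≠ w ∧ x (x w) ≠ w := by
      intro w hw
      rw [hmem] at hw
      refine ⟨(hmem _).2 ⟨fun h => hw.1 (x.injective (h.trans (map_one x).symm)), hIx w hw.2⟩,
        fun h => hw.1 (eq_one_of_cm_fixed h2 hxo hw.2 h), fun h => hw.1 ?_⟩
      exact eq_one_of_cm_fixed h2 hxo hw.2 (fix_of_sq hxo h)
    have h0 : u ∈ S := (hmem u).2 ⟨hu1, hu⟩
    obtain ⟨h1, n1, n2⟩ := hxw u h0
    obtain ⟨h1', n1', -⟩ := hxw _ h1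
    obtain ⟨h1'', n1'', n2''⟩ := hxw _ h1'
    have hsub : ({u, x u, x (x u)} : Finset U) = S := by
      refine Finset.eq_of_subset_of_card_le ?_ ?_
      · intro w hw
        simp only [Finset.mem_insert, Finset.mem_singleton] at hw
        rcases hw with rfl | rfl | rfl <;> assumption
      · rw [hS, Finset.card_insert_of_notMem, Finset.card_insert_of_notMem, Finset.card_singleton]
        · simp only [Finset.mem_singleton]
          exact fun h => n1' h.symm
        · simp only [Finset.mem_insert, Finset.mem_singleton, not_or]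
          exact ⟨fun h => n1 h.symm, fun h => n2 h.symm⟩
    have h3 : x (x (x u)) ∈ ({u, x u, x (x u)} : Finset U) := hsub ▸ h1''
    simp only [Finset.mem_insert, Finset.mem_singleton] at h3
    show (x ^ 3) u = u
    rw [pow_succ, sq, MulAut.mul_apply, MulAut.mul_apply]
    rcases h3 with h3 | h3 | h3
    · exact h3
    · exact absurd (x.injective h3) n2
    · exact absurd h3 n1''
  refine MulEquiv.ext fun u => ?_
  obtain ⟨i, hi, hf⟩ := sup_fix_eq_top h2 hxo u
  show (x ^ 3) u = u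
  rw [← div_mul_cancel u i, map_mul, pow_fix hf, hpt i hi]

end Cfsg.Agent.LocalEvenB.FF
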