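import Cfsg.Agent.Lib.LocalEvenB.FFMain
import Cfsg.Agent.Lib.Components.Signalizer
import Cfsg.Agent.Lib.Transfer.JSubgroup

/-!
The hypotheses of the offender decomposition, for elementary abelian subgroups of largest order.
-/

set_option autoImplicit false

namespace Cfsg.Agent.LocalEvenB.FF

open Subgroup
open scoped IsMulCommutative

/-- Coprime generation in the form used by the decomposition theorem. -/
theorem gen_of_elemAb {M : Type*} [Group M] [Finite M] {A F : Subgroup M}
    (hA : Cfsg.IsElementaryAbelian 2 A) (hF : ∀ f ∈ F, Odd (orderOf f))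
    (hAF : A ≤ normalizer (F : Set M)) :
    ∀ a ∈ A, ∀ f ∈ F, ∀ S : Subgroup M,
      (∀ B ≤ A, B.relIndex A ≤ 2 → ∀ g ∈ F, (∀ b ∈ B, b * g = g * b) → g ∈ S) → f ∈ S := by
  haveI : Fact (Nat.Prime 2) := ⟨Nat.prime_two⟩
  intro a _ f hf S hS
  have h2 : ¬ 2 ∣ Nat.card F := by
    intro h
    obtain ⟨g, hg⟩ := exists_prime_orderOf_dvd_card' (G := ↥F) 2 h
    have := hF g g.2
    rw [orderOf_coe, hg] at this
    exact absurd this (by decide)
  refine SetLike.le_def.1 (iSup_le fun B => ?_) (Components.le_iSup_centralizer_index_le hA h2 hAF hf)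
  intro g hg
  exact hS B.1 B.2.1 B.2.2 g hg.1 fun b hb => mem_centralizer_iff.1 hg.2 b hb

variable {G : Type*} [Group G]

/-- The automorphisms of `U` induced by a subgroup of its normalizer. -/
def imgAut (U X : Subgroup G) : Subgroup (MulAut U) :=
  (X.subgroupOf (normalizer (U : Set G))).map U.normalizerMonoidHom

theorem normalizerHom_apply (U : Subgroup G) (g : normalizer (U : Set G)) (u : U) :
    ((U.normalizerMonoidHom g u : U) : G) = g * u * (g : G)⁻¹ := rfl

theorem mem_imgAut {U X : Subgroup G} {φ : MulAut U} :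
    φ ∈ imgAut U X ↔ ∃ g : normalizer (U : Set G), (g : G) ∈ X ∧ U.normalizerMonoidHom g = φ :=
  mem_map

theorem mul_self_eq_one_of_elemAb {U : Subgroup G} (hU : Cfsg.IsElementaryAbelian 2 U) (u : U) :
    u * u = 1 :=
  Subtype.ext (by simpa [sq] using hU.2 u u.2)

/-- A product formula for commuting subgroups. -/
theorem card_sup_mul_card_inf [Finite G] {H K : Subgroup G} (hc : K ≤ centralizer (H : Set G)) :
    Nat.card (H ⊔ K : Subgroup G) * Nat.card (H ⊓ K : Subgroup G) = Nat.card H * Nat.card K := by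
  have hn : (H ⊔ K : Subgroup G) ≤ normalizer (H : Set G) :=
    sup_le le_normalizer (hc.trans (Subgroup.centralizer_le_normalizer _))
  have h1 : Nat.card H * H.relIndex (H ⊔ K) = Nat.card (H ⊔ K : Subgroup G) := by
    rw [← relIndex_bot_left, ← relIndex_bot_left]
    exact relIndex_mul_relIndex ⊥ H _ bot_le le_sup_left
  have h2 : Nat.card (H ⊓ K : Subgroup G) * H.relIndex K = Nat.card K := by
    rw [← inf_relIndex_right, ← relIndex_bot_left, ← relIndex_bot_left]
    exact relIndex_mul_relIndex ⊥ (H ⊓ K) K bot_le inf_le_right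
  have h3 : H.relIndex (H ⊔ K) = H.relIndex K := by
    haveI : (H.subgroupOf (H ⊔ K)).Normal := normal_subgroupOf_of_le_normalizer hn
    have h4 := relIndex_sup_left (K.subgroupOf (H ⊔ K)) (H.subgroupOf (H ⊔ K))
    rw [← subgroupOf_sup le_sup_left le_sup_right, subgroupOf_self, relIndex_top_right,
      relIndex_subgroupOf le_sup_right] at h4
    exact h4
  rw [← h1, h3, ← h2]
  ring

/-- An elementary abelian subgroup of largest order is a best offender on every elementary abelian
subgroup it normalises inside the same group. -/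
theorem hyp_of_maxElem [Finite G] {S A U : Subgroup G} [IsMulCommutative U]
    (hA : Transfer.IsMaxElemIn 2 S A) (hUS : U ≤ S) (hU : Cfsg.IsElementaryAbelian 2 U)
    (hAU : A ≤ normalizer (U : Set G)) {F : Subgroup (MulAut U)}
    (hFodd : ∀ f ∈ F, Odd (orderOf f))
    (hPc : ∀ f ∈ F, ∀ g ∈ F, IsPiece f → IsPiece g → f * g = g * f)
    (hAF : imgAut U A ≤ normalizer (F : Set (MulAut U))) :
    Hyp (imgAut U A) F := by
  refine ⟨mul_self_eq_one_of_elemAb hU, ?_, ?_, ?_, hPc, hFodd, ?_⟩
  · rintro _ ⟨g, hg, rfl⟩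
    rw [← map_mul, show g * g = 1 from Subtype.ext (by simpa [sq] using hA.2.1.2 (g : G) hg), map_one]
  · rintro _ ⟨g, hg, rfl⟩ _ ⟨k, hk, rfl⟩
    rw [← map_mul, ← map_mul,
      show g * k = k * g from Subtype.ext (Transfer.ea_commute hA.2.1 hg hk)]
  · intro B' hB'
    set f : ↥(A.subgroupOf (normalizer (U : Set G))) →* MulAut U :=
      U.normalizerMonoidHom.comp (Subgroup.subtype _) with hf
    have hrange : f.range = imgAut U A := by
      rw [hf, MonoidHom.range_eq_map, ← Subgroup.map_map, ← MonoidHom.range_eq_map, range_subtype]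
      rfl
    set Bn := B'.comap f with hBn
    have hBimg : Bn.map f = B' := map_comap_eq_self (hrange.symm ▸ hB')
    set B : Subgroup G := (Bn.map (Subgroup.subtype _)).map (Subgroup.subtype _) with hB
    have hBA : B ≤ A := by
      rintro _ ⟨_, ⟨b, -, rfl⟩, rfl⟩
      exact b.2
    have hcardB : Nat.card B = Nat.card Bn := by
      rw [hB, card_map_of_injective (subtype_injective _),
        card_map_of_injective (subtype_injective _)]
    have hk : ∀ H : Subgroup ↥(A.subgroupOf (normalizer (U : Set G))), f.ker ≤ H →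
        Nat.card H = Nat.card (H.map f) * Nat.card f.ker := by
      intro H hH
      rw [← card_mul_index (f.ker.subgroupOf H), Nat.card_congr (subgroupOfEquivOfLe hH).toEquiv,
        mul_comm, ← f.ker_restrict H, index_ker, MonoidHom.restrict_range]
    have hcardA : Nat.card A = Nat.card (imgAut U A) * Nat.card f.ker := by
      rw [← hrange, ← Nat.card_congr (subgroupOfEquivOfLe hAU).toEquiv, MonoidHom.range_eq_map,
        ← hk ⊤ le_top, card_top]
    have hcardB' : Nat.card Bn = Nat.card B' * Nat.card f.ker := by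
      rw [hk Bn (fun x hx => mem_comap.2 (by rw [MonoidHom.mem_ker.1 hx]; exact B'.one_mem)), hBimg]
    set X : Subgroup G := (fixSet (B' : Set (MulAut U))).map U.subtype with hX
    have hXcard : Nat.card X = Nat.card (fixSet (B' : Set (MulAut U))) :=
      card_map_of_injective U.subtype_injective
    have hXU : X ≤ U := map_subtype_le _
    have hXB : X ≤ centralizer (B : Set G) := by
      rintro _ ⟨u, hu, rfl⟩
      rw [mem_centralizer_iff]
      rintro _ ⟨_, ⟨b, hb, rfl⟩, rfl⟩
      have h1 := congrArg Subtype.val (hu (f b) (mem_comap.1 hb))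
      exact mul_inv_eq_iff_eq_mul.1 h1
    have hfix : (B ⊓ X : Subgroup G) ≤ (fixSet (imgAut U A : Set (MulAut U))).map U.subtype := by
      rintro v ⟨hvB, hvX⟩
      refine ⟨⟨v, hXU hvX⟩, fun φ hφ => ?_, rfl⟩
      obtain ⟨g, hg, rfl⟩ := mem_imgAut.1 hφ
      refine Subtype.ext ?_
      rw [normalizerHom_apply, Transfer.ea_commute hA.2.1 hg (hBA hvB), mul_inv_cancel_right]
    have hle := hA.2.2 (B ⊔ X) (sup_le (hBA.trans hA.1) (hXU.trans hUS))
      (Transfer.ea_sup (Transfer.ea_mono hA.2.1 hBA) (Transfer.ea_mono hU hXU)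
        (le_centralizer_iff.1 hXB))
    have h5 := card_sup_mul_card_inf hXB
    have h6 : Nat.card (B ⊓ X : Subgroup G) ≤ Nat.card (fixSet (imgAut U A : Set (MulAut U))) :=
      (card_le_of_le hfix).trans (card_map_of_injective U.subtype_injective).le
    have h7 : Nat.card B * Nat.card X ≤
        Nat.card A * Nat.card (fixSet (imgAut U A : Set (MulAut U))) :=
      h5 ▸ Nat.mul_le_mul hle h6
    rw [hcardB, hcardB', hXcard, hcardA] at h7
    refine Nat.le_of_mul_le_mul_left ?_ (Nat.card_pos : 0 < Nat.card f.ker)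
    calc _ = Nat.card B' * Nat.card f.ker * Nat.card (fixSet (B' : Set (MulAut U))) := by ring
      _ ≤ _ := h7
      _ = _ := by ring
  · intro a ha f hf
    have h2' : a * a = 1 := by
      obtain ⟨g, hg, rfl⟩ := mem_imgAut.1 ha
      rw [← map_mul, show g * g = 1 from Subtype.ext (by simpa [sq] using hA.2.1.2 (g : G) hg),
        map_one]
    have := (mem_normalizer_iff.1 (hAF ha) f).1 hf
    rwa [inv_eq_of_mul_eq_one_right h2'] at this

end Cfsg.Agent.LocalEvenB.FF
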