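import Cfsg.Agent.Lib.LocalEvenB.FF
import Cfsg.Agent.Lib.LocalEvenB.Basic

/-!
Best offenders: the decomposition along the pieces they invert.
-/

set_option autoImplicit false

namespace Cfsg.Agent.LocalEvenB.FF

open Subgroup

variable {U : Type*} [CommGroup U] [Finite U]

theorem IsPiece.dichotomy (h2 : ∀ u : U, u * u = 1) {x y : MulAut U} (hx : IsPiece x)
    (hy : IsPiece y) (hxy : x * y = y * x) :
    ((cm x).range = (cm y).range ∧ (y = x ∨ y = x⁻¹)) ∨
      ((cm x).range ⊓ (cm y).range = ⊥ ∧ ∀ u ∈ (cm x).range, y u = u) := by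
  classical
  by_cases h : (cm x).range ⊓ (cm y).range = ⊥
  · refine Or.inr ⟨h, fun u hu => ?_⟩
    have h1 : cm y u ∈ (cm x).range ⊓ (cm y).range :=
      ⟨(cm x).range.div_mem (cm_range_comm hxy hu) hu, ⟨u, rfl⟩⟩
    rw [h] at h1
    exact cm_eq_one.1 (mem_bot.1 h1)
  · obtain ⟨v, hv, hv1⟩ : ∃ v ∈ (cm x).range ⊓ (cm y).range, v ≠ 1 := by
      by_contra hcon
      push Not at hcon
      exact h ((eq_bot_iff_forall _).2 hcon)
    have hxv : x v ∈ (cm x).range ⊓ (cm y).range :=
      ⟨cm_range_comm rfl hv.1, cm_range_comm hxy.symm hv.2⟩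
    have hne : x v ≠ v := fun h' => hv1 (eq_one_of_cm_fixed h2 hx.odd hv.1 h')
    set H := (cm x).range ⊓ (cm y).range with hH
    have h1 : 2 * Nat.card (zpowers v) ≤ Nat.card H := by
      refine two_mul_card_le (zpowers_le.2 hv) hxv fun h' => ?_
      obtain ⟨k, hk⟩ := mem_zpowers_iff.1 h'
      rcases Int.even_or_odd k with ⟨j, hj⟩ | ⟨j, hj⟩
      · rw [hj, zpow_add, ← mul_zpow, h2, one_zpow] at hk
        exact hv1 (x.injective (hk.symm.trans (map_one x).symm))
      · rw [hj, zpow_add, two_mul, zpow_add, ← mul_zpow, h2, one_zpow, one_mul, zpow_one] at hk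
        exact hne hk.symm
    have h3 : Nat.card (zpowers v) = 2 := by
      rw [Nat.card_zpowers, orderOf_eq_prime (by rw [sq]; exact h2 v) hv1]
    have e1 : H = (cm x).range := eq_of_le_of_card_ge inf_le_left (by rw [hx.2]; omega)
    have e2 : H = (cm y).range := eq_of_le_of_card_ge inf_le_right (by rw [hy.2]; omega)
    have heq : (cm x).range = (cm y).range := e1.symm.trans e2
    refine Or.inl ⟨heq, ?_⟩
    -- any element commuting with `x` fixing `v` and having image inside the range of `x` is trivial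
    have key : ∀ g : MulAut U, x * g = g * x → g v = v → (∀ u, cm g u ∈ (cm x).range) → g = 1 := by
      intro g hg hgv hgr
      refine MulEquiv.ext fun u => ?_
      obtain ⟨i, hi, hf⟩ := sup_fix_eq_top h2 hx.odd u
      have hgi := hx.fix_all h2 hg hv.1 hv1 hgv i hi
      have hgf : g (u / i) = u / i := by
        refine cm_eq_one.1 (eq_one_of_cm_fixed h2 hx.odd (hgr _) ?_)
        rw [cm_apply, map_div, ← MulAut.mul_apply, hg, MulAut.mul_apply, hf]
      show g u = u
      rw [← div_mul_cancel u i, map_mul, hgf, hgi]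
    have hgr : ∀ e : MulAut U, (∀ u, cm e u ∈ (cm x).range) → ∀ u, cm (e * y) u ∈ (cm x).range := by
      intro e he u
      have : cm (e * y) u = cm e (y u) * cm y u := by
        simp only [cm_apply, MulAut.mul_apply]
        rw [div_mul_div_cancel]
      rw [this]
      exact mul_mem (he _) (heq ▸ ⟨u, rfl⟩)
    have hin : ∀ u, cm x⁻¹ u ∈ (cm x).range := fun u => cm_range_inv x ▸ ⟨u, rfl⟩
    have hyv : y v ∈ (cm x).range := heq ▸ cm_range_comm rfl hv.2
    have hcases : y v = x v ∨ y v = x⁻¹ v := by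
      by_contra hcon
      push Not at hcon
      have hv' : x⁻¹ v ∈ (cm x).range :=
        cm_range_comm (g := x) (h := x⁻¹) (by rw [mul_inv_cancel, inv_mul_cancel]) hv.1
      have n0 : y v ≠ v := fun h' => hv1 (eq_one_of_cm_fixed h2 hy.odd hv.2 h')
      have n1 : y v ≠ 1 := fun h' => hv1 (y.injective (h'.trans (map_one y).symm))
      have n2 : x⁻¹ v ≠ v := fun h' => hne (by conv_lhs => rw [← h', MulAut.apply_inv_self])
      have n3 : x v ≠ x⁻¹ v := fun h' => hne (fix_of_sq hx.odd (by
        rw [MulAut.mul_apply, h', MulAut.apply_inv_self]))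
      have n4 : x v ≠ 1 := fun h' => hv1 (x.injective (h'.trans (map_one x).symm))
      have n5 : x⁻¹ v ≠ 1 := fun h' => hv1 (x⁻¹.injective (h'.trans (map_one x⁻¹).symm))
      let S : Finset U := {1, v, x v, x⁻¹ v, y v}
      have hS : S.card = 5 := by
        simp only [S]
        rw [Finset.card_insert_of_notMem (by
            simp only [Finset.mem_insert, Finset.mem_singleton, not_or]
            exact ⟨hv1.symm, n4.symm, n5.symm, n1.symm⟩),
          Finset.card_insert_of_notMem (by
            simp only [Finset.mem_insert, Finset.mem_singleton, not_or]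
            exact ⟨hne.symm, n2.symm, n0.symm⟩),
          Finset.card_insert_of_notMem (by
            simp only [Finset.mem_insert, Finset.mem_singleton, not_or]
            exact ⟨n3, hcon.1.symm⟩),
          Finset.card_insert_of_notMem (by
            simp only [Finset.mem_singleton]
            exact hcon.2.symm),
          Finset.card_singleton]
      have hsub : (S : Set U) ⊆ ((cm x).range : Set U) := by
        intro w hw
        simp only [S, Finset.coe_insert, Finset.coe_singleton, Set.mem_insert_iff,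
          Set.mem_singleton_iff] at hw
        rcases hw with rfl | rfl | rfl | rfl | rfl
        exacts [one_mem _, hv.1, cm_range_comm rfl hv.1, hv', hyv]
      have h9 := Set.ncard_le_ncard hsub (Set.toFinite _)
      rw [Set.ncard_coe_finset, hS, ← Nat.card_coe_set_eq, SetLike.coe_sort_coe, hx.2] at h9
      omega
    rcases hcases with h' | h'
    · left
      have := key (x⁻¹ * y) (by rw [← mul_assoc, mul_inv_cancel, one_mul, mul_assoc, ← hxy,
          ← mul_assoc, inv_mul_cancel, one_mul])
        (by rw [MulAut.mul_apply, h', MulAut.inv_apply_self]) (hgr _ hin)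
      rw [inv_mul_eq_one] at this
      exact this.symm
    · right
      have := key (x * y) (by rw [mul_assoc, hxy])
        (by rw [MulAut.mul_apply, h', MulAut.apply_inv_self]) (hgr _ fun u => ⟨u, rfl⟩)
      exact eq_inv_of_mul_eq_one_right this

/-- Pieces in a common 3-group commute. -/
theorem IsPiece.commute_of_threeGroup (h2 : ∀ u : U, u * u = 1) {x y : MulAut U} (hx : IsPiece x)
    (hy : IsPiece y) {P : Subgroup (MulAut U)} (hxP : x ∈ P) (hyP : y ∈ P) (hP : IsPGroup 3 P) :
    x * y = y * x := by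
  classical
  haveI : Fact (Nat.Prime 3) := ⟨Nat.prime_three⟩
  by_contra hne
  set Q : Subgroup (MulAut U) := closure {x, y} with hQ
  have hQP : Q ≤ P := (closure_le P).2 (Set.insert_subset hxP (Set.singleton_subset_iff.2 hyP))
  have hQ3 : IsPGroup 3 Q := hP.to_le hQP
  haveI := hQ3.isNilpotent
  have hD : commutator Q ≠ ⊥ := by
    intro h
    have h1 := commutator_mem_commutator (mem_top (⟨x, subset_closure (Set.mem_insert x _)⟩ : Q))
      (mem_top (⟨y, subset_closure (Set.mem_insert_of_mem x rfl)⟩ : Q))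
    rw [← _root_.commutator_def, h, mem_bot] at h1
    exact hne (commutatorElement_eq_one_iff_mul_comm.1 (congrArg Subtype.val h1))
  -- a central commutator of order three
  obtain ⟨z, hzD, hzC, hz3⟩ : ∃ z : Q, z ∈ commutator Q ∧ z ∈ center Q ∧ orderOf z = 3 := by
    have h1 : (commutator Q ⊓ center Q : Subgroup Q) ≠ ⊥ := by
      obtain ⟨w, hw, hwc, hw1⟩ := LocalEvenB.exists_mem_center_ne_one (commutator Q) hD
      exact fun h => hw1 (mem_bot.1 (h ▸ (⟨hw, hwc⟩ : w ∈ commutator Q ⊓ center Q)))
    haveI := (nontrivial_iff_ne_bot _).2 h1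
    obtain ⟨n, hn, hcard⟩ := ((hQ3.to_subgroup (commutator Q ⊓ center Q)).nontrivial_iff_card).1
      inferInstance
    obtain ⟨z, hz⟩ := exists_prime_orderOf_dvd_card' (G := ↥(commutator Q ⊓ center Q)) 3
      (hcard ▸ dvd_pow_self 3 hn.ne')
    exact ⟨z, z.2.1, z.2.2, by rw [orderOf_coe, hz]⟩
  set J : Subgroup U := (cm x).range ⊔ (cm y).range with hJ
  have hJcard : Nat.card J ≤ 16 := by
    rw [hJ, ← relIndex_bot_left, ← relIndex_mul_relIndex ⊥ (cm x).range _ bot_le le_sup_left,
      relIndex_bot_left, hx.2, relIndex_sup_left]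
    have := Nat.le_of_dvd Nat.card_pos (relIndex_dvd_card (cm x).range (cm y).range)
    rw [hy.2] at this
    omega
  have hmove : ∀ g ∈ Q, ∀ u, cm g u ∈ J := by
    intro g hg
    induction hg using closure_induction with
    | mem g hg =>
      intro u
      rcases hg with rfl | rfl
      exacts [mem_sup_left ⟨u, rfl⟩, mem_sup_right ⟨u, rfl⟩]
    | one => intro u; rw [show cm (1 : MulAut U) u = 1 from div_self' u]; exact one_mem _
    | mul g k _ _ hg hk =>
      intro u
      rw [show cm (g * k) u = cm g (k u) * cm k u from (div_mul_div_cancel _ _ _).symm]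
      exact mul_mem (hg _) (hk _)
    | inv g _ hg =>
      intro u
      have : cm g⁻¹ u = (cm g (g⁻¹ u))⁻¹ := by
        rw [cm_apply, cm_apply, MulAut.apply_inv_self, inv_div]
      rw [this]
      exact inv_mem (hg _)
  set I : Subgroup U := (cm (z : MulAut U)).range with hI
  have hzodd : Odd (orderOf (z : MulAut U)) := by rw [orderOf_coe, hz3]; decide
  have hIQ : ∀ (g : Q), ∀ u ∈ I, (g : MulAut U) u ∈ I := fun g u hu =>
    cm_range_comm (congrArg Subtype.val (mem_center_iff.1 hzC g).symm) hu
  have hIJ : I ≤ J := by rintro u ⟨v, rfl⟩; exact hmove z z.2 v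
  have hI2 : IsPGroup 2 I := fun u => ⟨1, Subtype.ext (by
    show (u : U) ^ (2 ^ 1) = 1
    rw [pow_one, sq]; exact h2 u)⟩
  haveI : Fact (Nat.Prime 2) := ⟨Nat.prime_two⟩
  obtain ⟨j, hj⟩ := IsPGroup.iff_card.1 hI2
  have hj4 : j ≤ 4 := by
    have h1 : 2 ^ j ≤ 2 ^ 4 := hj ▸ (card_le_of_le hIJ).trans hJcard
    exact (Nat.pow_le_pow_iff_right (by norm_num)).1 h1
  letI act : MulAction Q I :=
    { smul := fun g u => ⟨(g : MulAut U) u, hIQ g u u.2⟩
      one_smul := fun u => Subtype.ext rfl
      mul_smul := fun g k u => Subtype.ext rfl }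
  -- a fixed point of `z` is trivial
  have hzfix : ∀ u : I, z • u = u → u = 1 := fun u hu =>
    Subtype.ext (eq_one_of_cm_fixed h2 hzodd u.2 (congrArg Subtype.val hu))
  have hI1 : Nat.card I ≠ 1 := by
    intro h
    have hb := Subgroup.card_eq_one.1 h
    have : (z : MulAut U) = 1 := MulEquiv.ext fun u =>
      cm_eq_one.1 (mem_bot.1 (hb ▸ (⟨u, rfl⟩ : cm (z : MulAut U) u ∈ I)))
    rw [← orderOf_eq_one_iff, orderOf_coe, hz3] at this
    omega
  -- `z` acts semiregularly, so some orbit has three elements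
  have horb : ∀ u : I, u ≠ 1 → 3 ∣ Nat.card (MulAction.orbit Q u) ∧
      Nat.card (MulAction.orbit Q u) ≠ 3 := by
    intro u hu
    obtain ⟨n, hn⟩ := (hQ3.card_orbit u)
    rw [hn]
    refine ⟨?_, fun h3' => hu (hzfix u ?_)⟩
    · rcases n with _ | n
      · exfalso
        rw [pow_zero] at hn
        obtain ⟨hs, -⟩ := Nat.card_eq_one_iff_unique.1 hn
        exact hu (hzfix u (congrArg Subtype.val
          (hs.elim ⟨z • u, MulAction.mem_orbit u z⟩ ⟨u, MulAction.mem_orbit_self u⟩)))
      · exact dvd_pow_self 3 (by omega)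
    · have hidx : (MulAction.stabilizer Q u).index = 3 := by
        rw [MulAction.index_stabilizer, ← Nat.card_coe_set_eq, hn, h3']
      haveI hnorm : (MulAction.stabilizer Q u).Normal := by
        refine normal_of_index_eq_minFac_card ?_
        obtain ⟨m, hm⟩ := IsPGroup.iff_card.1 hQ3
        have hm0 : m ≠ 0 := by
          rintro rfl
          rw [pow_zero] at hm
          have := index_dvd_card (MulAction.stabilizer Q u)
          rw [hidx, hm] at this
          norm_num at this
        rw [hidx, hm, Nat.pow_minFac hm0, Nat.prime_three.minFac_eq]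
      have hle : commutator Q ≤ MulAction.stabilizer Q u := by
        haveI : IsCyclic (Q ⧸ MulAction.stabilizer Q u) :=
          isCyclic_of_prime_card (p := 3) (by rw [← index_eq_card, hidx])
        exact Normal.quotient_commutative_iff_commutator_le.1 IsCyclic.isMulCommutative
      exact hle hzD
  have hnine : ∀ u : I, u ≠ 1 → 9 ∣ Nat.card (MulAction.orbit Q u) := by
    intro u hu
    obtain ⟨n, hn⟩ := (hQ3.card_orbit u)
    obtain ⟨h1, h1'⟩ := horb u hu
    rw [hn] at h1 h1' ⊢
    rcases n with _ | _ | n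
    · norm_num at h1
    · norm_num at h1'
    · exact Dvd.intro_left _ (by ring : 3 ^ n * 9 = 3 ^ (n + 1 + 1))
  have key : 9 ∣ Nat.card I - 1 := by
    haveI : Fintype I := Fintype.ofFinite I
    have h0 := MulAction.selfEquivSigmaOrbits Q I
    have h1 := Nat.card_congr h0
    haveI : Fintype (MulAction.orbitRel.Quotient Q I) := Fintype.ofFinite _
    rw [Nat.card_sigma] at h1
    have hone : MulAction.orbit Q (1 : I) = {1} := by
      ext w
      simp only [MulAction.mem_orbit_iff, Set.mem_singleton_iff]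
      constructor
      · rintro ⟨g, rfl⟩; exact Subtype.ext (map_one (g : MulAut U))
      · rintro rfl; exact ⟨1, one_smul _ _⟩
    let o1 : MulAction.orbitRel.Quotient Q I := Quotient.mk'' (1 : I)
    rw [← Finset.add_sum_erase _ _ (Finset.mem_univ o1)] at h1
    have hcard1 : Nat.card (MulAction.orbit Q o1.out) = 1 := by
      have : MulAction.orbit Q o1.out = MulAction.orbit Q (1 : I) :=
        MulAction.orbit_eq_iff.2 (Quotient.exact (Quotient.out_eq o1))
      rw [this, hone]; simp
    rw [hcard1] at h1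
    rw [h1, Nat.add_sub_cancel_left]
    refine Finset.dvd_sum fun o ho => hnine _ fun he => (Finset.mem_erase.1 ho).1 ?_
    rw [← Quotient.out_eq' o, he]
  interval_cases j <;> simp_all

/-- A piece of `F` together with a hyperplane of `A` centralising it and an element inverting it. -/
def IsInvPiece (A F : Subgroup (MulAut U)) (x : MulAut U) : Prop :=
  IsPiece x ∧ x ∈ F ∧ ∃ B ≤ A, B.relIndex A ≤ 2 ∧ (∀ b ∈ B, b * x = x * b) ∧
    ∃ a ∈ A, a ∉ B ∧ a * x * a = x⁻¹

/-- The hypotheses: a best offender normalising an abelian group of odd order. -/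
structure Hyp (A F : Subgroup (MulAut U)) : Prop where
  h2 : ∀ u : U, u * u = 1
  hA2 : ∀ b ∈ A, b * b = 1
  hAc : ∀ b ∈ A, ∀ c ∈ A, b * c = c * b
  hbest : ∀ B' ≤ A, Nat.card B' * Nat.card (fixSet (B' : Set (MulAut U))) ≤
    Nat.card A * Nat.card (fixSet (A : Set (MulAut U)))
  hPc : ∀ f ∈ F, ∀ g ∈ F, IsPiece f → IsPiece g → f * g = g * f
  hFodd : ∀ f ∈ F, Odd (orderOf f)
  hAF : ∀ a ∈ A, ∀ f ∈ F, a * f * a ∈ F

variable {A F : Subgroup (MulAut U)}

theorem conj_conj_eq (h : Hyp A F) {a f : MulAut U} (ha : a ∈ A) :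
    a * (a * f * a) * a = f := by
  rw [← mul_assoc, ← mul_assoc, h.hA2 a ha, one_mul, mul_assoc, h.hA2 a ha, mul_one]

theorem IsInvPiece.norm (h : Hyp A F) {x : MulAut U} (hx : IsInvPiece A F x) {a : MulAut U}
    (ha : a ∈ A) : a * x * a = x ∨ a * x * a = x⁻¹ := by
  obtain ⟨-, -, B, hBA, hBi, hBx, a0, ha0, ha0B, hinv⟩ := hx
  have hB : ∀ b ∈ B, b * x * b = x := fun b hb => by
    rw [hBx b hb, mul_assoc, h.hA2 b (hBA hb), mul_one]
  by_cases haB : a ∈ B
  · exact Or.inl (hB a haB)
  · right
    have h1 : (B.subgroupOf A).index = 2 := by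
      have h0 : B.relIndex A ≠ 1 := fun h' => haB (relIndex_eq_one.1 h' ha)
      have h0' : (B.subgroupOf A).index ≠ 0 := index_ne_zero_of_finite
      rw [Subgroup.relIndex] at h0 hBi
      omega
    have h3 : a0 * a ∈ B := (mul_mem_iff_of_index_two h1 (a := (⟨a0, ha0⟩ : A))
      (b := ⟨a, ha⟩)).2 ⟨fun h' => absurd h' ha0B, fun h' => absurd h' haB⟩
    have e : a = a0 * (a0 * a) := by rw [← mul_assoc, h.hA2 a0 ha0, one_mul]
    calc a * x * a = a0 * ((a0 * a) * x * (a * a0)) * a0 := by
          rw [show a0 * (a0 * a * x * (a * a0)) * a0 = (a0 * a0) * a * x * a * (a0 * a0) by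
            simp only [mul_assoc], h.hA2 a0 ha0, one_mul, mul_one]
      _ = a0 * x * a0 := by
          rw [h.hAc a ha a0 ha0, hB _ h3]
      _ = x⁻¹ := hinv

/-- A commutator centralised by a hyperplane is an inverted piece. -/
theorem isInvPiece_comm (h : Hyp A F) {B : Subgroup (MulAut U)} (hBA : B ≤ A)
    (hBi : B.relIndex A ≤ 2) {a : MulAut U} (ha : a ∈ A) (haB : a ∉ B) {g : MulAut U} (hg : g ∈ F)
    (hgB : ∀ b ∈ B, b * g = g * b) (h1 : a * g * a * g⁻¹ ≠ 1) :
    IsInvPiece A F (a * g * a * g⁻¹) := by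
  set x := a * g * a * g⁻¹ with hx
  have hxF : x ∈ F := F.mul_mem (h.hAF a ha g hg) (F.inv_mem hg)
  have hinv : a * x * a = x⁻¹ := by
    have hi := inv_eq_of_mul_eq_one_right (h.hA2 a ha)
    rw [hx]
    simp only [mul_inv_rev, inv_inv, mul_assoc, hi]
    rw [← mul_assoc a a, h.hA2 a ha, one_mul]
  have hxB : ∀ b ∈ B, b * x = x * b := by
    intro b hb
    have c1 : Commute b a := h.hAc b (hBA hb) a ha
    have c2 : Commute b g := hgB b hb
    exact (((c1.mul_right c2).mul_right c1).mul_right c2.inv_right).eq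
  exact ⟨(piece_step h.h2 h.hA2 h.hAc h.hbest hBA hBi ha haB (h.hFodd x hxF) h1
    (fun b hb => (hxB b hb).symm) hinv).1, hxF, B, hBA, hBi, hxB, a, ha, haB, hinv⟩

/-- Commutators of `F` with `A` lie in any subgroup normalised by `F` containing the inverted
pieces. -/
theorem commutator_mem (h : Hyp A F)
    (hgen : ∀ a ∈ A, ∀ f ∈ F, ∀ S : Subgroup (MulAut U),
      (∀ B ≤ A, B.relIndex A ≤ 2 → ∀ g ∈ F, (∀ b ∈ B, b * g = g * b) → g ∈ S) → f ∈ S)
    {E : Subgroup (MulAut U)} (hEF : ∀ f ∈ F, ∀ e ∈ E, f * e * f⁻¹ ∈ E)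
    (hE : ∀ x, IsInvPiece A F x → x ∈ E)
    {a : MulAut U} (ha : a ∈ A) {f : MulAut U} (hf : f ∈ F) : a * f * a * f⁻¹ ∈ E := by
  let S : Subgroup (MulAut U) :=
    { carrier := {g | g ∈ F ∧ a * g * a * g⁻¹ ∈ E}
      one_mem' := ⟨F.one_mem, by rw [mul_one, h.hA2 a ha, inv_one, one_mul]; exact E.one_mem⟩
      mul_mem' := fun {p q} hp hq => ⟨F.mul_mem hp.1 hq.1, by
        have e : a * (p * q) * a * (p * q)⁻¹ =
            (a * p * a * p⁻¹) * (p * (a * q * a * q⁻¹) * p⁻¹) := by
          simp only [mul_inv_rev, mul_assoc, inv_mul_cancel_left]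
          rw [← mul_assoc a a (q * (a * (q⁻¹ * p⁻¹))), h.hA2 a ha, one_mul]
        rw [e]
        exact E.mul_mem hp.2 (hEF p hp.1 _ hq.2)⟩
      inv_mem' := fun {p} hp => ⟨F.inv_mem hp.1, by
        have e : a * p⁻¹ * a * p⁻¹⁻¹ = p⁻¹ * (a * p * a * p⁻¹)⁻¹ * p⁻¹⁻¹ := by
          simp only [mul_inv_rev, inv_inv, inv_eq_of_mul_eq_one_right (h.hA2 a ha), mul_assoc,
            inv_mul_cancel_left]
        rw [e]
        exact hEF _ (F.inv_mem hp.1) _ (E.inv_mem hp.2)⟩ }
  refine (hgen a ha f hf S fun B hBA hBi g hg hgB => ⟨hg, ?_⟩).2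
  by_cases haB : a ∈ B
  · rw [hgB a haB, mul_assoc g a a, h.hA2 a ha, mul_one, mul_inv_cancel]
    exact E.one_mem
  by_cases h1 : a * g * a * g⁻¹ = 1
  · rw [h1]; exact E.one_mem
  exact hE _ (isInvPiece_comm h hBA hBi ha haB hg hgB h1)

/-- The join of the images of a set of pieces. -/
def blocks (s : Finset (MulAut U)) : Subgroup U := s.sup fun x => (cm x).range

variable (A F) in
/-- A set of inverted pieces with pairwise different images. -/
def Indep (s : Finset (MulAut U)) : Prop :=
  (∀ x ∈ s, IsInvPiece A F x) ∧ ∀ x ∈ s, ∀ y ∈ s, (cm x).range = (cm y).range → x = y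

theorem Indep.mono {s t : Finset (MulAut U)} (hs : Indep A F s) (hts : t ⊆ s) : Indep A F t :=
  ⟨fun x hx => hs.1 x (hts hx), fun x hx y hy => hs.2 x (hts hx) y (hts hy)⟩

theorem blocks_fixed (h : Hyp A F) {s : Finset (MulAut U)} (hs : Indep A F s) {y : MulAut U}
    (hy : IsPiece y) (hyF : y ∈ F) (hne : ∀ x ∈ s, (cm x).range ≠ (cm y).range) :
    ∀ m ∈ blocks s, y m = m := by
  have : blocks s ≤ fixSet ({y} : Set (MulAut U)) := by
    refine Finset.sup_le fun x hx => fun u hu g hg => ?_
    rw [Set.mem_singleton_iff.1 hg]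
    rcases (hs.1 x hx).1.dichotomy h.h2 hy (h.hPc x (hs.1 x hx).2.1 y hyF (hs.1 x hx).1 hy) with h' | h'
    · exact absurd h'.1 (hne x hx)
    · exact h'.2 u hu
  exact fun m hm => this hm y rfl

theorem blocks_inf_range (h : Hyp A F) {s : Finset (MulAut U)} (hs : Indep A F s) {y : MulAut U}
    (hy : IsPiece y) (hyF : y ∈ F) (hne : ∀ x ∈ s, (cm x).range ≠ (cm y).range) {u : U}
    (hu : u ∈ blocks s) (hu' : u ∈ (cm y).range) : u = 1 :=
  eq_one_of_cm_fixed h.h2 hy.odd hu' (blocks_fixed h hs hy hyF hne u hu)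

theorem blocks_invariant (h : Hyp A F) {s : Finset (MulAut U)} (hs : Indep A F s) {a : MulAut U}
    (ha : a ∈ A) {m : U} (hm : m ∈ blocks s) : a m ∈ blocks s := by
  have : blocks s ≤ (blocks s).comap a.toMonoidHom := by
    refine Finset.sup_le fun x hx => fun u hu => (Finset.le_sup (f := fun x => (cm x).range) hx) ?_
    have hr : (cm (a * x * a)).range = (cm x).range := by
      rcases (hs.1 x hx).norm h ha with h' | h' <;> rw [h']
      exact cm_range_inv x
    show a u ∈ (cm x).range
    rw [← hr, show a * x * a = a * x * a⁻¹ by rw [inv_eq_of_mul_eq_one_right (h.hA2 a ha)],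
      cm_range_conj]
    exact ⟨u, hu, rfl⟩
  exact this hm

theorem blocks_fix_all (h : Hyp A F) {s : Finset (MulAut U)} (hs : Indep A F s) :
    ∀ m ∈ blocks s, (∀ x ∈ s, x m = m) → m = 1 := by
  classical
  induction s using Finset.induction_on with
  | empty => intro m hm _; simpa [blocks] using hm
  | @insert y s hys ih =>
    intro m hm hfix
    have hs' := hs.mono (Finset.subset_insert y s)
    have hy := hs.1 y (Finset.mem_insert_self y s)
    have hne : ∀ x ∈ s, (cm x).range ≠ (cm y).range := fun x hx hxy =>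
      hys (hs.2 x (Finset.mem_insert_of_mem hx) y (Finset.mem_insert_self y s) hxy ▸ hx)
    rw [blocks, Finset.sup_insert, mem_sup] at hm
    obtain ⟨i, hi, m', hm', rfl⟩ := hm
    have hym' := blocks_fixed h hs' hy.1 hy.2.1 hne m' hm'
    have hi1 : i = 1 := by
      refine eq_one_of_cm_fixed h.h2 hy.1.odd hi ?_
      have := hfix y (Finset.mem_insert_self y s)
      rw [map_mul, hym'] at this
      exact mul_right_cancel this
    subst hi1
    rw [one_mul] at hfix ⊢
    exact ih hs' m' hm' fun x hx => hfix x (Finset.mem_insert_of_mem hx)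

theorem card_fix_blocks (h : Hyp A F) {s : Finset (MulAut U)} (hs : Indep A F s) :
    2 ^ s.card * Nat.card (fixSet (A : Set (MulAut U))) ≤
      Nat.card (fixSet (A : Set (MulAut U)) ⊔ blocks s : Subgroup U) := by
  classical
  induction s using Finset.induction_on with
  | empty => simp [blocks]
  | @insert y s hys ih =>
    have hs' := hs.mono (Finset.subset_insert y s)
    obtain ⟨hy, hyF, B, hBA, hBi, hBy, a, ha, haB, hinv⟩ := hs.1 y (Finset.mem_insert_self y s)
    have hne : ∀ x ∈ s, (cm x).range ≠ (cm y).range := fun x hx hxy =>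
      hys (hs.2 x (Finset.mem_insert_of_mem hx) y (Finset.mem_insert_self y s) hxy ▸ hx)
    have hle : fixSet (A : Set (MulAut U)) ⊔ blocks s ≤
        fixSet (A : Set (MulAut U)) ⊔ blocks (insert y s) :=
      sup_le_sup_left (Finset.sup_mono (Finset.subset_insert y s)) _
    obtain ⟨i, hi, hai⟩ : ∃ i ∈ (cm y).range, a i ≠ i := by
      by_contra hcon
      push Not at hcon
      have hfix : ∀ u ∈ (cm y).range, (y * y) u = u := by
        intro u hu
        have h1 : y u ∈ (cm y).range := cm_range_comm rfl hu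
        have h3 : (a * y * a) u = y u := by
          rw [MulAut.mul_apply, MulAut.mul_apply, hcon u hu, hcon _ h1]
        rw [hinv] at h3
        rw [MulAut.mul_apply, ← h3, MulAut.apply_inv_self]
      obtain ⟨v, hv, hv1⟩ : ∃ v ∈ (cm y).range, v ≠ 1 := by
        by_contra hc
        push Not at hc
        have := hy.2
        rw [(eq_bot_iff_forall _).2 hc, card_bot] at this
        omega
      exact hv1 (eq_one_of_cm_fixed h.h2 hy.odd hv (fix_of_sq hy.odd (hfix v hv)))
    have hi' : i ∈ fixSet (A : Set (MulAut U)) ⊔ blocks (insert y s) :=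
      mem_sup_right ((Finset.le_sup (f := fun x => (cm x).range) (Finset.mem_insert_self y s)) hi)
    have hnot : i ∉ fixSet (A : Set (MulAut U)) ⊔ blocks s := by
      intro hcon
      obtain ⟨f, hf, m, hm, rfl⟩ := mem_sup.1 hcon
      refine hai ?_
      have h1 : cm a (f * m) = cm a m := by
        rw [map_mul, cm_eq_one.2 (hf a ha), one_mul]
      have hr : (cm (a * y * a)).range = (cm y).range := by rw [hinv, cm_range_inv]
      have h3 : cm a (f * m) ∈ (cm y).range := by
        refine (cm y).range.div_mem ?_ hi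
        rw [← hr, show a * y * a = a * y * a⁻¹ by rw [inv_eq_of_mul_eq_one_right (h.hA2 a ha)],
          cm_range_conj]
        exact ⟨_, hi, rfl⟩
      exact cm_eq_one.1 (blocks_inf_range h hs' hy hyF hne
        (h1 ▸ (blocks s).div_mem (blocks_invariant h hs' ha hm) hm) h3)
    rw [Finset.card_insert_of_notMem hys, pow_succ, mul_comm _ 2, mul_assoc]
    exact (Nat.mul_le_mul_left 2 (ih hs')).trans (two_mul_card_le hle hi' hnot)

variable (A) in
/-- The centralisers in `A` of the members of `s`. -/
def centPieces (s : Finset (MulAut U)) : Subgroup (MulAut U) :=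
  A ⊓ centralizer (s : Set (MulAut U))

theorem mem_centPieces {s : Finset (MulAut U)} {a : MulAut U} :
    a ∈ centPieces A s ↔ a ∈ A ∧ ∀ x ∈ s, x * a = a * x := by
  simp only [centPieces, mem_inf, mem_centralizer_iff, Finset.mem_coe]

theorem card_centPieces (h : Hyp A F) {s : Finset (MulAut U)} (hs : ∀ x ∈ s, IsInvPiece A F x) :
    Nat.card A ≤ 2 ^ s.card * Nat.card (centPieces A s) := by
  classical
  induction s using Finset.induction_on with
  | empty =>
    have : centPieces A ∅ = A := le_antisymm inf_le_left fun b hb => mem_centPieces.2 ⟨hb, by simp⟩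
    simp [this]
  | @insert y s hys ih =>
    have hs' : ∀ x ∈ s, IsInvPiece A F x := fun x hx => hs x (Finset.mem_insert_of_mem hx)
    obtain ⟨hy, hyF, B, hBA, hBi, hBy, a, ha, haB, hinv⟩ := hs y (Finset.mem_insert_self y s)
    rw [Finset.card_insert_of_notMem hys, pow_succ, mul_assoc]
    refine (ih hs').trans (Nat.mul_le_mul_left _ ?_)
    have hle : centPieces A s ⊓ B ≤ centPieces A (insert y s) := by
      intro b hb
      rw [mem_centPieces]
      refine ⟨hb.1.1, fun x hx => ?_⟩
      rcases Finset.mem_insert.1 hx with rfl | hx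
      · exact (hBy b hb.2).symm
      · exact (mem_centPieces.1 hb.1).2 x hx
    refine le_trans ?_ (Nat.mul_le_mul_left 2 (card_le_of_le hle))
    rw [← card_mul_index ((centPieces A s ⊓ B).subgroupOf (centPieces A s)),
      Nat.card_congr (subgroupOfEquivOfLe inf_le_left).toEquiv, mul_comm 2]
    refine Nat.mul_le_mul_left _ ?_
    rw [inf_subgroupOf_left]
    calc (B.subgroupOf (centPieces A s)).index = B.relIndex (centPieces A s) := rfl
      _ ≤ B.relIndex A := relIndex_le_of_le_right (fun x hx => (mem_centPieces.1 hx).1)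
          index_ne_zero_of_finite
      _ ≤ 2 := hBi

/-- The decomposition theorem. -/
theorem ff_main (h : Hyp A F)
    (hgen : ∀ a ∈ A, ∀ f ∈ F, ∀ S : Subgroup (MulAut U),
      (∀ B ≤ A, B.relIndex A ≤ 2 → ∀ g ∈ F, (∀ b ∈ B, b * g = g * b) → g ∈ S) → f ∈ S) :
    (∀ x ∈ F, IsPiece x → (∀ a ∈ A, a * x * a = x ∨ a * x * a = x⁻¹) ∧
      ((∃ a ∈ A, a * x * a ≠ x) → IsInvPiece A F x ∧ ∀ y ∈ F, IsPiece y →
        (∀ a ∈ A, a * x * a = x ↔ a * y * a = y) → y = x ∨ y = x⁻¹)) ∧
    ((∀ a ∈ A, (∀ f ∈ F, a * f * a = f) → a = 1) →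
      ∀ z : U, (∀ x ∈ F, IsPiece x → x z = z) → ∀ a ∈ A, a z = z) := by
  classical
  have hiff : ∀ a ∈ A, ∀ x : MulAut U, a * x * a = x ↔ x * a = a * x := by
    intro a ha x
    constructor
    · intro he
      conv_lhs => rw [← he]
      rw [mul_assoc, h.hA2 a ha, mul_one]
    · intro he
      rw [← he, mul_assoc, h.hA2 a ha, mul_one]
  -- a maximal independent set
  haveI : Fintype (MulAut U) := Fintype.ofFinite _
  obtain ⟨s, hsS, hmax⟩ := Finset.exists_max_image
    ((Finset.univ : Finset (MulAut U)).powerset.filter fun s => Indep A F s) Finset.card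
    ⟨∅, by simp [Indep]⟩
  have hs : Indep A F s := (Finset.mem_filter.1 hsS).2
  have hfull : ∀ x, IsInvPiece A F x → ∃ x' ∈ s, x = x' ∨ x = x'⁻¹ := by
    intro x hx
    by_contra hcon
    push Not at hcon
    have hne : ∀ x' ∈ s, (cm x').range ≠ (cm x).range := by
      intro x' hx' he
      rcases (hs.1 x' hx').1.dichotomy h.h2 hx.1 (h.hPc _ (hs.1 x' hx').2.1 _ hx.2.1 (hs.1 x' hx').1 hx.1) with h' | h'
      · rcases h'.2 with e | e
        exacts [(hcon x' hx').1 e, (hcon x' hx').2 e]
      · rw [he, inf_idem] at h'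
        have := hx.1.2
        rw [h'.1, card_bot] at this
        omega
    have hxs : x ∉ s := fun hm => hne x hm rfl
    have hins : Indep A F (insert x s) := by
      refine ⟨fun y hy => ?_, fun y hy z hz he => ?_⟩
      · rcases Finset.mem_insert.1 hy with rfl | hy
        exacts [hx, hs.1 y hy]
      · rcases Finset.mem_insert.1 hy with hy' | hy' <;> rcases Finset.mem_insert.1 hz with hz' | hz'
        · rw [hy', hz']
        · exact absurd (hy' ▸ he).symm (hne z hz')
        · exact absurd (hz' ▸ he) (hne y hy')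
        · exact hs.2 y hy' z hz' he
    have := hmax (insert x s) (Finset.mem_filter.2
      ⟨Finset.mem_powerset.2 (Finset.subset_univ _), hins⟩)
    rw [Finset.card_insert_of_notMem hxs] at this
    omega
  -- the kernel on `F`
  have hcentF : ∀ a ∈ centPieces A s, ∀ f ∈ F, a * f * a = f := by
    intro a ha f hf
    obtain ⟨haA, hc⟩ := mem_centPieces.1 ha
    refine (hiff a haA f).2 (mem_centralizer_singleton_iff.1
      (hgen a haA f hf (centralizer ({a} : Set (MulAut U))) fun B hBA hBi g hg hgB => ?_))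
    rw [mem_centralizer_singleton_iff]
    by_cases haB : a ∈ B
    · exact (hgB a haB).symm
    refine (hiff a haA g).1 (mul_inv_eq_one.1 ?_)
    by_contra h1
    obtain ⟨-, hgF, B', -, -, -, -, -, -, -⟩ := isInvPiece_comm h hBA hBi haA haB hg hgB h1
    set x := a * g * a * g⁻¹ with hx
    have hinv : a * x * a = x⁻¹ := by
      have hi := inv_eq_of_mul_eq_one_right (h.hA2 a haA)
      rw [hx]
      simp only [mul_inv_rev, inv_inv, mul_assoc, hi]
      rw [← mul_assoc a a, h.hA2 a haA, one_mul]
    obtain ⟨x', hx', he⟩ := hfull x (isInvPiece_comm h hBA hBi haA haB hg hgB h1)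
    have hfixed : x * a = a * x := by
      rcases he with rfl | e
      · exact hc x hx'
      · rw [e]; exact ((show Commute x' a from hc x' hx').inv_left).eq
    rw [← hfixed, mul_assoc, h.hA2 a haA, mul_one] at hinv
    have h4 : orderOf x ∣ 2 := orderOf_dvd_of_pow_eq_one (by rw [sq]; exact mul_eq_one_iff_eq_inv.2 hinv)
    rcases (Nat.dvd_prime Nat.prime_two).1 h4 with h6 | h6
    · exact h1 (orderOf_eq_one_iff.1 h6)
    · have := h.hFodd x hgF
      rw [h6] at this
      exact absurd this (by decide)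
  have hfixC : fixSet (A : Set (MulAut U)) ⊔ blocks s ≤
      fixSet (centPieces A s : Set (MulAut U)) := by
    refine sup_le (fun u hu b hb => hu b (mem_centPieces.1 hb).1) (Finset.sup_le fun x hx => ?_)
    intro u hu b hb
    obtain ⟨hbA, hbc⟩ := mem_centPieces.1 hb
    obtain ⟨hx', -, B, hBA, hBi, hBx, a, ha, haB, hinv⟩ := hs.1 x hx
    -- a 2-element commuting with a piece fixes its image
    obtain ⟨v, hv, hv1⟩ : ∃ v ∈ (cm x).range, v ≠ 1 ∧ b v = v := by
      obtain ⟨w, hw, hw1⟩ : ∃ w ∈ (cm x).range, w ≠ 1 := by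
        by_contra hc
        push Not at hc
        have := hx'.2
        rw [(eq_bot_iff_forall _).2 hc, card_bot] at this
        omega
      by_cases hbw : b w = w
      · exact ⟨w, hw, hw1, hbw⟩
      · refine ⟨cm b w, (cm x).range.div_mem (cm_range_comm (hbc x hx) hw) hw,
          fun h' => hbw (cm_eq_one.1 h'), ?_⟩
        rw [cm_apply, map_div, ← MulAut.mul_apply, h.hA2 b hbA, MulAut.one_apply]
        rw [div_eq_mul_inv, div_eq_mul_inv, inv_eq_of_mul_eq_one_right (h.h2 _),
          inv_eq_of_mul_eq_one_right (h.h2 _), mul_comm]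
    exact hx'.fix_all h.h2 (hbc x hx) hv hv1.1 hv1.2 u hu
  have hbound : ∀ t : Finset (MulAut U), t ⊆ s → centPieces A t ≤ centPieces A s → t = s := by
    intro t hts ht
    refine Finset.eq_of_subset_of_card_le hts ?_
    have h4 := h.hbest (centPieces A s) (fun b hb => (mem_centPieces.1 hb).1)
    have h5 := card_fix_blocks h hs
    have h6 := card_centPieces h (fun x hx => hs.1 x (hts hx)) (s := t)
    have h7 := card_le_of_le hfixC
    have h8 := card_le_of_le ht
    have h9 : 2 ^ s.card * (Nat.card (centPieces A s) * Nat.card (fixSet (A : Set (MulAut U)))) ≤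
        2 ^ t.card * (Nat.card (centPieces A s) * Nat.card (fixSet (A : Set (MulAut U)))) := by
      calc _ = Nat.card (centPieces A s) * (2 ^ s.card * Nat.card (fixSet (A : Set (MulAut U)))) := by
            ring
        _ ≤ Nat.card (centPieces A s) * Nat.card (fixSet (centPieces A s : Set (MulAut U))) :=
            Nat.mul_le_mul_left _ (h5.trans h7)
        _ ≤ _ := h4
        _ ≤ 2 ^ t.card * Nat.card (centPieces A t) * Nat.card (fixSet (A : Set (MulAut U))) :=
            Nat.mul_le_mul_right _ h6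
        _ ≤ 2 ^ t.card * Nat.card (centPieces A s) * Nat.card (fixSet (A : Set (MulAut U))) :=
            Nat.mul_le_mul_right _ (Nat.mul_le_mul_left _ h8)
        _ = _ := by ring
    exact (Nat.pow_le_pow_iff_right (by norm_num)).1
      (Nat.le_of_mul_le_mul_right h9 (Nat.mul_pos Nat.card_pos Nat.card_pos))
  have hfixeq : fixSet (centPieces A s : Set (MulAut U)) =
      fixSet (A : Set (MulAut U)) ⊔ blocks s := by
    refine (eq_of_le_of_card_ge hfixC ?_).symm
    refine le_trans ?_ (card_fix_blocks h hs)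
    have h4 := h.hbest (centPieces A s) (fun b hb => (mem_centPieces.1 hb).1)
    refine Nat.le_of_mul_le_mul_left (h4.trans ?_) (Nat.card_pos : 0 < Nat.card (centPieces A s))
    calc Nat.card A * Nat.card (fixSet (A : Set (MulAut U)))
        ≤ 2 ^ s.card * Nat.card (centPieces A s) * Nat.card (fixSet (A : Set (MulAut U))) :=
          Nat.mul_le_mul_right _ (card_centPieces h hs.1)
      _ = _ := by ring
  -- pieces outside are centralised
  have hout : ∀ y ∈ F, IsPiece y → (∀ x ∈ s, (cm x).range ≠ (cm y).range) →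
      ∀ a ∈ A, a * y * a = y := by
    intro y hyF hy hne a ha
    have hA0y : (cm y).range ≤ fixSet (centPieces A s : Set (MulAut U)) := by
      intro u hu b hb
      have hbA := (mem_centPieces.1 hb).1
      have hby : y * b = b * y := ((hiff b hbA y).1 (hcentF b hb y hyF))
      obtain ⟨v, hv, hv1⟩ : ∃ v ∈ (cm y).range, v ≠ 1 ∧ b v = v := by
        obtain ⟨w, hw, hw1⟩ : ∃ w ∈ (cm y).range, w ≠ 1 := by
          by_contra hc
          push Not at hc
          have := hy.2
          rw [(eq_bot_iff_forall _).2 hc, card_bot] at this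
          omega
        by_cases hbw : b w = w
        · exact ⟨w, hw, hw1, hbw⟩
        · refine ⟨cm b w, (cm y).range.div_mem (cm_range_comm hby hw) hw,
            fun h' => hbw (cm_eq_one.1 h'), ?_⟩
          rw [cm_apply, map_div, ← MulAut.mul_apply, h.hA2 b hbA, MulAut.one_apply]
          rw [div_eq_mul_inv, div_eq_mul_inv, inv_eq_of_mul_eq_one_right (h.h2 _),
            inv_eq_of_mul_eq_one_right (h.h2 _), mul_comm]
      exact hy.fix_all h.h2 hby hv hv1.1 hv1.2 u hu
    have hy' : IsPiece (a * y * a) := by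
      have := hy.conj a
      rwa [inv_eq_of_mul_eq_one_right (h.hA2 a ha)] at this
    have hai := inv_eq_of_mul_eq_one_right (h.hA2 a ha)
    have hmove : ∀ u ∈ (cm y).range, cm a u ∈ blocks s := by
      intro u hu
      have h1 := hA0y hu
      rw [hfixeq] at h1
      obtain ⟨f, hf, m, hm, rfl⟩ := mem_sup.1 h1
      rw [map_mul, cm_eq_one.2 (hf a ha), one_mul]
      exact (blocks s).div_mem (blocks_invariant h hs ha hm) hm
    have hr : ∀ u ∈ (cm y).range, a u ∈ (cm (a * y * a)).range := fun u hu => by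
      rw [show a * y * a = a * y * a⁻¹ by rw [hai], cm_range_conj]
      exact ⟨u, hu, rfl⟩
    rcases hy.dichotomy h.h2 hy' (h.hPc y hyF _ (h.hAF a ha y hyF) hy hy') with ⟨he, -⟩ | ⟨-, hfixy⟩
    · have hfixI : ∀ u ∈ (cm y).range, a u = u := fun u hu =>
        cm_eq_one.1 (blocks_inf_range h hs hy hyF hne (hmove u hu)
          ((cm y).range.div_mem (he ▸ hr u hu) hu))
      rcases hy.dichotomy h.h2 hy' (h.hPc y hyF _ (h.hAF a ha y hyF) hy hy') with ⟨-, e | e⟩ | ⟨hb, -⟩
      · exact e
      · exfalso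
        obtain ⟨v, hv, hv1⟩ : ∃ v ∈ (cm y).range, v ≠ 1 := by
          by_contra hc
          push Not at hc
          have := hy.2
          rw [(eq_bot_iff_forall _).2 hc, card_bot] at this
          omega
        have h1 : (a * y * a) v = y v := by
          rw [MulAut.mul_apply, MulAut.mul_apply, hfixI v hv,
            hfixI _ (cm_range_comm rfl hv)]
        rw [e] at h1
        refine hv1 (eq_one_of_cm_fixed h.h2 hy.odd hv (fix_of_sq hy.odd ?_))
        rw [MulAut.mul_apply, ← h1, MulAut.apply_inv_self]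
      · rw [← he, inf_idem] at hb
        have := hy.2
        rw [hb, card_bot] at this
        omega
    · exfalso
      obtain ⟨v, hv, hv1⟩ : ∃ v ∈ (cm y).range, v ≠ 1 := by
        by_contra hc
        push Not at hc
        have := hy.2
        rw [(eq_bot_iff_forall _).2 hc, card_bot] at this
        omega
      have hne' : ∀ x ∈ s, (cm x).range ≠ (cm (a * y * a)).range := by
        intro x hx he
        rcases (hs.1 x hx).norm h ha with e | e
        · refine hne x hx ?_
          have := cm_range_conj (a * x * a) (1 : MulAut U)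
          have e2 : (cm y).range = (cm (a * (a * y * a) * a⁻¹)).range := by
            rw [hai, conj_conj_eq h ha]
          rw [e2, cm_range_conj, ← he, ← cm_range_conj, hai, e]
        · refine hne x hx ?_
          have e2 : (cm y).range = (cm (a * (a * y * a) * a⁻¹)).range := by
            rw [hai, conj_conj_eq h ha]
          rw [e2, cm_range_conj, ← he, ← cm_range_conj, hai, e, cm_range_inv]
      have hm := hmove v hv
      have h1 : (a * y * a) (cm a v) = cm a v := blocks_fixed h hs hy'
        (h.hAF a ha y hyF) hne' _ hm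
      have h2 : (a * y * a) (a v) = a v := by
        rw [show a v = cm a v * v from (div_mul_cancel _ _).symm, map_mul, h1, hfixy v hv]
      have h4 := eq_one_of_cm_fixed h.h2 hy'.odd (hr v hv) h2
      exact hv1 (a.injective (h4.trans (map_one a).symm))
  have hcase : ∀ x ∈ F, IsPiece x → (∃ x' ∈ s, x = x' ∨ x = x'⁻¹) ∨ ∀ a ∈ A, a * x * a = x := by
    intro x hxF hx
    by_cases hc : ∀ x' ∈ s, (cm x').range ≠ (cm x).range
    · exact Or.inr (hout x hxF hx hc)
    · push Not at hc
      obtain ⟨x', hx', he⟩ := hc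
      left
      refine ⟨x', hx', ?_⟩
      rcases (hs.1 x' hx').1.dichotomy h.h2 hx (h.hPc _ (hs.1 x' hx').2.1 _ hxF (hs.1 x' hx').1 hx) with h' | h'
      · exact h'.2
      · rw [he, inf_idem] at h'
        have := hx.2
        rw [h'.1, card_bot] at this
        omega
  have hinvinv : ∀ x, IsInvPiece A F x → IsInvPiece A F x⁻¹ := by
    rintro x ⟨hx, hxF, B, hBA, hBi, hBx, a, ha, haB, hinv⟩
    refine ⟨hx.inv, F.inv_mem hxF, B, hBA, hBi,
      fun b hb => ((show Commute b x from hBx b hb).inv_right).eq, a, ha, haB, ?_⟩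
    rw [inv_inv]
    calc a * x⁻¹ * a = a * (a * x * a) * a := by rw [hinv]
      _ = x := conj_conj_eq h ha
  refine ⟨fun x hxF hx => ⟨fun a ha => ?_, ?_⟩, ?_⟩
  · rcases hcase x hxF hx with ⟨x', hx', rfl | rfl⟩ | hc
    · exact (hs.1 x hx').norm h ha
    · exact (hinvinv _ (hs.1 x' hx')).norm h ha
    · exact Or.inl (hc a ha)
  · rintro ⟨a, ha, hne⟩
    obtain ⟨x', hx', hxx'⟩ := (hcase x hxF hx).resolve_right fun hc => hne (hc a ha)
    have hinvx : IsInvPiece A F x := by
      rcases hxx' with rfl | rfl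
      exacts [hs.1 x hx', hinvinv _ (hs.1 x' hx')]
    refine ⟨hinvx, fun y hyF hy hsame => ?_⟩
    obtain ⟨y', hy', hyy'⟩ := (hcase y hyF hy).resolve_right fun hc =>
      hne ((hsame a ha).2 (hc a ha))
    by_cases he : y' = x'
    · subst he
      rcases hxx' with rfl | rfl <;> rcases hyy' with rfl | rfl <;> simp
    · exfalso
      have key : ∀ (b : MulAut U), b ∈ A → ∀ p q : MulAut U, (q = p ∨ q = p⁻¹) →
          (b * q * b = q ↔ b * p * b = p) := by
        intro b hb p q hpq
        rcases hpq with rfl | rfl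
        · exact Iff.rfl
        · rw [hiff b hb, hiff b hb]
          exact Commute.inv_left_iff
      have h4 : centPieces A (s.erase y') ≤ centPieces A s := by
        intro b hb
        obtain ⟨hbA, hbc⟩ := mem_centPieces.1 hb
        refine mem_centPieces.2 ⟨hbA, fun z hz => ?_⟩
        by_cases hzy : z = y'
        · subst hzy
          refine (hiff b hbA z).1 ((key b hbA z y hyy').1 ((hsame b hbA).1
            ((key b hbA x' x hxx').2 ((hiff b hbA x').2 ?_))))
          exact hbc x' (Finset.mem_erase.2 ⟨fun e => he e.symm, hx'⟩)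
        · exact hbc z (Finset.mem_erase.2 ⟨hzy, hz⟩)
      have h5 := hbound _ (Finset.erase_subset _ _) h4
      exact (Finset.mem_erase.1 (h5.symm ▸ hy' : y' ∈ s.erase y')).1 rfl
  · intro hfaith z hz a ha
    have htop : ∀ u : U, u ∈ fixSet (A : Set (MulAut U)) ⊔ blocks s := by
      intro u
      rw [← hfixeq]
      intro b hb
      rw [hfaith b (mem_centPieces.1 hb).1 (hcentF b hb)]
      rfl
    obtain ⟨f, hf, m, hm, hfm⟩ := mem_sup.1 (htop z)
    refine cm_eq_one.1 (blocks_fix_all h hs _ ?_ fun x hx => ?_)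
    · rw [← hfm, map_mul, cm_eq_one.2 (hf a ha), one_mul]
      exact (blocks s).div_mem (blocks_invariant h hs ha hm) hm
    · rw [cm_apply, map_div, hz x (hs.1 x hx).2.1 (hs.1 x hx).1]
      congr 1
      have hx' : IsPiece (a * x * a) := by
        have := (hs.1 x hx).1.conj a
        rwa [inv_eq_of_mul_eq_one_right (h.hA2 a ha)] at this
      have h5 := hz _ (h.hAF a ha x (hs.1 x hx).2.1) hx'
      rw [MulAut.mul_apply, MulAut.mul_apply] at h5
      have h6 := congrArg a h5
      rwa [← MulAut.mul_apply, h.hA2 a ha] at h6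

end Cfsg.Agent.LocalEvenB.FF
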