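import Cfsg.Agent.Lib.LocalEvenB.FFMain

/-!
A module is the sum of the ranges of commuting pieces and their common fixed points.
-/

set_option autoImplicit false

namespace Cfsg.Agent.LocalEvenB.FF

open Subgroup

variable {U : Type*} [CommGroup U] [Finite U]

theorem IsPiece.exists_ne {x : MulAut U} (hx : IsPiece x) : ∃ v ∈ (cm x).range, v ≠ 1 := by
  by_contra hc
  push Not at hc
  have := hx.2
  rw [(eq_bot_iff_forall _).2 hc, card_bot] at this
  omega

theorem IsPiece.ne_one {x : MulAut U} (hx : IsPiece x) : x ≠ 1 := by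
  intro h
  obtain ⟨v, ⟨u, rfl⟩, hv1⟩ := hx.exists_ne
  exact hv1 (cm_eq_one.2 (by rw [h]; rfl))

theorem IsPiece.range_cases (h2 : ∀ u : U, u * u = 1) {x : MulAut U} (hx : IsPiece x) {u v : U}
    (hu : u ∈ (cm x).range) (hv : v ∈ (cm x).range) (hv1 : v ≠ 1) :
    u = 1 ∨ u = v ∨ u = x v ∨ u = x⁻¹ v := by
  classical
  by_contra hcon
  push Not at hcon
  have hv' : x⁻¹ v ∈ (cm x).range :=
    cm_range_comm (g := x) (h := x⁻¹) (by rw [mul_inv_cancel, inv_mul_cancel]) hv
  have hne : x v ≠ v := fun h' => hv1 (eq_one_of_cm_fixed h2 hx.odd hv h')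
  have n2 : x⁻¹ v ≠ v := fun h' => hne (by conv_lhs => rw [← h', MulAut.apply_inv_self])
  have n3 : x v ≠ x⁻¹ v := fun h' => hne (fix_of_sq hx.odd (by
    rw [MulAut.mul_apply, h', MulAut.apply_inv_self]))
  have n4 : x v ≠ 1 := fun h' => hv1 (x.injective (h'.trans (map_one x).symm))
  have n5 : x⁻¹ v ≠ 1 := fun h' => hv1 (x⁻¹.injective (h'.trans (map_one x⁻¹).symm))
  let S : Finset U := {1, v, x v, x⁻¹ v, u}
  have hS : S.card = 5 := by
    simp only [S]
    rw [Finset.card_insert_of_notMem (by
        simp only [Finset.mem_insert, Finset.mem_singleton, not_or]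
        exact ⟨hv1.symm, n4.symm, n5.symm, hcon.1.symm⟩),
      Finset.card_insert_of_notMem (by
        simp only [Finset.mem_insert, Finset.mem_singleton, not_or]
        exact ⟨hne.symm, n2.symm, hcon.2.1.symm⟩),
      Finset.card_insert_of_notMem (by
        simp only [Finset.mem_insert, Finset.mem_singleton, not_or]
        exact ⟨n3, hcon.2.2.1.symm⟩),
      Finset.card_insert_of_notMem (by
        simp only [Finset.mem_singleton]
        exact hcon.2.2.2.symm),
      Finset.card_singleton]
  have hsub : (S : Set U) ⊆ ((cm x).range : Set U) := by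
    intro w hw
    simp only [S, Finset.coe_insert, Finset.coe_singleton, Set.mem_insert_iff,
      Set.mem_singleton_iff] at hw
    rcases hw with rfl | rfl | rfl | rfl | rfl
    exacts [one_mem _, hv, cm_range_comm rfl hv, hv', hu]
  have h9 := Set.ncard_le_ncard hsub (Set.toFinite _)
  rw [Set.ncard_coe_finset, hS, ← Nat.card_coe_set_eq, SetLike.coe_sort_coe, hx.2] at h9
  omega

theorem mem_fix_sup_blocks (h2 : ∀ u : U, u * u = 1) {s : Finset (MulAut U)}
    (hp : ∀ x ∈ s, IsPiece x) (hc : ∀ x ∈ s, ∀ y ∈ s, x * y = y * x) (u : U) :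
    u ∈ fixSet (s : Set (MulAut U)) ⊔ blocks s := by
  classical
  induction s using Finset.induction_on generalizing u with
  | empty => exact mem_sup_left fun g hg => absurd hg (by simp)
  | @insert x s hxs ih =>
    have hc' : ∀ a ∈ s, ∀ b ∈ s, a * b = b * a := fun a ha b hb =>
      hc a (Finset.mem_insert_of_mem ha) b (Finset.mem_insert_of_mem hb)
    obtain ⟨z, hz, m, hm, rfl⟩ :=
      mem_sup.1 (ih (fun a ha => hp a (Finset.mem_insert_of_mem ha)) hc' u)
    have hx := hp x (Finset.mem_insert_self x s)
    obtain ⟨i, hi, hf⟩ := sup_fix_eq_top h2 hx.odd z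
    have hfix : z / i ∈ fixSet ((insert x s : Finset (MulAut U)) : Set (MulAut U)) := by
      intro g hg
      rcases Finset.mem_insert.1 hg with rfl | hg
      · exact hf
      have hgx : x * g = g * x := hc x (Finset.mem_insert_self x s) g (Finset.mem_insert_of_mem hg)
      have h1 : g i / i ∈ (cm x).range := (cm x).range.div_mem (cm_range_comm hgx hi) hi
      have h3 : x (g (z / i)) = g (z / i) := by
        rw [← MulAut.mul_apply, hgx, MulAut.mul_apply, hf]
      have h4 : g i / i = (z / i) / g (z / i) := by
        rw [map_div, hz g hg, div_div_div_cancel_left]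
      have h5 : x (g i / i) = g i / i := by rw [h4, map_div, hf, h3]
      rw [map_div, hz g hg, div_eq_one.1 (eq_one_of_cm_fixed h2 hx.odd h1 h5)]
    have e : z * m = (z / i) * (i * m) := by rw [← mul_assoc, div_mul_cancel]
    rw [e]
    refine mul_mem_sup hfix ?_
    refine mul_mem ((Finset.le_sup (f := fun x => (cm x).range) (Finset.mem_insert_self x s)) hi) ?_
    exact (Finset.sup_mono (f := fun x => (cm x).range) (Finset.subset_insert x s)) hm

/-- An automorphism commuting with commuting pieces agrees with an element of their group on the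
ranges. -/
theorem exists_agree (h2 : ∀ u : U, u * u = 1) {s : Finset (MulAut U)}
    (hp : ∀ x ∈ s, IsPiece x) (hc : ∀ x ∈ s, ∀ y ∈ s, x * y = y * x) {g : MulAut U}
    (hg : ∀ x ∈ s, g * x = x * g) :
    ∃ e ∈ Subgroup.closure (s : Set (MulAut U)), ∀ x ∈ s, ∀ u ∈ (cm x).range, e u = g u := by
  classical
  induction s using Finset.induction_on with
  | empty => exact ⟨1, one_mem _, fun x hx => absurd hx (by simp)⟩
  | @insert x s hxs ih =>
    obtain ⟨e, he, hag⟩ := ih (fun a ha => hp a (Finset.mem_insert_of_mem ha))
      (fun a ha b hb => hc a (Finset.mem_insert_of_mem ha) b (Finset.mem_insert_of_mem hb))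
      (fun a ha => hg a (Finset.mem_insert_of_mem ha))
    have hx := hp x (Finset.mem_insert_self x s)
    have hle : Subgroup.closure (s : Set (MulAut U)) ≤ Subgroup.closure ((insert x s : Finset (MulAut U)) : Set _) :=
      closure_mono (Finset.coe_subset.2 (Finset.subset_insert x s))
    by_cases hsame : ∃ y ∈ s, (cm y).range = (cm x).range
    · obtain ⟨y, hy, hyx⟩ := hsame
      refine ⟨e, hle he, fun a ha u hu => ?_⟩
      rcases Finset.mem_insert.1 ha with rfl | ha
      · exact hag y hy u (hyx ▸ hu)
      · exact hag a ha u hu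
    push Not at hsame
    have hxe : x * e = e * x := by
      have : Subgroup.closure (s : Set (MulAut U)) ≤ centralizer ({x} : Set (MulAut U)) :=
        (closure_le _).2 fun a ha => mem_centralizer_singleton_iff.2
          (hc a (Finset.mem_insert_of_mem ha) x (Finset.mem_insert_self x s))
      exact (mem_centralizer_singleton_iff.1 (this he)).symm
    set k := e⁻¹ * g with hk
    have hxk : x * k = k * x :=
      ((show Commute x e from hxe).inv_right.mul_right
        (show Commute x g from (hg x (Finset.mem_insert_self x s)).symm)).eq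
    obtain ⟨v, hv, hv1⟩ := hx.exists_ne
    have hkv : k v ∈ (cm x).range := cm_range_comm hxk hv
    -- choose the power of `x` that agrees with `k` at `v`
    obtain ⟨p, hpx, hpv, hxp⟩ : ∃ p ∈ zpowers x, p v = k v ∧ x * p = p * x := by
      rcases hx.range_cases h2 hkv hv hv1 with h' | h' | h' | h'
      · exact absurd (k.injective (h'.trans (map_one k).symm)) hv1
      · exact ⟨1, one_mem _, h'.symm, by rw [mul_one, one_mul]⟩
      · exact ⟨x, mem_zpowers x, h'.symm, rfl⟩
      · exact ⟨x⁻¹, inv_mem (mem_zpowers x), h'.symm, by rw [mul_inv_cancel, inv_mul_cancel]⟩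
    refine ⟨e * p, mul_mem (hle he) ((zpowers_le.2 (subset_closure
      (Finset.mem_insert_self x s))) hpx), fun a ha u hu => ?_⟩
    rcases Finset.mem_insert.1 ha with rfl | ha
    · have hm : a * (p⁻¹ * k) = (p⁻¹ * k) * a :=
        ((show Commute a p from hxp).inv_right.mul_right (show Commute a k from hxk)).eq
      have := hx.fix_all h2 hm hv hv1 (by rw [MulAut.mul_apply, ← hpv, MulAut.inv_apply_self]) u hu
      rw [MulAut.mul_apply] at this
      have h6 : k u = p u := by
        conv_rhs => rw [← this, MulAut.apply_inv_self]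
      rw [MulAut.mul_apply, ← h6, hk, MulAut.mul_apply, MulAut.apply_inv_self]
    · have hfix : x u = u := by
        rcases hx.dichotomy h2 (hp a (Finset.mem_insert_of_mem ha))
          (hc x (Finset.mem_insert_self x s) a (Finset.mem_insert_of_mem ha)) with h' | h'
        · exact absurd h'.1.symm (hsame a ha)
        · have hax := hc a (Finset.mem_insert_of_mem ha) x (Finset.mem_insert_self x s)
          have h7 : cm x u ∈ (cm x).range ⊓ (cm a).range :=
            ⟨⟨u, rfl⟩, (cm a).range.div_mem (cm_range_comm hax hu) hu⟩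
          rw [h'.1] at h7
          exact cm_eq_one.1 (mem_bot.1 h7)
      have hpu : p u = u := by
        have : zpowers x ≤ MulAction.stabilizer (MulAut U) u := zpowers_le.2 hfix
        exact this hpx
      rw [MulAut.mul_apply, hpu, hag a ha u hu]

end Cfsg.Agent.LocalEvenB.FF
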