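import Cfsg.Prelude.Def_IsolatedElements
import Cfsg.Agent.Lib.LocalEvenB.Basic

/-! Isolated elements of prime power order. -/

set_option autoImplicit false

namespace Cfsg.Agent.LocalEvenB

variable {G : Type*} [Group G] [Finite G] {p : ℕ} [Fact p.Prime] {x : G}

/-- An isolated `p`-element is centralized by the normalizer of any `p`-subgroup containing it. -/
theorem iso_normalizer_le (hiso : Cfsg.IsIsolated x) {R : Subgroup G} (hR : IsPGroup p ↥R)
    (hxR : x ∈ R) : Subgroup.normalizer (R : Set G) ≤ Subgroup.centralizer ({x} : Set G) := by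
  have hx : R ≤ Subgroup.centralizer ({x} : Set G) := by
    have hC : R = R ⊓ Subgroup.centralizer ({x} : Set G) := by
      refine eq_of_inf_normalizer_le hR inf_le_left ?_
      rintro n ⟨hnR, hn⟩
      have hxC : x ∈ R ⊓ Subgroup.centralizer ({x} : Set G) :=
        ⟨hxR, Subgroup.mem_centralizer_singleton_iff.2 rfl⟩
      have h2 : n * x * n⁻¹ ∈ R ⊓ Subgroup.centralizer ({x} : Set G) :=
        (Subgroup.mem_normalizer_iff.1 hn x).1 hxC
      have h3 : n * x * n⁻¹ = x :=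
        hiso n (Subgroup.mem_centralizer_singleton_iff.1 h2.2).symm
      exact ⟨hnR, Subgroup.mem_centralizer_singleton_iff.2 (mul_inv_eq_iff_eq_mul.1 h3)⟩
    exact hC.le.trans inf_le_right
  intro n hn
  have h2 : n * x * n⁻¹ ∈ R := (Subgroup.mem_normalizer_iff.1 hn x).1 hxR
  have h3 : n * x * n⁻¹ = x := hiso n (Subgroup.mem_centralizer_singleton_iff.1 (hx h2)).symm
  exact Subgroup.mem_centralizer_singleton_iff.2 (mul_inv_eq_iff_eq_mul.1 h3)

theorem iso_le_centralizer (hiso : Cfsg.IsIsolated x) {R : Subgroup G} (hR : IsPGroup p ↥R)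
    (hxR : x ∈ R) : R ≤ Subgroup.centralizer ({x} : Set G) :=
  Subgroup.le_normalizer.trans (iso_normalizer_le hiso hR hxR)

/-- The only conjugate of `x` in a `p`-subgroup containing `x` is `x`. -/
theorem iso_conj_eq (hiso : Cfsg.IsIsolated x) {R : Subgroup G} (hR : IsPGroup p ↥R)
    (hxR : x ∈ R) {g : G} (hg : g * x * g⁻¹ ∈ R) : g * x * g⁻¹ = x :=
  hiso g (Subgroup.mem_centralizer_singleton_iff.1 (iso_le_centralizer hiso hR hxR hg)).symm

/-- Conjugates of `x` inside a subgroup containing `x` are conjugate inside that subgroup. -/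
theorem iso_conj_mem_subgroup (hx : ∃ k : ℕ, orderOf x = p ^ k) (hiso : Cfsg.IsIsolated x)
    {H : Subgroup G} (hxH : x ∈ H) {g : G} (hg : g * x * g⁻¹ ∈ H) :
    ∃ h ∈ H, h * x * h⁻¹ = g * x * g⁻¹ := by
  obtain ⟨k, hk⟩ := hx
  have hzx : IsPGroup p ↥(Subgroup.zpowers (⟨x, hxH⟩ : ↥H)) :=
    isPGroup_zpowers ⟨k, by rw [← Subgroup.orderOf_coe]; exact hk⟩
  have hzy : IsPGroup p ↥(Subgroup.zpowers (⟨g * x * g⁻¹, hg⟩ : ↥H)) := by
    refine isPGroup_zpowers ⟨k, ?_⟩
    rw [← Subgroup.orderOf_coe, ← hk]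
    exact orderOf_injective (MulAut.conj g).toMonoidHom (MulAut.conj g).injective x
  obtain ⟨P, hP⟩ := hzx.exists_le_sylow
  obtain ⟨c, hc⟩ := sylow_conj_le P hzy
  have hxP : x ∈ (P : Subgroup ↥H).map H.subtype :=
    ⟨_, hP (Subgroup.mem_zpowers _), rfl⟩
  have h1 : ((c⁻¹ * ⟨g * x * g⁻¹, hg⟩ * c : ↥H) : G) ∈ (P : Subgroup ↥H).map H.subtype :=
    ⟨_, mem_conjMap.1 (hc (Subgroup.mem_zpowers _)), rfl⟩
  have h2 := iso_conj_eq hiso (P.isPGroup'.map _) hxP
    (g := (c : G)⁻¹ * g) (by simpa [mul_assoc] using h1)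
  refine ⟨c, c.2, ?_⟩
  conv_lhs => rw [← h2]
  group

/-- `H = N C_H(x)` when `x` lies in the normal subgroup `N` of `H`. -/
theorem iso_sup_centralizer (hx : ∃ k : ℕ, orderOf x = p ^ k) (hiso : Cfsg.IsIsolated x)
    {H N : Subgroup G} (hNH : N ≤ H) (hN : H ≤ Subgroup.normalizer (N : Set G)) (hxN : x ∈ N) :
    N ⊔ (H ⊓ Subgroup.centralizer ({x} : Set G)) = H := by
  refine le_antisymm (sup_le hNH inf_le_left) fun h hh => ?_
  obtain ⟨n, hn, hne⟩ := iso_conj_mem_subgroup hx hiso hxN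
    ((Subgroup.mem_normalizer_iff.1 (hN hh) x).1 hxN)
  have hc : n⁻¹ * h ∈ H ⊓ Subgroup.centralizer ({x} : Set G) := by
    refine ⟨H.mul_mem (H.inv_mem (hNH hn)) hh, Subgroup.mem_centralizer_singleton_iff.2 ?_⟩
    calc n⁻¹ * h * x = n⁻¹ * (h * x * h⁻¹) * h := by group
      _ = x * (n⁻¹ * h) := by rw [← hne]; group
  have := Subgroup.mul_mem_sup hn hc
  rwa [mul_inv_cancel_left] at this

/-- Images of isolated `p`-elements are isolated. -/
theorem iso_map {K : Type*} [Group K] (hx : ∃ k : ℕ, orderOf x = p ^ k) (hiso : Cfsg.IsIsolated x)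
    (f : G →* K) (hf : Function.Surjective f) : Cfsg.IsIsolated (f x) := by
  intro k hk
  obtain ⟨g, rfl⟩ := hf k
  set A : Subgroup K := Subgroup.closure {f x, f (g * x * g⁻¹)} with hA
  have hcomm : ∀ a ∈ ({f x, f (g * x * g⁻¹)} : Set K), ∀ b ∈ ({f x, f (g * x * g⁻¹)} : Set K),
      a * b = b * a := by
    have h' : f x * f (g * x * g⁻¹) = f (g * x * g⁻¹) * f x := by
      simpa only [map_mul, map_inv] using hk.eq
    rintro a (rfl | rfl) b (rfl | rfl) <;> first | rfl | exact h' | exact h'.symm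
  letI := Subgroup.isMulCommutative_closure hcomm
  obtain ⟨d, hd, hde⟩ := iso_conj_mem_subgroup hx hiso (H := A.comap f)
    (show f x ∈ A from Subgroup.subset_closure (by simp)) (g := g)
    (show f (g * x * g⁻¹) ∈ A from Subgroup.subset_closure (by simp))
  have hfx : f x ∈ A := Subgroup.subset_closure (by simp)
  have hc : f d * f x = f x * f d :=
    congrArg Subtype.val (mul_comm' (⟨f d, hd⟩ : ↥A) ⟨f x, hfx⟩)
  have := congrArg f hde
  simp only [map_mul, map_inv] at this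
  rw [← this, hc, mul_inv_cancel_right]

end Cfsg.Agent.LocalEvenB
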