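import Mathlib

/-!
# Towards the P(G,V) theorem: fixed spaces, offenders and replacement
-/

set_option autoImplicit false

namespace Cfsg.Agent.LocalEvenB.PGV

open Subgroup

variable {G V : Type*} [Group G] [AddCommGroup V] {p : ℕ} [Fact p.Prime] [Module (ZMod p) V]
variable (ρ : Representation (ZMod p) G V)

theorem rho_mul (g h : G) (v : V) : ρ (g * h) v = ρ g (ρ h v) := by simp

theorem rho_one (v : V) : ρ 1 v = v := by simp

theorem rho_inv_apply (g : G) (v : V) : ρ g⁻¹ (ρ g v) = v := by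
  rw [← rho_mul, inv_mul_cancel, rho_one]

theorem rho_apply_inv (g : G) (v : V) : ρ g (ρ g⁻¹ v) = v := by
  rw [← rho_mul, mul_inv_cancel, rho_one]

theorem rho_comm {g h : G} (hc : g * h = h * g) (v : V) : ρ g (ρ h v) = ρ h (ρ g v) := by
  rw [← rho_mul, hc, rho_mul]

theorem rho_conj (g x : G) (v : V) : ρ (g * x * g⁻¹) (ρ g v) = ρ g (ρ x v) := by
  rw [← rho_mul, ← rho_mul, inv_mul_cancel_right]

/-- Fixed space of a subgroup. -/
def fix (B : Subgroup G) : Submodule (ZMod p) V where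
  carrier := {v | ∀ b ∈ B, ρ b v = v}
  zero_mem' b _ := map_zero _
  add_mem' {v w} hv hw b hb := by rw [map_add, hv b hb, hw b hb]
  smul_mem' c v hv b hb := by rw [map_smul, hv b hb]

theorem mem_fix {B : Subgroup G} {v : V} : v ∈ fix ρ B ↔ ∀ b ∈ B, ρ b v = v := Iff.rfl

theorem fix_anti {B C : Subgroup G} (h : B ≤ C) : fix ρ C ≤ fix ρ B := fun _ hv b hb => hv b (h hb)

/-- The subgroup of elements fixing every vector in a set. -/
def stab (s : Set V) : Subgroup G where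
  carrier := {g | ∀ v ∈ s, ρ g v = v}
  one_mem' v _ := rho_one ρ v
  mul_mem' {g h} hg hh v hv := by rw [rho_mul, hh v hv, hg v hv]
  inv_mem' {g} hg v hv := by
    conv_lhs => rw [← hg v hv]
    exact rho_inv_apply ρ g v

theorem mem_stab {s : Set V} {g : G} : g ∈ stab ρ s ↔ ∀ v ∈ s, ρ g v = v := Iff.rfl

/-- `A` maximizes `|B| |C_V(B)|` over its subgroups. -/
def IsOff (A : Subgroup G) : Prop :=
  ∀ B : Subgroup G, B ≤ A →
    Nat.card ↥B * Nat.card ↥(fix ρ B) ≤ Nat.card ↥A * Nat.card ↥(fix ρ A)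

/-- Every element of `A` normalizes `K` or moves it to a commuting subgroup. -/
def CC (A K : Subgroup G) : Prop :=
  ∀ c ∈ A, (∀ x ∈ K, c * x * c⁻¹ ∈ K) ∨ ∀ x ∈ K, ∀ y ∈ K, Commute (c * x * c⁻¹) y

/-- Perfect, non-abelian, and every proper normal subgroup is central. -/
structure QS (K : Subgroup G) : Prop where
  perf : ⁅K, K⁆ = K
  nab : ∃ x ∈ K, ∃ y ∈ K, x * y ≠ y * x
  norm : ∀ N : Subgroup G, N ≤ K → (∀ x ∈ K, ∀ z ∈ N, x * z * x⁻¹ ∈ N) →
    N = K ∨ ∀ z ∈ N, ∀ x ∈ K, x * z = z * x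

/-- A subgroup containing all commutators of a perfect `K` contains `K`. -/
theorem QS.le_of_comm {K : Subgroup G} (hK : QS K) {H : Subgroup G}
    (h : ∀ x ∈ K, ∀ y ∈ K, x * y * x⁻¹ * y⁻¹ ∈ H) : K ≤ H := by
  rw [← hK.perf, Subgroup.commutator_le]
  intro x hx y hy
  rw [commutatorElement_def]
  exact h x hx y hy

/-- A perfect group acting with commuting operators on an invariant set fixes it pointwise. -/
theorem triv_of_comm {K : Subgroup G} (hK : QS K) (T : Set V) (hT : ∀ x ∈ K, ∀ v ∈ T, ρ x v ∈ T)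
    (hc : ∀ x ∈ K, ∀ y ∈ K, ∀ v ∈ T, ρ (x * y) v = ρ (y * x) v) :
    ∀ x ∈ K, ∀ v ∈ T, ρ x v = v := by
  have h : K ≤ stab ρ T := hK.le_of_comm fun x hx y hy v hv => by
    have hv' : ρ x⁻¹ (ρ y⁻¹ v) ∈ T := hT _ (K.inv_mem hx) _ (hT _ (K.inv_mem hy) _ hv)
    have e := hc x hx y hy _ hv'
    rw [rho_mul ρ y x, rho_apply_inv, rho_apply_inv] at e
    rw [rho_mul ρ (x * y * x⁻¹), rho_mul ρ (x * y)]
    exact e
  exact fun x hx v hv => h hx v hv

/-- `K` acting trivially on two layers of a series acts trivially. -/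
theorem triv_of_series {K : Subgroup G} (hK : QS K) (W : Submodule (ZMod p) V)
    (h1 : ∀ x ∈ K, ∀ w ∈ W, ρ x w = w) (h2 : ∀ x ∈ K, ∀ v, ρ x v - v ∈ W) :
    ∀ x ∈ K, ∀ v, ρ x v = v := by
  have key : ∀ x ∈ K, ∀ y ∈ K, ∀ v, ρ (x * y) v = ρ x v + ρ y v - v := fun x hx y hy v => by
    have e : ρ x (ρ y v - v) = ρ y v - v := h1 x hx _ (h2 y hy v)
    rw [map_sub] at e
    rw [rho_mul]
    rw [sub_eq_iff_eq_add] at e
    rw [e]; abel
  intro x hx v
  refine triv_of_comm ρ hK Set.univ (fun _ _ _ _ => trivial) (fun x hx y hy v _ => ?_) x hx v trivial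
  rw [key x hx y hy, key y hy x hx, add_comm]

section card

variable [Finite G] [Finite V]

omit [Finite V] in
theorem card_mul_le_sup_inf (B C : Subgroup G) :
    Nat.card B * Nat.card C ≤ Nat.card ↥(B ⊔ C) * Nat.card ↥(B ⊓ C) := by
  have h1 : Nat.card ↥B = Nat.card ↥(B ⊓ C) * (B ⊓ C).relIndex B := by
    rw [Subgroup.relIndex, ← Nat.card_congr (Subgroup.subgroupOfEquivOfLe inf_le_left).toEquiv,
      Subgroup.card_mul_index]
  have h2 : Nat.card ↥(B ⊔ C) = Nat.card ↥C * C.relIndex (B ⊔ C) := by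
    have e := Subgroup.card_mul_index (C.subgroupOf (B ⊔ C))
    rw [Nat.card_congr (Subgroup.subgroupOfEquivOfLe (le_sup_right : C ≤ B ⊔ C)).toEquiv] at e
    exact e.symm
  have h3 : (B ⊓ C).relIndex B ≤ C.relIndex (B ⊔ C) := by
    rw [Subgroup.inf_relIndex_left]
    exact Subgroup.relIndex_le_of_le_right le_sup_left Subgroup.index_ne_zero_of_finite
  rw [h1, h2]
  calc Nat.card ↥(B ⊓ C) * (B ⊓ C).relIndex B * Nat.card ↥C
      ≤ Nat.card ↥(B ⊓ C) * C.relIndex (B ⊔ C) * Nat.card ↥C := by gcongr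
    _ = _ := by ring

omit [Finite V] [Finite G] in
theorem card_sup_mul_inf (X Y : Submodule (ZMod p) V) :
    Nat.card ↥(X ⊔ Y) * Nat.card ↥(X ⊓ Y) = Nat.card ↥X * Nat.card ↥Y := by
  have e := Nat.card_congr (LinearMap.quotientInfEquivSupQuotient X Y).toEquiv
  have h1 := Submodule.card_eq_card_quotient_mul_card (Submodule.comap X.subtype (X ⊓ Y))
  have h2 := Submodule.card_eq_card_quotient_mul_card (Submodule.comap (X ⊔ Y).subtype Y)
  rw [Nat.card_congr (Submodule.comapSubtypeEquivOfLe inf_le_left).toEquiv] at h1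
  rw [Nat.card_congr (Submodule.comapSubtypeEquivOfLe le_sup_right).toEquiv] at h2
  rw [Submodule.comap_inf] at h1
  rw [h2, h1, e]
  ring

/-- Restricting the offender inequality to an invariant submodule. -/
theorem off_restrict {A B : Subgroup G} (hA : IsOff ρ A) (hBA : B ≤ A) (W : Submodule (ZMod p) V) :
    Nat.card ↥B * Nat.card ↥(fix ρ B ⊓ W) ≤ Nat.card ↥A * Nat.card ↥(fix ρ A ⊓ W) := by
  have h1 := hA B hBA
  have hle : (fix ρ B ⊓ W) ⊔ fix ρ A ≤ fix ρ B := sup_le inf_le_left (fix_anti ρ hBA)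
  have e := card_sup_mul_inf (fix ρ B ⊓ W) (fix ρ A)
  have hin : (fix ρ B ⊓ W) ⊓ fix ρ A = fix ρ A ⊓ W := by
    apply le_antisymm
    · exact le_inf inf_le_right (inf_le_left.trans inf_le_right)
    · exact le_inf (le_inf (inf_le_left.trans (fix_anti ρ hBA)) inf_le_right) inf_le_left
  rw [hin] at e
  have hcard : Nat.card ↥((fix ρ B ⊓ W) ⊔ fix ρ A) ≤ Nat.card ↥(fix ρ B) :=
    Nat.card_le_card_of_injective _ (Submodule.inclusion_injective hle)
  have hpos : 0 < Nat.card ↥(fix ρ A) := Nat.card_pos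
  refine Nat.le_of_mul_le_mul_right ?_ hpos
  calc Nat.card ↥B * Nat.card ↥(fix ρ B ⊓ W) * Nat.card ↥(fix ρ A)
      = Nat.card ↥B * (Nat.card ↥(fix ρ B ⊓ W) * Nat.card ↥(fix ρ A)) := by ring
    _ = Nat.card ↥B * (Nat.card ↥((fix ρ B ⊓ W) ⊔ fix ρ A) * Nat.card ↥(fix ρ A ⊓ W)) := by rw [e]
    _ ≤ Nat.card ↥B * (Nat.card ↥(fix ρ B) * Nat.card ↥(fix ρ A ⊓ W)) := by gcongr
    _ = Nat.card ↥B * Nat.card ↥(fix ρ B) * Nat.card ↥(fix ρ A ⊓ W) := by ring
    _ ≤ Nat.card ↥A * Nat.card ↥(fix ρ A) * Nat.card ↥(fix ρ A ⊓ W) := by gcongr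
    _ = _ := by ring

end card

/-! ### Timmesfeld replacement -/

section repl

variable (A : Subgroup G)

/-- `[u, A]` for a set of vectors, as a set. -/
def comms (s : Set V) : Set V := {w | ∃ c ∈ A, ∃ u ∈ s, ρ c u - u = w}

/-- `C_A([s, A])`. -/
def repl (s : Set V) : Subgroup G := A ⊓ stab ρ (comms ρ A s)

variable {A}

theorem repl_le (s : Set V) : repl ρ A s ≤ A := inf_le_left

theorem mem_repl {s : Set V} {g : G} :
    g ∈ repl ρ A s ↔ g ∈ A ∧ ∀ c ∈ A, ∀ u ∈ s, ρ g (ρ c u - u) = ρ c u - u := by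
  refine ⟨fun h => ⟨h.1, fun c hc u hu => h.2 _ ⟨c, hc, u, hu, rfl⟩⟩, fun h => ⟨h.1, ?_⟩⟩
  rintro w ⟨c, hc, u, hu, rfl⟩
  exact h.2 c hc u hu

theorem repl_union (s t : Set V) : repl ρ A (s ∪ t) = repl ρ A s ⊓ repl ρ A t := by
  ext g
  simp only [Subgroup.mem_inf, mem_repl]
  constructor
  · rintro ⟨hg, h⟩
    exact ⟨⟨hg, fun c hc u hu => h c hc u (Or.inl hu)⟩, hg, fun c hc u hu => h c hc u (Or.inr hu)⟩
  · rintro ⟨⟨hg, h⟩, -, h'⟩
    exact ⟨hg, fun c hc u hu => hu.elim (h c hc u) (h' c hc u)⟩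

theorem comms_union (s t : Set V) : comms ρ A (s ∪ t) = comms ρ A s ∪ comms ρ A t := by
  ext w
  constructor
  · rintro ⟨c, hc, u, hu, rfl⟩
    exact hu.elim (fun h => Or.inl ⟨c, hc, u, h, rfl⟩) fun h => Or.inr ⟨c, hc, u, h, rfl⟩
  · rintro (⟨c, hc, u, hu, rfl⟩ | ⟨c, hc, u, hu, rfl⟩)
    · exact ⟨c, hc, u, Or.inl hu, rfl⟩
    · exact ⟨c, hc, u, Or.inr hu, rfl⟩

theorem span_le_fix_repl (s : Set V) :
    fix ρ A ⊔ Submodule.span (ZMod p) (comms ρ A s) ≤ fix ρ (repl ρ A s) := by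
  refine sup_le (fix_anti ρ (repl_le ρ s)) (Submodule.span_le.mpr ?_)
  exact fun w hw b hb => hb.2 w hw

variable [Finite G] [Finite V]

theorem repl_singleton (hab : ∀ a ∈ A, ∀ b ∈ A, a * b = b * a) (hA : IsOff ρ A) (u : V) :
    Nat.card ↥(repl ρ A {u}) * Nat.card ↥(fix ρ (repl ρ A {u})) = Nat.card ↥A * Nat.card ↥(fix ρ A) ∧
      fix ρ (repl ρ A {u}) = fix ρ A ⊔ Submodule.span (ZMod p) (comms ρ A {u}) := by
  classical
  obtain ⟨B, hB⟩ : ∃ B, B = repl ρ A {u} := ⟨_, rfl⟩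
  obtain ⟨X, hX⟩ : ∃ X, X = fix ρ A ⊔ Submodule.span (ZMod p) (comms ρ A {u}) := ⟨_, rfl⟩
  rw [← hB, ← hX]
  have hXB : X ≤ fix ρ B := hX ▸ hB ▸ span_le_fix_repl ρ {u}
  have hBA : B ≤ A := hB ▸ repl_le ρ {u}
  have hmem : ∀ a ∈ A, ρ a u - u ∈ X := fun a ha => by
    rw [hX]
    exact Submodule.mem_sup_right (Submodule.subset_span ⟨a, ha, u, rfl, rfl⟩)
  let Q := ↥X ⧸ Submodule.comap X.subtype (fix ρ A)
  haveI : Finite Q := Quotient.finite _
  have hBmem : ∀ g, g ∈ B ↔ g ∈ repl ρ A {u} := fun g => by rw [hB]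
  let θ : ↥A ⧸ B.subgroupOf A → Q := fun q =>
    Submodule.Quotient.mk ⟨ρ (q.out : G) u - u, hmem _ q.out.2⟩
  have hθ : Function.Injective θ := by
    intro q r h
    have hd : (⟨ρ (q.out : G) u - u, hmem _ q.out.2⟩ : ↥X) - ⟨ρ (r.out : G) u - u, hmem _ r.out.2⟩ ∈
        Submodule.comap X.subtype (fix ρ A) := (Submodule.Quotient.eq _).mp h
    rw [← q.out_eq', ← r.out_eq']
    refine QuotientGroup.eq.mpr ?_
    rw [Subgroup.mem_subgroupOf, hBmem, mem_repl]
    refine ⟨(q.out⁻¹ * r.out).2, fun c hc w hw => ?_⟩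
    obtain rfl : w = u := hw
    have hd' : ρ c (ρ (q.out : G) w - ρ (r.out : G) w) = ρ (q.out : G) w - ρ (r.out : G) w := by
      simpa using hd c hc
    have e : ρ (r.out : G) (ρ c w - w) = ρ (q.out : G) (ρ c w - w) := by
      rw [map_sub, map_sub, rho_comm ρ (hab _ r.out.2 _ hc), rho_comm ρ (hab _ q.out.2 _ hc)]
      rw [map_sub] at hd'
      linear_combination (norm := abel) -hd'
    push_cast
    rw [rho_mul, e, rho_inv_apply]
  have h1 : Nat.card (↥A ⧸ B.subgroupOf A) ≤ Nat.card Q := Nat.card_le_card_of_injective θ hθ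
  have h2 := Subgroup.card_eq_card_quotient_mul_card_subgroup (B.subgroupOf A)
  rw [Nat.card_congr (Subgroup.subgroupOfEquivOfLe hBA).toEquiv] at h2
  have h3 := Submodule.card_eq_card_quotient_mul_card (Submodule.comap X.subtype (fix ρ A))
  rw [Nat.card_congr (Submodule.comapSubtypeEquivOfLe (hX ▸ le_sup_left : fix ρ A ≤ X)).toEquiv] at h3
  have h4 : Nat.card ↥X ≤ Nat.card ↥(fix ρ B) :=
    Nat.card_le_card_of_injective _ (Submodule.inclusion_injective hXB)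
  have h5 := hA B hBA
  have h6 : Nat.card ↥A * Nat.card ↥(fix ρ A) ≤ Nat.card ↥B * Nat.card ↥X := by
    rw [h2, h3]
    calc Nat.card (↥A ⧸ B.subgroupOf A) * Nat.card ↥B * Nat.card ↥(fix ρ A)
        ≤ Nat.card Q * Nat.card ↥B * Nat.card ↥(fix ρ A) := by gcongr
      _ = _ := by ring
  have h7 : Nat.card ↥B * Nat.card ↥X ≤ Nat.card ↥B * Nat.card ↥(fix ρ B) := by gcongr
  refine ⟨by omega, ?_⟩
  have h8 : Nat.card ↥(fix ρ B) ≤ Nat.card ↥X :=
    Nat.le_of_mul_le_mul_left (by omega : Nat.card ↥B * Nat.card ↥(fix ρ B) ≤ Nat.card ↥B * Nat.card ↥X)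
      Nat.card_pos
  refine (SetLike.coe_injective ?_).symm
  exact Set.eq_of_subset_of_ncard_le hXB
    (by rw [← Nat.card_coe_set_eq, ← Nat.card_coe_set_eq]; exact h8) (Set.toFinite _)

theorem off_inf {B C : Subgroup G} (hA : IsOff ρ A) (hBA : B ≤ A) (hCA : C ≤ A)
    (hB : Nat.card ↥B * Nat.card ↥(fix ρ B) = Nat.card ↥A * Nat.card ↥(fix ρ A))
    (hC : Nat.card ↥C * Nat.card ↥(fix ρ C) = Nat.card ↥A * Nat.card ↥(fix ρ A)) :
    Nat.card ↥(B ⊓ C) * Nat.card ↥(fix ρ (B ⊓ C)) = Nat.card ↥A * Nat.card ↥(fix ρ A) ∧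
      fix ρ (B ⊓ C) = fix ρ B ⊔ fix ρ C := by
  have hs : fix ρ B ⊔ fix ρ C ≤ fix ρ (B ⊓ C) :=
    sup_le (fix_anti ρ inf_le_left) (fix_anti ρ inf_le_right)
  have hi : fix ρ B ⊓ fix ρ C = fix ρ (B ⊔ C) := by
    apply le_antisymm
    · intro v hv
      have : B ⊔ C ≤ stab ρ {v} :=
        sup_le (fun b hb w hw => (hw : w = v) ▸ hv.1 b hb) (fun b hb w hw => (hw : w = v) ▸ hv.2 b hb)
      exact fun b hb => this hb v rfl
    · exact le_inf (fix_anti ρ le_sup_left) (fix_anti ρ le_sup_right)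
  have e := card_sup_mul_inf (fix ρ B) (fix ρ C)
  rw [hi] at e
  have h1 := card_mul_le_sup_inf B C
  have h2 := hA _ (sup_le hBA hCA : B ⊔ C ≤ A)
  have h3 := hA _ (inf_le_left.trans hBA : B ⊓ C ≤ A)
  obtain ⟨M, hM⟩ : ∃ M, M = Nat.card ↥A * Nat.card ↥(fix ρ A) := ⟨_, rfl⟩
  rw [← hM] at h2 h3 hB hC ⊢
  have hMpos : 0 < M := hM ▸ Nat.mul_pos Nat.card_pos Nat.card_pos
  have h4 : M ≤ Nat.card ↥(B ⊓ C) * Nat.card ↥(fix ρ B ⊔ fix ρ C) := by
    refine Nat.le_of_mul_le_mul_left ?_ hMpos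
    calc M * M = (Nat.card ↥B * Nat.card ↥C) *
          (Nat.card ↥(fix ρ B ⊔ fix ρ C) * Nat.card ↥(fix ρ (B ⊔ C))) := by
            rw [e]; nth_rewrite 1 [← hB]; rw [← hC]; ring
      _ ≤ (Nat.card ↥(B ⊔ C) * Nat.card ↥(B ⊓ C)) *
          (Nat.card ↥(fix ρ B ⊔ fix ρ C) * Nat.card ↥(fix ρ (B ⊔ C))) := by gcongr
      _ = (Nat.card ↥(B ⊔ C) * Nat.card ↥(fix ρ (B ⊔ C))) *
          (Nat.card ↥(B ⊓ C) * Nat.card ↥(fix ρ B ⊔ fix ρ C)) := by ring
      _ ≤ _ := by gcongr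
  have h5 : Nat.card ↥(fix ρ B ⊔ fix ρ C) ≤ Nat.card ↥(fix ρ (B ⊓ C)) :=
    Nat.card_le_card_of_injective _ (Submodule.inclusion_injective hs)
  have h6 : Nat.card ↥(B ⊓ C) * Nat.card ↥(fix ρ B ⊔ fix ρ C) ≤
      Nat.card ↥(B ⊓ C) * Nat.card ↥(fix ρ (B ⊓ C)) := by gcongr
  refine ⟨by omega, (SetLike.coe_injective ?_).symm⟩
  have h7 : Nat.card ↥(fix ρ (B ⊓ C)) ≤ Nat.card ↥(fix ρ B ⊔ fix ρ C) :=
    Nat.le_of_mul_le_mul_left (by omega :
      Nat.card ↥(B ⊓ C) * Nat.card ↥(fix ρ (B ⊓ C)) ≤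
        Nat.card ↥(B ⊓ C) * Nat.card ↥(fix ρ B ⊔ fix ρ C)) Nat.card_pos
  exact Set.eq_of_subset_of_ncard_le hs
    (by rw [← Nat.card_coe_set_eq, ← Nat.card_coe_set_eq]; exact h7) (Set.toFinite _)

theorem repl_set (hab : ∀ a ∈ A, ∀ b ∈ A, a * b = b * a) (hA : IsOff ρ A) (s : Finset V) :
    Nat.card ↥(repl ρ A (s : Set V)) * Nat.card ↥(fix ρ (repl ρ A (s : Set V))) =
        Nat.card ↥A * Nat.card ↥(fix ρ A) ∧
      fix ρ (repl ρ A (s : Set V)) = fix ρ A ⊔ Submodule.span (ZMod p) (comms ρ A (s : Set V)) := by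
  classical
  induction s using Finset.induction with
  | empty =>
    have h : repl ρ A ((∅ : Finset V) : Set V) = A := by
      refine le_antisymm (repl_le ρ _) fun g hg => ?_
      exact (mem_repl ρ).mpr ⟨hg, fun _ _ u hu => absurd hu (by simp)⟩
    rw [h]
    refine ⟨rfl, ?_⟩
    simp [comms]
  | insert u s hu ih =>
    rw [Finset.coe_insert, Set.insert_eq, repl_union, comms_union, Submodule.span_union]
    obtain ⟨h1, h2⟩ := repl_singleton ρ hab hA u
    obtain ⟨h3, h4⟩ := off_inf ρ hA (repl_le ρ _) (repl_le ρ _) h1 ih.1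
    refine ⟨h3, ?_⟩
    rw [h4, h2, ih.2, sup_sup_sup_comm, sup_idem]

/-- A sum of images under commuting nilpotent maps is proper. -/
theorem eq_bot_of_nilpotent_sup {R M ι : Type*} [Ring R] [AddCommGroup M] [Module R M] (n : ι → Module.End R M)
    (hn : ∀ i, IsNilpotent (n i)) (hcom : ∀ i j, Commute (n i) (n j)) (t : Finset ι)
    (S : Submodule R M) (hS : ∀ i, S.map (n i) ≤ S) (h : S ≤ t.sup fun i => S.map (n i)) : S = ⊥ := by
  classical
  induction t using Finset.induction with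
  | empty => simpa using h
  | insert i t hi ih =>
    refine ih ?_
    rw [Finset.sup_insert] at h
    obtain ⟨N, hN⟩ : ∃ N, N = t.sup fun j => S.map (n j) := ⟨_, rfl⟩
    rw [← hN] at h ⊢
    have hNi : N.map (n i) ≤ N := by
      rw [hN, Finset.sup_eq_iSup, Submodule.map_iSup]
      refine iSup_le fun j => ?_
      rw [Submodule.map_iSup]
      refine iSup_le fun hj => le_trans ?_ (le_iSup₂ j hj)
      rw [← Submodule.map_comp, ← Module.End.mul_eq_comp, (hcom i j).eq, Module.End.mul_eq_comp,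
        Submodule.map_comp]
      exact Submodule.map_mono (hS i)
    have hk : ∀ k, S ≤ S.map (n i ^ k) ⊔ N := by
      intro k
      induction k with
      | zero => simp [pow_zero, Module.End.one_eq_id]
      | succ k ihk =>
        refine ihk.trans (sup_le ?_ le_sup_right)
        have hNk : N.map (n i ^ k) ≤ N := by
          clear ihk
          induction k with
          | zero => simp [pow_zero, Module.End.one_eq_id]
          | succ k ihk =>
            rw [pow_succ, Module.End.mul_eq_comp, Submodule.map_comp]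
            exact (Submodule.map_mono hNi).trans ihk
        calc S.map (n i ^ k) ≤ (S.map (n i) ⊔ N).map (n i ^ k) := Submodule.map_mono h
          _ = S.map (n i ^ (k + 1)) ⊔ N.map (n i ^ k) := by
            rw [Submodule.map_sup, ← Submodule.map_comp, pow_succ, Module.End.mul_eq_comp]
          _ ≤ _ := sup_le_sup_left hNk _
    obtain ⟨k, hk0⟩ := hn i
    simpa [hk0] using hk k

omit [Finite G] [Finite V] in
theorem sub_one_nilpotent {g : G} (hg : g ^ p = 1) :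
    IsNilpotent ((ρ g : Module.End (ZMod p) V) - 1) := by
  refine ⟨p, ?_⟩
  rcases subsingleton_or_nontrivial V with h | h
  · exact LinearMap.ext fun v => Subsingleton.elim _ _
  haveI : CharP (Module.End (ZMod p) V) p :=
    charP_of_injective_algebraMap' (ZMod p) p
  rw [sub_pow_char_of_commute _ (Commute.one_right _), one_pow, ← map_pow, hg, map_one, sub_self]

/-- **Timmesfeld replacement.** -/
theorem repl_spec (hab : ∀ a ∈ A, ∀ b ∈ A, a * b = b * a) (hel : ∀ a ∈ A, a ^ p = 1)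
    (hA : IsOff ρ A) (hne : ∃ a ∈ A, ∃ v, ρ a v ≠ v) :
    IsOff ρ (repl ρ A Set.univ) ∧ ∃ b ∈ repl ρ A Set.univ, ∃ v, ρ b v ≠ v := by
  classical
  haveI := Fintype.ofFinite V
  haveI := Fintype.ofFinite ↥A
  obtain ⟨h1, h2⟩ := repl_set ρ hab hA Finset.univ
  rw [Finset.coe_univ] at h1 h2
  refine ⟨fun B hB => h1 ▸ hA B (hB.trans (repl_le ρ _)), ?_⟩
  by_contra hcon
  push_neg at hcon
  have htop : fix ρ (repl ρ A Set.univ) = ⊤ := eq_top_iff.mpr fun v _ b hb => hcon b hb v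
  rw [htop] at h2
  obtain ⟨S, hS⟩ : ∃ S, S = Submodule.span (ZMod p) (comms ρ A (Set.univ : Set V)) := ⟨_, rfl⟩
  rw [← hS] at h2
  let n : ↥A → Module.End (ZMod p) V := fun c => ρ (c : G) - 1
  have hn : ∀ (c : ↥A) (v : V), n c v = ρ (c : G) v - v := fun c v => rfl
  have hSi : ∀ c : ↥A, S.map (n c) ≤ S := by
    intro c
    rintro w ⟨v, -, rfl⟩
    rw [hS, hn]
    exact Submodule.subset_span ⟨c, c.2, v, trivial, rfl⟩
  have hb : S = ⊥ := by
    refine eq_bot_of_nilpotent_sup n (fun c => sub_one_nilpotent ρ (hel c c.2))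
      (fun c d => ?_) Finset.univ S hSi ?_
    · have e : Commute (ρ (c : G)) (ρ (d : G)) := by
        rw [commute_iff_eq, ← map_mul, ← map_mul, hab c c.2 d d.2]
      exact (e.sub_left (Commute.one_left _)).sub_right
        ((Commute.one_right _).sub_left (Commute.one_right _))
    · conv_lhs => rw [hS]
      refine Submodule.span_le.mpr ?_
      rintro w ⟨c, hc, u, -, rfl⟩
      have hu : u ∈ fix ρ A ⊔ S := h2 ▸ Submodule.mem_top
      obtain ⟨f, hf, s, hs, rfl⟩ := Submodule.mem_sup.mp hu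
      have e : ρ c (f + s) - (f + s) = n ⟨c, hc⟩ s := by
        rw [hn, map_add, hf c hc]; abel
      rw [e]
      exact (Finset.le_sup (f := fun i => S.map (n i)) (Finset.mem_univ _))
        (Submodule.mem_map_of_mem hs)
  obtain ⟨a, ha, v, hv⟩ := hne
  apply hv
  have hm : ρ a v - v ∈ S := hS ▸ Submodule.subset_span ⟨a, ha, v, trivial, rfl⟩
  rw [hb, Submodule.mem_bot, sub_eq_zero] at hm
  exact hm

end repl

end Cfsg.Agent.LocalEvenB.PGV
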