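import Cfsg.Agent.Lib.LocalEvenB.PGVBase

/-!
# Towards the P(G,V) theorem: orbits of a moved component, diagonals, common fixed points
-/

set_option autoImplicit false

namespace Cfsg.Agent.LocalEvenB.PGV

open Subgroup

variable {G V : Type*} [Group G] [AddCommGroup V] {p : ℕ} [Fact p.Prime] [Module (ZMod p) V]
variable {A K : Subgroup G}

/-- `g` maps `K` into itself. -/
def Nm (K : Subgroup G) (g : G) : Prop := ∀ x ∈ K, g * x * g⁻¹ ∈ K

theorem Nm.mul {g h : G} (hg : Nm K g) (hh : Nm K h) : Nm K (g * h) := fun x hx => by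
  simpa [mul_assoc] using hg _ (hh x hx)

theorem Nm.pow {g : G} (hg : Nm K g) : ∀ n : ℕ, Nm K (g ^ n)
  | 0 => fun x hx => by simpa using hx
  | n + 1 => by rw [pow_succ]; exact (Nm.pow hg n).mul hg

theorem Nm.inv [Finite G] {g : G} (hg : Nm K g) : Nm K g⁻¹ := by
  have h : g⁻¹ = g ^ (orderOf g - 1) := by
    rw [inv_eq_iff_mul_eq_one, ← pow_succ', Nat.sub_add_cancel (orderOf_pos g), pow_orderOf_eq_one]
  exact h ▸ hg.pow _

theorem Nm.mem_conj_eq [Finite G] {g : G} (hg : Nm K g) {x : G} (hx : x ∈ K) :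
    ∃ y ∈ K, g * y * g⁻¹ = x :=
  ⟨g⁻¹ * x * g, by simpa using hg.inv x hx, by group⟩

theorem commute_conj {x y : G} (g : G) (h : Commute x y) :
    Commute (g * x * g⁻¹) (g * y * g⁻¹) := by
  rw [commute_iff_eq]
  calc g * x * g⁻¹ * (g * y * g⁻¹) = g * (x * y) * g⁻¹ := by group
    _ = g * (y * x) * g⁻¹ := by rw [h.eq]
    _ = _ := by group

/-- Two conjugates of `K` by elements of `A` commute, or one is the other. -/
theorem conj_cases (hcc : CC A K) {c d : G} (hc : c ∈ A) (hd : d ∈ A) :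
    Nm K (c⁻¹ * d) ∨ ∀ x ∈ K, ∀ y ∈ K, Commute (c * x * c⁻¹) (d * y * d⁻¹) := by
  rcases hcc _ (A.mul_mem (A.inv_mem hc) hd) with h | h
  · exact Or.inl h
  · refine Or.inr fun x hx y hy => ?_
    have e : d * y * d⁻¹ = c * (c⁻¹ * d * y * (c⁻¹ * d)⁻¹) * c⁻¹ := by group
    rw [e]
    exact (commute_conj c (h y hy x hx)).symm

/-- The data of an element moving `K` with orbit of prime length. -/
structure Moves (p : ℕ) (K : Subgroup G) (a : G) : Prop where
  pow_eq : a ^ p = 1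
  comm : ∀ i : ℕ, 0 < i → i < p → ∀ x ∈ K, ∀ y ∈ K, Commute (a ^ i * x * (a ^ i)⁻¹) y

theorem moves_of_not_nm (hcc : CC A K) {a : G} (ha : a ∈ A) (hap : a ^ p = 1) (hn : ¬ Nm K a) :
    Moves p K a := by
  refine ⟨hap, fun i hi hip => ?_⟩
  rcases hcc _ (A.pow_mem ha i) with h | h
  · exfalso
    apply hn
    have hco : (orderOf a).Coprime i := by
      refine (Nat.Coprime.coprime_dvd_left (orderOf_dvd_of_pow_eq_one hap) ?_)
      exact ((Nat.Prime.coprime_iff_not_dvd (Fact.out : p.Prime)).mpr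
        (Nat.not_dvd_of_pos_of_lt hi hip))
    obtain ⟨j, hj⟩ := exists_pow_eq_self_of_coprime hco.symm
    have h' : Nm K ((a ^ i) ^ j) := Nm.pow h j
    rwa [hj] at h'
  · exact h

section diag

variable {a : G}

/-- `x_i`. -/
def cj (a : G) (i : ℕ) (x : G) : G := a ^ i * x * (a ^ i)⁻¹

/-- Partial diagonal products. -/
def dd (a : G) : ℕ → G → G
  | 0, _ => 1
  | i + 1, x => dd a i x * cj a i x

theorem cj_zero (x : G) : cj a 0 x = x := by simp [cj]

theorem cj_mul (i : ℕ) (x y : G) : cj a i (x * y) = cj a i x * cj a i y := by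
  simp only [cj]; group

theorem cj_succ (i : ℕ) (x : G) : a * cj a i x * a⁻¹ = cj a (i + 1) x := by
  simp only [cj, pow_succ']; group

theorem Moves.cj_commute (hM : Moves p K a) {i j : ℕ} (hij : i ≠ j) (hi : i < p) (hj : j < p)
    {x y : G} (hx : x ∈ K) (hy : y ∈ K) : Commute (cj a i x) (cj a j y) := by
  wlog h : i < j generalizing i j x y
  · exact (this hij.symm hj hi hy hx (by omega)).symm
  obtain ⟨k, rfl⟩ : ∃ k, j = i + k := ⟨j - i, by omega⟩
  have e : cj a (i + k) y = a ^ i * (a ^ k * y * (a ^ k)⁻¹) * (a ^ i)⁻¹ := by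
    simp only [cj, pow_add]; group
  rw [e]
  exact (commute_conj _ (hM.comm k (by omega) (by omega) y hy x hx)).symm

theorem Moves.cj_dd_commute (hM : Moves p K a) {x y : G} (hx : x ∈ K) (hy : y ∈ K) {j : ℕ}
    (hj : j < p) : ∀ {i : ℕ}, i ≤ j → Commute (cj a j y) (dd a i x)
  | 0, _ => Commute.one_right _
  | i + 1, hi => (hM.cj_dd_commute hx hy hj (by omega : i ≤ j)).mul_right
      (hM.cj_commute (by omega) hj (by omega) hy hx)

theorem Moves.dd_mul (hM : Moves p K a) {x y : G} (hx : x ∈ K) (hy : y ∈ K) :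
    ∀ {i : ℕ}, i ≤ p → dd a i (x * y) = dd a i x * dd a i y
  | 0, _ => by simp [dd]
  | i + 1, hi => by
    simp only [dd]
    rw [hM.dd_mul hx hy (by omega : i ≤ p), cj_mul, mul_assoc (dd a i x), ← mul_assoc (dd a i y),
      ← (hM.cj_dd_commute hy hx (by omega : i < p) le_rfl).eq]
    simp only [mul_assoc]

theorem dd_one : ∀ i : ℕ, dd a i 1 = 1
  | 0 => rfl
  | i + 1 => by simp [dd, dd_one i, cj]

theorem Moves.dd_inv (hM : Moves p K a) {x : G} (hx : x ∈ K) {i : ℕ} (hi : i ≤ p) :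
    dd a i x⁻¹ = (dd a i x)⁻¹ := by
  rw [eq_inv_iff_mul_eq_one, ← hM.dd_mul (K.inv_mem hx) hx hi, inv_mul_cancel, dd_one]

theorem dd_succ_shift (x : G) : ∀ i : ℕ, x * (a * dd a i x * a⁻¹) = dd a (i + 1) x
  | 0 => by simp [dd, cj]
  | i + 1 => by
    have e : a * (dd a i x * cj a i x) * a⁻¹ = (a * dd a i x * a⁻¹) * (a * cj a i x * a⁻¹) := by
      group
    simp only [dd] at *
    rw [e, ← mul_assoc, dd_succ_shift x i, cj_succ]
    rfl

theorem Moves.shift_commute (hM : Moves p K a) {x y : G} (hx : x ∈ K) (hy : y ∈ K) :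
    ∀ {i : ℕ}, i < p → Commute y (a * dd a i x * a⁻¹)
  | 0, _ => by simp [dd]
  | i + 1, hi => by
    have e : a * dd a (i + 1) x * a⁻¹ = (a * dd a i x * a⁻¹) * (a * cj a i x * a⁻¹) := by
      simp only [dd]; group
    rw [e, cj_succ]
    refine (hM.shift_commute hx hy (by omega : i < p)).mul_right ?_
    have := hM.cj_commute (i := 0) (j := i + 1) (by omega) (by omega) hi hy hx
    rwa [cj_zero] at this

theorem Moves.dd_commute_self (hM : Moves p K a) {x : G} (hx : x ∈ K) :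
    a * dd a p x * a⁻¹ = dd a p x := by
  obtain ⟨q, rfl⟩ : ∃ q, p = q + 1 := ⟨p - 1, by have := (Fact.out : p.Prime).two_le; omega⟩
  have e : a * dd a (q + 1) x * a⁻¹ = (a * dd a q x * a⁻¹) * (a * cj a q x * a⁻¹) := by
    simp only [dd]; group
  have e' : cj a (q + 1) x = x := by simp [cj, hM.pow_eq]
  rw [e, cj_succ, e', ← (hM.shift_commute hx hx (Nat.lt_succ_self q)).eq, dd_succ_shift]

theorem dd_conj {b : G} (hab : a * b = b * a) (x : G) :
    ∀ i : ℕ, b * dd a i x * b⁻¹ = dd a i (b * x * b⁻¹)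
  | 0 => by simp [dd]
  | i + 1 => by
    have hc : b * a ^ i = a ^ i * b := ((Commute.pow_right (show Commute b a from hab.symm)) i).eq
    have e : b * cj a i x * b⁻¹ = cj a i (b * x * b⁻¹) := by
      simp only [cj]
      calc b * (a ^ i * x * (a ^ i)⁻¹) * b⁻¹ = (b * a ^ i) * x * (b * a ^ i)⁻¹ := by group
        _ = _ := by rw [hc]; group
    simp only [dd]
    rw [← dd_conj hab x i, ← e]
    group

theorem Moves.dd_conj_cj (hM : Moves p K a) {x y : G} (hx : x ∈ K) (hy : y ∈ K) {j : ℕ} (hj : j < p) :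
    ∀ {i : ℕ}, i ≤ p → dd a i y * cj a j x * (dd a i y)⁻¹ =
      if i ≤ j then cj a j x else cj a j (y * x * y⁻¹)
  | 0, _ => by simp [dd]
  | i + 1, hi => by
    have e : dd a (i + 1) y * cj a j x * (dd a (i + 1) y)⁻¹ =
        dd a i y * (cj a i y * cj a j x * (cj a i y)⁻¹) * (dd a i y)⁻¹ := by
      simp only [dd]; group
    rw [e]
    by_cases hij : i = j
    · subst hij
      have e2 : cj a i y * cj a i x * (cj a i y)⁻¹ = cj a i (y * x * y⁻¹) := by
        simp only [cj]; group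
      rw [e2, hM.dd_conj_cj (K.mul_mem (K.mul_mem hy hx) (K.inv_mem hy)) hy hj (by omega : i ≤ p),
        if_pos le_rfl, if_neg (by omega)]
    · rw [(hM.cj_commute hij (by omega) hj hy hx).eq, mul_inv_cancel_right,
        hM.dd_conj_cj hx hy hj (by omega : i ≤ p)]
      by_cases h : i ≤ j
      · rw [if_pos h, if_pos (by omega)]
      · rw [if_neg h, if_neg (by omega)]

end diag

variable (ρ : Representation (ZMod p) G V)

/-- Diagonal elements fix the commutator space of `a`. -/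
def DFix (K : Subgroup G) (a : G) : Prop :=
  ∀ x ∈ K, ∀ v : V, ρ (dd a p x) (ρ a v - v) = ρ a v - v

/-- An element `b` normalizing `K`, not centralizing it, with `(b - 1)(a - 1) = 0`, gives `DFix`. -/
theorem dfix_of_mem {a : G} (hK : QS K) (hM : Moves p K a) {b : G}
    (hab : a * b = b * a) (hbn : Nm K b) (hbc : ∃ x ∈ K, b * x ≠ x * b)
    (hz : ∀ v : V, ρ b (ρ a v - v) = ρ a v - v) : DFix ρ K a := by
  let Γ : Subgroup G := (stab ρ (Set.range fun v : V => ρ a v - v)) ⊓ Subgroup.centralizer {a}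
  have hΓ : ∀ d, a * d = d * a → ∀ g ∈ Γ, d * g * d⁻¹ ∈ Γ := by
    intro d hd g hg
    refine ⟨?_, ?_⟩
    · rintro w ⟨v, rfl⟩
      have hd' : a * d⁻¹ = d⁻¹ * a := (Commute.inv_right (show Commute a d from hd)).eq
      have e : ρ d⁻¹ (ρ a v - v) = ρ a (ρ d⁻¹ v) - ρ d⁻¹ v := by
        rw [map_sub, rho_comm ρ hd']
      simp only
      rw [rho_mul, rho_mul, e]
      rw [show ρ g (ρ a (ρ d⁻¹ v) - ρ d⁻¹ v) = ρ a (ρ d⁻¹ v) - ρ d⁻¹ v from hg.1 _ ⟨_, rfl⟩, ← e,
        rho_apply_inv]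
    · refine Subgroup.mem_centralizer_singleton_iff.mpr ?_
      have hga : g * a = a * g := Subgroup.mem_centralizer_singleton_iff.mp hg.2
      exact (((show Commute d a from hd.symm).mul_left hga).mul_left
        (show Commute d a from hd.symm).inv_left).eq
  have hbΓ : b ∈ Γ := ⟨by rintro w ⟨v, rfl⟩; exact hz v,
    Subgroup.mem_centralizer_singleton_iff.mpr hab.symm⟩
  have hda : ∀ x ∈ K, a * dd a p x = dd a p x * a := fun x hx =>
    mul_inv_eq_iff_eq_mul.mp (hM.dd_commute_self hx)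
  let N : Subgroup G :=
    { carrier := {x | x ∈ K ∧ dd a p x ∈ Γ}
      one_mem' := ⟨K.one_mem, by rw [dd_one]; exact Γ.one_mem⟩
      mul_mem' := fun {x y} hx hy => ⟨K.mul_mem hx.1 hy.1, by
        rw [hM.dd_mul hx.1 hy.1 le_rfl]; exact Γ.mul_mem hx.2 hy.2⟩
      inv_mem' := fun {x} hx => ⟨K.inv_mem hx.1, by
        rw [hM.dd_inv hx.1 le_rfl]; exact Γ.inv_mem hx.2⟩ }
  rcases hK.norm N (fun x hx => hx.1) (fun y hy x hx => ⟨K.mul_mem (K.mul_mem hy hx.1) (K.inv_mem hy), by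
    rw [hM.dd_mul (K.mul_mem hy hx.1) (K.inv_mem hy) le_rfl, hM.dd_mul hy hx.1 le_rfl,
      hM.dd_inv hy le_rfl]
    exact hΓ _ (hda y hy) _ hx.2⟩) with h | h
  · intro x hx v
    have hxN : x ∈ N := h ▸ hx
    exact hxN.2.1 _ ⟨v, rfl⟩
  · exfalso
    obtain ⟨x, hx, hne⟩ := hbc
    apply hne
    have hmem : ∀ y ∈ K, b * y * b⁻¹ * y⁻¹ ∈ N := by
      intro y hy
      refine ⟨K.mul_mem (hbn y hy) (K.inv_mem hy), ?_⟩
      rw [hM.dd_mul (hbn y hy) (K.inv_mem hy) le_rfl, hM.dd_inv hy le_rfl, ← dd_conj hab]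
      have e : b * dd a p y * b⁻¹ * (dd a p y)⁻¹ = b * (dd a p y * b⁻¹ * (dd a p y)⁻¹) := by group
      rw [e]
      exact Γ.mul_mem hbΓ (hΓ _ (hda y hy) _ (Γ.inv_mem hbΓ))
    let H : Subgroup G :=
      { carrier := {y | y ∈ K ∧ b * y * b⁻¹ = y}
        one_mem' := ⟨K.one_mem, by simp⟩
        mul_mem' := fun {y z} hy hz' => ⟨K.mul_mem hy.1 hz'.1, by
          calc b * (y * z) * b⁻¹ = (b * y * b⁻¹) * (b * z * b⁻¹) := by group
            _ = y * z := by rw [hy.2, hz'.2]⟩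
        inv_mem' := fun {y} hy => ⟨K.inv_mem hy.1, by
          calc b * y⁻¹ * b⁻¹ = (b * y * b⁻¹)⁻¹ := by group
            _ = y⁻¹ := by rw [hy.2]⟩ }
    have hle : K ≤ H := hK.le_of_comm fun y hy z hz' => by
      refine ⟨K.mul_mem (K.mul_mem (K.mul_mem hy hz') (K.inv_mem hy)) (K.inv_mem hz'), ?_⟩
      obtain ⟨α, hα⟩ : ∃ α, α = b * y * b⁻¹ * y⁻¹ := ⟨_, rfl⟩
      obtain ⟨β, hβ⟩ : ∃ β, β = b * z * b⁻¹ * z⁻¹ := ⟨_, rfl⟩
      have hαK : α ∈ N := hα ▸ hmem y hy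
      have hβK : β ∈ N := hβ ▸ hmem z hz'
      have c1 := h α hαK
      have c2 := h β hβK
      have e : b * (y * z * y⁻¹ * z⁻¹) * b⁻¹ = (α * y) * (β * z) * (α * y)⁻¹ * (β * z)⁻¹ := by
        rw [hα, hβ]; group
      rw [e]
      calc (α * y) * (β * z) * (α * y)⁻¹ * (β * z)⁻¹
          = α * (y * β) * z * y⁻¹ * α⁻¹ * z⁻¹ * β⁻¹ := by group
        _ = α * (β * y) * z * y⁻¹ * α⁻¹ * z⁻¹ * β⁻¹ := by rw [c2 y hy]
        _ = α * β * ((y * z * y⁻¹) * α⁻¹) * z⁻¹ * β⁻¹ := by group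
        _ = α * β * (α⁻¹ * (y * z * y⁻¹)) * z⁻¹ * β⁻¹ := by
            rw [show (y * z * y⁻¹) * α⁻¹ = α⁻¹ * (y * z * y⁻¹) from
              (show Commute (y * z * y⁻¹) α from c1 _ (K.mul_mem (K.mul_mem hy hz') (K.inv_mem hy))).inv_right.eq]
        _ = (α * (β * α⁻¹)) * ((y * z * y⁻¹ * z⁻¹) * β⁻¹) := by group
        _ = (α * (α⁻¹ * β)) * (β⁻¹ * (y * z * y⁻¹ * z⁻¹)) := by
            rw [show β * α⁻¹ = α⁻¹ * β from (show Commute β α from (c1 β hβK.1)).inv_right.eq,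
              show (y * z * y⁻¹ * z⁻¹) * β⁻¹ = β⁻¹ * (y * z * y⁻¹ * z⁻¹) from
              (show Commute (y * z * y⁻¹ * z⁻¹) β from c2 _
                (K.mul_mem (K.mul_mem (K.mul_mem hy hz') (K.inv_mem hy)) (K.inv_mem hz'))).inv_right.eq]
        _ = _ := by group
    exact mul_inv_eq_iff_eq_mul.mp (hle hx).2

/-- No proper nonzero submodule is invariant under `A` and `K`. -/
def Irr (A K : Subgroup G) : Prop :=
  ∀ T : Submodule (ZMod p) V, (∀ a ∈ A, ∀ v ∈ T, ρ a v ∈ T) → (∀ x ∈ K, ∀ v ∈ T, ρ x v ∈ T) →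
    T = ⊥ ∨ T = ⊤

/-- `K` has a fixed vector in every nonzero submodule invariant under its conjugates. -/
def HasFix (A K : Subgroup G) : Prop :=
  ∀ T : Submodule (ZMod p) V, T ≠ ⊥ → (∀ d ∈ A, ∀ x ∈ K, ∀ v ∈ T, ρ (d * x * d⁻¹) v ∈ T) →
    ∃ v ∈ T, v ≠ 0 ∧ ∀ x ∈ K, ρ x v = v

variable [Finite G]

theorem not_hasFix (hcc : CC A K) (hirr : Irr ρ A K) (hnt : ∃ x ∈ K, ∃ v, ρ x v ≠ v)
    (hf : HasFix ρ A K) : False := by
  classical
  haveI := Fintype.ofFinite ↥A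
  have key : ∀ t : Finset ↥A, ∃ T : Submodule (ZMod p) V, T ≠ ⊥ ∧
      (∀ d ∈ A, ∀ x ∈ K, ∀ v ∈ T, ρ (d * x * d⁻¹) v ∈ T) ∧
      ∀ c ∈ t, ∀ x ∈ K, ∀ v ∈ T, ρ ((c : G) * x * (c : G)⁻¹) v = v := by
    intro t
    induction t using Finset.induction with
    | empty =>
      obtain ⟨x, hx, v, hv⟩ := hnt
      refine ⟨⊤, fun h => hv ?_, fun _ _ _ _ _ _ => trivial, fun c hc => absurd hc (by simp)⟩
      rw [(Submodule.eq_bot_iff _).mp h v trivial, map_zero]
    | insert c t hc ih =>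
      obtain ⟨T, hT0, hTi, hTf⟩ := ih
      obtain ⟨w, hwT, hw0, hwf⟩ := hf (T.map (ρ (c : G)⁻¹))
        (fun h => hT0 ((Submodule.eq_bot_iff _).mpr fun v hv => by
          have h' := (Submodule.eq_bot_iff _).mp h _ ⟨v, hv, rfl⟩
          rw [← rho_apply_inv ρ (c : G) v, h', map_zero]))
        (by
          rintro d hd x hx _ ⟨v, hv, rfl⟩
          refine ⟨ρ ((c : G) * d * x * ((c : G) * d)⁻¹) v, hTi _ (A.mul_mem c.2 hd) x hx v hv, ?_⟩
          rw [← rho_mul, ← rho_mul]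
          congr 2
          group)
      obtain ⟨v, hv, rfl⟩ := hwT
      refine ⟨T ⊓ fix ρ (K.map (MulAut.conj (c : G)).toMonoidHom), fun h => hw0 ?_, ?_, ?_⟩
      · have hvf : v ∈ T ⊓ fix ρ (K.map (MulAut.conj (c : G)).toMonoidHom) := by
          refine ⟨hv, ?_⟩
          rintro _ ⟨x, hx, rfl⟩
          have h' := congrArg (ρ (c : G)) (hwf x hx)
          rw [rho_apply_inv, ← rho_mul, ← rho_mul] at h'
          simpa [MulAut.conj_apply] using h'
        rw [(Submodule.eq_bot_iff _).mp h v hvf, map_zero]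
      · intro d hd x hx v hv
        refine ⟨hTi d hd x hx v hv.1, ?_⟩
        rintro _ ⟨y, hy, rfl⟩
        rcases conj_cases hcc c.2 hd with hn | hn
        · have e : ρ (d * x * d⁻¹) v = v := by
            refine hv.2 _ ⟨_, hn x hx, ?_⟩
            simp only [MulEquiv.coe_toMonoidHom, MulAut.conj_apply]
            group
          rw [e]
          exact hv.2 _ ⟨y, hy, rfl⟩
        · simp only [MulEquiv.coe_toMonoidHom, MulAut.conj_apply]
          rw [rho_comm ρ (hn y hy x hx).eq]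
          exact congrArg _ (hv.2 _ ⟨y, hy, rfl⟩)
      · intro d hd x hx v hv
        rcases Finset.mem_insert.mp hd with rfl | hd
        · exact hv.2 _ ⟨x, hx, rfl⟩
        · exact hTf d hd x hx v hv.1
  obtain ⟨T, hT0, -, hTf⟩ := key Finset.univ
  let W : Submodule (ZMod p) V :=
    ⨅ c : ↥A, fix ρ (K.map (MulAut.conj (c : G)).toMonoidHom)
  have hmem : ∀ v, v ∈ W ↔ ∀ c ∈ A, ∀ x ∈ K, ρ (c * x * c⁻¹) v = v := by
    intro v
    simp only [W, Submodule.mem_iInf, mem_fix]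
    refine ⟨fun h c hc x hx => h ⟨c, hc⟩ _ ⟨x, hx, rfl⟩, fun h c => ?_⟩
    rintro _ ⟨x, hx, rfl⟩
    exact h c c.2 x hx
  rcases hirr W (fun a ha v hv => (hmem _).mpr fun c hc x hx => by
      have e : a⁻¹ * c * x * (a⁻¹ * c)⁻¹ = a⁻¹ * (c * x * c⁻¹) * a := by group
      have h := congrArg (ρ a) ((hmem v).mp hv _ (A.mul_mem (A.inv_mem ha) hc) x hx)
      rw [e, ← rho_mul] at h
      rw [← rho_mul, ← h]
      congr 2
      group)
    (fun x hx v hv => by
      have h := (hmem v).mp hv 1 A.one_mem x hx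
      rw [one_mul, inv_one, mul_one] at h
      rwa [h]) with h | h
  · exact hT0 ((Submodule.eq_bot_iff _).mpr fun v hv =>
      (Submodule.eq_bot_iff _).mp h v ((hmem v).mpr fun c hc x hx =>
        hTf ⟨c, hc⟩ (Finset.mem_univ _) x hx v hv))
  · obtain ⟨x, hx, v, hv⟩ := hnt
    have h' := (hmem v).mp (h ▸ Submodule.mem_top) 1 A.one_mem x hx
    rw [one_mul, inv_one, mul_one] at h'
    exact hv h'

end Cfsg.Agent.LocalEvenB.PGV
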