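import Mathlib

/-!
# Towards the P(G,V) theorem: anti-automorphisms with central defect in characteristic two
-/

set_option autoImplicit false

namespace Cfsg.Agent.LocalEvenB.PGV

open Matrix

section Mat

variable {F : Type*} [Field F] [Finite F] [CharP F 2]

theorem mat_two (m : ℕ) (hnc : ∃ r s : Matrix (Fin m) (Fin m) F, r * s ≠ s * r)
    (γ : Matrix (Fin m) (Fin m) F → F)
    (hγ : ∀ r s, r * s + s * r =
      γ (r * s) • (1 : Matrix (Fin m) (Fin m) F) + γ r • s + γ s • r + (γ r * γ s) • 1) :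
    m = 2 := by
  obtain ⟨r, s, hrs⟩ := hnc
  by_contra hm
  rcases Nat.lt_or_ge m 2 with h | h
  · apply hrs
    ext i j
    have := Subsingleton.elim (α := Fin m) (h := by
      interval_cases m <;> infer_instance) i j
    subst this
    simp only [Matrix.mul_apply]
    refine Finset.sum_congr rfl fun k _ => ?_
    have := Subsingleton.elim (α := Fin m) (h := by
      interval_cases m <;> infer_instance) i k
    subst this
    ring
  · obtain ⟨i, j, k, hij, hjk, hik⟩ : ∃ i j k : Fin m, i ≠ j ∧ j ≠ k ∧ i ≠ k :=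
      ⟨⟨0, by omega⟩, ⟨1, by omega⟩, ⟨2, by omega⟩, by simp, by simp, by simp⟩
    have := congrFun (congrFun (hγ (Matrix.single i j 1) (Matrix.single j k 1)) i) k
    simp [Matrix.add_apply, Matrix.mul_apply, Matrix.single, hik, hij, hjk, hij.symm, hjk.symm, hik.symm,
      Matrix.one_apply] at this

theorem gamma_eq_trace (γ : Matrix (Fin 2) (Fin 2) F → F)
    (hγ : ∀ r s, r * s + s * r =
      γ (r * s) • (1 : Matrix (Fin 2) (Fin 2) F) + γ r • s + γ s • r + (γ r * γ s) • 1)
    (r : Matrix (Fin 2) (Fin 2) F) : γ r = r 0 0 + r 1 1 := by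
  have h2 : (2 : F) = 0 := CharTwo.two_eq_zero
  have h := hγ (Matrix.single 0 0 1) (Matrix.single 0 1 1)
  have e1 : (Matrix.single 0 0 1 : Matrix (Fin 2) (Fin 2) F) * Matrix.single 0 1 1 =
      Matrix.single 0 1 1 := by rw [Matrix.single_mul_single_same, one_mul]
  rw [e1] at h
  have h01 := congrFun (congrFun h 0) 1
  have h00 := congrFun (congrFun h 0) 0
  simp [Matrix.add_apply, Matrix.mul_apply, Matrix.single_apply, Fin.sum_univ_two, Matrix.one_apply]
    at h01 h00
  have hγ1 : γ (Matrix.single 0 1 1) = 0 := by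
    rw [← h01, one_mul, CharTwo.add_self_eq_zero, zero_add] at h00
    exact h00.symm
  have h' := congrFun (congrFun (hγ r (Matrix.single 0 1 1)) 0) 1
  rw [hγ1] at h'
  simp [Matrix.add_apply, Matrix.mul_apply, Matrix.single_apply, Fin.sum_univ_two, Matrix.one_apply] at h'
  exact h'.symm

theorem commutant {N : Matrix (Fin 2) (Fin 2) F} (hN : N * N = 0) (hN0 : N ≠ 0)
    {x : Matrix (Fin 2) (Fin 2) F} (hx : N * x = x * N) : ∃ α β : F, x = α • 1 + β • N := by
  have h2 : (2 : F) = 0 := CharTwo.two_eq_zero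
  have e00 := congrFun (congrFun hN 0) 0
  have e01 := congrFun (congrFun hN 0) 1
  have e11 := congrFun (congrFun hN 1) 1
  have c00 := congrFun (congrFun hx 0) 0
  have c01 := congrFun (congrFun hx 0) 1
  have c10 := congrFun (congrFun hx 1) 0
  simp only [Matrix.mul_apply, Fin.sum_univ_two, Matrix.zero_apply] at e00 e01 e11 c00 c01 c10
  have had : N 0 0 = N 1 1 := by
    have : (N 0 0 - N 1 1) * (N 0 0 - N 1 1) = 0 := by
      linear_combination e00 + e11 - (N 0 0 * N 1 1 + N 0 1 * N 1 0) * h2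
    exact sub_eq_zero.mp (mul_self_eq_zero.mp this)
  by_cases hb : N 0 1 = 0
  · have ha : N 0 0 = 0 := by
      rw [hb, zero_mul, add_zero] at e00
      exact mul_self_eq_zero.mp e00
    have hc : N 1 0 ≠ 0 := by
      intro hc
      apply hN0
      ext i j
      fin_cases i <;> fin_cases j <;> simp [ha, hb, hc, ← had]
    refine ⟨x 0 0, x 1 0 / N 1 0, ?_⟩
    have h01 : x 0 1 = 0 := by
      rw [hb, ha] at c00
      have : x 0 1 * N 1 0 = 0 := by linear_combination -c00
      exact (mul_eq_zero.mp this).resolve_right hc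
    have h11 : x 1 1 = x 0 0 := by
      rw [← had, ha] at c10
      have : (x 1 1 - x 0 0) * N 1 0 = 0 := by linear_combination -c10
      exact sub_eq_zero.mp ((mul_eq_zero.mp this).resolve_right hc)
    ext i j
    fin_cases i <;> fin_cases j <;> simp [ha, hb, ← had, h01, h11, hc]
  · refine ⟨x 0 0 - x 0 1 / N 0 1 * N 0 0, x 0 1 / N 0 1, ?_⟩
    have h10 : x 1 0 = x 0 1 / N 0 1 * N 1 0 := by
      field_simp
      linear_combination c00
    have h11 : x 1 1 = x 0 0 := by
      rw [← had] at c01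
      have : (x 1 1 - x 0 0) * N 0 1 = 0 := by linear_combination c01
      exact sub_eq_zero.mp ((mul_eq_zero.mp this).resolve_right hb)
    ext i j
    fin_cases i <;> fin_cases j <;> simp [hb, ← had, h10, h11]

theorem auto_counts {ι : Type*} (ψ : ι → Matrix (Fin 2) (Fin 2) F → Matrix (Fin 2) (Fin 2) F)
    (hmul : ∀ i x y, ψ i (x * y) = ψ i x * ψ i y) (hadd : ∀ i x y, ψ i (x + y) = ψ i x + ψ i y)
    (hinv : ∀ i x, ψ i (ψ i x) = x) (hcomm : ∀ i j x, ψ i (ψ j x) = ψ j (ψ i x))
    (hfix : ∀ i (t : F), ψ i (t • 1) = t • 1) (hne : ∃ i, ψ i ≠ id) :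
    Nat.card (Set.range ψ) ≤ Nat.card F ∧
      Nat.card {x // ∀ i, ψ i x = x} ≤ Nat.card F * Nat.card F := by
  classical
  haveI := Fintype.ofFinite F
  have hsmul : ∀ i (t : F) x, ψ i (t • x) = t • ψ i x := fun i t x => by
    conv_lhs => rw [← one_mul x, ← smul_mul_assoc, hmul, hfix, smul_mul_assoc, one_mul]
  have hzero : ∀ i, ψ i 0 = 0 := fun i => by simpa using hadd i 0 0
  -- implementing matrices
  have hg : ∀ i, ∃ g : Matrix (Fin 2) (Fin 2) F, IsUnit g ∧ ∀ r, ψ i r * g = g * r := by
    intro i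
    have hne0 : ψ i (Matrix.single 0 0 1) ≠ 0 := by
      intro h
      have h' := congrArg (ψ i) h
      rw [hinv, hzero] at h'
      simpa using congrFun (congrFun h' 0) 0
    obtain ⟨v, hv⟩ : ∃ v : Fin 2 → F, ψ i (Matrix.single 0 0 1) *ᵥ v ≠ 0 := by
      by_contra hc
      push_neg at hc
      exact hne0 (Matrix.toLin'.injective (LinearMap.ext fun v => by simpa using hc v))
    refine ⟨Matrix.of fun k j => (ψ i (Matrix.single j 0 1) *ᵥ v) k, ?_, fun r => ?_⟩
    · rw [← Matrix.mulVec_injective_iff_isUnit]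
      intro a b hab
      rw [← sub_eq_zero] at hab ⊢
      rw [← Matrix.mulVec_sub] at hab
      obtain ⟨l, hl⟩ : ∃ l, l = a - b := ⟨_, rfl⟩
      rw [← hl] at hab ⊢
      have hsum : l 0 • (ψ i (Matrix.single 0 0 1) *ᵥ v) + l 1 • (ψ i (Matrix.single 1 0 1) *ᵥ v) = 0 := by
        rw [← hab]
        ext k
        fin_cases k <;> simp [Matrix.mulVec, dotProduct, Fin.sum_univ_two] <;> ring
      funext k
      have h := congrArg (ψ i (Matrix.single 0 k 1) *ᵥ ·) hsum
      simp only [Matrix.mulVec_add, Matrix.mulVec_smul, Matrix.mulVec_mulVec, ← hmul, Matrix.mulVec_zero] at h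
      fin_cases k
      · simp only [Matrix.single_mul_single_same, one_mul, Fin.zero_eta, ne_eq, zero_ne_one, not_false_eq_true,
          Matrix.single_mul_single_of_ne, hzero, Matrix.zero_mulVec, smul_zero, add_zero] at h
        exact (smul_eq_zero.mp h).resolve_right hv
      · simp only [Fin.mk_one, Matrix.single_mul_single_same, one_mul, ne_eq, one_ne_zero, not_false_eq_true,
          Matrix.single_mul_single_of_ne, hzero, Matrix.zero_mulVec, smul_zero, zero_add] at h
        exact (smul_eq_zero.mp h).resolve_right hv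
    · ext k j
      have e : r * Matrix.single j 0 1 =
          r 0 j • Matrix.single 0 0 1 + r 1 j • Matrix.single 1 0 1 := by
        ext a b
        fin_cases a <;> fin_cases b <;> fin_cases j <;>
          simp [Matrix.mul_apply, Matrix.single, Fin.sum_univ_two]
      have h := congrArg (fun M => (ψ i M *ᵥ v) k) e
      simp only [hmul, hadd, hsmul, ← Matrix.mulVec_mulVec, Matrix.add_mulVec, Matrix.smul_mulVec] at h
      simp only [Matrix.mul_apply, Matrix.of_apply, Fin.sum_univ_two]
      fin_cases k <;>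
        · simp [Matrix.mulVec, dotProduct, Fin.sum_univ_two] at h ⊢
          linear_combination h
  choose g hgu hgr using hg
  have hcentral : ∀ A B : Matrix (Fin 2) (Fin 2) F, IsUnit A →
      (∀ r, ∃ r', r' * A = A * r ∧ r' * B = B * r) → ∃ t : F, B = t • A := by
    intro A B hA h
    obtain ⟨u, rfl⟩ := hA
    obtain ⟨U, hU⟩ : ∃ U, U = ((u⁻¹ : (Matrix (Fin 2) (Fin 2) F)ˣ) : Matrix (Fin 2) (Fin 2) F) := ⟨_, rfl⟩
    have hUl : U * u = 1 := by rw [hU, Units.inv_mul]
    have hUr : (u : Matrix (Fin 2) (Fin 2) F) * U = 1 := by rw [hU, Units.mul_inv]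
    have hc : ∀ r, Commute (U * B) r := by
      intro r
      obtain ⟨r', h1, h2⟩ := h r
      have e : r' = (u : Matrix (Fin 2) (Fin 2) F) * r * U := by rw [← h1, mul_assoc, hUr, mul_one]
      rw [commute_iff_eq, mul_assoc, ← h2, e, ← mul_assoc, ← mul_assoc, ← mul_assoc, hUl, one_mul,
        mul_assoc]
    obtain ⟨t, ht⟩ := Matrix.mem_range_scalar_of_commute_single
      (M := U * B) fun i j _ => (hc _).symm
    refine ⟨t, ?_⟩
    have e : B = (u : Matrix (Fin 2) (Fin 2) F) * (U * B) := by rw [← mul_assoc, hUr, one_mul]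
    rw [e, ← ht]
    simp [Matrix.scalar_apply, ← Matrix.smul_one_eq_diagonal]
  obtain ⟨i₀, hi₀⟩ := hne
  obtain ⟨t0, ht0⟩ := hcentral 1 (g i₀ * g i₀) isUnit_one fun r =>
    ⟨r, by simp, by
      rw [mul_assoc (g i₀) (g i₀) r, ← hgr i₀ r, ← mul_assoc (g i₀), ← hgr i₀ (ψ i₀ r), hinv, mul_assoc]⟩
  obtain ⟨d, hd⟩ := FiniteField.isSquare_of_char_two (ringChar.eq F 2) t0
  have hd0 : d ≠ 0 := by
    intro h
    rw [hd, h, mul_zero, zero_smul] at ht0
    exact ((hgu i₀).mul (hgu i₀)).ne_zero ht0
  obtain ⟨g₁, hg₁⟩ : ∃ g₁, g₁ = d⁻¹ • g i₀ := ⟨_, rfl⟩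
  have hsq : g₁ * g₁ = 1 := by
    rw [hg₁, smul_mul_smul_comm, ht0, smul_smul, hd]
    convert one_smul F (1 : Matrix (Fin 2) (Fin 2) F) using 2
    field_simp
  have hr₁ : ∀ r, ψ i₀ r * g₁ = g₁ * r := fun r => by
    rw [hg₁, mul_smul_comm, hgr, smul_mul_assoc]
  obtain ⟨N, hN⟩ : ∃ N, N = g₁ + 1 := ⟨_, rfl⟩
  have h2M : (2 : Matrix (Fin 2) (Fin 2) F) = 0 := CharTwo.two_eq_zero
  have hNN : N * N = 0 := by
    rw [hN]
    calc (g₁ + 1) * (g₁ + 1) = g₁ * g₁ + 2 * g₁ + 1 := by noncomm_ring
      _ = 0 := by rw [hsq, h2M, zero_mul, add_zero, ← two_mul, mul_one, h2M]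
  have hN0 : N ≠ 0 := by
    intro h
    apply hi₀
    have hg1 : g₁ = 1 := by
      calc g₁ = g₁ + 1 + 1 := by rw [add_assoc, one_add_one_eq_two, h2M, add_zero]
        _ = 1 := by rw [← hN, h, zero_add]
    funext r
    have := hr₁ r
    rwa [hg1, mul_one, one_mul] at this
  -- everything commuting with `g₁` lies in a two-dimensional space
  have hform : ∀ x, g₁ * x = x * g₁ → ∃ α β : F, x = α • 1 + β • N := fun x hx =>
    commutant hNN hN0 (by rw [hN, add_mul, mul_add, hx, one_mul, mul_one])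
  constructor
  · -- each automorphism is determined by one parameter
    let Φ : F → Matrix (Fin 2) (Fin 2) F → Matrix (Fin 2) (Fin 2) F :=
      fun t r => (1 + t • N) * r * (1 + t • N)
    have hsub : Set.range ψ ⊆ Set.range Φ := by
      rintro _ ⟨i, rfl⟩
      have hA : IsUnit (g₁ * g i) := (IsUnit.of_mul_eq_one _ hsq).mul (hgu i)
      obtain ⟨μ, hμ⟩ := hcentral (g₁ * g i) (g i * g₁) hA fun r =>
        ⟨ψ i₀ (ψ i r), by rw [← mul_assoc, hr₁, mul_assoc, hgr, ← mul_assoc],
          by rw [hcomm, ← mul_assoc, hgr, mul_assoc, hr₁, ← mul_assoc]⟩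
      have hgg : g i = (μ * μ) • g i := by
        calc g i = (g i * g₁) * g₁ := by rw [mul_assoc, hsq, mul_one]
          _ = μ • (g₁ * (g i * g₁)) := by
            conv_lhs => rw [hμ, smul_mul_assoc, mul_assoc]
          _ = μ • (g₁ * (μ • (g₁ * g i))) := congrArg (fun X => μ • (g₁ * X)) hμ
          _ = (μ * μ) • g i := by rw [mul_smul_comm, smul_smul, ← mul_assoc, hsq, one_mul]
      have hμ1 : μ = 1 := by
        have h1 : μ * μ = 1 := by
          by_contra h
          have : (μ * μ - 1) • g i = 0 := by rw [sub_smul, one_smul, ← hgg, sub_self]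
          exact (hgu i).ne_zero ((smul_eq_zero.mp this).resolve_left (sub_ne_zero.mpr h))
        have : (μ - 1) * (μ - 1) = 0 := by
          linear_combination h1 + (1 - μ) * (CharTwo.two_eq_zero : (2 : F) = 0)
        exact sub_eq_zero.mp (mul_self_eq_zero.mp this)
      rw [hμ1, one_smul] at hμ
      obtain ⟨α, β, hαβ⟩ := hform (g i) hμ.symm
      have hα : α ≠ 0 := by
        intro h
        rw [h, zero_smul, zero_add] at hαβ
        have := (hgu i).mul (hgu i)
        rw [hαβ, smul_mul_smul_comm, hNN, smul_zero] at this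
        exact this.ne_zero rfl
      obtain ⟨g', hg'⟩ : ∃ g', g' = 1 + (β / α) • N := ⟨_, rfl⟩
      have hgi : g i = α • g' := by
        rw [hαβ, hg', smul_add, smul_smul, mul_div_cancel₀ β hα]
      have hg'2 : g' * g' = 1 := by
        rw [hg']
        have hMM : ((β / α) • N) * ((β / α) • N) = 0 := by rw [smul_mul_smul_comm, hNN, smul_zero]
        generalize (β / α) • N = M at hMM ⊢
        calc (1 + M) * (1 + M) = 1 + 2 * M + M * M := by noncomm_ring
          _ = 1 := by rw [h2M, zero_mul, add_zero, hMM, add_zero]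
      refine ⟨β / α, funext fun r => ?_⟩
      have h := hgr i r
      rw [hgi, mul_smul_comm, smul_mul_assoc] at h
      have h' := smul_right_injective _ hα h
      show (1 + (β / α) • N) * r * (1 + (β / α) • N) = ψ i r
      rw [← hg', ← h', mul_assoc, hg'2, mul_one]
    calc Nat.card (Set.range ψ) ≤ Nat.card (Set.range Φ) := Nat.card_mono (Set.toFinite _) hsub
      _ ≤ Nat.card F := Finite.card_range_le Φ
  · rw [← Nat.card_prod]
    let S := {x : Matrix (Fin 2) (Fin 2) F // ∀ i, ψ i x = x}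
    have h : ∀ x : S, ∃ ab : F × F, (x : Matrix (Fin 2) (Fin 2) F) = ab.1 • 1 + ab.2 • N := by
      intro x
      obtain ⟨α, β, h⟩ := hform x.1 (by
        have := hr₁ x.1
        rw [x.2 i₀] at this
        exact this.symm)
      exact ⟨(α, β), h⟩
    choose ab hab using h
    exact Nat.card_le_card_of_injective ab fun x y hxy => Subtype.ext (by rw [hab, hab, hxy])

end Mat

/-- Counts for a finite simple ring of characteristic two with an anti-automorphism `σ` such
that every `σ r + r` is central. -/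
theorem ring_counts {R : Type*} [Ring R] [Finite R] [IsSimpleRing R] (h2 : (2 : R) = 0)
    (hnc : ∃ r s : R, r * s ≠ s * r) (σ : R → R)
    (hadd : ∀ r s, σ (r + s) = σ r + σ s) (hanti : ∀ r s, σ (r * s) = σ s * σ r)
    (hc : ∀ r s, (σ r + r) * s = s * (σ r + r)) :
    ∃ q : ℕ, 2 ≤ q ∧ Nat.card R = q ^ 4 ∧ q ≤ Nat.card (Set.range fun r => σ r + r) ∧
      (q = 2 → Group.IsSolvable Rˣ) ∧
      (∀ r, (∀ s, r * s = s * r) → σ r = r) ∧ (∀ r, (∀ s, r * s = s * r) → ∃ s, σ s + s = r) ∧
      ∀ (ι : Type) (ψ : ι → R → R), (∀ i x y, ψ i (x * y) = ψ i x * ψ i y) →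
        (∀ i x y, ψ i (x + y) = ψ i x + ψ i y) → (∀ i x, ψ i (ψ i x) = x) →
        (∀ i j x, ψ i (ψ j x) = ψ j (ψ i x)) → (∀ i r, (∀ s, r * s = s * r) → ψ i r = r) →
        (∃ i, ψ i ≠ id) →
        Nat.card (Set.range ψ) ≤ q ∧ Nat.card {x // ∀ i, ψ i x = x} ≤ q * q := by
  classical
  haveI : IsArtinianRing R := inferInstance
  obtain ⟨m, hm, D, instD, ⟨e⟩⟩ := IsSimpleRing.exists_ringEquiv_matrix_divisionRing R
  haveI : Finite D := by
    refine Finite.of_injective (fun d => e.symm (Matrix.scalar (Fin m) d)) fun a b h => ?_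
    haveI : NeZero m := hm
    exact Matrix.scalar_inj.mp (e.symm.injective h)
  letI : Field D := littleWedderburn D
  haveI : CharP D 2 := by
    have hM : (2 : Matrix (Fin m) (Fin m) D) = 0 := by rw [← map_ofNat e 2, h2, map_zero]
    have hD : (2 : D) = 0 := by
      have : NeZero m := hm
      have := congrFun (congrFun hM 0) 0
      simpa [Matrix.ofNat_apply] using this
    exact CharTwo.of_one_ne_zero_of_two_eq_zero one_ne_zero hD
  obtain ⟨c, hcdef⟩ : ∃ c : R → R, c = fun r => σ r + r := ⟨_, rfl⟩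
  have hcc : ∀ r s, Commute (c r) s := fun r s => hcdef ▸ hc r s
  have hscal : ∀ z : R, (∀ s, Commute z s) → ∃ t : D, e z = t • 1 := by
    intro z hz
    obtain ⟨t, ht⟩ := Matrix.mem_range_scalar_of_commute_single (M := e z) fun i j _ => by
      show Commute (Matrix.single i j 1) (e z)
      rw [← e.apply_symm_apply (Matrix.single i j 1)]
      exact ((hz _).map e).symm
    exact ⟨t, by rw [← ht]; simp [Matrix.scalar_apply, ← Matrix.smul_one_eq_diagonal]⟩
  choose γR hγR using fun r => hscal (c r) (hcc r)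
  obtain ⟨γ, hγdef⟩ : ∃ γ : Matrix (Fin m) (Fin m) D → D, γ = fun x => γR (e.symm x) := ⟨_, rfl⟩
  have hneg : ∀ x : R, x + x = 0 := fun x => by rw [← two_mul, h2, zero_mul]
  have hσ : ∀ r, σ r = c r + r := fun r => by rw [hcdef, add_assoc, hneg, add_zero]
  have hid : ∀ r s : R, r * s + s * r = c (r * s) + c r * s + c s * r + c r * c s := by
    intro r s
    have h := hanti r s
    rw [hσ, hσ, hσ] at h
    have h' : c (r * s) + r * s = c s * c r + c s * r + s * c r + s * r := by rw [h]; noncomm_ring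
    rw [← (hcc r s).eq, (hcc s (c r)).eq] at h'
    rw [show r * s + s * r = c (r * s) + (c (r * s) + r * s) + s * r by
      rw [← add_assoc, hneg, zero_add], h']
    have := hneg (s * r)
    calc c (r * s) + (c r * c s + c s * r + c r * s + s * r) + s * r
        = c (r * s) + c r * s + c s * r + c r * c s + (s * r + s * r) := by abel
      _ = _ := by rw [this, add_zero]
  have hγ : ∀ r s, r * s + s * r =
      γ (r * s) • (1 : Matrix (Fin m) (Fin m) D) + γ r • s + γ s • r + (γ r * γ s) • 1 := by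
    intro r s
    have h := congrArg e (hid (e.symm r) (e.symm s))
    simp only [map_add, map_mul, hγR, RingEquiv.apply_symm_apply, smul_mul_assoc, one_mul,
      smul_smul] at h
    rw [hγdef]
    simpa [← map_mul] using h
  obtain rfl : m = 2 := by
    refine mat_two m ?_ γ hγ
    obtain ⟨r, s, hrs⟩ := hnc
    exact ⟨e r, e s, fun h => hrs (e.injective (by rw [map_mul, map_mul, h]))⟩
  have htr := gamma_eq_trace γ hγ
  have hcard : Nat.card R = Nat.card D ^ 4 := by
    rw [Nat.card_congr e.toEquiv, Nat.card_congr (Matrix.of (m := Fin 2) (n := Fin 2) (α := D)).symm,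
      Nat.card_fun, Nat.card_fun, Nat.card_eq_fintype_card (α := Fin 2), Fintype.card_fin, ← pow_mul]
  refine ⟨Nat.card D, Finite.one_lt_card, hcard, ?_, ?_, ?_, ?_, ?_⟩
  · refine Nat.card_le_card_of_injective
      (fun t : D => ⟨c (e.symm (Matrix.single 0 0 t)), ⟨e.symm (Matrix.single 0 0 t), hcdef ▸ rfl⟩⟩)
      fun a b h => ?_
    have h' := congrArg (fun z => e z.1 0 0) h
    simp only [hγR] at h'
    have hh : ∀ t : D, γR (e.symm (Matrix.single 0 0 t)) = t := fun t => by
      have := htr (Matrix.single 0 0 t)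
      rw [hγdef] at this
      simpa [Matrix.single] using this
    rw [hh, hh] at h'
    simpa using h'
  · intro hq
    haveI := Fintype.ofFinite D
    have hU : Nat.card (GL (Fin 2) D) = 6 := by
      rw [Matrix.card_GL_field, ← Nat.card_eq_fintype_card, hq]
      simp [Fin.prod_univ_two]
    haveI : IsZGroup (GL (Fin 2) D) := IsZGroup.of_squarefree (by
      rw [hU]; exact Nat.squarefree_mul_iff.mpr ⟨by norm_num, Nat.prime_two.squarefree, Nat.prime_three.squarefree⟩)
    exact solvable_of_solvable_injective (f := (Units.mapEquiv e.toMulEquiv).toMonoidHom)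
      (Units.mapEquiv e.toMulEquiv).injective
  · intro r hr
    obtain ⟨t, ht⟩ := hscal r hr
    rw [hσ]
    suffices h0 : c r = 0 by rw [h0, zero_add]
    apply e.injective
    rw [map_zero, hγR]
    have h' := htr (e r)
    rw [hγdef] at h'
    simp only [RingEquiv.symm_apply_apply] at h'
    rw [h', ht]
    simp [CharTwo.add_self_eq_zero]
  · intro r hr
    obtain ⟨t, ht⟩ := hscal r hr
    refine ⟨e.symm (Matrix.single 0 0 t), e.injective ?_⟩
    have h' := htr (Matrix.single 0 0 t)
    rw [hγdef] at h'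
    simp only at h'
    have e1 : σ (e.symm (Matrix.single 0 0 t)) + e.symm (Matrix.single 0 0 t) =
        c (e.symm (Matrix.single 0 0 t)) := by rw [hcdef]
    rw [e1, hγR, h', ht]
    simp [Matrix.single]
  · intro ι ψ hm' ha hi hcm hf hne
    obtain ⟨ψ', hψ'⟩ : ∃ ψ' : ι → Matrix (Fin 2) (Fin 2) D → Matrix (Fin 2) (Fin 2) D,
        ψ' = fun i x => e (ψ i (e.symm x)) := ⟨_, rfl⟩
    have h := auto_counts ψ'
      (fun i x y => by simp [hψ', hm']) (fun i x y => by simp [hψ', ha]) (fun i x => by simp [hψ', hi])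
      (fun i j x => by simp [hψ', hcm i j])
      (fun i t => by
        rw [hψ']
        simp only
        rw [hf i _ fun s => e.injective (by simp), e.apply_symm_apply])
      (by
        obtain ⟨i, hi'⟩ := hne
        refine ⟨i, fun h => hi' (funext fun r => e.injective ?_)⟩
        have := congrFun h (e r)
        simpa [hψ'] using this)
    refine ⟨le_trans (Nat.card_le_card_of_injective (fun z : Set.range ψ =>
      (⟨fun x => e (z.1 (e.symm x)), by
        obtain ⟨i, hi'⟩ := z.2
        exact ⟨i, by simp [hψ', hi']⟩⟩ : Set.range ψ')) ?_) h.1, le_trans ?_ h.2⟩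
    · intro z w hzw
      refine Subtype.ext (funext fun r => e.injective ?_)
      simpa using congrFun (congrArg Subtype.val hzw) (e r)
    · refine le_of_eq (Nat.card_congr (e.toEquiv.subtypeEquiv fun r => ?_))
      simp [hψ']

end Cfsg.Agent.LocalEvenB.PGV
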