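import Cfsg.Agent.Lib.LocalEvenB.PGVCore
import Cfsg.Agent.Lib.LocalEvenB.PGVTwoRing

/-!
# Towards the P(G,V) theorem: characteristic two
-/

set_option autoImplicit false

namespace Cfsg.Agent.LocalEvenB.PGV

open Subgroup

variable {G V : Type*} [Group G] [AddCommGroup V] [Module (ZMod 2) V] [Fact (Nat.Prime 2)]
variable (ρ : Representation (ZMod 2) G V) {A K : Subgroup G} {a : G}

theorem v_add_self (v : V) : v + v = 0 := by
  rw [← two_smul (ZMod 2) v, show (2 : ZMod 2) = 0 from rfl, zero_smul]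

theorem v_neg (v : V) : -v = v := neg_eq_of_add_eq_zero_left (v_add_self v)

theorem v_sub (v w : V) : v - w = v + w := by rw [sub_eq_add_neg, v_neg]

/-- Invariant under `K` and its conjugate by `a`. -/
def LInv (K : Subgroup G) (a : G) (T : Submodule (ZMod 2) V) : Prop :=
  ∀ x ∈ K, ∀ v ∈ T, ρ x v ∈ T ∧ ρ (a * x * a⁻¹) v ∈ T

/-- A minimal invariant submodule on which `K` is nontrivial. -/
structure LSimp (K : Subgroup G) (a : G) (U : Submodule (ZMod 2) V) : Prop where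
  inv : LInv ρ K a U
  min : ∀ T : Submodule (ZMod 2) V, T ≤ U → LInv ρ K a T → T = ⊥ ∨ T = U
  nontriv : ∃ x ∈ K, ∃ v ∈ U, ρ x v ≠ v

theorem LSimp.ne_bot {U : Submodule (ZMod 2) V} (hU : LSimp ρ K a U) : U ≠ ⊥ := by
  obtain ⟨x, -, v, hv, hne⟩ := hU.nontriv
  intro h
  rw [(Submodule.eq_bot_iff _).mp h v hv, map_zero] at hne
  exact hne rfl

theorem dd_two (x : G) : dd a 2 x = x * (a * x * a⁻¹) := by simp [dd, cj]

theorem inv_eq_self_of_sq {g : G} (h : g ^ 2 = 1) : g⁻¹ = g :=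
  inv_eq_of_mul_eq_one_left (by rw [← pow_two, h])

theorem exists_lsimp [Finite G] [Finite V] (hcc : CC A K) (hirr : Irr ρ A K)
    (hnt : ∃ x ∈ K, ∃ v, ρ x v ≠ v) (ha : a ∈ A) : ∃ U, LSimp ρ K a U := by
  classical
  by_contra hcon
  push_neg at hcon
  refine not_hasFix ρ hcc hirr hnt fun T hT hTd => ?_
  haveI : Finite (Submodule (ZMod 2) V) := Finite.of_injective _ SetLike.coe_injective
  obtain ⟨U, ⟨hUT, hU0, hUi⟩, hUmin⟩ := Set.Finite.exists_minimal
    (Set.toFinite {U : Submodule (ZMod 2) V | U ≤ T ∧ U ≠ ⊥ ∧ LInv ρ K a U})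
    ⟨T, le_rfl, hT, fun x hx v hv => ⟨by simpa using hTd 1 A.one_mem x hx v hv, hTd a ha x hx v hv⟩⟩
  obtain ⟨v, hv, hv0⟩ := Submodule.exists_mem_ne_zero_of_ne_bot hU0
  refine ⟨v, hUT hv, hv0, fun x hx => ?_⟩
  by_contra hne
  refine hcon U ⟨hUi, fun T' hT' hT'i => ?_, x, hx, v, hv, hne⟩
  by_cases h : T' = ⊥
  · exact Or.inl h
  · exact Or.inr (le_antisymm hT' (hUmin ⟨hT'.trans hUT, h, hT'i⟩ hT'))

section basic

variable (hK : QS K) (hM : Moves 2 K a) (hD : DFix ρ K a)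

include hM in
theorem comm_conj {x y : G} (hx : x ∈ K) (hy : y ∈ K) : (a * x * a⁻¹) * y = y * (a * x * a⁻¹) := by
  simpa using (hM.comm 1 one_pos one_lt_two x hx y hy).eq

include hM in
theorem a_a (v : V) : ρ a (ρ a v) = v := by
  rw [← rho_mul, ← pow_two, hM.pow_eq, rho_one]

include hM in
theorem a_conj (x : G) (v : V) : ρ (a * x * a⁻¹) v = ρ a (ρ x (ρ a v)) := by
  rw [rho_mul, rho_mul, inv_eq_self_of_sq hM.pow_eq]

include hM in
theorem a_fix_n (v : V) : ρ a (ρ a v - v) = ρ a v - v := by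
  rw [map_sub, a_a ρ hM, v_sub, v_sub, add_comm]

include hD in
theorem d_fix {x : G} (hx : x ∈ K) (v : V) :
    ρ x (ρ (a * x * a⁻¹) (ρ a v - v)) = ρ a v - v := by
  rw [← rho_mul, ← dd_two]
  exact hD x hx v

include hK hM hD in
theorem LSimp.map_le {U : Submodule (ZMod 2) V} (hU : LSimp ρ K a U) : ∀ u ∈ U, ρ a u ∈ U := by
  obtain ⟨U', hU'⟩ : ∃ U' : Submodule (ZMod 2) V, U' = U.map (ρ a) := ⟨_, rfl⟩
  have hmem : ∀ w, w ∈ U' ↔ ∃ u ∈ U, ρ a u = w := fun w => by rw [hU', Submodule.mem_map]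
  have hi : LInv ρ K a U' := by
    intro x hx w hw
    obtain ⟨u, hu, rfl⟩ := (hmem w).mp hw
    refine ⟨(hmem _).mpr ⟨ρ (a * x * a⁻¹) u, (hU.inv x hx u hu).2, ?_⟩,
      (hmem _).mpr ⟨ρ x u, (hU.inv x hx u hu).1, (rho_conj ρ a x u).symm⟩⟩
    rw [a_conj ρ hM, a_a ρ hM]
  rcases hU.min (U ⊓ U') inf_le_left (fun x hx v hv =>
      ⟨⟨(hU.inv x hx v hv.1).1, (hi x hx v hv.2).1⟩, ⟨(hU.inv x hx v hv.1).2, (hi x hx v hv.2).2⟩⟩) with h | h
  · exfalso
    have hinj : ∀ u ∈ U, ρ a u = u → u = 0 := fun u hu he =>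
      (Submodule.eq_bot_iff _).mp h u ⟨hu, (hmem u).mpr ⟨u, hu, he⟩⟩
    have hd : ∀ x ∈ K, ∀ u ∈ U, ρ x (ρ (a * x * a⁻¹) u) = u := by
      intro x hx u hu
      have hd' : ρ (dd a 2 x) (ρ a u) = ρ a (ρ (dd a 2 x) u) :=
        rho_comm ρ (mul_inv_eq_iff_eq_mul.mp (hM.dd_commute_self hx)).symm u
      have hfix : ρ (dd a 2 x) (ρ a u - u) = ρ a u - u := hD x hx u
      rw [map_sub, hd'] at hfix
      have hmemU : ρ (dd a 2 x) u - u ∈ U := by
        rw [dd_two, rho_mul]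
        exact sub_mem (hU.inv x hx _ (hU.inv x hx u hu).2).1 hu
      have h0 := hinj _ hmemU (by
        rw [map_sub]
        exact sub_eq_sub_iff_sub_eq_sub.mp hfix)
      rw [sub_eq_zero, dd_two, rho_mul] at h0
      exact h0
    obtain ⟨x₀, hx₀, v₀, hv₀, hne⟩ := hU.nontriv
    have hinv' : ∀ x ∈ K, ∀ u ∈ U, ρ (a * x * a⁻¹) u = ρ x⁻¹ u := fun x hx u hu => by
      conv_rhs => rw [← hd x hx u hu, rho_inv_apply]
    refine hne (triv_of_comm ρ hK (U : Set V) (fun x hx v hv => (hU.inv x hx v hv).1)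
      (fun x hx y hy v hv => ?_) x₀ hx₀ v₀ hv₀)
    have e := rho_comm ρ (comm_conj hM (K.inv_mem hx) hy) v
    rw [hinv' _ (K.inv_mem hx) v hv, hinv' _ (K.inv_mem hx) _ (hU.inv y hy v hv).1, inv_inv] at e
    rw [rho_mul, rho_mul]
    exact e
  · intro u hu
    obtain ⟨w, hw, hwu⟩ := (hmem u).mp (h.ge hu).2
    rw [← hwu, a_a ρ hM]
    exact hw

include hK hM hD in
theorem LSimp.exists_fixed {U : Submodule (ZMod 2) V} (hU : LSimp ρ K a U) :
    ∃ e ∈ U, e ≠ 0 ∧ ρ a e = e ∧ (∃ v, ρ a v - v = e) ∧ ∀ x ∈ K, ρ (a * x * a⁻¹) e = ρ x⁻¹ e := by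
  have haU := hU.map_le ρ hK hM hD
  by_contra hcon
  obtain ⟨x₀, hx₀, v₀, hv₀, hne⟩ := hU.nontriv
  have htriv : ∀ u ∈ U, ρ a u = u := by
    intro u hu
    by_contra h
    refine hcon ⟨ρ a u - u, sub_mem (haU u hu) hu, sub_ne_zero.mpr h, a_fix_n ρ hM u, ⟨u, rfl⟩,
      fun x hx => ?_⟩
    conv_rhs => rw [← d_fix ρ hD hx u, rho_inv_apply]
  refine hne (triv_of_comm ρ hK (U : Set V) (fun x hx v hv => (hU.inv x hx v hv).1)
    (fun x hx y hy v hv => ?_) x₀ hx₀ v₀ hv₀)
  have hx' : ∀ x ∈ K, ∀ u ∈ U, ρ (a * x * a⁻¹) u = ρ x u := fun x hx u hu => by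
    rw [a_conj ρ hM, htriv u hu, htriv _ (hU.inv x hx u hu).1]
  have e := rho_comm ρ (comm_conj hM hx hy) v
  rw [hx' x hx _ (hU.inv y hy v hv).1, hx' x hx v hv] at e
  rw [rho_mul, rho_mul]
  exact e

end basic

variable [Finite G] [Finite V]

/-- The main statement in characteristic two. -/
theorem two_core (hK : QS K) (hcc : CC A K) (hab : ∀ c ∈ A, ∀ d ∈ A, c * d = d * c)
    (hel : ∀ c ∈ A, c ^ 2 = 1) (hirr : Irr ρ A K) (hnt : ∃ x ∈ K, ∃ v, ρ x v ≠ v)
    (ha : a ∈ A) (hn : ¬ Nm K a) (hD : DFix ρ K a) :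
    (∀ c ∈ A, (∀ v, ρ c (ρ a v - v) = ρ a v - v) → Nm K c ∨ Nm K (a * c)) ∧
    ¬ Nat.card V ≤ 2 * Nat.card ↥(LinearMap.ker (ρ a - 1)) ∧
    ∀ B : Subgroup G, B ≤ A → (∀ b ∈ B, Nm K b ∧ ∀ v, ρ b (ρ a v - v) = ρ a v - v) →
      (∃ b ∈ B, ρ b ≠ 1) →
      ¬ Nat.card V * Nat.card ↥(B ⊓ ρ.ker) ≤ 2 * (Nat.card ↥B * Nat.card ↥(fix ρ B)) := by
  classical
  have hM : Moves 2 K a := moves_of_not_nm hcc ha (hel a ha) hn
  have hinvA : ∀ c ∈ A, c⁻¹ = c := fun c hc => inv_eq_self_of_sq (hel c hc)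
  obtain ⟨U, hU⟩ := exists_lsimp ρ hcc hirr hnt ha
  have haU := hU.map_le ρ hK hM hD
  obtain ⟨e, heU, he0, hae, ⟨v₀, hev⟩, hxe⟩ := hU.exists_fixed ρ hK hM hD
  -- the image ring
  let r : ↥K →* Module.End (ZMod 2) ↥U :=
    { toFun := fun x => (ρ (x : G)).restrict fun v hv => (hU.inv x x.2 v hv).1
      map_one' := LinearMap.ext fun v => Subtype.ext (by simp)
      map_mul' := fun x y => LinearMap.ext fun v => Subtype.ext (by simp) }
  have hr : ∀ (x : ↥K) (v : ↥U), (r x v : V) = ρ (x : G) (v : V) := fun x v => rfl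
  let R := Algebra.adjoin (ZMod 2) (Set.range r)
  have hgen : ∀ x : ↥K, r x ∈ R := fun x => Algebra.subset_adjoin ⟨x, rfl⟩
  let e' : ↥U := ⟨e, heU⟩
  let ev : ↥R →ₗ[ZMod 2] V :=
    { toFun := fun z => ((z : Module.End (ZMod 2) ↥U) e' : V)
      map_add' := fun z w => rfl
      map_smul' := fun c z => rfl }
  have hev' : ∀ z : ↥R, ev z = ((z : Module.End (ZMod 2) ↥U) e' : V) := fun z => rfl
  have hevU : ∀ z, ev z ∈ U := fun z => ((z : Module.End (ZMod 2) ↥U) e').2
  have hev1 : ev 1 = e := rfl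
  have hevx : ∀ x : ↥K, ev ⟨r x, hgen x⟩ = ρ (x : G) e := fun x => rfl
  have hevmul : ∀ z w : ↥R, ev (z * w) = ((z : Module.End (ZMod 2) ↥U) ⟨ev w, hevU w⟩ : V) := fun z w => rfl
  have hevmulx : ∀ (x : ↥K) (w : ↥R), ev (⟨r x, hgen x⟩ * w) = ρ (x : G) (ev w) := fun x w => rfl
  -- conjugated elements commute with the ring
  have hcomm' : ∀ (z : ↥R) (x : ↥K) (u : ↥U),
      ((z : Module.End (ZMod 2) ↥U) ⟨ρ (a * x * a⁻¹) u, (hU.inv x x.2 u u.2).2⟩ : V) =
        ρ (a * x * a⁻¹) (((z : Module.End (ZMod 2) ↥U) u : ↥U) : V) := by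
    rintro ⟨z, hz⟩ x u
    induction hz using Algebra.adjoin_induction generalizing u with
    | mem z hz =>
      obtain ⟨y, rfl⟩ := hz
      exact rho_comm ρ (comm_conj hM x.2 y.2).symm _
    | algebraMap c => simp [Module.algebraMap_end_apply]
    | add z w _ _ hz hw =>
      simp only [LinearMap.add_apply, Submodule.coe_add, map_add]
      exact congrArg₂ (· + ·) (hz u) (hw u)
    | mul z w _ _ hz hw =>
      simp only [Module.End.mul_apply]
      rw [← hz (w u)]
      exact congrArg (fun y : ↥U => (z y : V)) (Subtype.ext (hw u))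
  -- injectivity
  have hinj : Function.Injective ev := by
    rw [injective_iff_map_eq_zero]
    intro z hz
    let M : Submodule (ZMod 2) V := Submodule.span (ZMod 2) {w | ∃ y ∈ K, ρ (a * y * a⁻¹) e = w}
    have hMU : M ≤ U := Submodule.span_le.mpr (by rintro _ ⟨y, hy, rfl⟩; exact (hU.inv y hy e heU).2)
    have hMi : LInv ρ K a M := by
      intro x hx v hv
      constructor
      · refine (Submodule.span_le (p := M.comap (ρ x))).mpr ?_ hv
        rintro _ ⟨y, hy, rfl⟩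
        refine Submodule.subset_span ⟨y * x⁻¹, K.mul_mem hy (K.inv_mem hx), ?_⟩
        rw [show a * (y * x⁻¹) * a⁻¹ = (a * y * a⁻¹) * (a * x⁻¹ * a⁻¹) by group, rho_mul,
          hxe _ (K.inv_mem hx), inv_inv, rho_comm ρ (comm_conj hM hy hx)]
      · refine (Submodule.span_le (p := M.comap (ρ (a * x * a⁻¹)))).mpr ?_ hv
        rintro _ ⟨y, hy, rfl⟩
        refine Submodule.subset_span ⟨x * y, K.mul_mem hx hy, ?_⟩
        rw [← rho_mul]
        congr 2
        group
    have hMtop : M = U := (hU.min M hMU hMi).resolve_left fun h => he0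
      ((Submodule.eq_bot_iff _).mp h e (Submodule.subset_span ⟨1, K.one_mem, by simp⟩))
    apply Subtype.ext
    refine LinearMap.ext fun u => Subtype.ext ?_
    obtain ⟨v, hv⟩ := u
    simp only [ZeroMemClass.coe_zero, LinearMap.zero_apply]
    have : ∀ v (hv : v ∈ U), v ∈ Submodule.span (ZMod 2) {w | ∃ y ∈ K, ρ (a * y * a⁻¹) e = w} →
        (((z : Module.End (ZMod 2) ↥U) ⟨v, hv⟩ : ↥U) : V) = 0 := by
      intro v hv hvs
      let Z : Submodule (ZMod 2) V := (LinearMap.ker (z : Module.End (ZMod 2) ↥U)).map U.subtype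
      have hle : Submodule.span (ZMod 2) {w | ∃ y ∈ K, ρ (a * y * a⁻¹) e = w} ≤ Z := by
        refine Submodule.span_le.mpr ?_
        rintro _ ⟨y, hy, rfl⟩
        refine ⟨⟨ρ (a * y * a⁻¹) e, (hU.inv y hy e heU).2⟩, ?_, rfl⟩
        refine LinearMap.mem_ker.mpr (Subtype.ext ?_)
        have h := hcomm' z ⟨y, hy⟩ e'
        rw [← hev', hz, map_zero] at h
        exact h
      obtain ⟨w, hw, hwv⟩ := hle hvs
      obtain rfl : w = ⟨v, hv⟩ := Subtype.ext hwv
      rw [LinearMap.mem_ker.mp hw]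
      rfl
    exact this v hv (hMtop.ge hv)
  -- surjectivity
  have hevxc : ∀ (z : ↥R) (x : ↥K), ev (z * ⟨r x⁻¹, hgen _⟩) = ρ (a * x * a⁻¹) (ev z) := by
    intro z x
    rw [hevmul, hev' z, ← hcomm' z x e']
    exact congrArg (fun y : ↥U => (((z : Module.End (ZMod 2) ↥U) y : ↥U) : V))
      (Subtype.ext (hxe x x.2).symm)
  have hsurj : ∀ u ∈ U, ∃ z, ev z = u := by
    have h : LinearMap.range ev = U := by
      refine (hU.min _ (by rintro _ ⟨z, rfl⟩; exact hevU z) ?_).resolve_left ?_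
      · rintro x hx _ ⟨z, rfl⟩
        exact ⟨⟨_, hevmulx ⟨x, hx⟩ z⟩, ⟨_, hevxc z ⟨x, hx⟩⟩⟩
      · intro h
        exact he0 ((Submodule.eq_bot_iff _).mp h e ⟨1, hev1⟩)
    intro u hu
    exact LinearMap.mem_range.mp (h.ge hu)
  -- the anti-automorphism
  choose σ hσ using fun z : ↥R => hsurj _ (haU _ (hevU z))
  have hσσ : ∀ z, σ (σ z) = z := fun z => hinj (by rw [hσ, hσ, a_a ρ hM])
  have hσadd : ∀ z w, σ (z + w) = σ z + σ w := fun z w =>
    hinj (by rw [hσ, map_add, map_add, map_add, hσ, hσ])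
  have hσx : ∀ x : ↥K, σ ⟨r x, hgen x⟩ = ⟨r x⁻¹, hgen _⟩ := fun x => hinj (by
    rw [hσ, hevx, hevx]
    have : ρ a (ρ (x : G) e) = ρ (a * x * a⁻¹) (ρ a e) := (rho_conj ρ a (x : G) e).symm
    rw [this, hae, hxe x x.2]
    rfl)
  have hσone : σ 1 = 1 := hinj (by rw [hσ, hev1, hae])
  have hanti : ∀ z w, σ (z * w) = σ w * σ z := by
    rintro ⟨z, hz⟩
    induction hz using Algebra.adjoin_induction with
    | mem z hz =>
      obtain ⟨x, rfl⟩ := hz
      intro w
      apply hinj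
      have := hσx x
      rw [this, hevxc, hσ, hevmulx, hσ]
      exact (rho_conj ρ a (x : G) _).symm
    | algebraMap c =>
      intro w
      have hc : ∀ z : ↥R, σ (c • z) = c • σ z := fun z =>
        hinj (by rw [hσ, map_smul, map_smul, map_smul, hσ])
      have e1 : (⟨algebraMap (ZMod 2) (Module.End (ZMod 2) ↥U) c, Subalgebra.algebraMap_mem R c⟩ : ↥R) =
          c • 1 := Subtype.ext (Algebra.algebraMap_eq_smul_one c)
      rw [e1, smul_mul_assoc, one_mul, hc, hc, hσone, mul_smul_comm, mul_one]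
    | add z z' hz hz' h h' =>
      intro w
      have e1 : (⟨z + z', add_mem hz hz'⟩ : ↥R) = ⟨z, hz⟩ + ⟨z', hz'⟩ := rfl
      rw [e1, add_mul, hσadd, hσadd, mul_add, h, h']
    | mul z z' hz hz' h h' =>
      intro w
      have e1 : (⟨z * z', mul_mem hz hz'⟩ : ↥R) = ⟨z, hz⟩ * ⟨z', hz'⟩ := rfl
      rw [e1, mul_assoc, h, h', h, mul_assoc]
  have hcentral_of : ∀ z : ↥R, (∀ x : ↥K, z * ⟨r x, hgen x⟩ = ⟨r x, hgen x⟩ * z) → ∀ w, z * w = w * z := by
    rintro z hz ⟨w, hw⟩
    induction hw using Algebra.adjoin_induction with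
    | mem w hw => obtain ⟨x, rfl⟩ := hw; exact hz x
    | algebraMap c => exact (Algebra.commutes c z).symm
    | add w w' hw hw' h h' =>
      have e1 : (⟨w + w', add_mem hw hw'⟩ : ↥R) = ⟨w, hw⟩ + ⟨w', hw'⟩ := rfl
      rw [e1, mul_add, add_mul, h, h']
    | mul w w' hw hw' h h' =>
      have e1 : (⟨w * w', mul_mem hw hw'⟩ : ↥R) = ⟨w, hw⟩ * ⟨w', hw'⟩ := rfl
      rw [e1, ← mul_assoc, h, mul_assoc, h', mul_assoc]
  have hinvr : ∀ x : ↥K, (⟨r x⁻¹, hgen _⟩ : ↥R) * ⟨r x, hgen x⟩ = 1 := fun x =>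
    Subtype.ext (by show r x⁻¹ * r x = 1; rw [← map_mul, inv_mul_cancel, map_one])
  have hc : ∀ z w, (σ z + z) * w = w * (σ z + z) := by
    intro z
    refine hcentral_of _ fun x => ?_
    have hn' : ev (σ z + z) = ρ a (ev z) - ev z := by rw [map_add, hσ, v_sub]
    have h : ⟨r x, hgen x⟩ * ((σ z + z) * ⟨r x⁻¹, hgen _⟩) = σ z + z := hinj (by
      rw [hevmulx, hevxc, hn']
      exact d_fix ρ hD x.2 (ev z))
    calc (σ z + z) * ⟨r x, hgen x⟩
        = (⟨r x, hgen x⟩ * ((σ z + z) * ⟨r x⁻¹, hgen _⟩)) * ⟨r x, hgen x⟩ := by rw [h]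
      _ = ⟨r x, hgen x⟩ * (σ z + z) * (⟨r x⁻¹, hgen _⟩ * ⟨r x, hgen x⟩) := by simp only [mul_assoc]
      _ = _ := by rw [hinvr, mul_one]
  -- simplicity
  haveI hfin : Finite ↥R := Finite.of_injective ev hinj
  have hne1 : (1 : ↥R) ≠ 0 := fun h => he0 (by rw [← hev1, h, map_zero])
  haveI : Nontrivial ↥R := nontrivial_of_ne _ _ hne1
  haveI : IsSimpleRing ↥R := .of_eq_bot_or_eq_top fun I => by
    let T : Submodule (ZMod 2) V :=
      { carrier := {v | ∃ z ∈ I, ev z = v}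
        zero_mem' := ⟨0, I.zero_mem, map_zero _⟩
        add_mem' := by
          rintro _ _ ⟨z, hz, rfl⟩ ⟨w, hw, rfl⟩
          exact ⟨z + w, I.add_mem hz hw, map_add _ _ _⟩
        smul_mem' := by
          rintro c _ ⟨z, hz, rfl⟩
          refine ⟨c • z, ?_, map_smul _ _ _⟩
          rw [← one_mul z, ← smul_mul_assoc]
          exact I.mul_mem_left _ _ hz }
    have hTi : LInv ρ K a T := by
      rintro x hx _ ⟨z, hz, rfl⟩
      exact ⟨⟨_, I.mul_mem_left _ _ hz, hevmulx ⟨x, hx⟩ z⟩, ⟨_, I.mul_mem_right _ _ hz, hevxc z ⟨x, hx⟩⟩⟩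
    rcases hU.min T (by rintro _ ⟨z, -, rfl⟩; exact hevU z) hTi with h | h
    · left
      refine SetLike.ext fun z => ⟨fun hz => ?_, fun hz => ?_⟩
      · rw [TwoSidedIdeal.mem_bot]
        exact (injective_iff_map_eq_zero ev).mp hinj z ((Submodule.eq_bot_iff _).mp h _ ⟨z, hz, rfl⟩)
      · rw [TwoSidedIdeal.mem_bot] at hz
        exact hz ▸ I.zero_mem
    · right
      obtain ⟨z, hz, hze⟩ := h.ge heU
      rw [← hev1] at hze
      exact (TwoSidedIdeal.one_mem_iff I).mp (hinj hze ▸ hz)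
  have h2R : (2 : ↥R) = 0 := hinj (by
    rw [show (2 : ↥R) = 1 + 1 from one_add_one_eq_two.symm, map_add, map_zero, v_add_self])
  have htrivU : (∀ x : ↥K, ρ (x : G) e = e) → False := by
    intro h
    obtain ⟨x₀, hx₀, w₀, hw₀, hne⟩ := hU.nontriv
    apply hne
    obtain ⟨z, rfl⟩ := hsurj w₀ hw₀
    have hx1 : (⟨r ⟨x₀, hx₀⟩, hgen _⟩ : ↥R) = 1 := hinj (by rw [hevx, h ⟨x₀, hx₀⟩, hev1])
    have := hevmulx ⟨x₀, hx₀⟩ z
    rw [hx1, one_mul] at this
    exact this.symm
  have hnc : ∃ z w : ↥R, z * w ≠ w * z := by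
    by_contra hcon
    push_neg at hcon
    apply htrivU
    have hKs : ∀ x ∈ K, ∀ u ∈ (U : Set V), ρ x u = u := by
      refine triv_of_comm ρ hK (U : Set V) (fun x hx v hv => (hU.inv x hx v hv).1) fun x hx y hy v hv => ?_
      obtain ⟨z, rfl⟩ := hsurj v hv
      rw [rho_mul, rho_mul, ← hevmulx ⟨y, hy⟩, ← hevmulx ⟨x, hx⟩, ← hevmulx ⟨x, hx⟩, ← hevmulx ⟨y, hy⟩,
        ← mul_assoc, hcon ⟨r ⟨x, hx⟩, hgen _⟩, mul_assoc]
    exact fun x => hKs x x.2 e heU
  obtain ⟨q, hq2, hqcard, hqrange, hqsolv, hσfix, hcenter, hcount⟩ :=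
    ring_counts h2R hnc σ hσadd hanti hc
  have hq3 : 2 < q := by
    by_contra hq
    haveI := hqsolv (by omega)
    let rR : ↥K →* ↥R :=
      { toFun := fun x => ⟨r x, hgen x⟩
        map_one' := Subtype.ext (map_one r)
        map_mul' := fun x y => Subtype.ext (map_mul r x y) }
    haveI : Group.IsPerfect ↥K := Subgroup.isPerfect_iff.mpr hK.perf
    haveI : Group.IsPerfect ↥rR.toHomUnits.range :=
      Group.IsPerfect.ofSurjective rR.toHomUnits.rangeRestrict_surjective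
    rcases subsingleton_or_nontrivial ↥rR.toHomUnits.range with h | h
    · refine htrivU fun x => ?_
      have h1 : rR.toHomUnits x = 1 :=
        congrArg Subtype.val (Subsingleton.elim (⟨rR.toHomUnits x, x, rfl⟩ : ↥rR.toHomUnits.range) 1)
      have h2 : rR x = 1 := congrArg Units.val h1
      have h3 := congrArg ev h2
      rwa [hev1] at h3
    · exact Group.IsPerfect.not_isSolvable ↥rR.toHomUnits.range inferInstance
  -- foreign conjugates fix `U`
  have hforeign : ∀ c ∈ A, ¬ Nm K c → ¬ Nm K (a * c) → ∀ x ∈ K, ∀ u ∈ U, ρ (c * x * c⁻¹) u = u := by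
    intro c hc hnc' hnac
    have hcK : ∀ x ∈ K, ∀ y ∈ K, Commute (c * x * c⁻¹) y := by
      intro x hx y hy
      exact ((hcc c hc).resolve_left hnc') x hx y hy
    have hcK' : ∀ x ∈ K, ∀ y ∈ K, Commute (c * x * c⁻¹) (a * y * a⁻¹) := by
      refine (conj_cases hcc hc ha).resolve_left ?_
      rwa [hinvA c hc, hab c hc a ha]
    have hcc' : ∀ x ∈ K, ∀ y ∈ K, Commute (c * x * c⁻¹) (a * (c * y * c⁻¹) * a⁻¹) := by
      have h := (conj_cases hcc hc (A.mul_mem ha hc)).resolve_left (by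
        rw [hab a ha c hc, inv_mul_cancel_left]; exact hn)
      intro x hx y hy
      have e1 : a * (c * y * c⁻¹) * a⁻¹ = a * c * y * (a * c)⁻¹ := by group
      rw [e1]
      exact h x hx y hy
    -- an element and its conjugate agree on `U`
    have key : ∀ x ∈ K, ∀ u ∈ U, ρ (c * x * c⁻¹) u = ρ (a * (c * x * c⁻¹) * a⁻¹) u := by
      intro x hx
      obtain ⟨z, hz⟩ : ∃ z, z = c * x * c⁻¹ := ⟨_, rfl⟩
      have hzK : ∀ y ∈ K, z * y = y * z := fun y hy => hz ▸ (hcK x hx y hy).eq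
      have hzK' : ∀ y ∈ K, z * (a * y * a⁻¹) = (a * y * a⁻¹) * z := fun y hy => hz ▸ (hcK' x hx y hy).eq
      rw [← hz]
      let W : Submodule (ZMod 2) V := U.map (ρ z)
      have hWi : LInv ρ K a W := by
        rintro y hy _ ⟨u, hu, rfl⟩
        exact ⟨⟨_, (hU.inv y hy u hu).1, rho_comm ρ (hzK y hy) u⟩,
          ⟨_, (hU.inv y hy u hu).2, rho_comm ρ (hzK' y hy) u⟩⟩
      rcases hU.min (U ⊓ W) inf_le_left (fun y hy v hv =>
        ⟨⟨(hU.inv y hy v hv.1).1, (hWi y hy v hv.2).1⟩,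
          ⟨(hU.inv y hy v hv.1).2, (hWi y hy v hv.2).2⟩⟩) with h | h
      · -- the graph is simple
        have hinjg : ∀ u ∈ U, u + ρ z u = 0 → u = 0 := fun u hu h0 => by
          refine (Submodule.eq_bot_iff _).mp h u ⟨hu, u, hu, ?_⟩
          exact (neg_eq_of_add_eq_zero_right h0).symm.trans (v_neg u)
        let g : V →ₗ[ZMod 2] V := LinearMap.id + ρ z
        have hgy : ∀ y ∈ K, ∀ u, ρ y (g u) = g (ρ y u) ∧
            ρ (a * y * a⁻¹) (g u) = g (ρ (a * y * a⁻¹) u) := fun y hy u =>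
          ⟨by simp only [g, LinearMap.add_apply, LinearMap.id_apply, map_add, rho_comm ρ (hzK y hy)],
           by simp only [g, LinearMap.add_apply, LinearMap.id_apply, map_add, rho_comm ρ (hzK' y hy)]⟩
        have hG : LSimp ρ K a (U.map g) := by
          refine ⟨?_, ?_, ?_⟩
          · rintro y hy _ ⟨u, hu, rfl⟩
            exact ⟨⟨_, (hU.inv y hy u hu).1, ((hgy y hy u).1).symm⟩,
              ⟨_, (hU.inv y hy u hu).2, ((hgy y hy u).2).symm⟩⟩
          · intro T hT hTi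
            rcases hU.min (U ⊓ T.comap g) inf_le_left (fun y hy v hv =>
              ⟨⟨(hU.inv y hy v hv.1).1, Submodule.mem_comap.mpr ((hgy y hy v).1 ▸ (hTi y hy _ hv.2).1)⟩,
                ⟨(hU.inv y hy v hv.1).2, Submodule.mem_comap.mpr ((hgy y hy v).2 ▸ (hTi y hy _ hv.2).2)⟩⟩)
              with h' | h'
            · left
              refine (Submodule.eq_bot_iff _).mpr fun w hw => ?_
              obtain ⟨u, hu, rfl⟩ := hT hw
              rw [(Submodule.eq_bot_iff _).mp h' u ⟨hu, hw⟩, map_zero]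
            · right
              refine le_antisymm hT ?_
              rintro _ ⟨u, hu, rfl⟩
              exact (h'.ge hu).2
          · obtain ⟨y, hy, u, hu, hne⟩ := hU.nontriv
            refine ⟨y, hy, g u, ⟨u, hu, rfl⟩, fun h' => hne (sub_eq_zero.mp ?_)⟩
            rw [(hgy y hy u).1, ← sub_eq_zero, ← map_sub] at h'
            exact hinjg _ (sub_mem (hU.inv y hy u hu).1 hu) h'
        have hW : LSimp ρ K a W := by
          refine ⟨hWi, ?_, ?_⟩
          · intro T hT hTi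
            rcases hU.min (U ⊓ T.comap (ρ z)) inf_le_left (fun y hy v hv =>
              ⟨⟨(hU.inv y hy v hv.1).1, Submodule.mem_comap.mpr (rho_comm ρ (hzK y hy) v ▸ (hTi y hy _ hv.2).1)⟩,
                ⟨(hU.inv y hy v hv.1).2,
                  Submodule.mem_comap.mpr (rho_comm ρ (hzK' y hy) v ▸ (hTi y hy _ hv.2).2)⟩⟩)
              with h' | h'
            · left
              refine (Submodule.eq_bot_iff _).mpr fun w hw => ?_
              obtain ⟨u, hu, rfl⟩ := hT hw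
              rw [(Submodule.eq_bot_iff _).mp h' u ⟨hu, hw⟩, map_zero]
            · right
              refine le_antisymm hT ?_
              rintro _ ⟨u, hu, rfl⟩
              exact (h'.ge hu).2
          · obtain ⟨y, hy, u, hu, hne⟩ := hU.nontriv
            refine ⟨y, hy, ρ z u, ⟨u, hu, rfl⟩, fun h' => hne ?_⟩
            rw [← rho_comm ρ (hzK y hy)] at h'
            rw [← rho_inv_apply ρ z (ρ y u), h', rho_inv_apply]
        intro u hu
        have hau := haU u hu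
        obtain ⟨v, hv, hgv⟩ := hG.map_le ρ hK hM hD (g (ρ a u)) ⟨_, hau, rfl⟩
        simp only [g, LinearMap.add_apply, LinearMap.id_apply, map_add, a_a ρ hM] at hgv
        have hz' : ρ a (ρ z (ρ a u)) = ρ (a * z * a⁻¹) u := (a_conj ρ hM z u).symm
        have hW' : ρ (a * z * a⁻¹) u ∈ W := hz' ▸ hW.map_le ρ hK hM hD _ ⟨_, hau, rfl⟩
        rw [hz'] at hgv
        have h0 : v + u ∈ U ⊓ W := by
          refine ⟨add_mem hv hu, ?_⟩
          have : v + u = ρ (a * z * a⁻¹) u + ρ z v := by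
            calc v + u = (v + ρ z v) + ρ z v + u := by rw [add_assoc v, v_add_self, add_zero]
              _ = (u + ρ (a * z * a⁻¹) u) + ρ z v + u := by rw [hgv]
              _ = ρ (a * z * a⁻¹) u + ρ z v + (u + u) := by abel
              _ = _ := by rw [v_add_self, add_zero]
          rw [this]
          exact add_mem hW' ⟨v, hv, rfl⟩
        have hvu : v = u := by
          have := (Submodule.eq_bot_iff _).mp h _ h0
          rw [← v_sub, sub_eq_zero] at this
          exact this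
        rw [hvu] at hgv
        exact add_left_cancel hgv
      · have hzU : ∀ u ∈ U, ρ z u ∈ U := by
          intro u hu
          have heq : U ≤ W := fun w hw => (h.ge hw).2
          have hcard : Nat.card ↥W ≤ Nat.card ↥U :=
            Nat.card_le_card_of_surjective (fun u : ↥U => (⟨ρ z u, u, u.2, rfl⟩ : ↥W))
              (by rintro ⟨_, u, hu, rfl⟩; exact ⟨⟨u, hu⟩, rfl⟩)
          have hWU : W = U := (SetLike.coe_injective (Set.eq_of_subset_of_ncard_le heq
            (by rw [← Nat.card_coe_set_eq, ← Nat.card_coe_set_eq]; exact hcard) (Set.toFinite _))).symm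
          exact hWU ▸ ⟨u, hu, rfl⟩
        obtain ⟨s, hs⟩ := hsurj _ (hzU e heU)
        have hzev : ∀ w : ↥R, ρ z (ev w) = ev (w * s) := by
          rintro ⟨w, hw⟩
          rw [hevmul]
          show ρ z (w e' : V) = (w ⟨ev s, hevU s⟩ : V)
          have : ∀ u : ↥U, ρ z (w u : V) = (w ⟨ρ z u, hzU u u.2⟩ : V) := by
            induction hw using Algebra.adjoin_induction with
            | mem w hw =>
              obtain ⟨y, rfl⟩ := hw
              intro u
              exact rho_comm ρ (hzK y y.2) u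
            | algebraMap c =>
              intro u
              simp [Module.algebraMap_end_apply]
            | add w w' _ _ h1 h2 =>
              intro u
              simp only [LinearMap.add_apply, Submodule.coe_add, map_add, h1 u, h2 u]
            | mul w w' _ _ h1 h2 =>
              intro u
              simp only [Module.End.mul_apply]
              rw [h1 (w' u)]
              exact congrArg (fun y : ↥U => (w y : V)) (Subtype.ext (h2 u))
          rw [this e']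
          exact congrArg (fun y : ↥U => (w y : V)) (Subtype.ext hs.symm)
        have hscen : ∀ w, s * w = w * s := by
          refine hcentral_of s fun y => ?_
          have h1 : ρ (a * (y : G)⁻¹ * a⁻¹) (ev s) = ev (⟨r y, hgen y⟩ * s) := by
            rw [hs, ← rho_comm ρ (hzK' _ (K.inv_mem y.2)), hxe _ (K.inv_mem y.2), inv_inv, ← hevx, hzev]
          have h2 := hevxc s y⁻¹
          simp only [inv_inv] at h2
          exact hinj (h2.trans h1)
        intro u hu
        obtain ⟨w, rfl⟩ := hsurj u hu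
        rw [hzev, a_conj ρ hM, ← hσ, hzev, ← hσ, hanti, hσσ, hσfix s hscen, hscen]
    -- so the conjugate acts with commuting operators, hence trivially
    have hcomm2 : ∀ x ∈ K, ∀ y ∈ K, ∀ u ∈ U,
        ρ ((c * x * c⁻¹) * (c * y * c⁻¹)) u = ρ ((c * y * c⁻¹) * (c * x * c⁻¹)) u := by
      intro x hx y hy u hu
      have h := key _ (K.mul_mem hy hx) u hu
      rw [show c * (y * x) * c⁻¹ = (c * y * c⁻¹) * (c * x * c⁻¹) by group,
        show a * ((c * y * c⁻¹) * (c * x * c⁻¹)) * a⁻¹ =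
          (a * (c * y * c⁻¹) * a⁻¹) * (a * (c * x * c⁻¹) * a⁻¹) by group] at h
      rw [h, rho_mul ρ (c * x * c⁻¹), key y hy u hu, rho_comm ρ (hcc' x hx y hy).eq,
        key x hx u hu, ← rho_mul]
    intro x hx u hu
    have hle : K ≤ (stab ρ (U : Set V)).comap (MulAut.conj c).toMonoidHom := by
      refine hK.le_of_comm fun x hx y hy v hv => ?_
      simp only [MulEquiv.coe_toMonoidHom, MulAut.conj_apply]
      have h := hcomm2 _ (K.inv_mem hx) _ (K.inv_mem hy) v hv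
      rw [show c * (x * y * x⁻¹ * y⁻¹) * c⁻¹ =
        (c * x * c⁻¹) * (c * y * c⁻¹) * ((c * x⁻¹ * c⁻¹) * (c * y⁻¹ * c⁻¹)) by group, rho_mul, h,
        ← rho_mul]
      rw [show (c * x * c⁻¹) * (c * y * c⁻¹) * ((c * y⁻¹ * c⁻¹) * (c * x⁻¹ * c⁻¹)) = 1 by group, rho_one]
    exact hle hx u hu
  -- the translates of `U` generate
  have hgenU : (⨆ c : ↥A, U.map (ρ (c : G))) = ⊤ := by
    refine (hirr _ ?_ ?_).resolve_left ?_
    · intro d hd v hv
      refine (iSup_le fun c => ?_ : (⨆ c : ↥A, U.map (ρ (c : G))) ≤ (⨆ c : ↥A, U.map (ρ (c : G))).comap (ρ d)) hv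
      rintro _ ⟨u, hu, rfl⟩
      refine Submodule.mem_iSup_of_mem ⟨d * c, A.mul_mem hd c.2⟩ ⟨u, hu, ?_⟩
      rw [← rho_mul]
    · intro x hx v hv
      refine (iSup_le fun c => ?_ : (⨆ c : ↥A, U.map (ρ (c : G))) ≤ (⨆ c : ↥A, U.map (ρ (c : G))).comap (ρ x)) hv
      rintro _ ⟨u, hu, rfl⟩
      refine Submodule.mem_iSup_of_mem c ⟨ρ ((c : G) * x * (c : G)⁻¹) u, ?_, ?_⟩
      · by_cases h1 : Nm K c
        · exact (hU.inv _ (h1 x hx) u hu).1
        by_cases h2 : Nm K (a * c)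
        · have e1 : (c : G) * x * (c : G)⁻¹ = a * ((a * c) * x * (a * c)⁻¹) * a⁻¹ := by
            have := hinvA a ha
            calc (c : G) * x * (c : G)⁻¹ = (a * a) * (c * x * (c : G)⁻¹) * (a * a)⁻¹ := by
                  rw [← pow_two, hel a ha]; group
              _ = _ := by group
          rw [e1]
          exact (hU.inv _ (h2 x hx) u hu).2
        · rw [hforeign c c.2 h1 h2 x hx u hu]
          exact hu
      · rw [← rho_mul, ← rho_mul]
        congr 2
        rw [hinvA _ c.2]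
        calc (c : G) * ((c : G) * x * c) = ((c : G) * c) * (x * c) := by group
          _ = _ := by rw [← pow_two, hel _ c.2, one_mul]
    · intro h
      exact he0 ((Submodule.eq_bot_iff _).mp h e (Submodule.mem_iSup_of_mem 1 ⟨e, heU, by simp⟩))
  have hlift : ∀ b ∈ A, (∀ u ∈ U, ρ b u = u) → ρ b = 1 := by
    intro b hb h
    refine LinearMap.ext fun v => ?_
    have hle : (⨆ c : ↥A, U.map (ρ (c : G))) ≤ LinearMap.eqLocus (ρ b) 1 := by
      refine iSup_le fun c => ?_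
      rintro _ ⟨u, hu, rfl⟩
      show ρ b (ρ (c : G) u) = ρ (c : G) u
      rw [rho_comm ρ (hab b hb c c.2), h u hu]
    exact hle (hgenU.ge Submodule.mem_top)
  refine ⟨fun c hc hcfix => ?_, fun hle => ?_, fun B hBA hB hBne hle => ?_⟩
  · by_contra hcon
    push_neg at hcon
    apply htrivU
    intro x
    have hce : ρ c e = e := hev ▸ hcfix v₀
    have h := hforeign c hc hcon.1 hcon.2 x x.2 e heU
    rw [show ρ (c * (x : G) * c⁻¹) e = ρ (c * (x : G) * c⁻¹) (ρ c e) by rw [hce], rho_conj] at h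
    rw [← rho_inv_apply ρ c (ρ (x : G) e), h]
    conv_lhs => rw [← hce]
    exact rho_inv_apply ρ c e
  · -- transvection bound
    obtain ⟨n, hn'⟩ : ∃ n : Module.End (ZMod 2) V, n = ρ a - 1 := ⟨_, rfl⟩
    rw [← hn'] at hle
    let nU : ↥U →ₗ[ZMod 2] V := n.comp U.subtype
    have h1 := Submodule.card_eq_card_quotient_mul_card (LinearMap.ker nU)
    rw [Nat.card_congr nU.quotKerEquivRange.toEquiv] at h1
    have h2 : Nat.card ↥(LinearMap.ker nU) = Nat.card ↥(U ⊓ LinearMap.ker n) := by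
      refine Nat.card_congr ⟨fun u => ⟨u.1.1, u.1.2, u.2⟩, fun w => ⟨⟨w.1, w.2.1⟩, w.2.2⟩, fun u => rfl, fun w => rfl⟩
    have h3 : q ≤ Nat.card ↥(LinearMap.range nU) := by
      refine hqrange.trans (Nat.card_le_card_of_injective
        (fun z : Set.range (fun z => σ z + z) => (⟨ev z.1, ?_⟩ : ↥(LinearMap.range nU))) ?_)
      · obtain ⟨_, w, rfl⟩ := z
        refine ⟨⟨ev w, hevU w⟩, ?_⟩
        show n (ev w) = ev (σ w + w)
        rw [hn', map_add, hσ, ← v_sub]
        rfl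
      · intro z w hzw
        have hzw' : ev z.1 = ev w.1 := congrArg (fun y : ↥(LinearMap.range nU) => (y : V)) hzw
        exact Subtype.ext (hinj hzw')
    have h4 := card_sup_mul_inf U (LinearMap.ker n)
    have h5 : Nat.card ↥(U ⊔ LinearMap.ker n) ≤ Nat.card V :=
      Nat.card_le_card_of_injective _ Subtype.val_injective
    rw [h1, h2] at h4
    have hpos : 0 < Nat.card ↥(U ⊓ LinearMap.ker n) := Nat.card_pos
    have hpos2 : 0 < Nat.card ↥(LinearMap.ker n) := Nat.card_pos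
    have h6 : q * (Nat.card ↥(U ⊓ LinearMap.ker n) * Nat.card ↥(LinearMap.ker n)) ≤
        2 * (Nat.card ↥(U ⊓ LinearMap.ker n) * Nat.card ↥(LinearMap.ker n)) := by
      calc _ ≤ Nat.card ↥(LinearMap.range nU) *
            (Nat.card ↥(U ⊓ LinearMap.ker n) * Nat.card ↥(LinearMap.ker n)) := by gcongr
        _ = Nat.card ↥(U ⊔ LinearMap.ker n) * Nat.card ↥(U ⊓ LinearMap.ker n) := by rw [h4]; ring
        _ ≤ (2 * Nat.card ↥(LinearMap.ker n)) * Nat.card ↥(U ⊓ LinearMap.ker n) := by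
            exact Nat.mul_le_mul_right _ (h5.trans hle)
        _ = _ := by ring
    exact absurd (Nat.le_of_mul_le_mul_right h6 (Nat.mul_pos hpos hpos2)) (by omega)
  · -- general bound
    have hbU : ∀ b ∈ B, ∀ u ∈ U, ρ b u ∈ U := by
      intro b hb u hu
      obtain ⟨z, rfl⟩ := hsurj u hu
      have hmem : ∀ (w : Module.End (ZMod 2) ↥U), w ∈ R →
          ∀ v : ↥U, ρ b (v : V) ∈ U → ρ b (w v : V) ∈ U := by
        intro w hw
        induction hw using Algebra.adjoin_induction with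
        | mem w hw =>
          obtain ⟨x, rfl⟩ := hw
          intro v hv
          rw [hr, ← rho_conj]
          exact (hU.inv _ ((hB b hb).1 x x.2) _ hv).1
        | algebraMap c =>
          intro v hv
          simp only [Module.algebraMap_end_apply, Submodule.coe_smul, map_smul]
          exact U.smul_mem c hv
        | add w w' _ _ h1 h2 =>
          intro v hv
          simp only [LinearMap.add_apply, Submodule.coe_add, map_add]
          exact add_mem (h1 v hv) (h2 v hv)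
        | mul w w' _ _ h1 h2 =>
          intro v hv
          exact h1 _ (h2 v hv)
      refine hmem z z.2 e' ?_
      show ρ b e ∈ U
      rw [← hev, (hB b hb).2 v₀, hev]
      exact heU
    choose ψ hψ using fun (b : ↥B) (z : ↥R) => hsurj _ (hbU b b.2 _ (hevU z))
    have hbe : ∀ b ∈ B, ρ b e = e := fun b hb => hev ▸ (hB b hb).2 v₀
    have hψadd : ∀ b z w, ψ b (z + w) = ψ b z + ψ b w := fun b z w =>
      hinj (by rw [hψ, map_add, map_add, map_add, hψ, hψ])
    have hψmul : ∀ b z w, ψ b (z * w) = ψ b z * ψ b w := by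
      rintro b ⟨z, hz⟩
      induction hz using Algebra.adjoin_induction with
      | mem z hz =>
        obtain ⟨x, rfl⟩ := hz
        intro w
        have hx' : ψ b ⟨r x, hgen x⟩ = ⟨r ⟨(b : G) * x * (b : G)⁻¹, (hB b b.2).1 x x.2⟩, hgen _⟩ := hinj (by
          rw [hψ, hevx, hevx, ← rho_conj, hbe b b.2])
        apply hinj
        rw [hx', hevmulx, hψ, hψ, hevmulx]
        exact (rho_conj ρ (b : G) (x : G) _).symm
      | algebraMap c =>
        intro w
        have hc' : ∀ z : ↥R, ψ b (c • z) = c • ψ b z := fun z =>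
          hinj (by rw [hψ, map_smul, map_smul, map_smul, hψ])
        have h1 : ψ b 1 = 1 := hinj (by rw [hψ, hev1, hbe b b.2])
        have e1 : (⟨algebraMap (ZMod 2) (Module.End (ZMod 2) ↥U) c, Subalgebra.algebraMap_mem R c⟩ : ↥R) =
            c • 1 := Subtype.ext (Algebra.algebraMap_eq_smul_one c)
        rw [e1, smul_mul_assoc, one_mul, hc', hc', h1, smul_mul_assoc, one_mul]
      | add z z' hz hz' h h' =>
        intro w
        have e1 : (⟨z + z', add_mem hz hz'⟩ : ↥R) = ⟨z, hz⟩ + ⟨z', hz'⟩ := rfl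
        rw [e1, add_mul, hψadd, hψadd, add_mul, h, h']
      | mul z z' hz hz' h h' =>
        intro w
        have e1 : (⟨z * z', mul_mem hz hz'⟩ : ↥R) = ⟨z, hz⟩ * ⟨z', hz'⟩ := rfl
        rw [e1, mul_assoc, h, h', h, mul_assoc]
    have hψcen : ∀ b z, (∀ w, z * w = w * z) → ψ b z = z := by
      intro b z hz
      obtain ⟨s, hs⟩ := hcenter z hz
      apply hinj
      rw [hψ, ← hs, map_add, hσ, ← v_sub]
      exact (hB b b.2).2 (ev s)
    have hψker : ∀ b b' : ↥B, ψ b = ψ b' → ρ ((b : G) * (b' : G)) = 1 := by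
      intro b b' h
      refine hlift _ (A.mul_mem (hBA b.2) (hBA b'.2)) fun u hu => ?_
      obtain ⟨z, rfl⟩ := hsurj u hu
      rw [rho_mul, ← hψ b' z, ← congrFun h z, hψ, ← rho_mul, ← pow_two, hel _ (hBA b.2), rho_one]
    obtain ⟨b₀, hb₀, hb₀ne⟩ := hBne
    obtain ⟨hq1, hq2'⟩ := hcount (ULift.{0} (Fin (Nat.card ↥B)))
      (fun i => ψ ((Finite.equivFin ↥B).symm i.down)) (fun i => hψmul _) (fun i => hψadd _)
      (fun i x => hinj (by rw [hψ, hψ, ← rho_mul, ← pow_two, hel _ (hBA (Subtype.mem _)), rho_one]))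
      (fun i j x => hinj (by
        rw [hψ, hψ, hψ, hψ]
        exact rho_comm ρ (hab _ (hBA (Subtype.mem _)) _ (hBA (Subtype.mem _))) _))
      (fun i => hψcen _)
      (by
        refine ⟨⟨Finite.equivFin ↥B ⟨b₀, hb₀⟩⟩, fun h => hb₀ne (hlift b₀ (hBA hb₀) fun u hu => ?_)⟩
        obtain ⟨z, rfl⟩ := hsurj u hu
        simp only [Equiv.symm_apply_apply] at h
        rw [← hψ ⟨b₀, hb₀⟩ z, h]
        rfl)
    have hBcard : Nat.card ↥B ≤ Nat.card ↥(B ⊓ ρ.ker) * q := by
      let N := (B ⊓ ρ.ker).subgroupOf B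
      have h1 := Subgroup.card_eq_card_quotient_mul_card_subgroup N
      rw [Nat.card_congr (Subgroup.subgroupOfEquivOfLe (inf_le_left : B ⊓ ρ.ker ≤ B)).toEquiv] at h1
      rw [h1, mul_comm]
      refine Nat.mul_le_mul_left _ (le_trans ?_ hq1)
      refine Nat.card_le_card_of_injective (fun c : ↥B ⧸ N =>
        (⟨ψ c.out, ⟨⟨Finite.equivFin ↥B c.out⟩, by simp⟩⟩ :
          Set.range fun i : ULift.{0} (Fin (Nat.card ↥B)) => ψ ((Finite.equivFin ↥B).symm i.down))) ?_
      intro c d hcd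
      have h := hψker _ _ (congrArg Subtype.val hcd)
      rw [← c.out_eq', ← d.out_eq']
      refine QuotientGroup.eq.mpr ?_
      show ((c.out⁻¹ * d.out : ↥B) : G) ∈ B ⊓ ρ.ker
      refine ⟨(c.out⁻¹ * d.out).2, ?_⟩
      refine MonoidHom.mem_ker.mpr ?_
      push_cast
      rw [hinvA _ (hBA c.out.2)]
      exact h
    have hfixU : Nat.card ↥(U ⊓ fix ρ B) ≤ q * q := by
      refine le_trans (Nat.card_le_card_of_surjective
        (fun z : {z : ↥R // ∀ i : ULift.{0} (Fin (Nat.card ↥B)), ψ ((Finite.equivFin ↥B).symm i.down) z = z} =>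
          (⟨ev z.1, hevU _, fun b hb => ?_⟩ : ↥(U ⊓ fix ρ B))) ?_) hq2'
      · have := z.2 ⟨Finite.equivFin ↥B ⟨b, hb⟩⟩
        simp only [Equiv.symm_apply_apply] at this
        rw [← hψ ⟨b, hb⟩ z.1, this]
      · rintro ⟨u, hu, hufix⟩
        obtain ⟨z, rfl⟩ := hsurj u hu
        exact ⟨⟨z, fun i => hinj (by rw [hψ]; exact hufix _ (Subtype.mem _))⟩, rfl⟩
    have hUcard : Nat.card ↥U = q ^ 4 := by
      rw [← hqcard]
      exact (Nat.card_congr (Equiv.ofBijective (fun z => (⟨ev z, hevU z⟩ : ↥U))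
        ⟨fun z w h => hinj (congrArg Subtype.val h),
          fun u => ⟨(hsurj u.1 u.2).choose, Subtype.ext (hsurj u.1 u.2).choose_spec⟩⟩)).symm
    have h4 := card_sup_mul_inf U (fix ρ B)
    have h5 : Nat.card ↥(U ⊔ fix ρ B) ≤ Nat.card V :=
      Nat.card_le_card_of_injective _ Subtype.val_injective
    rw [hUcard] at h4
    have hpos : 0 < Nat.card ↥(fix ρ B) * Nat.card ↥(B ⊓ ρ.ker) := Nat.mul_pos Nat.card_pos Nat.card_pos
    have h6 : q ^ 4 * (Nat.card ↥(fix ρ B) * Nat.card ↥(B ⊓ ρ.ker)) ≤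
        (2 * q ^ 3) * (Nat.card ↥(fix ρ B) * Nat.card ↥(B ⊓ ρ.ker)) := by
      calc _ = (Nat.card ↥(U ⊔ fix ρ B) * Nat.card ↥(U ⊓ fix ρ B)) * Nat.card ↥(B ⊓ ρ.ker) := by
            rw [h4]; ring
        _ ≤ (Nat.card V * (q * q)) * Nat.card ↥(B ⊓ ρ.ker) := by gcongr
        _ = (Nat.card V * Nat.card ↥(B ⊓ ρ.ker)) * (q * q) := by ring
        _ ≤ (2 * (Nat.card ↥B * Nat.card ↥(fix ρ B))) * (q * q) := by gcongr
        _ ≤ (2 * ((Nat.card ↥(B ⊓ ρ.ker) * q) * Nat.card ↥(fix ρ B))) * (q * q) := by gcongr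
        _ = _ := by ring
    have h7 := Nat.le_of_mul_le_mul_right h6 hpos
    have : q * q ^ 3 ≤ 2 * q ^ 3 := by rw [← pow_succ']; exact h7
    exact absurd (Nat.le_of_mul_le_mul_right this (by positivity)) (by omega)

end Cfsg.Agent.LocalEvenB.PGV
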