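import Cfsg.Agent.Lib.LocalEvenB.PGVOdd
import Cfsg.Agent.Lib.LocalEvenB.PGVTwo

/-!
# The P(G,V) theorem
-/

set_option autoImplicit false

namespace Cfsg.Agent.LocalEvenB.PGV

open Subgroup

universe u v

variable {G V : Type*} [Group G] [AddCommGroup V] {p : ℕ} [Fact p.Prime] [Module (ZMod p) V]
variable (ρ : Representation (ZMod p) G V) {A K : Subgroup G}

/-- Restriction to an invariant submodule. -/
def subRep (T : Submodule (ZMod p) V) (hT : ∀ g : G, ∀ v ∈ T, ρ g v ∈ T) :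
    Representation (ZMod p) G ↥T where
  toFun g := (ρ g).restrict (hT g)
  map_one' := LinearMap.ext fun v => Subtype.ext (by simp)
  map_mul' g h := LinearMap.ext fun v => Subtype.ext (by simp)

theorem subRep_apply (T : Submodule (ZMod p) V) (hT : ∀ g : G, ∀ v ∈ T, ρ g v ∈ T) (g : G) (v : ↥T) :
    ((subRep ρ T hT g v : ↥T) : V) = ρ g (v : V) := rfl

/-- The quotient by an invariant submodule. -/
def quotRep (T : Submodule (ZMod p) V) (hT : ∀ g : G, ∀ v ∈ T, ρ g v ∈ T) :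
    Representation (ZMod p) G (V ⧸ T) where
  toFun g := T.mapQ T (ρ g) fun v hv => hT g v hv
  map_one' := Submodule.linearMap_qext _ (LinearMap.ext fun v => by simp)
  map_mul' g h := Submodule.linearMap_qext _ (LinearMap.ext fun v => by simp)

theorem quotRep_mk (T : Submodule (ZMod p) V) (hT : ∀ g : G, ∀ v ∈ T, ρ g v ∈ T) (g : G) (v : V) :
    quotRep ρ T hT g (Submodule.Quotient.mk v) = Submodule.Quotient.mk (ρ g v) := rfl

/-- An element whose commutators with `K` are central centralizes `K`. -/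
theorem commute_of_central_comm (hK : QS K) {b : G}
    (h : ∀ x ∈ K, (b * x * b⁻¹ * x⁻¹ ∈ K) ∧ ∀ y ∈ K, Commute (b * x * b⁻¹ * x⁻¹) y) :
    ∀ x ∈ K, b * x = x * b := by
  let H : Subgroup G :=
    { carrier := {y | y ∈ K ∧ b * y * b⁻¹ = y}
      one_mem' := ⟨K.one_mem, by simp⟩
      mul_mem' := fun {y z} hy hz' => ⟨K.mul_mem hy.1 hz'.1, by
        calc b * (y * z) * b⁻¹ = (b * y * b⁻¹) * (b * z * b⁻¹) := by group
          _ = y * z := by rw [hy.2, hz'.2]⟩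
      inv_mem' := fun {y} hy => ⟨K.inv_mem hy.1, by
        calc b * y⁻¹ * b⁻¹ = (b * y * b⁻¹)⁻¹ := by group
          _ = y⁻¹ := by rw [hy.2]⟩ }
  have hle : K ≤ H := hK.le_of_comm fun y hy z hz => by
    have hm : y * z * y⁻¹ * z⁻¹ ∈ K :=
      K.mul_mem (K.mul_mem (K.mul_mem hy hz) (K.inv_mem hy)) (K.inv_mem hz)
    refine ⟨hm, ?_⟩
    obtain ⟨α, hα⟩ : ∃ α, α = b * y * b⁻¹ * y⁻¹ := ⟨_, rfl⟩
    obtain ⟨β, hβ⟩ : ∃ β, β = b * z * b⁻¹ * z⁻¹ := ⟨_, rfl⟩
    have cα : ∀ w ∈ K, Commute α w := hα ▸ (h y hy).2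
    have cβ : ∀ w ∈ K, Commute β w := hβ ▸ (h z hz).2
    have hαK : α ∈ K := hα ▸ (h y hy).1
    have hw : y * z * y⁻¹ ∈ K := K.mul_mem (K.mul_mem hy hz) (K.inv_mem hy)
    have e : b * (y * z * y⁻¹ * z⁻¹) * b⁻¹ = (α * y) * (β * z) * (α * y)⁻¹ * (β * z)⁻¹ := by
      rw [hα, hβ]; group
    rw [e]
    calc (α * y) * (β * z) * (α * y)⁻¹ * (β * z)⁻¹
        = α * (y * β) * z * y⁻¹ * α⁻¹ * z⁻¹ * β⁻¹ := by group
      _ = α * (β * y) * z * y⁻¹ * α⁻¹ * z⁻¹ * β⁻¹ := by rw [(cβ y hy).eq]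
      _ = α * β * ((y * z * y⁻¹) * α⁻¹) * z⁻¹ * β⁻¹ := by group
      _ = α * β * (α⁻¹ * (y * z * y⁻¹)) * z⁻¹ * β⁻¹ := by rw [(cα _ hw).symm.inv_right.eq]
      _ = (α * (β * α⁻¹)) * ((y * z * y⁻¹ * z⁻¹) * β⁻¹) := by group
      _ = (α * (α⁻¹ * β)) * (β⁻¹ * (y * z * y⁻¹ * z⁻¹)) := by
          rw [(cβ α hαK).inv_right.eq, (cβ _ hm).symm.inv_right.eq]
      _ = _ := by group
  exact fun x hx => mul_inv_eq_iff_eq_mul.mp (hle hx).2

/-- A moved third conjugate also gives `DFix`. -/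
theorem dfix_of_foreign (hK : QS K) {a c : G} (hM : Moves p K a) (hac : a * c = c * a)
    (hz : ∀ v : V, ρ c (ρ a v - v) = ρ a v - v)
    (hcom : ∀ i j : ℕ, i < p → j < p → ∀ x ∈ K, ∀ y ∈ K, Commute (c * cj a i x * c⁻¹) (cj a j y)) :
    DFix ρ K a := by
  let Γ : Subgroup G := (stab ρ (Set.range fun v : V => ρ a v - v))
  have hΓ : ∀ d, a * d = d * a → ∀ g ∈ Γ, d * g * d⁻¹ ∈ Γ := by
    rintro d hd g hg w ⟨v, rfl⟩
    have hd' : a * d⁻¹ = d⁻¹ * a := (Commute.inv_right (show Commute a d from hd)).eq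
    have e : ρ d⁻¹ (ρ a v - v) = ρ a (ρ d⁻¹ v) - ρ d⁻¹ v := by rw [map_sub, rho_comm ρ hd']
    simp only
    rw [rho_mul, rho_mul, e, show ρ g (ρ a (ρ d⁻¹ v) - ρ d⁻¹ v) = ρ a (ρ d⁻¹ v) - ρ d⁻¹ v from
      hg _ ⟨_, rfl⟩, ← e, rho_apply_inv]
  have hda : ∀ x ∈ K, a * dd a p x = dd a p x * a := fun x hx =>
    mul_inv_eq_iff_eq_mul.mp (hM.dd_commute_self hx)
  have hcΓ : c ∈ Γ := by rintro w ⟨v, rfl⟩; exact hz v
  let N : Subgroup G :=
    { carrier := {x | x ∈ K ∧ dd a p x ∈ Γ}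
      one_mem' := ⟨K.one_mem, by rw [dd_one]; exact Γ.one_mem⟩
      mul_mem' := fun {x y} hx hy => ⟨K.mul_mem hx.1 hy.1, by
        rw [hM.dd_mul hx.1 hy.1 le_rfl]; exact Γ.mul_mem hx.2 hy.2⟩
      inv_mem' := fun {x} hx => ⟨K.inv_mem hx.1, by
        rw [hM.dd_inv hx.1 le_rfl]; exact Γ.inv_mem hx.2⟩ }
  have hle : K ≤ N := hK.le_of_comm fun x hx y hy => by
    have hxy : x * y * x⁻¹ ∈ K := K.mul_mem (K.mul_mem hx hy) (K.inv_mem hx)
    refine ⟨K.mul_mem hxy (K.inv_mem hy), ?_⟩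
    rw [hM.dd_mul hxy (K.inv_mem hy) le_rfl, hM.dd_mul (K.mul_mem hx hy) (K.inv_mem hx) le_rfl,
      hM.dd_mul hx hy le_rfl, hM.dd_inv hx le_rfl, hM.dd_inv hy le_rfl]
    obtain ⟨X, hX⟩ : ∃ X, X = dd a p x := ⟨_, rfl⟩
    obtain ⟨Y, hY⟩ : ∃ Y, Y = dd a p y := ⟨_, rfl⟩
    rw [← hX, ← hY]
    have hXY : Commute (c * X⁻¹ * c⁻¹) Y := by
      have h1 : ∀ j, j < p → ∀ i, i ≤ p → Commute (c * dd a i x⁻¹ * c⁻¹) (cj a j y) := by
        intro j hj i
        induction i with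
        | zero => intro _; simp [dd]
        | succ i ih =>
          intro hi
          have e : c * dd a (i + 1) x⁻¹ * c⁻¹ = (c * dd a i x⁻¹ * c⁻¹) * (c * cj a i x⁻¹ * c⁻¹) := by
            simp only [dd]; group
          rw [e]
          exact (ih (by omega)).mul_left (hcom i j (by omega) hj _ (K.inv_mem hx) y hy)
      have h2 : ∀ j, j ≤ p → Commute (c * dd a p x⁻¹ * c⁻¹) (dd a j y) := by
        intro j
        induction j with
        | zero => intro _; exact Commute.one_right _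
        | succ j ih => exact fun hj => (ih (by omega)).mul_right (h1 j (by omega) p le_rfl)
      rw [hX, ← hM.dd_inv hx le_rfl, hY]
      exact h2 p le_rfl
    have hg : c * X⁻¹ * c⁻¹ * X ∈ Γ := by
      have h1 : X⁻¹ * c⁻¹ * X ∈ Γ := by
        simpa using hΓ X⁻¹ ((show Commute a X from hX ▸ hda x hx).inv_right).eq _ (Γ.inv_mem hcΓ)
      rw [show c * X⁻¹ * c⁻¹ * X = c * (X⁻¹ * c⁻¹ * X) by group]
      exact Γ.mul_mem hcΓ h1
    have hmem := Γ.mul_mem (Γ.inv_mem hg) (hΓ Y (hY ▸ hda y hy) _ hg)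
    have e : (c * X⁻¹ * c⁻¹ * X)⁻¹ * (Y * (c * X⁻¹ * c⁻¹ * X) * Y⁻¹) = X⁻¹ * Y * X * Y⁻¹ := by
      calc (c * X⁻¹ * c⁻¹ * X)⁻¹ * (Y * (c * X⁻¹ * c⁻¹ * X) * Y⁻¹)
          = X⁻¹ * (c * X⁻¹ * c⁻¹)⁻¹ * (Y * (c * X⁻¹ * c⁻¹)) * X * Y⁻¹ := by group
        _ = X⁻¹ * (c * X⁻¹ * c⁻¹)⁻¹ * ((c * X⁻¹ * c⁻¹) * Y) * X * Y⁻¹ := by rw [hXY.eq]
        _ = _ := by group
    rw [e] at hmem
    have := hΓ X (hX ▸ hda x hx) _ (Γ.inv_mem hmem)
    rw [show X * (X⁻¹ * Y * X * Y⁻¹)⁻¹ * X⁻¹ = X * Y * X⁻¹ * Y⁻¹ by group] at this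
    exact this
  exact fun x hx v => (hle hx).2 _ ⟨v, rfl⟩

/-- The minimal situation. -/
theorem pgv_core [Finite G] [Finite V] (hab : ∀ c ∈ A, ∀ d ∈ A, c * d = d * c)
    (hel : ∀ c ∈ A, c ^ p = 1) (hK : QS K) (hnt : ∃ x ∈ K, ∃ v, ρ x v ≠ v) (hoff : IsOff ρ A)
    (hcc : CC A K) (hgen : A ⊔ K = ⊤)
    (hsub : ∀ T : Submodule (ZMod p) V, T ≠ ⊤ → (∀ g : G, ∀ v ∈ T, ρ g v ∈ T) →
      ∀ x ∈ K, ∀ v ∈ T, ρ x v = v)
    (hsmaller : ∀ B : Subgroup G, B ≤ A → B ≠ A → IsOff ρ B → ∀ b ∈ B, Nm K b)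
    {a : G} (ha : a ∈ A) (hn : ¬ Nm K a) : False := by
  classical
  have hpp : p.Prime := Fact.out
  have hM : Moves p K a := moves_of_not_nm hcc ha (hel a ha) hn
  obtain ⟨x₀, hx₀, v₀, hv₀⟩ := hnt
  have hnt : ∃ x ∈ K, ∃ v, ρ x v ≠ v := ⟨x₀, hx₀, v₀, hv₀⟩
  have hinv : ∀ T : Submodule (ZMod p) V, (∀ c ∈ A, ∀ v ∈ T, ρ c v ∈ T) →
      (∀ x ∈ K, ∀ v ∈ T, ρ x v ∈ T) → ∀ g : G, ∀ v ∈ T, ρ g v ∈ T := by
    intro T h1 h2 g
    let S : Subgroup G :=
      { carrier := {g | ∀ v, v ∈ T ↔ ρ g v ∈ T}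
        one_mem' := fun v => by simp
        mul_mem' := fun {g h} hg hh v => by rw [rho_mul]; exact (hh v).trans (hg _)
        inv_mem' := fun {g} hg v => by rw [hg (ρ g⁻¹ v), rho_apply_inv] }
    have hmem : ∀ (B : Subgroup G), (∀ c ∈ B, ∀ v ∈ T, ρ c v ∈ T) → B ≤ S := fun B hB c hc v =>
      ⟨hB c hc v, fun h => by simpa [rho_inv_apply] using hB _ (B.inv_mem hc) _ h⟩
    exact fun v hv => (((sup_le (hmem A h1) (hmem K h2)) (hgen.ge (mem_top g))) v).mp hv
  have hsub' : ∀ T : Submodule (ZMod p) V, T ≠ ⊤ → (∀ c ∈ A, ∀ v ∈ T, ρ c v ∈ T) →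
      (∀ x ∈ K, ∀ v ∈ T, ρ x v ∈ T) → ∀ x ∈ K, ∀ v ∈ T, ρ x v = v :=
    fun T h h1 h2 => hsub T h (hinv T h1 h2)
  have hAnt : ∃ c ∈ A, ∃ v, ρ c v ≠ v := by
    by_contra hc
    push_neg at hc
    apply hv₀
    refine triv_of_comm ρ hK Set.univ (fun _ _ _ _ => trivial) (fun x hx y hy v _ => ?_) x₀ hx₀ v₀ trivial
    have e : ∀ w, ρ (cj a 1 x) w = ρ x w := fun w => by
      simp only [cj, pow_one, rho_mul, hc a ha, hc _ (A.inv_mem ha)]
    have := rho_comm ρ (hM.comm 1 one_pos hpp.one_lt x hx y hy).eq v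
    rw [show a ^ 1 * x * (a ^ 1)⁻¹ = cj a 1 x from rfl, e, e] at this
    rw [rho_mul, rho_mul]
    exact this
  -- the common fixed space of the conjugates
  let W : Submodule (ZMod p) V := ⨅ c : ↥A, fix ρ (K.map (MulAut.conj (c : G)).toMonoidHom)
  have hW : ∀ v, v ∈ W ↔ ∀ c ∈ A, ∀ x ∈ K, ρ (c * x * c⁻¹) v = v := by
    intro v
    simp only [W, Submodule.mem_iInf, mem_fix]
    refine ⟨fun h c hc x hx => h ⟨c, hc⟩ _ ⟨x, hx, rfl⟩, fun h c => ?_⟩
    rintro _ ⟨x, hx, rfl⟩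
    exact h c c.2 x hx
  have hWK : ∀ x ∈ K, ∀ v ∈ W, ρ x v = v := fun x hx v hv => by
    simpa using (hW v).mp hv 1 A.one_mem x hx
  have hWA : ∀ c ∈ A, ∀ v ∈ W, ρ c v ∈ W := fun c hc v hv => (hW _).mpr fun d hd x hx => by
    have h := congrArg (ρ c) ((hW v).mp hv _ (A.mul_mem (A.inv_mem hc) hd) x hx)
    rw [show c⁻¹ * d * x * (c⁻¹ * d)⁻¹ = c⁻¹ * (d * x * d⁻¹) * c by group, ← rho_mul] at h
    rw [← rho_mul, ← h]
    congr 2
    group
  have hWi : ∀ g : G, ∀ v ∈ W, ρ g v ∈ W :=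
    hinv W hWA fun x hx v hv => by rw [hWK x hx v hv]; exact hv
  have hsubW : ∀ T : Submodule (ZMod p) V, T ≠ ⊤ → (∀ c ∈ A, ∀ v ∈ T, ρ c v ∈ T) →
      (∀ x ∈ K, ∀ v ∈ T, ρ x v ∈ T) → T ≤ W := by
    intro T hT h1 h2 v hv
    refine (hW v).mpr fun c hc x hx => ?_
    have hc' : ρ c⁻¹ v ∈ T := h1 _ (A.inv_mem hc) v hv
    rw [rho_mul, rho_mul, hsub' T hT h1 h2 x hx _ hc', rho_apply_inv]
  -- the irreducible quotient
  obtain ⟨τ, hτ⟩ : ∃ τ, τ = quotRep ρ W hWi := ⟨_, rfl⟩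
  have hτmk : ∀ g v, τ g (Submodule.Quotient.mk v) = Submodule.Quotient.mk (ρ g v) := by
    rw [hτ]; exact quotRep_mk ρ W hWi
  haveI : Finite (V ⧸ W) := Finite.of_surjective _ (Submodule.Quotient.mk_surjective W)
  have hntq : ∃ x ∈ K, ∃ v, τ x v ≠ v := by
    by_contra hc
    push_neg at hc
    exact hv₀ (triv_of_series ρ hK W hWK
      (fun x hx v => (Submodule.Quotient.eq W).mp (by rw [← hτmk, hc x hx])) x₀ hx₀ v₀)
  have hirr : Irr τ A K := by
    intro T h1 h2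
    let T' : Submodule (ZMod p) V := T.comap W.mkQ
    by_cases hT : T' = ⊤
    · right
      refine eq_top_iff.mpr fun q _ => ?_
      obtain ⟨v, rfl⟩ := Submodule.Quotient.mk_surjective W q
      exact (hT.ge Submodule.mem_top : v ∈ T')
    · left
      refine (Submodule.eq_bot_iff _).mpr fun q hq => ?_
      obtain ⟨v, rfl⟩ := Submodule.Quotient.mk_surjective W q
      rw [Submodule.Quotient.mk_eq_zero]
      refine hsubW T' hT (fun c hc w hw => ?_) (fun x hx w hw => ?_) hq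
      · show Submodule.Quotient.mk (ρ c w) ∈ T
        rw [← hτmk]; exact h1 c hc _ hw
      · show Submodule.Quotient.mk (ρ x w) ∈ T
        rw [← hτmk]; exact h2 x hx _ hw
  have hzq : ∀ b : G, (∀ v, ρ b (ρ a v - v) = ρ a v - v) → ∀ q, τ b (τ a q - q) = τ a q - q := by
    intro b hb q
    obtain ⟨v, rfl⟩ := Submodule.Quotient.mk_surjective W q
    rw [hτmk, ← Submodule.Quotient.mk_sub, hτmk, hb]
  have hcentre : ∀ x ∈ K, τ x = 1 → ∀ y ∈ K, Commute x y := by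
    intro x hx h1 y hy
    rcases hK.norm (K ⊓ τ.ker) inf_le_left (fun y hy z hz => ⟨K.mul_mem (K.mul_mem hy hz.1) (K.inv_mem hy),
        MonoidHom.mem_ker.mpr (by
          rw [map_mul, map_mul, MonoidHom.mem_ker.mp hz.2, mul_one, ← map_mul, mul_inv_cancel, map_one])⟩)
      with h | h
    · exfalso
      obtain ⟨z, hz, v, hv⟩ := hntq
      apply hv
      rw [MonoidHom.mem_ker.mp (h.ge hz).2]
      rfl
    · exact ((h x ⟨hx, MonoidHom.mem_ker.mpr h1⟩ y hy)).symm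
  -- elements centralizing `K`
  have hlift : ∀ b ∈ A, Nm K b → τ b = 1 → ρ b = 1 := by
    intro b hb hbn h1
    have hbK : ∀ x ∈ K, b * x = x * b := commute_of_central_comm hK fun x hx => by
      refine ⟨K.mul_mem (hbn x hx) (K.inv_mem hx), hcentre _ (K.mul_mem (hbn x hx) (K.inv_mem hx)) ?_⟩
      have hb' : τ b⁻¹ = 1 := by rw [← one_mul (τ b⁻¹), ← h1, ← map_mul, mul_inv_cancel, map_one, h1]
      rw [map_mul, map_mul, map_mul, h1, hb', one_mul, mul_one, ← map_mul, mul_inv_cancel, map_one]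
    have hbg : ∀ c ∈ A, ∀ x ∈ K, b * (c * x * c⁻¹) = (c * x * c⁻¹) * b := by
      intro c hc x hx
      have e1 : b * c = c * b := hab b hb c hc
      have e2 : b * c⁻¹ = c⁻¹ * b := hab b hb _ (A.inv_mem hc)
      calc b * (c * x * c⁻¹) = (b * c) * x * c⁻¹ := by group
        _ = c * (b * x) * c⁻¹ := by rw [e1]; group
        _ = c * x * (b * c⁻¹) := by rw [hbK x hx]; group
        _ = _ := by rw [e2]; group
    let S : Submodule (ZMod p) V :=
      Submodule.span (ZMod p) {w | ∃ c ∈ A, ∃ x ∈ K, ∃ v, ρ (c * x * c⁻¹) v - v = w}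
    have hStop : S = ⊤ := by
      by_contra hS
      have hle : S ≤ W := by
        refine hsubW S hS (fun d hd w hw => ?_) (fun y hy w hw => ?_)
        · refine (Submodule.span_le (p := S.comap (ρ d))).mpr ?_ hw
          rintro _ ⟨c, hc, x, hx, v, rfl⟩
          refine Submodule.subset_span ⟨d * c, A.mul_mem hd hc, x, hx, ρ d v, ?_⟩
          rw [map_sub, show d * c * x * (d * c)⁻¹ = d * (c * x * c⁻¹) * d⁻¹ by group, rho_conj]
        · refine (Submodule.span_le (p := S.comap (ρ y))).mpr ?_ hw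
          rintro _ ⟨c, hc, x, hx, v, rfl⟩
          rcases hcc c hc with h | h
          · refine Submodule.subset_span ⟨1, A.one_mem, y * (c * x * c⁻¹) * y⁻¹,
              K.mul_mem (K.mul_mem hy (h x hx)) (K.inv_mem hy), ρ y v, ?_⟩
            rw [map_sub, one_mul, inv_one, mul_one, rho_conj]
          · refine Submodule.subset_span ⟨c, hc, x, hx, ρ y v, ?_⟩
            rw [map_sub, rho_comm ρ (h x hx y hy).eq]
      exact hv₀ (triv_of_series ρ hK W hWK (fun x hx v => hle (Submodule.subset_span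
        ⟨1, A.one_mem, x, hx, v, by simp⟩)) x₀ hx₀ v₀)
    refine LinearMap.ext fun v => ?_
    have hle : S ≤ LinearMap.eqLocus (ρ b) 1 := by
      refine Submodule.span_le.mpr ?_
      rintro _ ⟨c, hc, x, hx, w, rfl⟩
      show ρ b (ρ (c * x * c⁻¹) w - w) = ρ (c * x * c⁻¹) w - w
      have hw0 : ρ b w - w ∈ W := (Submodule.Quotient.eq W).mp (by rw [← hτmk, h1]; rfl)
      have hg := (hW _).mp hw0 c hc x hx
      rw [map_sub] at hg
      rw [map_sub, rho_comm ρ (hbg c hc x hx)]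
      exact sub_eq_sub_iff_sub_eq_sub.mp hg
    exact hle (hStop.ge Submodule.mem_top)
  -- cardinalities in the quotient
  have hVcard : Nat.card V = Nat.card ↥W * Nat.card (V ⧸ W) :=
    Submodule.card_eq_card_quotient_mul_card W
  have hfixq : ∀ B : Subgroup G, Nat.card ↥(fix ρ B) ≤ Nat.card ↥W * Nat.card ↥(fix τ B) := by
    intro B
    let f : ↥(fix ρ B) →ₗ[ZMod p] V ⧸ W := W.mkQ.comp (fix ρ B).subtype
    have h1 := Submodule.card_eq_card_quotient_mul_card (LinearMap.ker f)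
    rw [Nat.card_congr f.quotKerEquivRange.toEquiv] at h1
    rw [h1]
    refine Nat.mul_le_mul (Nat.card_le_card_of_injective
      (fun v : ↥(LinearMap.ker f) => (⟨(v.1 : V), (Submodule.Quotient.mk_eq_zero W).mp v.2⟩ : ↥W))
      fun v w h => Subtype.ext (Subtype.ext (congrArg (fun z : ↥W => (z : V)) h))) ?_
    refine Nat.card_le_card_of_injective (Submodule.inclusion (?_ : LinearMap.range f ≤ fix τ B))
      (Submodule.inclusion_injective _)
    rintro _ ⟨v, rfl⟩ b hb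
    show τ b (Submodule.Quotient.mk (v : V)) = Submodule.Quotient.mk (v : V)
    rw [hτmk, v.2 b hb]
  -- the offender inequality in the quotient
  have hbound : ∀ (k : ℕ) (B : Subgroup G), B ≤ A → (∀ b ∈ B, Nm K b) →
      Nat.card ↥(B ⊓ ρ.ker) * Nat.card ↥(fix ρ (B ⊓ ρ.ker)) ≤ k * (Nat.card ↥B * Nat.card ↥(fix ρ B)) →
      Nat.card (V ⧸ W) * Nat.card ↥(B ⊓ τ.ker) ≤ k * (Nat.card ↥B * Nat.card ↥(fix τ B)) := by
    intro k B hBA hBn h
    have e : B ⊓ τ.ker = B ⊓ ρ.ker := by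
      ext b
      simp only [Subgroup.mem_inf, MonoidHom.mem_ker]
      refine ⟨fun hb => ⟨hb.1, hlift b (hBA hb.1) (hBn b hb.1) hb.2⟩, fun hb => ⟨hb.1, ?_⟩⟩
      refine LinearMap.ext fun q => ?_
      obtain ⟨v, rfl⟩ := Submodule.Quotient.mk_surjective W q
      rw [hτmk, hb.2]
      rfl
    have e2 : fix ρ (B ⊓ ρ.ker) = ⊤ := eq_top_iff.mpr fun v _ b hb => by
      rw [MonoidHom.mem_ker.mp hb.2]; rfl
    rw [e2, Nat.card_congr (Submodule.topEquiv (R := ZMod p) (M := V)).toEquiv, hVcard] at h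
    rw [e]
    refine Nat.le_of_mul_le_mul_left ?_ (Nat.card_pos (α := ↥W))
    calc Nat.card ↥W * (Nat.card (V ⧸ W) * Nat.card ↥(B ⊓ ρ.ker))
        = Nat.card ↥(B ⊓ ρ.ker) * (Nat.card ↥W * Nat.card (V ⧸ W)) := by ring
      _ ≤ k * (Nat.card ↥B * Nat.card ↥(fix ρ B)) := h
      _ ≤ k * (Nat.card ↥B * (Nat.card ↥W * Nat.card ↥(fix τ B))) := by gcongr; exact hfixq B
      _ = _ := by ring
  obtain ⟨hAsOff, b₁, hb₁, v₁, hv₁⟩ := repl_spec ρ hab hel hoff hAnt
  obtain ⟨As, hAs⟩ : ∃ As, As = repl ρ A (Set.univ : Set V) := ⟨_, rfl⟩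
  rw [← hAs] at hAsOff hb₁
  have hAsA : As ≤ A := hAs ▸ repl_le ρ _
  have hAsq : ∀ b ∈ As, ∀ c ∈ A, ∀ v, ρ b (ρ c v - v) = ρ c v - v := fun b hb c hc v =>
    ((mem_repl ρ).mp (hAs.le hb)).2 c hc v (Set.mem_univ v)
  by_cases hAA : As = A
  · -- quadratic action
    have hq : ∀ b ∈ A, ∀ c ∈ A, ∀ v, ρ b (ρ c v - v) = ρ c v - v := fun b hb => hAsq b (hAA.ge hb)
    by_cases hp2 : p = 2
    swap
    · exact oddQ ρ hp2 hK hM (hq a ha a ha) hnt
    subst hp2
    have hinvA : ∀ c ∈ A, c⁻¹ = c := fun c hc => inv_eq_self_of_sq (hel c hc)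
    by_cases hfor : ∃ c ∈ A, ¬ Nm K c ∧ ¬ Nm K (a * c)
    · obtain ⟨c, hc, hc1, hc2⟩ := hfor
      have hD : DFix τ K a := by
        refine dfix_of_foreign τ hK hM (hab a ha c hc) (hzq c (hq c hc a ha)) ?_
        intro i j hi hj x hx y hy
        have h1 : ∀ x ∈ K, ∀ y ∈ K, Commute (c * x * c⁻¹) y :=
          fun x hx y hy => ((hcc c hc).resolve_left hc1) x hx y hy
        have h2 : ∀ x ∈ K, ∀ y ∈ K, Commute (c * x * c⁻¹) (a * y * a⁻¹) := by
          refine (conj_cases hcc hc ha).resolve_left ?_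
          rwa [hinvA c hc, hab c hc a ha]
        have hca : ∀ x, c * (a * x * a⁻¹) * c⁻¹ = a * (c * x * c⁻¹) * a⁻¹ := fun x => by
          calc c * (a * x * a⁻¹) * c⁻¹ = (c * a) * x * (c * a)⁻¹ := by group
            _ = _ := by rw [hab c hc a ha]; group
        have ha2 : a * a = 1 := by rw [← pow_two, hel a ha]
        rcases (by omega : i = 0 ∨ i = 1) with rfl | rfl <;> rcases (by omega : j = 0 ∨ j = 1) with rfl | rfl <;>
          simp only [cj, pow_zero, pow_one, one_mul, inv_one, mul_one]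
        · exact h1 x hx y hy
        · exact h2 x hx y hy
        · rw [hca]
          have h := commute_conj a (h2 x hx y hy)
          rw [show a * (a * y * a⁻¹) * a⁻¹ = (a * a) * y * (a * a)⁻¹ by group, ha2, one_mul, inv_one,
            mul_one] at h
          exact h
        · rw [hca]; exact commute_conj a (h1 x hx y hy)
      rcases (two_core τ hK hcc hab hel hirr hntq ha hn hD).1 c hc (hzq c (hq c hc a ha)) with h | h
      · exact hc1 h
      · exact hc2 h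
    push_neg at hfor
    let B : Subgroup G :=
      { carrier := {c | c ∈ A ∧ Nm K c}
        one_mem' := ⟨A.one_mem, fun x hx => by simpa using hx⟩
        mul_mem' := fun {c d} hc hd => ⟨A.mul_mem hc.1 hd.1, hc.2.mul hd.2⟩
        inv_mem' := fun {c} hc => ⟨A.inv_mem hc.1, hc.2.inv⟩ }
    have hBA : B ≤ A := fun c hc => hc.1
    have hcard2 : Nat.card ↥A ≤ 2 * Nat.card ↥B := by
      have hcov : ∀ c : ↥A, (c : G) ∈ B ∨ a * (c : G) ∈ B := fun c => by
        by_cases h : Nm K (c : G)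
        · exact Or.inl ⟨c.2, h⟩
        · exact Or.inr ⟨A.mul_mem ha c.2, hfor c c.2 h⟩
      let f : ↥A → ↥B ⊕ ↥B := fun c => if h : (c : G) ∈ B then Sum.inl ⟨c, h⟩
        else Sum.inr ⟨a * c, (hcov c).resolve_left h⟩
      have hf : Function.Injective f := by
        intro c d h
        simp only [f] at h
        split_ifs at h with h1 h2
        · exact Subtype.ext (congrArg (fun z : ↥B => (z : G)) (Sum.inl.inj h))
        · exact Subtype.ext (mul_left_cancel (congrArg (fun z : ↥B => (z : G)) (Sum.inr.inj h)))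
      have := Nat.card_le_card_of_injective f hf
      rw [Nat.card_sum] at this
      omega
    have hB2 : Nat.card ↥(B ⊓ ρ.ker) * Nat.card ↥(fix ρ (B ⊓ ρ.ker)) ≤
        2 * (Nat.card ↥B * Nat.card ↥(fix ρ B)) := by
      refine (hoff _ (inf_le_left.trans hBA)).trans ?_
      calc Nat.card ↥A * Nat.card ↥(fix ρ A) ≤ (2 * Nat.card ↥B) * Nat.card ↥(fix ρ B) :=
            Nat.mul_le_mul hcard2
              (Nat.card_le_card_of_injective _ (Submodule.inclusion_injective (fix_anti ρ hBA)))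
        _ = _ := by ring
    by_cases hbc : ∃ b ∈ B, ∃ x ∈ K, b * x ≠ x * b
    · obtain ⟨b, hb, hbne⟩ := hbc
      have hD : DFix τ K a :=
        dfix_of_mem τ hK hM (hab a ha b hb.1) hb.2 hbne (hzq b (hq b hb.1 a ha))
      refine (two_core τ hK hcc hab hel hirr hntq ha hn hD).2.2 B hBA
        (fun c hc => ⟨hc.2, hzq c (hq c hc.1 a ha)⟩) ⟨b, hb, fun h1 => ?_⟩ (hbound 2 B hBA (fun c hc => hc.2) hB2)
      obtain ⟨x, hx, hne⟩ := hbne
      refine hne (commute_of_central_comm hK (fun y hy => ?_) x hx)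
      refine ⟨K.mul_mem (hb.2 y hy) (K.inv_mem hy), hcentre _ (K.mul_mem (hb.2 y hy) (K.inv_mem hy)) ?_⟩
      have hb' : τ b⁻¹ = 1 := by rw [← one_mul (τ b⁻¹), ← h1, ← map_mul, mul_inv_cancel, map_one, h1]
      rw [map_mul, map_mul, map_mul, h1, hb', one_mul, mul_one, ← map_mul, mul_inv_cancel, map_one]
    push_neg at hbc
    -- everything but `a` acts trivially
    have hBtriv : ∀ b ∈ B, τ b = 1 := by
      intro b hb
      let F : Submodule (ZMod 2) (V ⧸ W) := LinearMap.eqLocus (τ b) 1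
      have hFm : ∀ q, q ∈ F ↔ τ b q = q := fun q => Iff.rfl
      rcases hirr F (fun c hc q hq' => (hFm _).mpr (by
          rw [rho_comm τ (hab b hb.1 c hc), (hFm q).mp hq']))
        (fun x hx q hq' => (hFm _).mpr (by rw [rho_comm τ (hbc b hb x hx), (hFm q).mp hq'])) with h | h
      · refine LinearMap.ext fun q => ?_
        have hm : τ b q - q ∈ F := (hFm _).mpr (by
          obtain ⟨v, rfl⟩ := Submodule.Quotient.mk_surjective W q
          rw [hτmk, ← Submodule.Quotient.mk_sub, hτmk, hq b hb.1 b hb.1])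
        exact sub_eq_zero.mp ((Submodule.eq_bot_iff _).mp h _ hm)
      · exact LinearMap.ext fun q => h.ge (Submodule.mem_top (x := q))
    have hVle : Nat.card (V ⧸ W) ≤ 2 * Nat.card ↥(LinearMap.ker (τ a - 1)) := by
      have h := hoff B hBA
      have e : fix ρ B = ⊤ := eq_top_iff.mpr fun v _ b hb => by
        rw [hlift b hb.1 hb.2 (hBtriv b hb)]; rfl
      rw [e, Nat.card_congr (Submodule.topEquiv (R := ZMod 2) (M := V)).toEquiv, hVcard] at h
      have hA1 : fix τ A ≤ LinearMap.ker (τ a - 1) := fun q hq' =>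
        LinearMap.mem_ker.mpr (sub_eq_zero.mpr (hq' a ha))
      have hA2 : Nat.card ↥(fix τ A) ≤ Nat.card ↥(LinearMap.ker (τ a - 1)) :=
        Nat.card_le_card_of_injective _ (Submodule.inclusion_injective hA1)
      refine Nat.le_of_mul_le_mul_left ?_ (Nat.mul_pos (Nat.card_pos (α := ↥B)) (Nat.card_pos (α := ↥W)))
      calc Nat.card ↥B * Nat.card ↥W * Nat.card (V ⧸ W)
          ≤ Nat.card ↥A * Nat.card ↥(fix ρ A) := by rw [mul_assoc]; exact h
        _ ≤ (2 * Nat.card ↥B) * (Nat.card ↥W * Nat.card ↥(LinearMap.ker (τ a - 1))) :=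
            Nat.mul_le_mul hcard2 ((hfixq A).trans (Nat.mul_le_mul_left _ hA2))
        _ = _ := by ring
    have hD : DFix τ K a := by
      intro x hx q
      have hr : Nat.card ↥(LinearMap.range (τ a - 1)) ≤ 2 := by
        have h1 := Submodule.card_eq_card_quotient_mul_card (LinearMap.ker (τ a - 1))
        rw [Nat.card_congr (τ a - 1).quotKerEquivRange.toEquiv] at h1
        refine Nat.le_of_mul_le_mul_left ?_ (Nat.card_pos (α := ↥(LinearMap.ker (τ a - 1))))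
        rw [← h1, mul_comm]
        exact hVle
      obtain ⟨d, hd⟩ : ∃ d, d = dd a 2 x := ⟨_, rfl⟩
      rw [← hd]
      have hda : d * a = a * d := by
        rw [hd]
        exact (mul_inv_eq_iff_eq_mul.mp (hM.dd_commute_self hx)).symm
      by_cases h0 : τ a q - q = 0
      · rw [h0, map_zero]
      by_contra hne
      have hmem : τ d (τ a q - q) ∈ LinearMap.range (τ a - 1) := by
        refine ⟨τ d q, ?_⟩
        rw [map_sub, rho_comm τ hda]
        rfl
      have hnz : τ d (τ a q - q) ≠ 0 := fun h => h0 (by rw [← rho_inv_apply τ d (τ a q - q), h, map_zero])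
      have h3 : ({0, τ a q - q, τ d (τ a q - q)} : Set (V ⧸ W)).ncard ≤
          (LinearMap.range (τ a - 1) : Set (V ⧸ W)).ncard := by
        refine Set.ncard_le_ncard ?_ (Set.toFinite _)
        intro z hz
        simp only [Set.mem_insert_iff, Set.mem_singleton_iff] at hz
        rcases hz with rfl | rfl | rfl
        · exact zero_mem _
        · exact ⟨q, rfl⟩
        · exact hmem
      rw [← Nat.card_coe_set_eq, ← Nat.card_coe_set_eq] at h3
      rw [Nat.card_coe_set_eq, Set.ncard_eq_three.mpr ⟨0, _, _, Ne.symm h0, Ne.symm hnz, Ne.symm hne, rfl⟩] at h3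
      exact absurd (h3.trans hr) (by omega)
    exact (two_core τ hK hcc hab hel hirr hntq ha hn hD).2.1 hVle
  -- the replacement is smaller
  have hAsn : ∀ b ∈ As, Nm K b := hsmaller As hAsA hAA hAsOff
  by_cases hbc : ∃ b ∈ As, ∃ x ∈ K, b * x ≠ x * b
  · obtain ⟨b, hb, hbne⟩ := hbc
    have hD : DFix τ K a :=
      dfix_of_mem τ hK hM (hab a ha b (hAsA hb)) (hAsn b hb) hbne (hzq b (hAsq b hb a ha))
    by_cases hp2 : p = 2
    swap
    · exact oddM τ hp2 hK hcc hab hirr hntq ha hM hD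
    subst hp2
    have h1 : Nat.card ↥(As ⊓ ρ.ker) * Nat.card ↥(fix ρ (As ⊓ ρ.ker)) ≤
        2 * (Nat.card ↥As * Nat.card ↥(fix ρ As)) :=
      (hAsOff _ inf_le_left).trans (Nat.le_mul_of_pos_left _ two_pos)
    refine (two_core τ hK hcc hab hel hirr hntq ha hn hD).2.2 As hAsA
      (fun c hc => ⟨hAsn c hc, hzq c (hAsq c hc a ha)⟩) ⟨b₁, hb₁, fun h => ?_⟩ (hbound 2 As hAsA hAsn h1)
    exact hv₁ (by rw [hlift b₁ (hAsA hb₁) (hAsn b₁ hb₁) h]; rfl)
  push_neg at hbc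
  -- the replacement centralizes `K`
  have hcomA : ∀ b ∈ As, ∀ c ∈ A, b * c = c * b := fun b hb c hc => hab b (hAsA hb) c hc
  have hC1 : ∀ x ∈ K, ∀ v ∈ fix ρ As, ρ x v = v := by
    refine hsub' (fix ρ As) (fun h => hv₁ ((h.ge (Submodule.mem_top (x := v₁))) b₁ hb₁)) ?_ ?_
    · intro c hc v hv b hb
      rw [rho_comm ρ (hcomA b hb c hc), hv b hb]
    · intro x hx v hv b hb
      rw [rho_comm ρ (hbc b hb x hx), hv b hb]
  refine hv₀ (triv_of_series ρ hK (fix ρ As) hC1 (fun x hx v b hb => ?_) x₀ hx₀ v₀)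
  let R : Submodule (ZMod p) V := LinearMap.range (ρ b - 1)
  have hR : ∀ c ∈ A, ∀ w ∈ R, ρ c w = w := by
    rintro c hc _ ⟨u, rfl⟩
    show ρ c (ρ b u - u) = ρ b u - u
    have h := hAsq b hb c hc u
    rw [map_sub, rho_comm ρ (hcomA b hb c hc)] at h
    rw [map_sub]
    exact sub_eq_sub_iff_sub_eq_sub.mp h
  have hRK : ∀ y ∈ K, ∀ w ∈ R, ρ y w ∈ R := by
    rintro y hy _ ⟨u, rfl⟩
    refine ⟨ρ y u, ?_⟩
    show ρ b (ρ y u) - ρ y u = ρ y (ρ b u - u)
    rw [map_sub, rho_comm ρ (hbc b hb y hy)]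
  have hRne : R ≠ ⊤ := fun h => by
    obtain ⟨c, hc, u, hu⟩ := hAnt
    exact hu (hR c hc u (h.ge Submodule.mem_top))
  have h := hsub' R hRne (fun c hc w hw => by rw [hR c hc w hw]; exact hw) hRK x hx (ρ b v - v) ⟨v, rfl⟩
  rw [map_sub] at h
  rw [map_sub, rho_comm ρ (hbc b hb x hx)]
  exact sub_eq_sub_iff_sub_eq_sub.mp h

/-- The P(G,V) theorem in induction form. -/
theorem pgv_main (n : ℕ) : ∀ (G : Type u) (V : Type v) [Group G] [Finite G] [AddCommGroup V] [Finite V]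
    [Module (ZMod p) V] (ρ : Representation (ZMod p) G V) (A K : Subgroup G),
    Nat.card G + Nat.card ↥A + Nat.card V ≤ n → (∀ c ∈ A, ∀ d ∈ A, c * d = d * c) →
    (∀ c ∈ A, c ^ p = 1) → QS K → (∃ x ∈ K, ∃ v, ρ x v ≠ v) → IsOff ρ A → CC A K →
    ∀ a ∈ A, Nm K a := by
  induction n using Nat.strong_induction_on with
  | _ n ih =>
  intro G V _ _ _ _ _ ρ A K hn hab hel hK hnt hoff hcc a ha
  by_cases hgen : A ⊔ K = ⊤
  · by_contra hna
    refine pgv_core ρ hab hel hK hnt hoff hcc hgen ?_ ?_ ha hna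
    · intro T hT hTi
      by_contra hc
      push_neg at hc
      obtain ⟨x, hx, v, hv, hne⟩ := hc
      have hlt : Nat.card ↥T < Nat.card V := by
        obtain ⟨w, hw⟩ : ∃ w, w ∉ T := not_forall.mp fun h => hT (eq_top_iff.mpr fun w _ => h w)
        exact Finite.card_subtype_lt hw
      have hcardfix : ∀ B : Subgroup G, Nat.card ↥(fix (subRep ρ T hTi) B) = Nat.card ↥(fix ρ B ⊓ T) := by
        intro B
        refine Nat.card_congr ⟨fun w => ⟨w.1.1, fun b hb => congrArg Subtype.val (w.2 b hb), w.1.2⟩,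
          fun w => ⟨⟨w.1, w.2.2⟩, fun b hb => Subtype.ext (w.2.1 b hb)⟩, fun w => rfl, fun w => rfl⟩
      refine hna (ih _ (by omega) G ↥T (subRep ρ T hTi) A K le_rfl hab hel hK
        ⟨x, hx, ⟨v, hv⟩, fun h => hne (congrArg Subtype.val h)⟩ (fun B hB => ?_) hcc a ha)
      rw [hcardfix, hcardfix]
      exact off_restrict ρ hoff hB T
    · intro B hBA hBne hBoff b hb
      have hlt : Nat.card ↥B < Nat.card ↥A := lt_of_le_of_ne (Subgroup.card_le_of_le hBA)
        fun h => hBne (Subgroup.eq_of_le_of_card_ge hBA h.ge)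
      exact ih _ (by omega) G V ρ B K le_rfl (fun c hc d hd => hab c (hBA hc) d (hBA hd))
        (fun c hc => hel c (hBA hc)) hK hnt hBoff (fun c hc => hcc c (hBA hc)) b hb
  · obtain ⟨H, hH⟩ : ∃ H, H = A ⊔ K := ⟨_, rfl⟩
    have hAH : A ≤ H := hH ▸ le_sup_left
    have hKH : K ≤ H := hH ▸ le_sup_right
    have hlt : Nat.card ↥H < Nat.card G := lt_of_le_of_ne (Subgroup.card_le_card_group H)
      fun h => hgen (hH ▸ Subgroup.eq_top_of_card_eq H h)
    have hcA : Nat.card ↥(A.subgroupOf H) = Nat.card ↥A := Nat.card_congr (subgroupOfEquivOfLe hAH).toEquiv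
    have hK' : QS (K.subgroupOf H) := by
      refine ⟨?_, ?_, ?_⟩
      · apply Subgroup.map_injective H.subtype_injective
        rw [Subgroup.map_commutator, Subgroup.map_subgroupOf_eq_of_le hKH, hK.perf]
      · obtain ⟨x, hx, y, hy, hne⟩ := hK.nab
        exact ⟨⟨x, hKH hx⟩, hx, ⟨y, hKH hy⟩, hy, fun h => hne (congrArg Subtype.val h)⟩
      · intro N hN hnorm
        rcases hK.norm (N.map H.subtype) (by
            rintro _ ⟨z, hz, rfl⟩
            exact hN hz) (by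
            rintro x hx _ ⟨z, hz, rfl⟩
            exact ⟨⟨x, hKH hx⟩ * z * ⟨x, hKH hx⟩⁻¹, hnorm _ hx z hz, rfl⟩) with h | h
        · left
          apply Subgroup.map_injective H.subtype_injective
          rw [Subgroup.map_subgroupOf_eq_of_le hKH]
          exact h
        · exact Or.inr fun z hz x hx => Subtype.ext (h _ ⟨z, hz, rfl⟩ _ hx)
    let σ : Representation (ZMod p) ↥H V := ρ.comp H.subtype
    have hoff' : IsOff σ (A.subgroupOf H) := by
      have hf : ∀ B : Subgroup ↥H, Nat.card ↥(fix σ B) = Nat.card ↥(fix ρ (B.map H.subtype)) := fun B =>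
        Nat.card_congr (Equiv.subtypeEquivRight fun v =>
          ⟨fun hv b hb => by obtain ⟨c, hc, rfl⟩ := hb; exact hv c hc,
           fun hv c hc => hv _ ⟨c, hc, rfl⟩⟩)
      have hm : ∀ B : Subgroup ↥H, Nat.card ↥(B.map H.subtype) = Nat.card ↥B := fun B =>
        (Nat.card_congr (B.equivMapOfInjective H.subtype H.subtype_injective).toEquiv).symm
      intro B hB
      have h := hoff (B.map H.subtype) (by rintro _ ⟨z, hz, rfl⟩; exact hB hz)
      rw [hf, hf, Subgroup.map_subgroupOf_eq_of_le hAH, hcA]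
      rwa [hm] at h
    intro x hx
    exact ih (Nat.card ↥H + Nat.card ↥(A.subgroupOf H) + Nat.card V) (by omega) ↥H V σ (A.subgroupOf H)
      (K.subgroupOf H) le_rfl (fun c hc d hd => Subtype.ext (hab _ hc _ hd))
      (fun c hc => Subtype.ext (hel _ hc)) hK'
      (by obtain ⟨y, hy, v, hv⟩ := hnt; exact ⟨⟨y, hKH hy⟩, hy, v, hv⟩) hoff'
      (fun c hc => (hcc _ hc).imp (fun h z hz => h _ hz)
        fun h z hz w hw => Subtype.ext (h _ hz _ hw).eq)
      ⟨a, hAH ha⟩ ha ⟨x, hKH hx⟩ hx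

end Cfsg.Agent.LocalEvenB.PGV
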