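import Cfsg.Agent.Lib.LocalEvenB.PGVCore

/-!
# Towards the P(G,V) theorem: odd characteristic
-/

set_option autoImplicit false

namespace Cfsg.Agent.LocalEvenB.PGV

open Subgroup

variable {G V : Type*} [Group G] [AddCommGroup V] {p : ℕ} [Fact p.Prime] [Module (ZMod p) V]
variable (ρ : Representation (ZMod p) G V) {A K : Subgroup G}

theorem endo_ext {f g : Module.End (ZMod p) V} (h : ∀ v, f v = g v) : f = g := LinearMap.ext h

theorem three_cancel {R : Type*} [Ring R] (X Y N : R) :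
    Y * X - X * Y = 3 • (Y * (X + (N * X - X * N) - N * X * N) - (X + (N * X - X * N) - N * X * N) * Y)
      - 3 • (Y * (X + 2 • (N * X - X * N) - 4 • (N * X * N)) -
          (X + 2 • (N * X - X * N) - 4 • (N * X * N)) * Y)
      + (Y * (X + 3 • (N * X - X * N) - 9 • (N * X * N)) -
          (X + 3 • (N * X - X * N) - 9 • (N * X * N)) * Y) := by
  noncomm_ring

theorem three_sum {R : Type*} [Ring R] (X N : R) (h3 : (3 : R) = 0) :
    X + (X + (N * X - X * N) - N * X * N) + (X + 2 • (N * X - X * N) - 4 • (N * X * N)) = N * X * N := by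
  have e : X + (X + (N * X - X * N) - N * X * N) + (X + 2 • (N * X - X * N) - 4 • (N * X * N))
      - N * X * N = 3 * (X + (N * X - X * N) - 2 • (N * X * N)) := by noncomm_ring
  rw [← sub_eq_zero, e, h3, zero_mul]

/-- The conjugates of `x` under a quadratic element. -/
theorem quad_cj {a : G} (hq : ∀ v : V, ρ a (ρ a v - v) = ρ a v - v) (i : ℕ) (x : G) :
    ρ (cj a i x) = ρ x + i • ((ρ a - 1) * ρ x - ρ x * (ρ a - 1)) -
      (i * i) • ((ρ a - 1) * ρ x * (ρ a - 1)) := by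
  obtain ⟨N, hN⟩ : ∃ N : Module.End (ZMod p) V, N = ρ a - 1 := ⟨_, rfl⟩
  rw [← hN]
  have hNN : N * N = 0 := by
    rw [hN]
    refine endo_ext fun v => ?_
    have e : (ρ a - 1) ((ρ a - 1) v) = ρ a (ρ a v - v) - (ρ a v - v) := rfl
    rw [Module.End.mul_apply, e, hq, sub_self]
    rfl
  have hpow : ∀ j : ℕ, ρ (a ^ j) = 1 + j • N := by
    intro j
    induction j with
    | zero => simp
    | succ j ih =>
      rw [pow_succ, map_mul, ih, succ_nsmul, show ρ a = 1 + N by rw [hN, add_sub_cancel]]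
      rw [add_mul, one_mul, mul_add, mul_one, smul_mul_assoc, hNN, smul_zero, add_zero, add_assoc,
        add_comm N]
  have hinv : ρ (a ^ i)⁻¹ = 1 - i • N := by
    have h1 : ρ (a ^ i) * (1 - i • N) = 1 := by
      rw [hpow, mul_sub, mul_one, add_mul, one_mul, smul_mul_assoc, mul_smul_comm, hNN, smul_zero,
        smul_zero, add_zero, add_sub_cancel_right]
    calc ρ (a ^ i)⁻¹ = ρ (a ^ i)⁻¹ * (ρ (a ^ i) * (1 - i • N)) := by rw [h1, mul_one]
      _ = _ := by rw [← mul_assoc, ← map_mul, inv_mul_cancel, map_one, one_mul]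
  rw [cj, map_mul, map_mul, hinv, hpow]
  simp only [mul_sub, mul_one, add_mul, one_mul, smul_mul_assoc, mul_smul_comm, smul_add, smul_sub,
    ← mul_assoc, mul_smul]
  abel

/-- Odd characteristic: a quadratic element cannot move `K`. -/
theorem oddQ [Finite G] (hp : p ≠ 2) (hK : QS K) {a : G} (hM : Moves p K a)
    (hq : ∀ v : V, ρ a (ρ a v - v) = ρ a v - v) (hnt : ∃ x ∈ K, ∃ v, ρ x v ≠ v) : False := by
  have hpp : p.Prime := Fact.out
  obtain ⟨x₀, hx₀, v₀, hv₀⟩ := hnt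
  have hnV : Nontrivial V := nontrivial_of_ne _ _ hv₀
  have htriv : (∀ x ∈ K, ∀ y ∈ K, ρ x * ρ y = ρ y * ρ x) → False := fun h =>
    hv₀ (triv_of_comm ρ hK Set.univ (fun _ _ _ _ => trivial)
      (fun x hx y hy v _ => by rw [map_mul, map_mul, h x hx y hy]) x₀ hx₀ v₀ trivial)
  have hcom : ∀ i, 0 < i → i < p → ∀ x ∈ K, ∀ y ∈ K, ρ y * ρ (cj a i x) = ρ (cj a i x) * ρ y := by
    intro i hi hip x hx y hy
    rw [← map_mul, ← map_mul]
    exact congrArg ρ (hM.comm i hi hip x hx y hy).symm.eq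
  by_cases h5 : 3 < p
  · refine htriv fun x hx y hy => ?_
    have e := fun i hi hip => sub_eq_zero.mpr (hcom i hi hip x hx y hy)
    have e1 := e 1 (by omega) (by omega)
    have e2 := e 2 (by omega) (by omega)
    have e3 := e 3 (by omega) (by omega)
    rw [quad_cj ρ hq] at e1 e2 e3
    simp only [one_smul, one_mul, Nat.reduceMul] at e1 e2 e3
    have h := three_cancel (ρ x) (ρ y) (ρ a - 1)
    rw [e1, e2, e3, smul_zero, sub_zero, zero_add] at h
    exact (sub_eq_zero.mp h).symm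
  obtain rfl : p = 3 := by
    have := hpp.two_le
    omega
  haveI : CharP (Module.End (ZMod 3) V) 3 := charP_of_injective_algebraMap' (ZMod 3) 3
  have h3 : (3 : Module.End (ZMod 3) V) = 0 := by exact_mod_cast CharP.cast_eq_zero (Module.End (ZMod 3) V) 3
  have hNN : (ρ a - 1) * (ρ a - 1) = 0 := endo_ext fun v => by
    have e : (ρ a - 1) ((ρ a - 1) v) = ρ a (ρ a v - v) - (ρ a v - v) := rfl
    rw [Module.End.mul_apply, e, hq, sub_self]
    rfl
  have hXc : ∀ i j, i < 3 → j < 3 → ∀ x ∈ K, Commute (ρ (cj a i x)) (ρ (cj a j x)) := by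
    intro i j hi hj x hx
    by_cases hij : i = j
    · subst hij; exact Commute.refl _
    · exact (hM.cj_commute hij hi hj hx hx).map ρ
  -- elements of order prime to `3` commute with `K`
  have key : ∀ x ∈ K, ¬ 3 ∣ orderOf x → ρ (cj a 1 x) = ρ x := by
    intro x hx hord
    obtain ⟨k, hk1, hk⟩ : ∃ k, 0 < k ∧ x ^ (3 ^ k) = x := by
      have hco : Nat.Coprime 3 (orderOf x) := (Nat.Prime.coprime_iff_not_dvd Nat.prime_three).mpr hord
      refine ⟨(orderOf x).totient, Nat.totient_pos.mpr (orderOf_pos x), ?_⟩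
      conv_rhs => rw [← pow_one x]
      exact pow_eq_pow_iff_modEq.mpr (Nat.ModEq.pow_totient hco)
    have hpk : ∀ i, (ρ (cj a i x)) ^ (3 ^ k) = ρ (cj a i x) := fun i => by
      rw [← map_pow]
      congr 1
      simp only [cj]
      rw [conj_pow, hk]
    have hsum : ∀ y ∈ K, y ^ (3 ^ k) = y →
        ρ (cj a 0 y) + ρ (cj a 1 y) + ρ (cj a 2 y) = 0 := by
      intro y hy hyk
      have hpy : ∀ i, (ρ (cj a i y)) ^ (3 ^ k) = ρ (cj a i y) := fun i => by
        rw [← map_pow]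
        congr 1
        simp only [cj]
        rw [conj_pow, hyk]
      obtain ⟨s, hs⟩ : ∃ s, s = ρ (cj a 0 y) + ρ (cj a 1 y) + ρ (cj a 2 y) := ⟨_, rfl⟩
      rw [← hs]
      have hs2 : s * s = 0 := by
        have e : s = (ρ a - 1) * ρ y * (ρ a - 1) := by
          rw [hs, quad_cj ρ hq, quad_cj ρ hq, quad_cj ρ hq]
          simp only [zero_smul, add_zero, zero_mul, sub_zero, one_smul, one_mul, Nat.reduceMul]
          exact three_sum _ _ h3
        rw [e, mul_assoc, ← mul_assoc (ρ a - 1) ((ρ a - 1) * ρ y), ← mul_assoc (ρ a - 1) (ρ a - 1),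
          hNN, zero_mul, zero_mul, mul_zero]
      have hzero : s ^ (3 ^ k) = 0 :=
        pow_eq_zero_of_le (m := 2) (le_trans (by norm_num) (Nat.pow_le_pow_right (by norm_num) hk1))
          (by rw [pow_two, hs2])
      rw [hs, add_pow_char_pow_of_commute (p := 3) (h := (hXc 0 2 (by omega) (by omega) y hy).add_left
          (hXc 1 2 (by omega) (by omega) y hy)),
        add_pow_char_pow_of_commute (p := 3) (h := hXc 0 1 (by omega) (by omega) y hy), hpy, hpy, hpy, ← hs] at hzero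
      exact hzero
    obtain ⟨X0, hX0⟩ : ∃ z, z = ρ (cj a 0 x) := ⟨_, rfl⟩
    obtain ⟨X1, hX1⟩ : ∃ z, z = ρ (cj a 1 x) := ⟨_, rfl⟩
    obtain ⟨X2, hX2⟩ : ∃ z, z = ρ (cj a 2 x) := ⟨_, rfl⟩
    have s1 : X0 + X1 + X2 = 0 := hX0 ▸ hX1 ▸ hX2 ▸ hsum x hx hk
    have hinvpow : x⁻¹ ^ (3 ^ k) = x⁻¹ := by rw [inv_pow, hk]
    have s2 := hsum x⁻¹ (K.inv_mem hx) hinvpow
    have hi : ∀ i, cj a i x⁻¹ = (cj a i x)⁻¹ := fun i => by simp only [cj]; group
    rw [hi, hi, hi] at s2
    have hmul : ∀ z : G, ρ z * ρ z⁻¹ = 1 := fun z => by rw [← map_mul, mul_inv_cancel, map_one]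
    have c01 : Commute X0 X1 := hX0 ▸ hX1 ▸ hXc 0 1 (by omega) (by omega) x hx
    have c02 : Commute X0 X2 := hX0 ▸ hX2 ▸ hXc 0 2 (by omega) (by omega) x hx
    have c12 : Commute X1 X2 := hX1 ▸ hX2 ▸ hXc 1 2 (by omega) (by omega) x hx
    have s3 : X1 * X2 + X0 * X2 + X0 * X1 = 0 := by
      have e : X1 * X2 + X0 * X2 + X0 * X1 =
          (X0 * X1 * X2) * (ρ (cj a 0 x)⁻¹ + ρ (cj a 1 x)⁻¹ + ρ (cj a 2 x)⁻¹) := by
        rw [mul_add, mul_add]
        have e0 : X0 * X1 * X2 * ρ (cj a 0 x)⁻¹ = X1 * X2 := by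
          rw [mul_assoc X0, (c01.mul_right c02).eq, mul_assoc, hX0, hmul, mul_one]
        have e1 : X0 * X1 * X2 * ρ (cj a 1 x)⁻¹ = X0 * X2 := by
          rw [mul_assoc X0, c12.eq, ← mul_assoc, mul_assoc (X0 * X2), hX1, hmul, mul_one]
        have e2 : X0 * X1 * X2 * ρ (cj a 2 x)⁻¹ = X0 * X1 := by
          rw [mul_assoc (X0 * X1), hX2, hmul, mul_one]
        rw [e0, e1, e2]
      rw [e, s2, mul_zero]
    have hsq : (X1 - X0) * (X1 - X0) = 0 := by
      have hX2' : X2 = -X0 - X1 := by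
        rw [← sub_eq_zero, ← s1]; abel
      rw [hX2'] at s3
      have e : (X1 - X0) * (X1 - X0) = -(X1 * (-X0 - X1) + X0 * (-X0 - X1) + X0 * X1) - 3 * (X0 * X1) := by
        have := c01.eq
        calc (X1 - X0) * (X1 - X0) = X1 * X1 - X1 * X0 - X0 * X1 + X0 * X0 := by noncomm_ring
          _ = X1 * X1 + X1 * X0 + X0 * X0 - 3 * (X0 * X1) := by rw [← this]; noncomm_ring
          _ = _ := by noncomm_ring
      rw [e, s3, h3, neg_zero, zero_mul, sub_zero]
    have hzero : (X1 - X0) ^ (3 ^ k) = 0 :=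
      pow_eq_zero_of_le (m := 2) (le_trans (by norm_num) (Nat.pow_le_pow_right (by norm_num) hk1))
        (by rw [pow_two, hsq])
    rw [sub_pow_char_pow_of_commute (p := 3) (h := c01.symm), hX0, hX1, hpk, hpk, sub_eq_zero] at hzero
    rwa [cj_zero] at hzero
  -- the elements commuting with `K` in the image
  let C : Subgroup G :=
    { carrier := {x | x ∈ K ∧ ∀ y ∈ K, Commute (ρ x) (ρ y)}
      one_mem' := ⟨K.one_mem, fun y _ => by rw [map_one]; exact Commute.one_left _⟩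
      mul_mem' := fun {x y} hx hy => ⟨K.mul_mem hx.1 hy.1, fun z hz => by
        rw [map_mul]; exact (hx.2 z hz).mul_left (hy.2 z hz)⟩
      inv_mem' := fun {x} hx => ⟨K.inv_mem hx.1, fun z hz => by
        have h1 : ρ x⁻¹ * ρ x = 1 := by rw [← map_mul, inv_mul_cancel, map_one]
        have h2 : ρ x * ρ x⁻¹ = 1 := by rw [← map_mul, mul_inv_cancel, map_one]
        calc ρ x⁻¹ * ρ z = ρ x⁻¹ * (ρ z * (ρ x * ρ x⁻¹)) := by rw [h2, mul_one]
          _ = ρ x⁻¹ * (ρ x * ρ z) * ρ x⁻¹ := by rw [(hx.2 z hz).eq]; simp only [mul_assoc]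
          _ = ρ z * ρ x⁻¹ := by rw [← mul_assoc, h1, one_mul]⟩ }
  rcases hK.norm C (fun x hx => hx.1) (fun y hy x hx => ⟨K.mul_mem (K.mul_mem hy hx.1) (K.inv_mem hy), by
    intro z hz
    rw [map_mul, map_mul, ← (hx.2 y hy).eq, mul_assoc, ← map_mul ρ y, mul_inv_cancel, map_one, mul_one]
    exact hx.2 z hz⟩) with h | h
  · exact htriv fun x hx y hy => (h ▸ hx : x ∈ C).2 y hy
  -- otherwise `K` is nilpotent modulo its center
  have hpp' : ∀ x ∈ K, ¬ 3 ∣ orderOf x → ∀ y ∈ K, y * x = x * y := fun x hx hord y hy =>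
    h x ⟨hx, fun z hz => by
      rw [← key x hx hord]
      exact ((hM.comm 1 one_pos (by omega) x hx z hz).map ρ)⟩ y hy
  have hpg : IsPGroup 3 (↥K ⧸ Subgroup.center ↥K) := by
    intro q
    induction q using QuotientGroup.induction_on with
    | H g =>
      refine ⟨(orderOf g).factorization 3, ?_⟩
      rw [← QuotientGroup.mk_pow, QuotientGroup.eq_one_iff, Subgroup.mem_center_iff]
      intro y
      apply Subtype.ext
      refine hpp' _ (g ^ _).2 ?_ y y.2
      rw [Subgroup.orderOf_coe, orderOf_pow' _ (pow_ne_zero _ three_ne_zero),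
        Nat.gcd_eq_right (Nat.ordProj_dvd _ _)]
      exact Nat.not_dvd_ordCompl Nat.prime_three (orderOf_pos g).ne'
  haveI : Fact (Nat.Prime 3) := ⟨Nat.prime_three⟩
  haveI := hpg.isNilpotent
  haveI : Group.IsNilpotent ↥K := Group.of_quotient_center_nilpotent inferInstance
  obtain ⟨x, hx, y, hy, hxy⟩ := hK.nab
  haveI : Nontrivial ↥K := ⟨⟨x, hx⟩, ⟨1, K.one_mem⟩, fun e => hxy (by
    rw [show x = 1 from congrArg Subtype.val e, one_mul, mul_one])⟩
  haveI : Group.IsPerfect ↥K := Subgroup.isPerfect_iff.mpr hK.perf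
  exact Group.IsPerfect.not_isSolvable ↥K inferInstance

section Lie

variable {R : Type*} [Ring R]

theorem comm_pow_four (L : Set R) (hmul : ∀ r ∈ L, ∀ s ∈ L, r * s ∈ L)
    (hsub : ∀ r ∈ L, ∀ s ∈ L, r - s ∈ L)
    (hcc : ∀ r ∈ L, ∀ s ∈ L, ∀ r' ∈ L, ∀ s' ∈ L, Commute (r * s - s * r) (r' * s' - s' * r'))
    {a b : R} (ha : a ∈ L) (hb : b ∈ L) : 2 * (a * b - b * a) ^ 4 = 0 := by
  obtain ⟨u, hu⟩ : ∃ u, u = a * b - b * a := ⟨_, rfl⟩
  rw [← hu]
  have huL : u ∈ L := hu ▸ hsub _ (hmul a ha b hb) _ (hmul b hb a ha)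
  have hA : ∀ r ∈ L, ∀ s ∈ L, (a * (r * s - s * r) - (r * s - s * r) * a) * u = 0 := by
    intro r hr s hs
    obtain ⟨v, hv⟩ : ∃ v, v = r * s - s * r := ⟨_, rfl⟩
    rw [← hv]
    have e : a * u = a * (a * b) - (a * b) * a := by rw [hu]; noncomm_ring
    have h1 : Commute (a * u) v := by rw [e, hv]; exact hcc a ha _ (hmul a ha b hb) r hr s hs
    have h2 : Commute u v := by rw [hu, hv]; exact hcc a ha b hb r hr s hs
    rw [sub_mul, mul_assoc a, ← h2.eq, ← mul_assoc, h1.eq, ← mul_assoc, sub_self]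
  have hB : ∀ r ∈ L, ∀ s ∈ L, (b * (r * s - s * r) - (r * s - s * r) * b) * u = 0 := by
    intro r hr s hs
    obtain ⟨v, hv⟩ : ∃ v, v = r * s - s * r := ⟨_, rfl⟩
    rw [← hv]
    have e : b * u = (b * a) * b - b * (b * a) := by rw [hu]; noncomm_ring
    have h1 : Commute (b * u) v := by rw [e, hv]; exact hcc _ (hmul b hb a ha) b hb r hr s hs
    have h2 : Commute u v := by rw [hu, hv]; exact hcc a ha b hb r hr s hs
    rw [sub_mul, mul_assoc b, ← h2.eq, ← mul_assoc, h1.eq, ← mul_assoc, sub_self]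
  have h0 : (a * u - u * a) * u = 0 := hu ▸ hA a ha b hb
  have h0' : (b * u - u * b) * u = 0 := hu ▸ hB a ha b hb
  have hv := hA a ha (b * b) (hmul b hb b hb)
  have e : (a * (a * (b * b) - b * b * a) - (a * (b * b) - b * b * a) * a) * u
      = (a * u - u * a) * b * u + 2 * u * u * u + b * ((a * u - u * a) * u) := by
    rw [hu]; noncomm_ring
  rw [e, h0, mul_zero, add_zero] at hv
  have e2 : ((a * u - u * a) * b * u + 2 * u * u * u) * u =
      ((a * u - u * a) * u) * b * u + (a * u - u * a) * ((b * u - u * b) * u) + 2 * u ^ 4 := by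
    noncomm_ring
  have h := congrArg (· * u) hv
  simp only [zero_mul] at h
  rw [e2, h0, h0'] at h
  simpa using h

end Lie

/-- Odd characteristic: the diagonal cannot fix the commutator space of a moving element. -/
theorem oddM [Finite G] (hp : p ≠ 2) (hK : QS K) (hcc : CC A K) (hab : ∀ c ∈ A, ∀ d ∈ A, c * d = d * c)
    (hirr : Irr ρ A K) (hnt : ∃ x ∈ K, ∃ v, ρ x v ≠ v) {a : G} (ha : a ∈ A) (hM : Moves p K a)
    (hD : DFix ρ K a) : False := by
  have hpp : p.Prime := Fact.out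
  obtain ⟨x₀, hx₀, v₀, hv₀⟩ := hnt
  haveI hnV : Nontrivial V := nontrivial_of_ne _ _ hv₀
  have hnt : ∃ x ∈ K, ∃ v, ρ x v ≠ v := ⟨x₀, hx₀, v₀, hv₀⟩
  have hp3 : 2 < p := lt_of_le_of_ne hpp.two_le (Ne.symm hp)
  obtain ⟨n, hn⟩ : ∃ n : Module.End (ZMod p) V, n = ρ a - 1 := ⟨_, rfl⟩
  have hnv : ∀ v, n v = ρ a v - v := fun v => by rw [hn]; rfl
  -- the last nonzero commutator space
  let E0 : Submodule (ZMod p) V := LinearMap.ker n ⊓ LinearMap.range n
  have hE0 : ∃ e ∈ E0, e ≠ 0 := by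
    have hn0 : n ≠ 0 := by
      intro h0
      apply hv₀
      refine triv_of_comm ρ hK Set.univ (fun _ _ _ _ => trivial) (fun x hx y hy v _ => ?_) x₀ hx₀ v₀ trivial
      have ha1 : ρ a = 1 := by rw [← sub_eq_zero, ← hn, h0]
      have e : ρ (cj a 1 x) = ρ x := by
        have hai : ρ a⁻¹ = 1 := by
          rw [← one_mul (ρ a⁻¹), ← ha1, ← map_mul, mul_inv_cancel, map_one, ha1]
        simp [cj, map_mul, ha1, hai]
      have := ((hM.comm 1 one_pos (by omega) x hx y hy).map ρ).eq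
      rw [show a ^ 1 * x * (a ^ 1)⁻¹ = cj a 1 x from rfl, e] at this
      rw [map_mul, map_mul, this]
    obtain ⟨v, hv⟩ : ∃ v, n v ≠ 0 := not_forall.mp fun h => hn0 (endo_ext h)
    have hnil : ∃ m, (n ^ m) (n v) = 0 := by
      obtain ⟨m, hm⟩ : IsNilpotent n := hn ▸ sub_one_nilpotent ρ hM.pow_eq
      exact ⟨m, by rw [hm]; rfl⟩
    classical
    obtain ⟨m, hm⟩ : ∃ m, Nat.find hnil = m + 1 := by
      refine ⟨Nat.find hnil - 1, ?_⟩
      have : Nat.find hnil ≠ 0 := fun h => hv (by simpa [h] using Nat.find_spec hnil)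
      omega
    have h1 := Nat.find_spec hnil
    rw [hm, pow_succ', Module.End.mul_apply] at h1
    refine ⟨(n ^ m) (n v), ⟨h1, (n ^ m) v, ?_⟩, Nat.find_min hnil (by omega)⟩
    rw [← Module.End.mul_apply, ← Module.End.mul_apply, ← pow_succ, ← pow_succ']
  have hEfix : ∀ e ∈ E0, ρ a e = e := fun e he => by
    have := he.1
    rwa [SetLike.mem_coe, LinearMap.mem_ker, hnv, sub_eq_zero] at this
  have hEdd : ∀ x ∈ K, ∀ e ∈ E0, ρ (dd a p x) e = e := by
    rintro x hx e ⟨-, v, rfl⟩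
    rw [hnv]
    exact hD x hx v
  -- the operators
  let f : G → G → ℕ → Module.End (ZMod p) V := fun x y i => ρ (cj a i (y * x * y⁻¹)) - ρ (cj a i x)
  have hfa : ∀ x y i, ∀ e ∈ E0, ρ a (f x y i e) = f x y (i + 1) e := by
    intro x y i e he
    simp only [f, LinearMap.sub_apply, map_sub]
    have h : ∀ z, ρ a (ρ (cj a i z) e) = ρ (cj a (i + 1) z) e := fun z => by
      rw [← cj_succ, rho_mul, rho_mul]
      congr 2
      conv_lhs => rw [← rho_inv_apply ρ a e, hEfix e he]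
    rw [h, h]
  have hf01 : ∀ x ∈ K, ∀ y ∈ K, ∀ e ∈ E0, f x y 1 e = f x y 0 e := by
    intro x hx y hy e he
    have h1 : ρ a (ρ x e) - ρ x e = ρ (cj a 1 x) e - ρ (cj a 0 x) e := by
      have : ρ a (ρ x e) = ρ (cj a 1 x) (ρ a e) := by
        simp only [cj, pow_one]; rw [rho_conj]
      rw [this, hEfix e he, cj_zero]
    have h2 := hD y hy (ρ x e)
    rw [h1, map_sub] at h2
    have h3 : ∀ i, i < p → ρ (dd a p y) (ρ (cj a i x) e) = ρ (cj a i (y * x * y⁻¹)) e := by
      intro i hi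
      have e1 := hM.dd_conj_cj hx hy hi (le_refl p)
      rw [if_neg (by omega), mul_inv_eq_iff_eq_mul] at e1
      rw [← rho_mul, e1, rho_mul, hEdd y hy e he]
    rw [h3 1 (by omega), h3 0 (by omega)] at h2
    simp only [f, LinearMap.sub_apply]
    exact sub_eq_sub_iff_sub_eq_sub.mp h2
  have hfc : ∀ x y x' y', x ∈ K → y ∈ K → x' ∈ K → y' ∈ K → ∀ i j, i ≠ j → i < p → j < p →
      ∀ v, f x y i (f x' y' j v) = f x' y' j (f x y i v) := by
    intro x y x' y' hx hy hx' hy' i j hij hi hj v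
    have hc : Commute (f x y i) (f x' y' j) := by
      have h : ∀ z ∈ K, ∀ z' ∈ K, Commute (ρ (cj a i z)) (ρ (cj a j z')) :=
        fun z hz z' hz' => (hM.cj_commute hij hi hj hz hz').map ρ
      have hm := K.mul_mem (K.mul_mem hy hx) (K.inv_mem hy)
      have hm' := K.mul_mem (K.mul_mem hy' hx') (K.inv_mem hy')
      exact ((h _ hm _ hm').sub_right (h _ hm _ hx')).sub_left ((h _ hx _ hm').sub_right (h _ hx _ hx'))
    exact LinearMap.congr_fun hc.eq v
  have hfE : ∀ x ∈ K, ∀ y ∈ K, ∀ x' ∈ K, ∀ y' ∈ K, ∀ e ∈ E0,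
      f x y 0 (f x' y' 0 e) = f x' y' 0 (f x y 0 e) := by
    intro x hx y hy x' hx' y' hy' e he
    have h21 : f x y 2 e = f x y 0 e := by
      have := congrArg (ρ a) (hf01 x hx y hy e he)
      rw [hfa x y 1 e he, hfa x y 0 e he] at this
      rw [this, hf01 x hx y hy e he]
    calc f x y 0 (f x' y' 0 e) = f x y 0 (f x' y' 1 e) := by rw [hf01 x' hx' y' hy' e he]
      _ = f x' y' 1 (f x y 0 e) := hfc _ _ _ _ hx hy hx' hy' 0 1 (by omega) (by omega) (by omega) e
      _ = f x' y' 1 (f x y 2 e) := by rw [h21]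
      _ = f x y 2 (f x' y' 1 e) := hfc _ _ _ _ hx' hy' hx hy 1 2 (by omega) (by omega) (by omega) e
      _ = f x y 2 (f x' y' 0 e) := by rw [hf01 x' hx' y' hy' e he]
      _ = f x' y' 0 (f x y 2 e) := hfc _ _ _ _ hx hy hx' hy' 2 0 (by omega) (by omega) (by omega) e
      _ = _ := by rw [h21]
  -- propagate to the whole module
  let S : Subgroup G := Subgroup.centralizer (K : Set G)
  let gen : Set G := {g | ∃ c ∈ A, ∃ x ∈ K, c * x * c⁻¹ = g}
  let M : Submodule (ZMod p) V := Submodule.span (ZMod p) {w | ∃ g ∈ Subgroup.closure gen, ∃ e ∈ E0, ρ g e = w}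
  let Z : Submodule (ZMod p) V := ⨅ x : ↥K, ⨅ y : ↥K, ⨅ x' : ↥K, ⨅ y' : ↥K,
    LinearMap.ker (f x y 0 * f x' y' 0 - f x' y' 0 * f x y 0)
  have hZ : ∀ v, v ∈ Z ↔ ∀ x ∈ K, ∀ y ∈ K, ∀ x' ∈ K, ∀ y' ∈ K,
      f x y 0 (f x' y' 0 v) = f x' y' 0 (f x y 0 v) := by
    intro v
    simp only [Z, Submodule.mem_iInf, LinearMap.mem_ker, LinearMap.sub_apply, Module.End.mul_apply,
      sub_eq_zero]
    exact ⟨fun h x hx y hy x' hx' y' hy' => h ⟨x, hx⟩ ⟨y, hy⟩ ⟨x', hx'⟩ ⟨y', hy'⟩,
      fun h x y x' y' => h x x.2 y y.2 x' x'.2 y' y'.2⟩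
  -- the span of `E0` under the centralizer
  let T : Submodule (ZMod p) V := Submodule.span (ZMod p) {w | ∃ s ∈ S, ∃ e ∈ E0, ρ s e = w}
  have hTS : ∀ s ∈ S, ∀ v ∈ T, ρ s v ∈ T := by
    intro s hs v hv
    refine (Submodule.span_le (p := T.comap (ρ s))).mpr ?_ hv
    rintro _ ⟨t, ht, e, he, rfl⟩
    exact Submodule.subset_span ⟨s * t, S.mul_mem hs ht, e, he, rho_mul ρ s t e⟩
  have hTK : ∀ x ∈ K, ∀ v ∈ T, ρ x v ∈ T := by
    intro x hx v hv
    refine (Submodule.span_le (p := T.comap (ρ x))).mpr ?_ hv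
    rintro _ ⟨t, ht, e, he, rfl⟩
    obtain ⟨r, hr⟩ : ∃ r, r = a * dd a (p - 1) x * a⁻¹ := ⟨_, rfl⟩
    have hrS : r ∈ S := by
      refine Subgroup.mem_centralizer_iff.mpr fun y hy => ?_
      rw [hr]
      exact (hM.shift_commute hx hy (by omega : p - 1 < p)).eq
    have hxr : dd a p x = x * r := by
      rw [hr, dd_succ_shift, Nat.sub_add_cancel hpp.one_le]
    have hxe : ρ x e = ρ r⁻¹ e := by
      have h := congrArg (ρ r⁻¹) (hEdd x hx e he)
      rw [hxr, show x * r = r * x from (Subgroup.mem_centralizer_iff.mp hrS x hx), rho_mul,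
        rho_inv_apply] at h
      exact h
    show ρ x (ρ t e) ∈ T
    rw [rho_comm ρ (Subgroup.mem_centralizer_iff.mp ht x hx), hxe]
    exact hTS t ht _ (Submodule.subset_span ⟨r⁻¹, S.inv_mem hrS, e, he, rfl⟩)
  have hTgen : ∀ g ∈ gen, ∀ v ∈ T, ρ g v ∈ T := by
    rintro g ⟨c, hc, x, hx, rfl⟩ v hv
    rcases hcc c hc with h | h
    · exact hTK _ (h x hx) v hv
    · exact hTS _ (Subgroup.mem_centralizer_iff.mpr fun y hy => (h x hx y hy).symm.eq) v hv
  have hgeninv : ∀ g ∈ gen, g⁻¹ ∈ gen := by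
    rintro g ⟨c, hc, x, hx, rfl⟩
    exact ⟨c, hc, x⁻¹, K.inv_mem hx, by group⟩
  have hTN : ∀ g ∈ Subgroup.closure gen, (∀ v ∈ T, ρ g v ∈ T) ∧ ∀ v ∈ T, ρ g⁻¹ v ∈ T := by
    intro g hg
    induction hg using Subgroup.closure_induction with
    | mem g hg => exact ⟨hTgen g hg, hTgen _ (hgeninv g hg)⟩
    | one =>
      constructor <;> intro v hv <;> simpa using hv
    | mul g h _ _ hg hh =>
      refine ⟨fun v hv => by rw [rho_mul]; exact hg.1 _ (hh.1 v hv), fun v hv => ?_⟩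
      rw [mul_inv_rev, rho_mul]
      exact hh.2 _ (hg.2 v hv)
    | inv g _ hg => exact ⟨hg.2, by simpa using hg.1⟩
  have hTZ : T ≤ Z := by
    refine Submodule.span_le.mpr ?_
    rintro _ ⟨s, hs, e, he, rfl⟩
    refine (hZ _).mpr fun x hx y hy x' hx' y' hy' => ?_
    have hcomm : ∀ x ∈ K, ∀ y ∈ K, ∀ w, f x y 0 (ρ s w) = ρ s (f x y 0 w) := by
      intro x hx y hy w
      simp only [f, cj_zero, LinearMap.sub_apply, map_sub]
      rw [rho_comm ρ (Subgroup.mem_centralizer_iff.mp hs _ (K.mul_mem (K.mul_mem hy hx) (K.inv_mem hy))),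
        rho_comm ρ (Subgroup.mem_centralizer_iff.mp hs x hx)]
    rw [hcomm x' hx' y' hy', hcomm x hx y hy, hfE x hx y hy x' hx' y' hy' e he, ← hcomm x' hx' y' hy',
      ← hcomm x hx y hy]
  have hMT : M ≤ T := by
    refine Submodule.span_le.mpr ?_
    rintro _ ⟨g, hg, e, he, rfl⟩
    exact (hTN g hg).1 e (Submodule.subset_span ⟨1, S.one_mem, e, he, rho_one ρ e⟩)
  have hMtop : M = ⊤ := by
    refine (hirr M ?_ ?_).resolve_left ?_
    · intro c hc v hv
      refine (Submodule.span_le (p := M.comap (ρ c))).mpr ?_ hv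
      rintro _ ⟨g, hg, e, he, rfl⟩
      refine Submodule.subset_span ⟨c * g * c⁻¹, ?_, ρ c e, ?_, rho_conj ρ c g e⟩
      · have hle : Subgroup.closure gen ≤ (Subgroup.closure gen).comap (MulAut.conj c).toMonoidHom := by
          rw [Subgroup.closure_le]
          rintro _ ⟨d, hd, x, hx, rfl⟩
          refine Subgroup.subset_closure ⟨c * d, A.mul_mem hc hd, x, hx, ?_⟩
          simp [MulAut.conj_apply, mul_assoc]
        simpa [MulAut.conj_apply] using hle hg
      · obtain ⟨hk, w, rfl⟩ := he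
        have hcn : ∀ z, n (ρ c z) = ρ c (n z) := fun z => by
          rw [hnv, hnv, map_sub, rho_comm ρ (hab a ha c hc)]
        refine ⟨?_, ρ c w, hcn w⟩
        rw [SetLike.mem_coe, LinearMap.mem_ker, hcn, LinearMap.mem_ker.mp hk, map_zero]
    · intro x hx v hv
      refine (Submodule.span_le (p := M.comap (ρ x))).mpr ?_ hv
      rintro _ ⟨g, hg, e, he, rfl⟩
      exact Submodule.subset_span ⟨x * g,
        Subgroup.mul_mem _ (Subgroup.subset_closure ⟨1, A.one_mem, x, hx, by group⟩) hg, e, he,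
        rho_mul ρ x g e⟩
    · obtain ⟨e, he, he0⟩ := hE0
      intro h
      exact he0 ((Submodule.eq_bot_iff _).mp h e
        (Submodule.subset_span ⟨1, Subgroup.one_mem _, e, he, rho_one ρ e⟩))
  have hall : ∀ x ∈ K, ∀ y ∈ K, ∀ x' ∈ K, ∀ y' ∈ K, Commute (f x y 0) (f x' y' 0) :=
    fun x hx y hy x' hx' y' hy' => endo_ext fun v => by
      rw [Module.End.mul_apply, Module.End.mul_apply]
      exact (hZ v).mp (hTZ (hMT (hMtop ▸ Submodule.mem_top))) x hx y hy x' hx' y' hy'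
  -- commutators of the image algebra
  let c₁ : G → G → Module.End (ZMod p) V := fun g h => ρ g * ρ h - ρ h * ρ g
  have hcf : ∀ g h, c₁ g h = f (h * g) g 0 := fun g h => by
    simp only [c₁, f, cj_zero, ← map_mul]
    congr 2
    group
  have hc1 : ∀ g ∈ K, ∀ h ∈ K, ∀ g' ∈ K, ∀ h' ∈ K, Commute (c₁ g h) (c₁ g' h') :=
    fun g hg h hh g' hg' h' hh' => by
      rw [hcf, hcf]; exact hall _ (K.mul_mem hh hg) g hg _ (K.mul_mem hh' hg') g' hg'
  let L : Submodule (ZMod p) (Module.End (ZMod p) V) := Submodule.span (ZMod p) (ρ '' (K : Set G))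
  let F : Submodule (ZMod p) (Module.End (ZMod p) V) :=
    Submodule.span (ZMod p) {z | ∃ g ∈ K, ∃ h ∈ K, c₁ g h = z}
  have hLmul : ∀ r ∈ L, ∀ s ∈ L, r * s ∈ L := by
    intro r hr s hs
    induction hr using Submodule.span_induction with
    | mem r hr =>
      induction hs using Submodule.span_induction with
      | mem s hs =>
        obtain ⟨g, hg, rfl⟩ := hr
        obtain ⟨h, hh, rfl⟩ := hs
        exact Submodule.subset_span ⟨g * h, K.mul_mem hg hh, map_mul _ _ _⟩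
      | zero => rw [mul_zero]; exact zero_mem _
      | add s t _ _ hs ht => rw [mul_add]; exact add_mem hs ht
      | smul c s _ hs => rw [mul_smul_comm]; exact L.smul_mem c hs
    | zero => rw [zero_mul]; exact zero_mem _
    | add r t _ _ hr ht => rw [add_mul]; exact add_mem hr ht
    | smul c r _ hr => rw [smul_mul_assoc]; exact L.smul_mem c hr
  have hLF : ∀ r ∈ L, ∀ s ∈ L, r * s - s * r ∈ F := by
    intro r hr s hs
    induction hr using Submodule.span_induction with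
    | mem r hr =>
      induction hs using Submodule.span_induction with
      | mem s hs =>
        obtain ⟨g, hg, rfl⟩ := hr
        obtain ⟨h, hh, rfl⟩ := hs
        exact Submodule.subset_span ⟨g, hg, h, hh, rfl⟩
      | zero => simp
      | add s t _ _ hs ht => rw [mul_add, add_mul, add_sub_add_comm]; exact add_mem hs ht
      | smul c s _ hs => rw [mul_smul_comm, smul_mul_assoc, ← smul_sub]; exact F.smul_mem c hs
    | zero => simp
    | add r t _ _ hr ht => rw [mul_add, add_mul, add_sub_add_comm]; exact add_mem hr ht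
    | smul c r _ hr => rw [smul_mul_assoc, mul_smul_comm, ← smul_sub]; exact F.smul_mem c hr
  have hFF : ∀ z ∈ F, ∀ w ∈ F, Commute z w := by
    intro z hz w hw
    induction hz using Submodule.span_induction with
    | mem z hz =>
      induction hw using Submodule.span_induction with
      | mem w hw =>
        obtain ⟨g, hg, h, hh, rfl⟩ := hz
        obtain ⟨g', hg', h', hh', rfl⟩ := hw
        exact hc1 g hg h hh g' hg' h' hh'
      | zero => exact Commute.zero_right _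
      | add s t _ _ hs ht => exact hs.add_right ht
      | smul c s _ hs => exact hs.smul_right c
    | zero => exact Commute.zero_left _
    | add r t _ _ hr ht => exact hr.add_left ht
    | smul c r _ hr => exact hr.smul_left c
  haveI : CharP (Module.End (ZMod p) V) p := charP_of_injective_algebraMap' (ZMod p) p
  have hnilc : ∀ g ∈ K, ∀ h ∈ K, c₁ g h ^ 4 = 0 := by
    intro g hg h hh
    have h2 := comm_pow_four (L : Set (Module.End (ZMod p) V)) hLmul (fun r hr s hs => sub_mem hr hs)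
      (fun r hr s hs r' hr' s' hs' => hFF _ (hLF r hr s hs) _ (hLF r' hr' s' hs'))
      (Submodule.subset_span ⟨g, hg, rfl⟩ : ρ g ∈ L) (Submodule.subset_span ⟨h, hh, rfl⟩ : ρ h ∈ L)
    have hu : IsUnit (2 : ZMod p) := by
      refine isUnit_iff_ne_zero.mpr ?_
      intro h20
      have h20' : ((2 : ℕ) : ZMod p) = 0 := by exact_mod_cast h20
      exact absurd (Nat.le_of_dvd two_pos ((ZMod.natCast_eq_zero_iff _ _).mp h20')) (by omega)
    have e : (2 : Module.End (ZMod p) V) * c₁ g h ^ 4 = (2 : ZMod p) • c₁ g h ^ 4 := by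
      rw [two_mul, two_smul]
    rw [e] at h2
    exact hu.smul_eq_zero.mp h2
  -- common kernel
  refine not_hasFix ρ hcc hirr hnt fun T hT hTd => ?_
  have hTK : ∀ x ∈ K, ∀ v ∈ T, ρ x v ∈ T := fun x hx v hv => by
    simpa using hTd 1 A.one_mem x hx v hv
  classical
  haveI := Fintype.ofFinite ↥K
  have hker : ∀ t : Finset (↥K × ↥K), ∃ v ∈ T, v ≠ 0 ∧ ∀ i ∈ t, c₁ i.1 i.2 v = 0 := by
    intro t
    induction t using Finset.induction with
    | empty =>
      obtain ⟨v, hv, hv0⟩ := Submodule.exists_mem_ne_zero_of_ne_bot hT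
      exact ⟨v, hv, hv0, fun i hi => absurd hi (by simp)⟩
    | insert i t hi ih =>
      obtain ⟨v, hv, hv0, hvt⟩ := ih
      obtain ⟨z, hz⟩ : ∃ z, z = c₁ i.1 i.2 := ⟨_, rfl⟩
      have hex : ∃ m, (z ^ m) v = 0 := ⟨4, by rw [hz, hnilc _ i.1.2 _ i.2.2]; rfl⟩
      obtain ⟨m, hm⟩ : ∃ m, Nat.find hex = m + 1 := by
        refine ⟨Nat.find hex - 1, ?_⟩
        have : Nat.find hex ≠ 0 := fun h => hv0 (by simpa [h] using Nat.find_spec hex)
        omega
      refine ⟨(z ^ m) v, ?_, Nat.find_min hex (by omega), ?_⟩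
      · clear hm
        induction m with
        | zero => simpa using hv
        | succ m ihm =>
          rw [pow_succ', Module.End.mul_apply, hz]
          have hz1 : c₁ i.1 i.2 = ρ i.1 * ρ i.2 - ρ i.2 * ρ i.1 := rfl
          rw [hz1, LinearMap.sub_apply, Module.End.mul_apply, Module.End.mul_apply, ← hz1, ← hz]
          exact sub_mem (hTK _ i.1.2 _ (hTK _ i.2.2 _ ihm)) (hTK _ i.2.2 _ (hTK _ i.1.2 _ ihm))
      · intro j hj
        rcases Finset.mem_insert.mp hj with rfl | hj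
        · have := Nat.find_spec hex
          rw [hm, pow_succ', Module.End.mul_apply] at this
          rw [← hz]
          exact this
        · have hcj : Commute (c₁ j.1 j.2) (z ^ m) := by
            rw [hz]; exact (hc1 _ j.1.2 _ j.2.2 _ i.1.2 _ i.2.2).pow_right m
          rw [← Module.End.mul_apply, hcj.eq, Module.End.mul_apply, hvt j hj, map_zero]
  obtain ⟨v, hv, hv0, hvk⟩ := hker Finset.univ
  let J : Submodule (ZMod p) V :=
    T ⊓ ⨅ i : ↥K × ↥K, LinearMap.ker (c₁ i.1 i.2)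
  have hJ : ∀ w, w ∈ J ↔ w ∈ T ∧ ∀ g ∈ K, ∀ h ∈ K, c₁ g h w = 0 := by
    intro w
    simp only [J, Submodule.mem_inf, Submodule.mem_iInf, LinearMap.mem_ker]
    exact ⟨fun h => ⟨h.1, fun g hg k hk => h.2 (⟨g, hg⟩, ⟨k, hk⟩)⟩,
      fun h => ⟨h.1, fun i => h.2 _ i.1.2 _ i.2.2⟩⟩
  have hvJ : v ∈ J := (hJ v).mpr ⟨hv, fun g hg h hh => hvk (⟨g, hg⟩, ⟨h, hh⟩) (Finset.mem_univ _)⟩
  have hJK : ∀ x ∈ K, ∀ w ∈ (J : Set V), ρ x w ∈ (J : Set V) := by
    intro x hx w hw
    obtain ⟨hwT, hwk⟩ := (hJ w).mp hw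
    refine (hJ _).mpr ⟨hTK x hx w hwT, fun g hg h hh => ?_⟩
    have hcx : c₁ g h ∈ L := sub_mem (hLmul _ (Submodule.subset_span ⟨g, hg, rfl⟩) _
      (Submodule.subset_span ⟨h, hh, rfl⟩)) (hLmul _ (Submodule.subset_span ⟨h, hh, rfl⟩) _
      (Submodule.subset_span ⟨g, hg, rfl⟩))
    have hmem := hLF _ hcx (ρ x) (Submodule.subset_span ⟨x, hx, rfl⟩)
    have hkill : ∀ z ∈ F, z w = 0 := fun z hz => by
      induction hz using Submodule.span_induction with
      | mem z hz => obtain ⟨g', hg', h', hh', rfl⟩ := hz; exact hwk g' hg' h' hh'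
      | zero => rfl
      | add z z' _ _ h1 h2 => rw [LinearMap.add_apply, h1, h2, add_zero]
      | smul c z _ h1 => rw [LinearMap.smul_apply, h1, smul_zero]
    have e := hkill _ hmem
    rw [LinearMap.sub_apply, Module.End.mul_apply, Module.End.mul_apply, hwk g hg h hh, map_zero,
      sub_zero] at e
    exact e
  refine ⟨v, hv, hv0, fun x hx => ?_⟩
  refine triv_of_comm ρ hK (J : Set V) hJK (fun g hg h hh w hw => ?_) x hx v hvJ
  have e := ((hJ w).mp hw).2 g hg h hh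
  rw [map_mul, map_mul]
  exact sub_eq_zero.mp e

end Cfsg.Agent.LocalEvenB.PGV
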