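import Cfsg.Agent.Lib.LocalEvenB.Isolated
import Cfsg.Agent.Lib.Coprime23.Omega
import Cfsg.Agent.Lib.Transfer.Fusion
import Cfsg.Agent.Lib.Components.FStar
import Cfsg.Agent.Lib.Components.PPrimeCore
import Cfsg.Prelude.Def_CaseTheorems
import Cfsg.Prelude.Def_Local

/-!
# An isolated element of odd prime order in a group of `p`-rank at most two
-/

set_option autoImplicit false

namespace Cfsg.Agent.LocalEvenB.RankTwoIso

open Subgroup

/-- A group in whose Sylow `p`-subgroup the elements of order `p` are not fused is `p`-nilpotent. -/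
theorem complement_of_unfused {H : Type*} [Group H] [Finite H] {p : ℕ} [Fact p.Prime] (hp : p ≠ 2)
    (P : Sylow p H)
    (h : ∀ e ∈ (P : Subgroup H), e ^ p = 1 → ∀ g : H, g * e * g⁻¹ ∈ (P : Subgroup H) → g * e * g⁻¹ = e) :
    Cfsg.HasNormalPComplement p H := by
  refine Transfer.hasNormalPComplement_of_frobenius fun D hD g hg hcop => ?_
  let ρ := D.normalizerMonoidHom
  have hord : (orderOf (ρ ⟨g, hg⟩)).Coprime p :=
    Nat.Coprime.coprime_dvd_left ((orderOf_map_dvd ρ _).trans (by rw [← Subgroup.orderOf_coe])) hcop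
  obtain ⟨k, hk⟩ := sylow_conj_le P hD
  have hfix := Coprime23.fix_of_fix_omega hD hp (ρ ⟨g, hg⟩) hord (fun x hx => by
    have hx1 : k⁻¹ * (x : H) * k ∈ (P : Subgroup H) := mem_conjMap.1 (hk x.2)
    have hgx : g * (x : H) * g⁻¹ ∈ D := (Subgroup.mem_normalizer_iff.1 hg x).1 x.2
    have hx2 : k⁻¹ * (g * (x : H) * g⁻¹) * k ∈ (P : Subgroup H) := mem_conjMap.1 (hk hgx)
    have hpow : (k⁻¹ * (x : H) * k) ^ p = 1 := by
      have : (x : H) ^ p = 1 := congrArg Subtype.val hx
      calc (k⁻¹ * (x : H) * k) ^ p = k⁻¹ * (x : H) ^ p * (k⁻¹)⁻¹ := by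
            rw [← conj_pow, inv_inv]
        _ = 1 := by rw [this]; group
    have h1 := h _ hx1 hpow (k⁻¹ * g * k) (by simpa [mul_assoc] using hx2)
    refine Subtype.ext ?_
    show g * (x : H) * g⁻¹ = x
    calc g * (x : H) * g⁻¹
        = k * ((k⁻¹ * g * k) * (k⁻¹ * (x : H) * k) * (k⁻¹ * g * k)⁻¹) * k⁻¹ := by group
      _ = x := by rw [h1]; group)
  refine Subgroup.mem_centralizer_iff.2 fun d hd => ?_
  have h2 : g * d * g⁻¹ = d := congrArg Subtype.val (hfix ⟨d, hd⟩)
  exact (mul_inv_eq_iff_eq_mul.1 h2).symm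

/-- A quasisimple group of order divisible by `p` has no normal `p`-complement. -/
theorem no_complement {X : Type*} [Group X] [Finite X] {p : ℕ} [Fact p.Prime]
    (hX : Cfsg.IsQuasisimple X) (hd : p ∣ Nat.card X) : ¬ Cfsg.HasNormalPComplement p X := by
  rintro ⟨P, N, hN, hc⟩
  rcases Components.qs_normal_cases hX N with h | h
  · have h1 := hc.index_eq_card
    rw [h, Subgroup.card_top] at h1
    exact P.not_dvd_index (h1 ▸ hd)
  · refine Components.qs_not_isSolvable hX ?_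
    have := hN
    have : Group.IsSolvable (X ⧸ N) := by
      have hP : IsPGroup p (X ⧸ N) := by
        obtain ⟨k, hk⟩ := P.isPGroup'.exists_card_eq
        refine IsPGroup.of_card (n := k) ?_
        rw [← Subgroup.index_eq_card, hc.symm.index_eq_card, hk]
      have := hP.isNilpotent
      infer_instance
    have : Group.IsSolvable N := by
      refine Group.isSolvable_of_comm fun a b => Subtype.ext ?_
      exact (Subgroup.mem_center_iff.1 (h b.2) a)
    exact Group.isSolvable_of_ker_le_range N.subtype (QuotientGroup.mk' N) (by simp)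

/-- If `R` is a Sylow subgroup of `M` and `L` is normal in `M`, a Sylow subgroup of `M` meets `L` in
a Sylow subgroup of `L`. -/
theorem inf_sylow {G : Type*} [Group G] [Finite G] {p : ℕ} [Fact p.Prime] {L M : Subgroup G}
    (hLM : L ≤ M) (hM : M ≤ normalizer (L : Set G)) (R : Sylow p M) (P : Sylow p G)
    (hRP : (R : Subgroup M).map M.subtype ≤ (P : Subgroup G)) :
    ∃ Q : Sylow p L, (Q : Subgroup L).map L.subtype = (P : Subgroup G) ⊓ L := by
  have hp : IsPGroup p (((P : Subgroup G)).subgroupOf L) := P.isPGroup'.comap_subtype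
  obtain ⟨Q, hQ⟩ := hp.exists_le_sylow
  refine ⟨Q, (Subgroup.eq_of_le_of_card_ge ?_ ?_).symm⟩
  · intro y hy
    exact ⟨⟨y, hy.2⟩, hQ (Subgroup.mem_subgroupOf.2 hy.1), rfl⟩
  obtain ⟨m, hm⟩ := sylow_conj_le R (R := ((Q : Subgroup L).map L.subtype).subgroupOf M)
    (Q.isPGroup'.map _).comap_subtype
  have hle : (Q : Subgroup L).map L.subtype ≤
      ((P : Subgroup G) ⊓ L).map (MulAut.conj (m : G)).toMonoidHom := by
    rintro y ⟨z, hz, rfl⟩
    have h1 := mem_conjMap.1 (hm (show (⟨z, hLM z.2⟩ : M) ∈ _ from ⟨z, hz, rfl⟩))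
    refine mem_conjMap.2 (Subgroup.mem_inf.2 ⟨hRP ⟨_, h1, rfl⟩, ?_⟩)
    exact ((Subgroup.mem_normalizer_iff''.1 (hM m.2)) z).1 z.2
  exact (Subgroup.card_le_of_le hle).trans (conjMap_card _ _).le

variable {G : Type*} [Group G] [Finite G] {p : ℕ} [Fact p.Prime]

/-- In `p`-rank two, two independent commuting elements of order `p` generate every element of
exponent `p` commuting with both. -/
theorem mem_sup_of_rank (hrk : Cfsg.PRankLE p 2 G) {a b c : G} (ha : a ^ p = 1) (hb : b ^ p = 1)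
    (hc : c ^ p = 1) (ha1 : a ≠ 1) (hba : b ∉ zpowers a) (hab : Commute a b) (hac : Commute a c)
    (hbc : Commute b c) : c ∈ zpowers a ⊔ zpowers b := by
  set A := Subgroup.closure ({a, b, c} : Set G) with hA
  have hcomm : ∀ u ∈ A, ∀ v ∈ A, u * v = v * u := by
    have h1 : A ≤ centralizer ({a, b, c} : Set G) := by
      rw [hA, Subgroup.closure_le]
      intro u hu
      refine Subgroup.mem_centralizer_iff.2 fun v hv => ?_
      simp only [Set.mem_insert_iff, Set.mem_singleton_iff] at hu hv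
      rcases hu with rfl | rfl | rfl <;> rcases hv with rfl | rfl | rfl <;>
        first
          | rfl
          | exact hab.eq | exact hab.eq.symm | exact hac.eq | exact hac.eq.symm
          | exact hbc.eq | exact hbc.eq.symm
    have h2 : A ≤ centralizer (A : Set G) := by
      rw [hA, Subgroup.centralizer_closure]; exact h1
    exact fun u hu v hv => (Subgroup.mem_centralizer_iff.1 (h2 hu) v hv).symm
  have hexp : ∀ u ∈ A, u ^ p = 1 := by
    intro u hu
    induction hu using Subgroup.closure_induction with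
    | mem y hy =>
      rcases hy with rfl | rfl | rfl <;> assumption
    | one => exact one_pow p
    | mul y z hy hz iy iz => rw [Commute.mul_pow (hcomm y hy z hz), iy, iz, one_mul]
    | inv y _ iy => rw [inv_pow, iy, inv_one]
  have hcard := hrk A ⟨⟨fun u v => Subtype.ext (hcomm u u.2 v v.2)⟩⟩ hexp
  set B := zpowers a ⊔ zpowers b
  have hBA : B ≤ A := sup_le (Subgroup.zpowers_le.2 (Subgroup.subset_closure (by simp)))
    (Subgroup.zpowers_le.2 (Subgroup.subset_closure (by simp)))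
  have hAp : IsPGroup p A := fun u => ⟨1, Subtype.ext (by simpa using hexp u u.2)⟩
  obtain ⟨k, hk⟩ := (hAp.to_le hBA).exists_card_eq
  have hlt : p < Nat.card B := by
    have h0 : Nat.card (zpowers a) = p := by rw [Nat.card_zpowers]; exact orderOf_eq_prime ha ha1
    have h1 := Subgroup.card_le_of_le (le_sup_left : zpowers a ≤ B)
    rcases eq_or_lt_of_le (h0 ▸ h1) with h2 | h2
    · exact absurd ((Subgroup.eq_of_le_of_card_ge (le_sup_left : zpowers a ≤ B) (by omega)).ge
        (mem_sup_right (mem_zpowers b))) hba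
    · exact h2
  have hk2 : 2 ≤ k := by
    by_contra hk'
    have h2 : p ^ k ≤ p ^ 1 := Nat.pow_le_pow_right (Fact.out : p.Prime).pos (by omega)
    rw [pow_one, ← hk] at h2
    omega
  have hBA' : B = A := Subgroup.eq_of_le_of_card_ge hBA
    (hcard.trans (hk ▸ Nat.pow_le_pow_right (Fact.out : p.Prime).pos hk2))
  exact hBA'.ge (Subgroup.subset_closure (by simp))

/-- A component of a group with trivial `O_{p'}` has order divisible by `p`. -/
theorem dvd_component (hcore : Cfsg.pPrimeCore p G = ⊥) {L : Subgroup G}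
    (hL : Cfsg.IsComponent L) : p ∣ Nat.card L := by
  by_contra hd
  refine Components.isComponent_ne_bot hL (le_bot_iff.1 (hcore ▸ ?_))
  exact Components.subnormal_coprime_le_pPrimeCore hL.1
    ((Nat.Prime.coprime_iff_not_dvd Fact.out).2 hd).symm

/-- A component has a non-central element of order `p`. -/
theorem exists_noncentral (hp : p ≠ 2) (hcore : Cfsg.pPrimeCore p G = ⊥) {L : Subgroup G}
    (hL : Cfsg.IsComponent L) :
    ∃ a ∈ L, a ^ p = 1 ∧ a ∉ centralizer (L : Set G) := by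
  by_contra hall
  push Not at hall
  obtain ⟨P⟩ : Nonempty (Sylow p L) := inferInstance
  refine no_complement hL.2 (dvd_component hcore hL) (complement_of_unfused hp P fun e he hep g _ => ?_)
  refine Subtype.ext ?_
  have h1 := Subgroup.mem_centralizer_iff.1 (hall e e.2 (by
    rw [← Subgroup.coe_pow, hep, Subgroup.coe_one])) g g.2
  show (g : G) * e * (g : G)⁻¹ = e
  rw [h1, mul_inv_cancel_right]

/-- At most two components. -/
theorem not_three (hp : p ≠ 2) (hcore : Cfsg.pPrimeCore p G = ⊥) (hrk : Cfsg.PRankLE p 2 G)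
    {L₁ L₂ L₃ : Subgroup G} (h₁ : Cfsg.IsComponent L₁) (h₂ : Cfsg.IsComponent L₂)
    (h₃ : Cfsg.IsComponent L₃) (h12 : L₁ ≠ L₂) (h13 : L₁ ≠ L₃) (h23 : L₂ ≠ L₃) : False := by
  have hc : ∀ {K K' : Subgroup G}, Cfsg.IsComponent K → Cfsg.IsComponent K' → K ≠ K' →
      K ≤ centralizer (K' : Set G) := fun hK hK' hne =>
    commutator_eq_bot_iff_le_centralizer.1 ((Components.component_eq_or_commute hK hK').resolve_left hne)
  obtain ⟨a₁, m₁, p₁, n₁⟩ := exists_noncentral hp hcore h₁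
  obtain ⟨a₂, m₂, p₂, n₂⟩ := exists_noncentral hp hcore h₂
  obtain ⟨a₃, m₃, p₃, n₃⟩ := exists_noncentral hp hcore h₃
  have hcm : ∀ {K K' : Subgroup G} {u v : G}, Cfsg.IsComponent K → Cfsg.IsComponent K' → K ≠ K' →
      u ∈ K → v ∈ K' → Commute u v := fun hK hK' hne hu hv =>
    (Subgroup.mem_centralizer_iff.1 (hc hK hK' hne hu) _ hv).symm
  have hne2 : a₂ ∉ zpowers a₁ := fun h => n₂ (hc h₁ h₂ h12 (Subgroup.zpowers_le.2 m₁ h))
  have ha1 : a₁ ≠ 1 := fun h => n₁ (h ▸ one_mem _)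
  have h3 := mem_sup_of_rank hrk p₁ p₂ p₃ ha1 hne2 (hcm h₁ h₂ h12 m₁ m₂) (hcm h₁ h₃ h13 m₁ m₃)
    (hcm h₂ h₃ h23 m₂ m₃)
  refine n₃ ?_
  exact sup_le ((Subgroup.zpowers_le.2 m₁).trans (hc h₁ h₃ h13))
    ((Subgroup.zpowers_le.2 m₂).trans (hc h₂ h₃ h23)) h3

section main

variable (hp : p ≠ 2) (hcore : Cfsg.pPrimeCore p G = ⊥) (hrk : Cfsg.PRankLE p 2 G)
  {x : G} (hx : orderOf x = p) (hiso : Cfsg.IsIsolated x)

include hp hcore hrk hx

/-- `x` normalizes every component. -/
theorem normalizes_component {L : Subgroup G} (hL : Cfsg.IsComponent L) :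
    x ∈ normalizer (L : Set G) := by
  by_contra hxL
  have hne : ∀ i : ℕ, 0 < i → i < p → L ≠ L.map (MulAut.conj (x ^ i)).toMonoidHom := by
    intro i hi hip he
    apply hxL
    have h1 : x ^ i ∈ normalizer (L : Set G) := mem_normalizer_of_conjMap_le he.ge
    have hcop : i.Coprime (orderOf x) := by
      rw [hx]
      exact ((Nat.Prime.coprime_iff_not_dvd Fact.out).2
        (Nat.not_dvd_of_pos_of_lt hi hip)).symm
    obtain ⟨m, hm⟩ := exists_pow_eq_self_of_coprime hcop
    rw [← hm]; exact pow_mem h1 m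
  have hp3 : 3 ≤ p := by
    have := (Fact.out : p.Prime).two_le
    omega
  refine not_three hp hcore hrk hL (Components.isComponent_conj (x ^ 1) hL)
    (Components.isComponent_conj (x ^ 2) hL) (hne 1 one_pos (by omega)) (hne 2 two_pos (by omega))
    fun he => hne 1 one_pos (by omega) ?_
  refine Subgroup.map_injective (f := (MulAut.conj (x ^ 1)).toMonoidHom) (MulAut.conj (x ^ 1)).injective ?_
  show L.map (MulAut.conj (x ^ 1)).toMonoidHom = (L.map (MulAut.conj (x ^ 1)).toMonoidHom).map (MulAut.conj (x ^ 1)).toMonoidHom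
  rw [conjMap_conjMap, ← pow_add]
  exact he

include hiso

theorem exists_component (hnc : x ∉ Subgroup.center G) : ∃ L : Subgroup G, Cfsg.IsComponent L := by
  by_contra hno
  push Not at hno
  have hlay : Cfsg.layer G = ⊥ := Components.layer_eq_bot_iff.2 hno
  obtain ⟨hOn, hOp⟩ := pCore_spec (G := G) p
  have hF : Cfsg.generalizedFittingSubgroup G ≤ Cfsg.pCore p G := by
    rw [Cfsg.generalizedFittingSubgroup, hlay, bot_sup_eq, Components.fitting_eq_iSup_pCore]
    refine iSup_le fun q => ?_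
    by_cases hq : (q : ℕ) = p
    · rw [hq]
    · have : Fact (q : ℕ).Prime := ⟨Nat.prime_of_mem_primeFactors q.2⟩
      obtain ⟨hqn, hqp⟩ := pCore_spec (G := G) (q : ℕ)
      obtain ⟨k, hk⟩ := hqp.exists_card_eq
      have h1 := le_pPrimeCore hqn (p := p)
        (by rw [hk]; exact ((Nat.coprime_primes Fact.out Fact.out).2 hq).pow_left k)
      rw [hcore, le_bot_iff] at h1
      rw [h1]; exact bot_le
  obtain ⟨P, hP⟩ := (isPGroup_zpowers (x := x) ⟨1, by rw [hx, pow_one]⟩).exists_le_sylow (p := p)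
  have hxC : x ∈ centralizer (Cfsg.generalizedFittingSubgroup G : Set G) :=
    Subgroup.mem_centralizer_iff.2 fun y hy => Subgroup.mem_centralizer_singleton_iff.1
      (iso_le_centralizer hiso P.isPGroup' (hP (mem_zpowers x)) (pCore_le_sylow P (hF hy)))
  have hxO := hF (Components.centralizer_fStar_le hxC)
  refine hnc (Subgroup.mem_center_iff.2 fun g => mul_inv_eq_iff_eq_mul.1 (hiso g ?_))
  exact (Subgroup.mem_centralizer_singleton_iff.1
    (iso_le_centralizer hiso hOp hxO (hOn.conj_mem x hxO g))).symm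

theorem pCore_eq_bot (hnc : x ∉ Subgroup.center G) : Cfsg.pCore p G = ⊥ := by
  by_contra hne
  obtain ⟨hOn, hOp⟩ := pCore_spec (G := G) p
  obtain ⟨L, hL⟩ := exists_component hp hcore hrk hx hiso hnc
  set M := normalizer (L : Set G)
  have hxM : x ∈ M := normalizes_component hp hcore hrk hx hL
  obtain ⟨R, hR⟩ := (isPGroup_zpowers (x := (⟨x, hxM⟩ : M))
    ⟨1, by rw [← Subgroup.orderOf_coe, pow_one]; exact hx⟩).exists_le_sylow (p := p)
  obtain ⟨P, hP⟩ := (R.isPGroup'.map M.subtype).exists_le_sylow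
  have hxP : x ∈ (P : Subgroup G) := hP ⟨_, hR (mem_zpowers _), rfl⟩
  have hxPc : ∀ y ∈ (P : Subgroup G), y * x = x * y := fun y hy =>
    Subgroup.mem_centralizer_singleton_iff.1 (iso_le_centralizer hiso P.isPGroup' hxP hy)
  obtain ⟨Q, hQ⟩ := inf_sylow Subgroup.le_normalizer le_rfl R P hP
  -- a central element of order `p` in `O_p(G)`
  haveI : Group.IsNilpotent (P : Subgroup G) := P.isPGroup'.isNilpotent
  obtain ⟨⟨z0, hz0P⟩, hz0O, hz0c, hz01⟩ := exists_mem_center_ne_one
    ((Cfsg.pCore p G).subgroupOf (P : Subgroup G)) (fun hb => hne (by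
      rw [Subgroup.subgroupOf_eq_bot] at hb
      exact hb.eq_bot_of_le (pCore_le_sylow P)))
  have hz01' : z0 ≠ 1 := fun h => hz01 (Subtype.ext h)
  obtain ⟨k, hk⟩ := P.isPGroup'.exists_orderOf_eq_pow (⟨z0, hz0P⟩ : (P : Subgroup G))
  rw [← Subgroup.orderOf_coe] at hk
  simp only at hk
  have hk0 : k ≠ 0 := by rintro rfl; rw [pow_zero, orderOf_eq_one_iff] at hk; exact hz01' hk
  set z := z0 ^ p ^ (k - 1) with hzdef
  have hzp : z ^ p = 1 := by
    rw [hzdef, ← pow_mul, ← pow_succ, Nat.sub_add_cancel (Nat.one_le_iff_ne_zero.2 hk0), ← hk,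
      pow_orderOf_eq_one]
  have hz1 : z ≠ 1 := by
    intro h
    have h1 := orderOf_dvd_of_pow_eq_one h
    rw [hk, Nat.pow_dvd_pow_iff_le_right (Fact.out : p.Prime).one_lt] at h1
    omega
  have hzO : z ∈ Cfsg.pCore p G := pow_mem (Subgroup.mem_subgroupOf.1 hz0O) _
  have hzP : z ∈ (P : Subgroup G) := pow_mem hz0P _
  have hzc : ∀ y ∈ (P : Subgroup G), Commute y z := fun y hy =>
    (show Commute y z0 from congrArg Subtype.val (Subgroup.mem_center_iff.1 hz0c ⟨y, hy⟩)).pow_right _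
  have hxp : x ^ p = 1 := by rw [← hx, pow_orderOf_eq_one]
  have hx1 : x ≠ 1 := by
    intro h; rw [h, orderOf_one] at hx; exact (Fact.out : p.Prime).one_lt.ne hx
  have hzx : z ∉ zpowers x := by
    intro hz
    have hzx' : zpowers z = zpowers x := by
      refine Subgroup.eq_of_le_of_card_ge (Subgroup.zpowers_le.2 hz) ?_
      rw [Nat.card_zpowers, Nat.card_zpowers, hx, orderOf_eq_prime hzp hz1]
    have hxO : x ∈ Cfsg.pCore p G :=
      Subgroup.zpowers_le.2 hzO (hzx'.ge (mem_zpowers x))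
    refine hnc (Subgroup.mem_center_iff.2 fun g => mul_inv_eq_iff_eq_mul.1 (hiso g ?_))
    exact (Subgroup.mem_centralizer_singleton_iff.1
      (iso_le_centralizer hiso hOp hxO (hOn.conj_mem x hxO g))).symm
  have hzL : ∀ g ∈ L, Commute g z := by
    intro g hg
    have hzF : z ∈ Cfsg.fittingSubgroup G := Components.pCore_le_fitting hzO
    exact (Subgroup.mem_centralizer_iff.1
      (Components.layer_le_centralizer_fitting (Components.component_le_layer hL hg)) z hzF).symm
  refine no_complement hL.2 (dvd_component hcore hL) (complement_of_unfused hp Q fun e he hep g hge => ?_)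
  have heP : (e : G) ∈ (P : Subgroup G) := (hQ.le ⟨e, he, rfl⟩).1
  have hgeP : (g : G) * e * (g : G)⁻¹ ∈ (P : Subgroup G) := (hQ.le ⟨_, hge, rfl⟩).1
  have hmem : (e : G) ∈ zpowers x ⊔ zpowers z :=
    mem_sup_of_rank hrk hxp hzp (by rw [← Subgroup.coe_pow, hep, Subgroup.coe_one]) hx1 hzx
      (hxPc z hzP).symm (hxPc _ heP).symm (hzc _ heP).symm
  rw [← SetLike.mem_coe, Subgroup.coe_mul_of_right_le_normalizer_left _ _ ?_] at hmem
  swap
  · rw [Subgroup.zpowers_le]
    refine mem_normalizer_of_conj_mem fun y hy => ?_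
    obtain ⟨i, rfl⟩ := Subgroup.mem_zpowers_iff.1 hy
    rw [((hzc x hxP).symm.zpow_right i).eq, mul_inv_cancel_right]
    exact hy
  obtain ⟨u, hu, v, hv, huv⟩ := hmem
  obtain ⟨i, rfl⟩ := Subgroup.mem_zpowers_iff.1 hu
  obtain ⟨j, rfl⟩ := Subgroup.mem_zpowers_iff.1 hv
  simp only at huv
  refine Subtype.ext ?_
  show (g : G) * e * (g : G)⁻¹ = e
  have hgz : (g : G) * z ^ j * (g : G)⁻¹ = z ^ j := by
    rw [((hzL g g.2).zpow_right j).eq, mul_inv_cancel_right]
  have hconj : (g : G) * e * (g : G)⁻¹ = ((g : G) * x ^ i * (g : G)⁻¹) * z ^ j := by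
    rw [← huv]
    conv_rhs => rw [← hgz]
    group
  rw [hconj, ← huv]
  congr 1
  have hi : (g : G) * x ^ i * (g : G)⁻¹ ∈ (P : Subgroup G) := by
    rw [hconj] at hgeP
    exact (Subgroup.mul_mem_cancel_right _ (zpow_mem hzP j)).1 hgeP
  by_cases hxi : x ^ i = 1
  · rw [hxi]; group
  have hgen : zpowers (x ^ i) = zpowers x := by
    refine Subgroup.eq_of_le_of_card_ge (Subgroup.zpowers_le.2 (zpow_mem (mem_zpowers x) i)) ?_
    rw [Nat.card_zpowers, Nat.card_zpowers, hx, orderOf_eq_prime (p := p) ?_ hxi]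
    rw [← zpow_natCast, ← zpow_mul, mul_comm, zpow_mul, zpow_natCast, hxp, one_zpow]
  obtain ⟨m, hm⟩ := Subgroup.mem_zpowers_iff.1 (hgen.ge (mem_zpowers x))
  have hgx : (g : G) * x * (g : G)⁻¹ ∈ (P : Subgroup G) := by
    conv => arg 2; rw [← hm, ← conj_zpow]
    exact zpow_mem hi m
  rw [← conj_zpow, iso_conj_eq hiso P.isPGroup' hxP hgx]

theorem component_props (hnc : x ∉ Subgroup.center G) {L : Subgroup G} (hL : Cfsg.IsComponent L) :
    IsSimpleGroup L ∧ L ⊓ centralizer (L : Set G) = ⊥ := by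
  have hF : Cfsg.fittingSubgroup G = ⊥ := by
    rw [Components.fitting_eq_iSup_pCore, iSup_eq_bot]
    intro q
    by_cases hq : (q : ℕ) = p
    · rw [hq]; exact pCore_eq_bot hp hcore hrk hx hiso hnc
    · have : Fact (q : ℕ).Prime := ⟨Nat.prime_of_mem_primeFactors q.2⟩
      obtain ⟨hqn, hqp⟩ := pCore_spec (G := G) (q : ℕ)
      obtain ⟨k, hk⟩ := hqp.exists_card_eq
      have h1 := le_pPrimeCore hqn (p := p)
        (by rw [hk]; exact ((Nat.coprime_primes Fact.out Fact.out).2 hq).pow_left k)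
      rwa [hcore, le_bot_iff] at h1
  have hZ : L ⊓ centralizer (L : Set G) = ⊥ := by
    rw [← le_bot_iff, ← hF, ← Components.map_subtype_center]
    refine Components.nilpotent_subnormal_le_fitting
      ((Components.isSubnormal_map_subtype_iff hL.1 _).2 (Components.isSubnormal_of_normal _)) ?_
    have : Group.IsNilpotent (Subgroup.center L) :=
      ⟨⟨1, by
        rw [Subgroup.upperCentralSeries_one, eq_top_iff]
        exact fun a _ => Subgroup.mem_center_iff.2 fun b =>
          Subtype.ext (Subgroup.mem_center_iff.1 a.2 b)⟩⟩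
    exact Group.nilpotent_of_mulEquiv
      ((Subgroup.center L).equivMapOfInjective _ L.subtype_injective)
  refine ⟨?_, hZ⟩
  have hZ' : Subgroup.center L = ⊥ := by
    rw [← Subgroup.map_eq_bot_iff_of_injective _ L.subtype_injective, Components.map_subtype_center, hZ]
  have := hL.2.2
  exact ((QuotientGroup.quotientMulEquivOfEq hZ').trans QuotientGroup.quotientBot).isSimpleGroup_congr.1 this

theorem component_unique (hnc : x ∉ Subgroup.center G) {L₁ L₂ : Subgroup G}
    (h₁ : Cfsg.IsComponent L₁) (h₂ : Cfsg.IsComponent L₂) : L₁ = L₂ := by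
  by_contra hne
  set M := normalizer (L₁ : Set G) ⊓ normalizer (L₂ : Set G)
  have hxM : x ∈ M := ⟨normalizes_component hp hcore hrk hx h₁, normalizes_component hp hcore hrk hx h₂⟩
  have hc12 : L₁ ≤ centralizer (L₂ : Set G) :=
    commutator_eq_bot_iff_le_centralizer.1 ((Components.component_eq_or_commute h₁ h₂).resolve_left hne)
  have hc21 : L₂ ≤ centralizer (L₁ : Set G) := Subgroup.le_centralizer_iff.1 hc12
  have hL₁M : L₁ ≤ M := le_inf Subgroup.le_normalizer (hc12.trans (Subgroup.centralizer_le_normalizer _))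
  have hL₂M : L₂ ≤ M := le_inf (hc21.trans (Subgroup.centralizer_le_normalizer _)) Subgroup.le_normalizer
  obtain ⟨R, hR⟩ := (isPGroup_zpowers (x := (⟨x, hxM⟩ : M))
    ⟨1, by rw [← Subgroup.orderOf_coe, pow_one]; exact hx⟩).exists_le_sylow (p := p)
  obtain ⟨P, hP⟩ := (R.isPGroup'.map M.subtype).exists_le_sylow
  have hxP : x ∈ (P : Subgroup G) := hP ⟨_, hR (mem_zpowers _), rfl⟩
  have hxp : x ^ p = 1 := by rw [← hx, pow_orderOf_eq_one]
  have hx1 : x ≠ 1 := by
    intro h; rw [h, orderOf_one] at hx; exact (Fact.out : p.Prime).one_lt.ne hx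
  have hxPc : ∀ y ∈ (P : Subgroup G), Commute x y := fun y hy =>
    (Subgroup.mem_centralizer_singleton_iff.1 (iso_le_centralizer hiso P.isPGroup' hxP hy)).symm
  have central : ∀ L : Subgroup G, Cfsg.IsComponent L → L ≤ M → M ≤ normalizer (L : Set G) →
      ∃ Q : Sylow p L, ∃ a : G, a ∈ L ∧ a ∈ (P : Subgroup G) ∧ a ^ p = 1 ∧ a ≠ 1 ∧
        (Q : Subgroup L).map L.subtype = (P : Subgroup G) ⊓ L ∧
        ∀ y ∈ (P : Subgroup G), y ∈ L → Commute a y := by
    intro L hL hLM hML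
    obtain ⟨Q, hQ⟩ := inf_sylow hLM hML R P hP
    have : Nontrivial (Q : Subgroup L) := by
      rw [Subgroup.nontrivial_iff_ne_bot]
      exact Q.ne_bot_of_dvd_card (dvd_component hcore hL)
    obtain ⟨n, hn, hn'⟩ := (Q.isPGroup'.to_subgroup (Subgroup.center (Q : Subgroup L))).nontrivial_iff_card.mp
      Q.isPGroup'.center_nontrivial
    obtain ⟨a, ha⟩ := exists_prime_orderOf_dvd_card' p (hn' ▸ dvd_pow_self p hn.ne')
    rw [← Subgroup.orderOf_coe, ← Subgroup.orderOf_coe, ← Subgroup.orderOf_coe] at ha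
    refine ⟨Q, (((a : (Q : Subgroup L)) : L) : G), ((a : (Q : Subgroup L)) : L).2,
      (hQ.le ⟨_, (a : (Q : Subgroup L)).2, rfl⟩).1, orderOf_dvd_iff_pow_eq_one.1 (dvd_of_eq ha), ?_, hQ, fun y hy hyL => ?_⟩
    · intro h; rw [h, orderOf_one] at ha; exact (Fact.out : p.Prime).one_lt.ne ha
    · obtain ⟨⟨y', hy'⟩, hyQ, hy''⟩ := hQ.ge ⟨hy, hyL⟩
      simp only [Subgroup.coe_subtype] at hy''
      subst hy''
      have h1 := congrArg (fun w : (Q : Subgroup L) => ((w : L) : G))
        (Subgroup.mem_center_iff.1 a.2 (⟨⟨y', hy'⟩, hyQ⟩ : (Q : Subgroup L)))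
      exact h1.symm
  obtain ⟨Q₁, a₁, m₁, q₁, p₁, n₁, hQ₁, c₁⟩ := central L₁ h₁ hL₁M inf_le_left
  obtain ⟨Q₂, a₂, m₂, q₂, p₂, n₂, hQ₂, c₂⟩ := central L₂ h₂ hL₂M inf_le_right
  have hZ₁ := (component_props hp hcore hrk hx hiso hnc h₁).2
  have hZ₂ := (component_props hp hcore hrk hx hiso hnc h₂).2
  have hcm : ∀ u ∈ L₁, ∀ v ∈ L₂, Commute u v := fun u hu v hv =>
    (Subgroup.mem_centralizer_iff.1 (hc12 hu) v hv).symm
  have hdis : ∀ y ∈ L₁, y ∈ L₂ → y = 1 := fun y hy hy' => by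
    have : y ∈ L₁ ⊓ centralizer (L₁ : Set G) := ⟨hy, hc21 hy'⟩
    rwa [hZ₁, Subgroup.mem_bot] at this
  have ha21 : a₂ ∉ zpowers a₁ := fun h => n₂ (hdis a₂ (Subgroup.zpowers_le.2 m₁ h) m₂)
  have hdecomp : ∀ c : G, c ^ p = 1 → Commute a₁ c → Commute a₂ c →
      ∃ i j : ℤ, a₁ ^ i * a₂ ^ j = c := by
    intro c hc h1 h2
    have hmem := mem_sup_of_rank hrk p₁ p₂ hc n₁ ha21 (hcm a₁ m₁ a₂ m₂) h1 h2
    rw [← SetLike.mem_coe, Subgroup.coe_mul_of_right_le_normalizer_left _ _ ?_] at hmem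
    swap
    · rw [Subgroup.zpowers_le]
      refine mem_normalizer_of_conj_mem fun y hy => ?_
      obtain ⟨i, rfl⟩ := Subgroup.mem_zpowers_iff.1 hy
      rw [((hcm a₁ m₁ a₂ m₂).symm.zpow_right i).eq, mul_inv_cancel_right]
      exact hy
    obtain ⟨u, hu, v, hv, huv⟩ := hmem
    obtain ⟨i, rfl⟩ := Subgroup.mem_zpowers_iff.1 hu
    obtain ⟨j, rfl⟩ := Subgroup.mem_zpowers_iff.1 hv
    exact ⟨i, j, huv⟩
  obtain ⟨i, j, hij⟩ := hdecomp x hxp (hxPc a₁ q₁).symm (hxPc a₂ q₂).symm
  -- the factor where `x` has a nontrivial part is `p`-nilpotent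
  have unf : ∀ (L L' : Subgroup G), Cfsg.IsComponent L → ∀ (Q : Sylow p L),
      (Q : Subgroup L).map L.subtype = (P : Subgroup G) ⊓ L →
      ∀ (a b : G) (i j : ℤ), a ∈ L → a ^ p = 1 → b ∈ L' → b ∈ (P : Subgroup G) →
      (∀ u ∈ L, ∀ v ∈ L', Commute u v) →
      (∀ e ∈ L, e ∈ (P : Subgroup G) → e ^ p = 1 → e ∈ zpowers a) →
      a ^ i * b ^ j = x → a ^ i ≠ 1 → False := by
    intro L L' hL Q hQ a b i j ha hap hb hbP hcm' hgen hij' hai
    refine no_complement hL.2 (dvd_component hcore hL) (complement_of_unfused hp Q fun e he hep g hge => ?_)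
    refine Subtype.ext ?_
    show (g : G) * e * (g : G)⁻¹ = e
    have heP := (hQ.le ⟨e, he, rfl⟩).1
    have hgeP : (g : G) * e * (g : G)⁻¹ ∈ (P : Subgroup G) := (hQ.le ⟨_, hge, rfl⟩).1
    have hea := hgen e e.2 heP (by rw [← Subgroup.coe_pow, hep, Subgroup.coe_one])
    by_cases he1 : (e : G) = 1
    · rw [he1]; group
    have ha1 : a ≠ 1 := by rintro rfl; exact hai (one_zpow i)
    have heq : zpowers (e : G) = zpowers a := by
      refine Subgroup.eq_of_le_of_card_ge (Subgroup.zpowers_le.2 hea) ?_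
      rw [Nat.card_zpowers, Nat.card_zpowers, orderOf_eq_prime hap ha1,
        orderOf_eq_prime (by rw [← Subgroup.coe_pow, hep, Subgroup.coe_one]) he1]
    obtain ⟨m, hm⟩ := Subgroup.mem_zpowers_iff.1 (heq.ge (zpow_mem (mem_zpowers a) i))
    have hgb : (g : G) * b ^ j * (g : G)⁻¹ = b ^ j := by
      rw [((hcm' g g.2 b hb).zpow_right j).eq, mul_inv_cancel_right]
    have hconj : (g : G) * x * (g : G)⁻¹ = ((g : G) * a ^ i * (g : G)⁻¹) * b ^ j := by
      rw [← hij']
      conv_rhs => rw [← hgb]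
      group
    have hgx : (g : G) * x * (g : G)⁻¹ ∈ (P : Subgroup G) := by
      rw [hconj, ← hm, ← conj_zpow]
      exact mul_mem (zpow_mem hgeP m) (zpow_mem hbP j)
    have h1 := iso_conj_eq hiso P.isPGroup' hxP hgx
    rw [hconj] at h1
    conv_rhs at h1 => rw [← hij']
    have h2 : Commute (g : G) (a ^ i) := mul_inv_eq_iff_eq_mul.1 (mul_right_cancel h1)
    have heq2 : zpowers (a ^ i) = zpowers a := by
      refine Subgroup.eq_of_le_of_card_ge (Subgroup.zpowers_le.2 (zpow_mem (mem_zpowers a) i)) ?_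
      rw [Nat.card_zpowers, Nat.card_zpowers, orderOf_eq_prime hap ha1, orderOf_eq_prime (p := p) ?_ hai]
      rw [← zpow_natCast, ← zpow_mul, mul_comm, zpow_mul, zpow_natCast, hap, one_zpow]
    obtain ⟨n, hn⟩ := Subgroup.mem_zpowers_iff.1 (heq2.ge hea)
    rw [← hn, (h2.zpow_right n).eq, mul_inv_cancel_right]
  have hgen₁ : ∀ e ∈ L₁, e ∈ (P : Subgroup G) → e ^ p = 1 → e ∈ zpowers a₁ := by
    intro e he heP hep
    obtain ⟨s, t, hst⟩ := hdecomp e hep (c₁ e heP he) (hcm e he a₂ m₂).symm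
    have h1 : a₂ ^ t = 1 := by
      refine hdis _ ?_ (zpow_mem m₂ t)
      have e1 : a₂ ^ t = (a₁ ^ s)⁻¹ * e := by rw [← hst, inv_mul_cancel_left]
      rw [e1]
      exact mul_mem (inv_mem (zpow_mem m₁ s)) he
    exact ⟨s, by rw [← hst, h1, mul_one]⟩
  have hgen₂ : ∀ e ∈ L₂, e ∈ (P : Subgroup G) → e ^ p = 1 → e ∈ zpowers a₂ := by
    intro e he heP hep
    obtain ⟨s, t, hst⟩ := hdecomp e hep (hcm a₁ m₁ e he) (c₂ e heP he)
    have h1 : a₁ ^ s = 1 := by
      refine hdis _ (zpow_mem m₁ s) ?_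
      have e1 : a₁ ^ s = e * (a₂ ^ t)⁻¹ := by rw [← hst, mul_inv_cancel_right]
      rw [e1]
      exact mul_mem he (inv_mem (zpow_mem m₂ t))
    exact ⟨t, by rw [← hst, h1, one_mul]⟩
  by_cases hi : a₁ ^ i = 1
  · refine unf L₂ L₁ h₂ Q₂ hQ₂ a₂ a₁ j i m₂ p₂ m₁ q₁ (fun u hu v hv => (hcm v hv u hu).symm) hgen₂
      ?_ fun hj => hx1 ?_
    · rw [← hij, (((hcm a₁ m₁ a₂ m₂).zpow_left i).zpow_right j).eq]
    · rw [← hij, hi, hj, one_mul]
  · exact unf L₁ L₂ h₁ Q₁ hQ₁ a₁ a₂ i j m₁ p₁ m₂ q₂ hcm hgen₁ hij hi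

theorem fStar_component (hnc : x ∉ Subgroup.center G) :
    Cfsg.IsComponent (Cfsg.generalizedFittingSubgroup G) := by
  obtain ⟨L, hL⟩ := exists_component hp hcore hrk hx hiso hnc
  suffices h : Cfsg.generalizedFittingSubgroup G = L by rwa [h]
  refine le_antisymm (sup_le ?_ ?_) ((Components.component_le_layer hL).trans le_sup_left)
  · exact Components.layer_le_iff.2 fun K hK => (component_unique hp hcore hrk hx hiso hnc hK hL).le
  · rw [Components.fitting_eq_iSup_pCore]
    refine iSup_le fun q => ?_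
    by_cases hq : (q : ℕ) = p
    · rw [hq, pCore_eq_bot hp hcore hrk hx hiso hnc]; exact bot_le
    · have : Fact (q : ℕ).Prime := ⟨Nat.prime_of_mem_primeFactors q.2⟩
      obtain ⟨hqn, hqp⟩ := pCore_spec (G := G) (q : ℕ)
      obtain ⟨k, hk⟩ := hqp.exists_card_eq
      have h1 := le_pPrimeCore hqn (p := p)
        (by rw [hk]; exact ((Nat.coprime_primes Fact.out Fact.out).2 hq).pow_left k)
      rw [hcore, le_bot_iff] at h1
      rw [h1]; exact bot_le

end main

end Cfsg.Agent.LocalEvenB.RankTwoIso
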