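import Cfsg.Prelude.Def_SubgroupEmbedding
import Cfsg.Agent.S3012
import Cfsg.Agent.Lib.LocalEvenA.Core
import Cfsg.Agent.Lib.Components.FStar
import Cfsg.Agent.Lib.Components.Layer
import Cfsg.Agent.Lib.Components.Quasisimple
import Cfsg.Agent.Lib.Basics.Cores
import Cfsg.Agent.Lib.ConjFunctor.Basic
import Cfsg.Agent.Lib.InvChar.FourMeets

/-!
# A minimal counterexample to the Sidki pair statement is almost simple
-/

set_option autoImplicit false
set_option linter.unusedSectionVars false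

namespace Cfsg.Agent.SidkiMin

open Subgroup Cfsg

universe u

variable {G : Type u} [Group G] [Finite G]

/-- A minimal counterexample (with respect to the order of the group). -/
structure Hyp (V : Subgroup G) : Prop where
  el : IsElementaryAbelian 2 V
  ne : V ≠ ⊥
  sidki : IsSidkiPair V
  meet : V ⊓ pCore 2 G = ⊥
  minG : ∀ (H : Type u) [Group H] [Finite H] (W : Subgroup H), Nat.card H < Nat.card G →
    IsElementaryAbelian 2 W → W ≠ ⊥ → IsSidkiPair W → W ⊓ pCore 2 H ≠ ⊥

theorem eq_one_of_sq {d : G} (hd : Odd (orderOf d)) (h : d * d = 1) : d = 1 := by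
  have h1 : orderOf d ∣ 2 := orderOf_dvd_of_pow_eq_one (by rw [pow_two]; exact h)
  exact orderOf_eq_one_iff.1 (Nat.eq_one_of_dvd_coprimes (Nat.coprime_two_left.2 hd) h1 dvd_rfl)

theorem eq_one_of_two_pow {d : G} (hd : Odd (orderOf d)) {k : ℕ} (h : orderOf d ∣ 2 ^ k) : d = 1 :=
  orderOf_eq_one_iff.1
    (Nat.eq_one_of_dvd_coprimes ((Nat.coprime_two_left.2 hd).pow_left k) h dvd_rfl)

namespace Hyp

variable {V : Subgroup G} (h : Hyp V)

include h

theorem sq {v : G} (hv : v ∈ V) : v * v = 1 := by rw [← pow_two]; exact h.el.2 v hv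

theorem inv_eq {v : G} (hv : v ∈ V) : v⁻¹ = v := inv_eq_of_mul_eq_one_right (h.sq hv)

theorem comm {u v : G} (hu : u ∈ V) (hv : v ∈ V) : Commute u v :=
  congrArg Subtype.val (h.el.1.is_comm.comm ⟨u, hu⟩ ⟨v, hv⟩)

/-- A smaller pair inside `G` meets the core of its group. -/
theorem meets_of_pair {H W : Subgroup G} (hWV : W ≤ V) (hWH : W ≤ H) (hW : W ≠ ⊥) (hH : H ≠ ⊤)
    (hpair : ∀ k ∈ H, ∀ u ∈ W, Odd (orderOf k) → u * k * u⁻¹ = k⁻¹ → k ≠ 1 →
      ∃ w ∈ W, w ≠ 1 ∧ Commute w k) :
    ∃ (v : G) (hv : v ∈ H), v ∈ W ∧ v ≠ 1 ∧ (⟨v, hv⟩ : H) ∈ pCore 2 H := by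
  obtain ⟨⟨w0, hw0⟩, hw0'⟩ := ne_bot_iff_exists_ne_one.1 hW
  have hw01 : w0 ≠ 1 := fun e => hw0' (Subtype.ext e)
  have hlt : Nat.card H < Nat.card G := by
    refine lt_of_le_of_ne (Subgroup.card_le_card_group H) fun e => hH ?_
    exact Subgroup.eq_top_of_card_eq H e
  have hel : IsElementaryAbelian 2 (W.subgroupOf H) := by
    refine ⟨⟨⟨fun a b => ?_⟩⟩, fun a ha => ?_⟩
    · exact Subtype.ext (Subtype.ext (h.comm (hWV a.2) (hWV b.2)).eq)
    · exact Subtype.ext (by rw [SubmonoidClass.coe_pow]; exact h.el.2 _ (hWV ha))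
  have hne : W.subgroupOf H ≠ ⊥ := fun e => hw01 (by
    have : (⟨w0, hWH hw0⟩ : H) ∈ W.subgroupOf H := hw0
    rw [e, mem_bot] at this
    exact congrArg Subtype.val this)
  have hS : IsSidkiPair (W.subgroupOf H) := by
    intro k u hu hodd hinv
    by_cases hk : k = 1
    · exact ⟨⟨w0, hWH hw0⟩, hw0, fun e => hw01 (congrArg Subtype.val e), by rw [hk, mul_one, one_mul]⟩
    · rw [← Subgroup.orderOf_coe] at hodd
      obtain ⟨w, hw, hw1, hwk⟩ := hpair k k.2 u hu hodd (congrArg Subtype.val hinv)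
        (fun e => hk (Subtype.ext e))
      exact ⟨⟨w, hWH hw⟩, hw, fun e => hw1 (congrArg Subtype.val e), Subtype.ext hwk⟩
  obtain ⟨⟨v, hv⟩, hv1⟩ := ne_bot_iff_exists_ne_one.1 (h.minG H _ hlt hel hne hS)
  exact ⟨v.1, v.2, hv.1, fun e => hv1 (Subtype.ext (Subtype.ext e)), hv.2⟩

theorem core_eq_bot : pCore 2 G = ⊥ := by
  haveI : Fact (Nat.Prime 2) := ⟨Nat.prime_two⟩
  by_contra hK
  obtain ⟨K, hKdef⟩ : ∃ K, K = pCore 2 G := ⟨_, rfl⟩
  haveI : K.Normal := hKdef ▸ inferInstance
  rw [← hKdef] at hK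
  have hlt : Nat.card (G ⧸ K) < Nat.card G := by
    rw [← Subgroup.index_eq_card, ← Subgroup.card_mul_index K]
    have h1 : 1 < Nat.card K := Finite.one_lt_card_iff_nontrivial.2 ((nontrivial_iff_ne_bot K).2 hK)
    exact lt_mul_left (Nat.pos_of_ne_zero index_ne_zero_of_finite) h1
  have hVK : V ⊓ K = ⊥ := hKdef ▸ h.meet
  have hel : IsElementaryAbelian 2 (V.map (QuotientGroup.mk' K)) := by
    refine ⟨⟨⟨?_⟩⟩, ?_⟩
    · rintro ⟨_, a, ha, rfl⟩ ⟨_, b, hb, rfl⟩
      exact Subtype.ext (by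
        show QuotientGroup.mk' K a * QuotientGroup.mk' K b = _
        rw [← map_mul, (h.comm ha hb).eq, map_mul]
        rfl)
    · rintro _ ⟨a, ha, rfl⟩
      rw [← map_pow, h.el.2 a ha, map_one]
  have hne : V.map (QuotientGroup.mk' K) ≠ ⊥ := by
    rw [Ne, Subgroup.map_eq_bot_iff, QuotientGroup.ker_mk']
    intro hle
    exact h.ne (by rw [← hVK, inf_of_le_left hle])
  have := h.minG (G ⧸ K) _ hlt hel hne (S3012.result V K h.el h.ne h.sidki hVK)
  subst hKdef
  rw [Basics.pCore_quotient_eq_bot] at this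
  exact this (inf_bot_eq _)

theorem subnormal_two_bot {K : Subgroup G} (hK : K.IsSubnormal) (hp : IsPGroup 2 K) : K = ⊥ :=
  le_bot_iff.1 (h.core_eq_bot ▸ LocalEvenA.subnormal_le_pCore hK hp)

/-- An element of `O₂` of a subgroup containing `N` centralizes `N`. -/
theorem commute_of_mem_core {H N : Subgroup G} (hN : N.IsSubnormal) (hNH : N ≤ H)
    (hn : H ≤ normalizer (N : Set G)) {v : G} (hv : v ∈ H) (hvc : (⟨v, hv⟩ : H) ∈ pCore 2 H) :
    ∀ n ∈ N, v * n = n * v := by
  haveI : Fact (Nat.Prime 2) := ⟨Nat.prime_two⟩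
  intro n hnN
  obtain ⟨M, hM⟩ : ∃ M, M = (pCore 2 H).map H.subtype ⊓ N := ⟨_, rfl⟩
  have hMN : M.IsSubnormal := by
    have h1 : (M.subgroupOf N).Normal := by
      refine ⟨fun m hm g => ?_⟩
      rw [mem_subgroupOf, hM] at hm ⊢
      obtain ⟨⟨w, hw, hwm⟩, hmN⟩ := hm
      refine ⟨⟨⟨g, hNH g.2⟩ * w * ⟨g, hNH g.2⟩⁻¹,
        (inferInstance : (pCore 2 H).Normal).conj_mem w hw _, ?_⟩,
        N.mul_mem (N.mul_mem g.2 hmN) (N.inv_mem g.2)⟩
      show (g : G) * H.subtype w * (g : G)⁻¹ = _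
      rw [hwm]; rfl
    have h2 := h1.isSubnormal.trans' hN
    rwa [subgroupOf_map_subtype, inf_of_le_left (hM ▸ inf_le_right)] at h2
  have hMbot : M = ⊥ := h.subnormal_two_bot hMN
    (((Basics.pCore_isPGroup (G := H) 2).map H.subtype).to_le (hM ▸ inf_le_left))
  have hmem : v * n * v⁻¹ * n⁻¹ ∈ M := by
    rw [hM]
    refine ⟨⟨⟨v, hv⟩ * (⟨n, hNH hnN⟩ * ⟨v, hv⟩⁻¹ * ⟨n, hNH hnN⟩⁻¹),
      (pCore 2 H).mul_mem hvc ((inferInstance : (pCore 2 H).Normal).conj_mem _
        ((pCore 2 H).inv_mem hvc) _), ?_⟩,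
      N.mul_mem ((mem_normalizer_iff.1 (hn hv) n).1 hnN) (N.inv_mem hnN)⟩
    show v * (n * v⁻¹ * n⁻¹) = _
    group
  rw [hMbot, mem_bot, mul_inv_eq_one, mul_inv_eq_iff_eq_mul] at hmem
  exact hmem

theorem odd_of_normal_comm {N : Subgroup G} [N.Normal] (hN : ∀ a ∈ N, ∀ b ∈ N, a * b = b * a) :
    ∀ n ∈ N, Odd (orderOf n) := by
  intro n hn
  rw [Nat.odd_iff]
  by_contra hev
  have h2 : 2 ∣ orderOf n := by omega
  have hsub : (zpowers (n ^ (orderOf n / 2))).IsSubnormal := by
    have hle : zpowers (n ^ (orderOf n / 2)) ≤ N := zpowers_le.2 (pow_mem hn _)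
    have h1 : ((zpowers (n ^ (orderOf n / 2))).subgroupOf N).Normal := by
      refine ⟨fun m hm g => ?_⟩
      rw [mem_subgroupOf] at hm ⊢
      show (g : G) * m * (g : G)⁻¹ ∈ _
      rwa [hN g g.2 m m.2, mul_inv_cancel_right]
    have h3 := h1.isSubnormal.trans' (Components.isSubnormal_of_normal N)
    rwa [subgroupOf_map_subtype, inf_of_le_left hle] at h3
  have ho : orderOf (n ^ (orderOf n / 2)) = 2 := by
    rw [orderOf_pow' _ (by have := Nat.div_pos (Nat.le_of_dvd (orderOf_pos n) h2) two_pos; omega)]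
    rw [Nat.gcd_eq_right (Nat.div_dvd_of_dvd h2), Nat.div_div_self h2 (orderOf_pos n).ne']
  have hb := h.subnormal_two_bot hsub (IsPGroup.of_card (n := 1) (by
    rw [Nat.card_zpowers, ho, pow_one]))
  rw [zpowers_eq_bot] at hb
  rw [hb, orderOf_one] at ho
  omega

/-- A nontrivial normal subgroup supplements `V`. -/
theorem sup_normal_eq_top (N : Subgroup G) [N.Normal] (hN : N ≠ ⊥) : V ⊔ N = ⊤ := by
  haveI : Fact (Nat.Prime 2) := ⟨Nat.prime_two⟩
  by_contra hne
  have hVNn : V ⊔ N ≤ normalizer (N : Set G) := by rw [normalizer_eq_top]; exact le_top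
  -- some element of `V` centralizes `N`
  obtain ⟨v, hvH, hvV, hv1, hvc⟩ := h.meets_of_pair (H := V ⊔ N) le_rfl le_sup_left h.ne hne
    (fun k _ u hu hodd hinv _ => by
      obtain ⟨w, hw, hw1, hwk⟩ := h.sidki k u hu hodd hinv
      exact ⟨w, hw, hw1, hwk⟩)
  have hvN := h.commute_of_mem_core (Components.isSubnormal_of_normal N) le_sup_right hVNn hvH hvc
  obtain ⟨C, hC⟩ : ∃ C, C = centralizer (N : Set G) := ⟨_, rfl⟩
  haveI hCn : C.Normal := hC ▸ inferInstance
  have hmemC : ∀ x, x ∈ C ↔ ∀ n ∈ N, n * x = x * n := fun x => by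
    rw [hC, mem_centralizer_iff]; rfl
  by_cases hCtop : C = ⊤
  · -- `N` is central
    have hNc : ∀ n ∈ N, ∀ g : G, n * g = g * n := fun n hn g =>
      (hmemC g).1 (hCtop ▸ mem_top g) n hn
    have hNodd := h.odd_of_normal_comm (N := N) (fun a ha b _ => hNc a ha b)
    have hVN : V ⊓ N = ⊥ := by
      rw [eq_bot_iff]
      intro x ⟨hx, hx'⟩
      exact mem_bot.2 (eq_one_of_sq (hNodd x hx') (h.sq hx))
    have hlt : Nat.card (G ⧸ N) < Nat.card G := by
      rw [← Subgroup.index_eq_card, ← Subgroup.card_mul_index N]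
      exact lt_mul_left (Nat.pos_of_ne_zero index_ne_zero_of_finite)
        (Finite.one_lt_card_iff_nontrivial.2 ((nontrivial_iff_ne_bot N).2 hN))
    have hel : IsElementaryAbelian 2 (V.map (QuotientGroup.mk' N)) := by
      refine ⟨⟨⟨?_⟩⟩, ?_⟩
      · rintro ⟨_, a, ha, rfl⟩ ⟨_, b, hb, rfl⟩
        exact Subtype.ext (by
          show QuotientGroup.mk' N a * QuotientGroup.mk' N b = _
          rw [← map_mul, (h.comm ha hb).eq, map_mul]
          rfl)
      · rintro _ ⟨a, ha, rfl⟩
        rw [← map_pow, h.el.2 a ha, map_one]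
    have hne' : V.map (QuotientGroup.mk' N) ≠ ⊥ := by
      rw [Ne, Subgroup.map_eq_bot_iff, QuotientGroup.ker_mk']
      intro hle
      exact h.ne (by rw [← hVN, inf_of_le_left hle])
    obtain ⟨⟨w, ⟨x, hx, hxw⟩, hwc⟩, hw1⟩ := ne_bot_iff_exists_ne_one.1
      (h.minG (G ⧸ N) _ hlt hel hne' (S3012.result V N h.el h.ne h.sidki hVN))
    obtain ⟨P, hP⟩ : ∃ P, P = (pCore 2 (G ⧸ N)).comap (QuotientGroup.mk' N) := ⟨_, rfl⟩
    haveI hPn : P.Normal := hP ▸ inferInstance
    have hxP : x ∈ P := by rw [hP, mem_comap, hxw]; exact hwc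
    obtain ⟨T⟩ : Nonempty (Sylow 2 P) := inferInstance
    have hTn : (T : Subgroup P).Normal := by
      -- `P` is the product of the central odd `N` and `T`
      have hgen : ∀ y : P, ∃ t ∈ (T : Subgroup P), ∃ n : P, (n : G) ∈ N ∧ y = t * n := by
        have hNP : N ≤ P := fun n hn => by
          rw [hP, mem_comap, QuotientGroup.mk'_apply, (QuotientGroup.eq_one_iff n).2 hn]
          exact one_mem _
        let q : P →* (G ⧸ N) := (QuotientGroup.mk' N).comp P.subtype
        have hq : q.range = pCore 2 (G ⧸ N) := by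
          rw [MonoidHom.range_eq_map, ← Subgroup.map_map, ← MonoidHom.range_eq_map, range_subtype,
            hP, Subgroup.map_comap_eq_self_of_surjective (QuotientGroup.mk'_surjective N)]
        have hsurj : Function.Surjective q.rangeRestrict := q.rangeRestrict_surjective
        intro y
        have hy : q.rangeRestrict y ∈ ((T.mapSurjective hsurj : Sylow 2 q.range) : Subgroup q.range) := by
          rw [← (T.mapSurjective hsurj).3 ((show IsPGroup 2 q.range by
            rw [hq]; exact Basics.pCore_isPGroup 2).to_subgroup ⊤) le_top]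
          exact mem_top _
        obtain ⟨t, ht, hty⟩ := hy
        refine ⟨t, ht, t⁻¹ * y, ?_, by group⟩
        rw [← QuotientGroup.eq_one_iff]
        have : q t = q y := congrArg Subtype.val hty
        show q (t⁻¹ * y) = 1
        rw [map_mul, map_inv, this, inv_mul_cancel]
      refine ⟨fun s hs y => ?_⟩
      obtain ⟨t, ht, n, hn, rfl⟩ := hgen y
      have hns : n * s * n⁻¹ = s := Subtype.ext (by
        show (n : G) * s * (n : G)⁻¹ = s
        rw [hNc _ hn s, mul_inv_cancel_right])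
      rw [show t * n * s * (t * n)⁻¹ = t * (n * s * n⁻¹) * t⁻¹ by group, hns]
      exact mul_mem (mul_mem ht hs) (inv_mem ht)
    have hTbot := h.subnormal_two_bot
      (hTn.isSubnormal.trans' (Components.isSubnormal_of_normal P)) (T.2.map P.subtype)
    have hxT : (⟨x, hxP⟩ : P) ∈ (T : Subgroup P) := by
      have hx2 : IsPGroup 2 (zpowers (⟨x, hxP⟩ : P)) := by
        obtain ⟨k, hk, hk'⟩ := (Nat.dvd_prime_pow Nat.prime_two).1 (orderOf_dvd_of_pow_eq_one
          (show x ^ 2 ^ 1 = 1 by rw [pow_one]; exact h.el.2 x hx))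
        exact IsPGroup.of_card (n := k) (by rw [Nat.card_zpowers, Subgroup.orderOf_mk, hk'])
      obtain ⟨S, hS⟩ := hx2.exists_le_sylow
      haveI := Sylow.unique_of_normal T hTn
      rw [Subsingleton.elim T S]
      exact hS (mem_zpowers _)
    have hxb : x ∈ (T : Subgroup P).map P.subtype := ⟨_, hxT, rfl⟩
    rw [hTbot, mem_bot] at hxb
    exact hw1 (Subtype.ext (hxw.symm.trans ((congrArg (QuotientGroup.mk' N) hxb).trans (map_one _))))
  · -- the pair inside the centralizer
    obtain ⟨W, hW⟩ : ∃ W, W = V ⊓ C := ⟨_, rfl⟩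
    have hvC : v ∈ C := (hmemC v).2 fun n hn => (hvN n hn).symm
    have hW1 : W ≠ ⊥ := fun e => hv1 (by
      have : v ∈ W := hW ▸ ⟨hvV, hvC⟩
      rwa [e, mem_bot] at this)
    obtain ⟨x, hxC, hxW, hx1, hxc⟩ := h.meets_of_pair (H := C) (W := W) (hW ▸ inf_le_left)
      (hW ▸ inf_le_right) hW1 hCtop (fun k hkC w hw hodd hinv hk => by
      rw [hW] at hw
      by_contra hno
      push Not at hno
      -- the centralizer of `k` in `V` is faithful on `N`
      obtain ⟨U, hU⟩ : ∃ U, U = V ⊓ centralizer ({k} : Set G) := ⟨_, rfl⟩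
      have hmemU : ∀ u, u ∈ U ↔ u ∈ V ∧ u * k = k * u := fun u => by
        rw [hU, mem_inf, mem_centralizer_singleton_iff]
      have hU1 : U ≠ ⊥ := fun e => by
        obtain ⟨u, hu, hu1, huk⟩ := h.sidki k w hw.1 hodd hinv
        have : u ∈ U := (hmemU u).2 ⟨hu, huk⟩
        rw [e, mem_bot] at this
        exact hu1 this
      have hUtop : U ⊔ N ≠ ⊤ := fun e => by
        have hle : U ⊔ N ≤ centralizer ({k} : Set G) := sup_le (hU ▸ inf_le_right) fun n hn => by
          rw [mem_centralizer_singleton_iff]; exact (hmemC k).1 hkC n hn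
        have hwk := mem_centralizer_singleton_iff.1 (hle (e ▸ mem_top w))
        rw [hwk, mul_inv_cancel_right] at hinv
        exact hk (eq_one_of_sq hodd (mul_eq_one_iff_eq_inv.2 hinv))
      obtain ⟨y, hyH, hyU, hy1, hyc⟩ := h.meets_of_pair (H := U ⊔ N) (W := U)
        (hU ▸ inf_le_left) le_sup_left hU1 hUtop (fun m hm u hu hmodd hminv hm1 => by
          obtain ⟨huV, huk⟩ := (hmemU u).1 hu
          -- odd elements lie in `N`
          have hmN : m ∈ N := by
            rw [← QuotientGroup.eq_one_iff]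
            obtain ⟨a, ha, b, hb, rfl⟩ := mem_sup_of_normal_right.1 hm
            refine eq_one_of_sq (hmodd.of_dvd_nat (orderOf_map_dvd (QuotientGroup.mk' N) _)) ?_
            show QuotientGroup.mk' N (a * b) * QuotientGroup.mk' N (a * b) = 1
            rw [map_mul, show QuotientGroup.mk' N b = 1 from (QuotientGroup.eq_one_iff b).2 hb,
              mul_one, ← map_mul, h.sq ((hmemU a).1 ha).1, map_one]
          have hkm : Commute k m := ((hmemC k).1 hkC m hmN).symm
          have hwm : w * m * w⁻¹ = m := by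
            rw [← (hmemC w).1 hw.2 m hmN, mul_inv_cancel_right]
          have huk' : u * k * u⁻¹ = k := by rw [huk, mul_inv_cancel_right]
          have hprod : w * u * (k * m) * (w * u)⁻¹ = (k * m)⁻¹ := by
            calc w * u * (k * m) * (w * u)⁻¹ = w * ((u * k * u⁻¹) * (u * m * u⁻¹)) * w⁻¹ := by group
              _ = (w * k * w⁻¹) * (w * m * w⁻¹)⁻¹ := by rw [huk', hminv]; group
              _ = (k * m)⁻¹ := by rw [hinv, hwm, mul_inv_rev, hkm.inv_inv.eq]
          obtain ⟨y, hy, hy1, hykm⟩ := h.sidki (k * m) (w * u) (V.mul_mem hw.1 huV)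
            ((hodd.mul hmodd).of_dvd_nat hkm.orderOf_mul_dvd_mul_orderOf) hprod
          have h1 : Commute y (k * m) := hykm
          have h2 : Commute y (k⁻¹ * m) := by
            have := h1.map (MulAut.conj w).toMonoidHom
            simp only [MulEquiv.toMonoidHom_eq_coe, MonoidHom.coe_coe, map_mul,
              MulAut.conj_apply, hinv, hwm] at this
            rwa [(h.comm hw.1 hy).eq, mul_inv_cancel_right] at this
          have h3 : Commute y (k ^ 2) := by
            have := h1.mul_right h2.inv_right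
            rwa [show k * m * (k⁻¹ * m)⁻¹ = k ^ 2 by rw [pow_two]; group] at this
          have hyk : Commute y k :=
            Invol.commute_of_mem_zpowers h3 (InvChar.mem_zpowers_sq hodd)
          refine ⟨y, (hmemU y).2 ⟨hy, hyk⟩, hy1, ?_⟩
          have := hyk.inv_right.mul_right h1
          rwa [inv_mul_cancel_left] at this)
      have hyN := h.commute_of_mem_core (Components.isSubnormal_of_normal N) le_sup_right
        (by rw [normalizer_eq_top]; exact le_top) hyH hyc
      obtain ⟨hyV, hyk⟩ := (hmemU y).1 hyU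
      exact hno y (hW ▸ ⟨hyV, (hmemC y).2 fun n hn => (hyN n hn).symm⟩) hy1 hyk)
    haveI : ((pCore 2 C).map C.subtype).Normal := ConjAct.normal_of_characteristic_of_normal
    have hb := h.subnormal_two_bot (Components.isSubnormal_of_normal ((pCore 2 C).map C.subtype))
      ((Basics.pCore_isPGroup 2).map C.subtype)
    have : x ∈ (pCore 2 C).map C.subtype := ⟨_, hxc, rfl⟩
    rw [hb, mem_bot] at this
    exact hx1 this

/-- There is no nontrivial abelian normal subgroup. -/
theorem no_abelian_normal (N : Subgroup G) [N.Normal] (hN : N ≠ ⊥)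
    (hab : ∀ a ∈ N, ∀ b ∈ N, a * b = b * a) : False := by
  classical
  haveI : Fact (Nat.Prime 2) := ⟨Nat.prime_two⟩
  have htop := h.sup_normal_eq_top N hN
  have hodd := h.odd_of_normal_comm hab
  -- `V` is faithful on `N`
  have hfaith : ∀ v ∈ V, v ≠ 1 → ∃ n ∈ N, v * n ≠ n * v := by
    intro v hv hv1
    by_contra hall
    push Not at hall
    have hcen : ∀ g : G, g * v = v * g := by
      intro g
      have hle : V ⊔ N ≤ centralizer ({v} : Set G) := sup_le
        (fun w hw => mem_centralizer_singleton_iff.2 (h.comm hw hv).eq)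
        (fun n hn => mem_centralizer_singleton_iff.2 (hall n hn).symm)
      exact mem_centralizer_singleton_iff.1 (hle (htop ▸ mem_top g))
    haveI : (zpowers v).Normal := ⟨fun x hx g => by
      obtain ⟨k, rfl⟩ := mem_zpowers_iff.1 hx
      have hc : Commute g v := hcen g
      rw [(hc.zpow_right k).eq, mul_inv_cancel_right]
      exact zpow_mem (mem_zpowers v) k⟩
    refine hv1 (zpowers_eq_bot.1 (h.subnormal_two_bot (Components.isSubnormal_of_normal (zpowers v)) ?_))
    exact IsPGroup.of_card (n := 1) (by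
      rw [Nat.card_zpowers, Invol.orderOf_two_of_mul_self (h.sq hv) hv1, pow_one])
  have hpair : ∀ v ∈ V, v ≠ 1 → ∃ k ∈ N, k ≠ 1 ∧ v * k * v⁻¹ = k⁻¹ := by
    intro v hv hv1
    obtain ⟨n, hn, hne⟩ := hfaith v hv hv1
    refine ⟨n⁻¹ * (v * n * v⁻¹), N.mul_mem (N.inv_mem hn)
      (Normal.conj_mem inferInstance n hn v), fun e => hne ?_, ?_⟩
    · rw [inv_mul_eq_one] at e
      exact (mul_inv_eq_iff_eq_mul.1 e.symm)
    · rw [mul_inv_rev, inv_inv]
      calc v * (n⁻¹ * (v * n * v⁻¹)) * v⁻¹ = (v * n * v⁻¹)⁻¹ * ((v * v) * n * (v * v)⁻¹) := by group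
        _ = (v * n * v⁻¹)⁻¹ * n := by rw [h.sq hv]; group
  obtain ⟨⟨v0, hv0⟩, hv0'⟩ := ne_bot_iff_exists_ne_one.1 h.ne
  obtain ⟨k0, hk0, hk01, hk0i⟩ := hpair v0 hv0 fun e => hv0' (Subtype.ext e)
  let P : ℕ → Prop := fun m => ∃ v ∈ V, ∃ k ∈ N, k ≠ 1 ∧ v * k * v⁻¹ = k⁻¹ ∧
    Nat.card ↥(V ⊓ centralizer ({k} : Set G)) = m
  have hP : ∃ m, P m := ⟨_, v0, hv0, k0, hk0, hk01, hk0i, rfl⟩
  obtain ⟨v, hv, k, hk, hk1, hki, hcard⟩ := Nat.find_spec hP
  have hmin : ∀ v' ∈ V, ∀ k' ∈ N, k' ≠ 1 → v' * k' * v'⁻¹ = k'⁻¹ →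
      Nat.find hP ≤ Nat.card ↥(V ⊓ centralizer ({k'} : Set G)) := fun v' hv' k' hk' h1 h2 =>
    Nat.find_min' hP ⟨v', hv', k', hk', h1, h2, rfl⟩
  obtain ⟨z, hz, hz1, hzk⟩ := h.sidki k v hv (hodd k hk) hki
  obtain ⟨k1, hk1N, hk11, hzk1⟩ := hpair z hz hz1
  obtain ⟨l, hlN, hl1, hzl, hvl⟩ : ∃ l ∈ N, l ≠ 1 ∧ z * l * z⁻¹ = l⁻¹ ∧
      (v * l * v⁻¹ = l ∨ v * l * v⁻¹ = l⁻¹) := by
    obtain ⟨m, hm⟩ : ∃ m, m = v * k1 * v⁻¹ := ⟨_, rfl⟩
    have hmN : m ∈ N := hm ▸ Normal.conj_mem inferInstance k1 hk1N v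
    have hzm : z * m * z⁻¹ = m⁻¹ := by
      rw [hm]
      calc z * (v * k1 * v⁻¹) * z⁻¹ = (z * v) * k1 * (z * v)⁻¹ := by group
        _ = v * (z * k1 * z⁻¹) * v⁻¹ := by rw [(h.comm hz hv).eq]; group
        _ = (v * k1 * v⁻¹)⁻¹ := by rw [hzk1]; group
    have hvm : v * m * v⁻¹ = k1 := by
      rw [hm]
      calc v * (v * k1 * v⁻¹) * v⁻¹ = (v * v) * k1 * (v * v)⁻¹ := by group
        _ = k1 := by rw [h.sq hv]; group
    by_cases h2 : k1 * m = 1
    · refine ⟨k1, hk1N, hk11, hzk1, Or.inr ?_⟩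
      rw [← hm]
      exact eq_inv_of_mul_eq_one_right h2
    · refine ⟨k1 * m, N.mul_mem hk1N hmN, h2, ?_, Or.inl ?_⟩
      · calc z * (k1 * m) * z⁻¹ = (z * k1 * z⁻¹) * (z * m * z⁻¹) := by group
          _ = _ := by rw [hzk1, hzm, mul_inv_rev, hab _ (N.inv_mem hk1N) _ (N.inv_mem hmN)]
      · calc v * (k1 * m) * v⁻¹ = (v * k1 * v⁻¹) * (v * m * v⁻¹) := by group
          _ = k1 * m := by rw [← hm, hvm, hab m hmN k1 hk1N]
  have hzk' : z * k * z⁻¹ = k := by rw [hzk, mul_inv_cancel_right]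
  obtain ⟨v', hv', hv'i⟩ : ∃ v' ∈ V, v' * (k * l) * v'⁻¹ = (k * l)⁻¹ := by
    have hkl : (k * l)⁻¹ = k⁻¹ * l⁻¹ := by
      rw [mul_inv_rev, hab _ (N.inv_mem hlN) _ (N.inv_mem hk)]
    rcases hvl with hvl | hvl
    · refine ⟨v * z, V.mul_mem hv hz, ?_⟩
      calc v * z * (k * l) * (v * z)⁻¹ = (v * (z * k * z⁻¹) * v⁻¹) * (v * (z * l * z⁻¹) * v⁻¹) := by
            group
        _ = (v * k * v⁻¹) * (v * l * v⁻¹)⁻¹ := by rw [hzk', hzl]; group
        _ = (k * l)⁻¹ := by rw [hki, hvl, hkl]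
    · refine ⟨v, hv, ?_⟩
      calc v * (k * l) * v⁻¹ = (v * k * v⁻¹) * (v * l * v⁻¹) := by group
        _ = (k * l)⁻¹ := by rw [hki, hvl, hkl]
  have hkl1 : k * l ≠ 1 := fun e => by
    have h1 : l = k⁻¹ := eq_inv_of_mul_eq_one_right e
    rw [h1, inv_inv, show z * k⁻¹ * z⁻¹ = (z * k * z⁻¹)⁻¹ by group, hzk'] at hzl
    exact hk1 (eq_one_of_sq (hodd k hk) (mul_eq_one_iff_eq_inv.2 hzl.symm))
  have hle := hmin v' hv' (k * l) (N.mul_mem hk hlN) hkl1 hv'i
  have hsub : V ⊓ centralizer ({k * l} : Set G) ≤ V ⊓ centralizer ({k} : Set G) := by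
    rintro y ⟨hy, hyc⟩
    replace hyc : y * (k * l) = k * l * y := mem_centralizer_singleton_iff.1 hyc
    refine ⟨hy, mem_centralizer_singleton_iff.2 ?_⟩
    have h1 : Commute y (k * l) := hyc
    have h2 : Commute y (k * l⁻¹) := by
      have := h1.map (MulAut.conj z).toMonoidHom
      simp only [MulEquiv.toMonoidHom_eq_coe, MonoidHom.coe_coe, map_mul,
        MulAut.conj_apply, hzk', hzl] at this
      rwa [(h.comm hz hy).eq, mul_inv_cancel_right] at this
    have h3 : Commute y (k ^ 2) := by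
      have := h1.mul_right h2
      rwa [show k * l * (k * l⁻¹) = k ^ 2 by
        rw [mul_assoc, ← mul_assoc l, hab l hlN k hk, pow_two]; group] at this
    exact (Invol.commute_of_mem_zpowers h3 (InvChar.mem_zpowers_sq (hodd k hk))).eq
  have heq := Subgroup.eq_of_le_of_card_ge hsub (hcard ▸ hle)
  have hzmem : z ∈ V ⊓ centralizer ({k * l} : Set G) :=
    heq ▸ ⟨hz, mem_centralizer_singleton_iff.2 hzk⟩
  have h4 := mem_centralizer_singleton_iff.1 hzmem.2
  have h5 : z * (k * l) * z⁻¹ = k * l⁻¹ := by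
    calc z * (k * l) * z⁻¹ = (z * k * z⁻¹) * (z * l * z⁻¹) := by group
      _ = _ := by rw [hzk', hzl]
  rw [h4, mul_inv_cancel_right] at h5
  exact hl1 (eq_one_of_sq (hodd l hlN) (mul_eq_one_iff_eq_inv.2 (mul_left_cancel h5)))

theorem fitting_eq_bot : fittingSubgroup G = ⊥ := by
  rw [Basics.fittingSubgroup_eq_iSup_pCore, iSup_eq_bot]
  rintro ⟨p, hp⟩
  haveI : Fact p.Prime := ⟨hp⟩
  show pCore p G = ⊥
  by_contra hne
  haveI : Nontrivial (pCore p G) := (nontrivial_iff_ne_bot _).2 hne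
  haveI := IsPGroup.center_nontrivial (Basics.pCore_isPGroup (G := G) p)
  haveI : ((center (pCore p G)).map (pCore p G).subtype).Normal :=
    ConjAct.normal_of_characteristic_of_normal
  refine h.no_abelian_normal ((center (pCore p G)).map (pCore p G).subtype) ?_ ?_
  · rw [Ne, Subgroup.map_eq_bot_iff_of_injective _ (pCore p G).subtype_injective]
    exact (nontrivial_iff_ne_bot _).1 inferInstance
  · rintro _ ⟨a, ha, rfl⟩ _ ⟨b, hb, rfl⟩
    exact congrArg Subtype.val (Subgroup.mem_center_iff.1 hb a)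

theorem main : IsSimpleGroup ↥(generalizedFittingSubgroup G) ∧
    ¬ IsMulCommutative ↥(generalizedFittingSubgroup G) ∧
    V ⊔ generalizedFittingSubgroup G = ⊤ := by
  classical
  haveI : Fact (Nat.Prime 2) := ⟨Nat.prime_two⟩
  have hF := h.fitting_eq_bot
  obtain ⟨E, hE⟩ : ∃ E, E = generalizedFittingSubgroup G := ⟨_, rfl⟩
  have hEl : E = layer G := by rw [hE, generalizedFittingSubgroup, hF, sup_bot_eq]
  haveI hEn : E.Normal := hE ▸ inferInstance
  have hCE : ∀ x, (∀ L : Subgroup G, IsComponent L → ∀ l ∈ L, x * l = l * x) → x = 1 := by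
    intro x hx
    have hxc : x ∈ centralizer (E : Set G) := by
      rw [Subgroup.mem_centralizer_iff]
      have hle : E ≤ centralizer ({x} : Set G) := by
        rw [hEl, Components.layer_le_iff]
        exact fun L hL l hl => mem_centralizer_singleton_iff.2 (hx L hL l hl).symm
      exact fun e he => mem_centralizer_singleton_iff.1 (hle he)
    have hxE : x ∈ E := by rw [hE] at hxc ⊢; exact Components.centralizer_fStar_le hxc
    haveI : (E ⊓ centralizer (E : Set G)).Normal := inferInstance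
    by_contra hx1
    refine h.no_abelian_normal (E ⊓ centralizer (E : Set G)) ?_ (fun a ha b hb => hb.2 a ha.1)
    intro e
    have : x ∈ E ⊓ centralizer (E : Set G) := ⟨hxE, hxc⟩
    rw [e, mem_bot] at this
    exact hx1 this
  obtain ⟨K, hK⟩ : ∃ K : Subgroup G, IsComponent K := by
    by_contra hno
    push Not at hno
    obtain ⟨⟨v, hv⟩, hv1⟩ := ne_bot_iff_exists_ne_one.1 h.ne
    exact hv1 (Subtype.ext (hCE v fun L hL => absurd hL (hno L)))
  have hcomm : ∀ L M : Subgroup G, IsComponent L → IsComponent M → L ≠ M →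
      ∀ a ∈ L, ∀ b ∈ M, a * b = b * a := fun L M hL hM hne a ha b hb =>
    ((commutator_eq_bot_iff_le_centralizer.1
      ((Components.component_eq_or_commute hL hM).resolve_left hne)) ha b hb).symm
  have hKcen : ∀ x ∈ K, (∀ k ∈ K, x * k = k * x) → x = 1 := fun x hx hc =>
    hCE x fun L hL l hl => by
      by_cases e : L = K
      · exact hc l (e ▸ hl)
      · exact (hcomm L K hL hK e l hl x hx).symm
  have hKnab : ¬ IsMulCommutative K := Components.qs_not_isMulCommutative hK.2
  by_cases hnorm : V ≤ normalizer (K : Set G)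
  · -- `K` is normal
    have hEK : E ≤ normalizer (K : Set G) := by
      rw [hEl, Components.layer_le_iff]
      intro L hL
      by_cases e : L = K
      · exact e ▸ le_normalizer
      · intro l hl
        refine mem_normalizer_iff.2 fun k => ⟨fun hk => ?_, fun hk => ?_⟩
        · rwa [hcomm L K hL hK e l hl k hk, mul_inv_cancel_right]
        · have h2 := hcomm L K hL hK e l⁻¹ (L.inv_mem hl) _ hk
          rw [show l⁻¹ * (l * k * l⁻¹) = k * l⁻¹ by group] at h2
          rwa [mul_right_cancel h2]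
    have hEne : E ≠ ⊥ := fun e => hKnab ⟨⟨fun a b => Subtype.ext (by
      have hle : K ≤ ⊥ := e ▸ hEl ▸ Components.component_le_layer hK
      have ha := mem_bot.1 (hle a.2)
      have hb := mem_bot.1 (hle b.2)
      show (a : G) * b = b * a
      rw [ha, hb])⟩⟩
    have htop := h.sup_normal_eq_top E hEne
    haveI hKn : K.Normal := normalizer_eq_top_iff.1 (top_le_iff.1 (htop ▸ sup_le hnorm hEK))
    have hKne : K ≠ ⊥ := fun e => hKnab ⟨⟨fun a b => Subtype.ext (by
      have ha := mem_bot.1 (e.le a.2)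
      have hb := mem_bot.1 (e.le b.2)
      show (a : G) * b = b * a
      rw [ha, hb])⟩⟩
    have htopK := h.sup_normal_eq_top K hKne
    have honly : ∀ L, IsComponent L → L = K := by
      intro L hL
      by_contra e
      have h2 : ∀ g : G, ∀ l ∈ L, l * g * l⁻¹ * g⁻¹ ∈ K := by
        intro g l hl
        -- the quotient is commutative
        have hq : ∀ a b : G, QuotientGroup.mk' K a * QuotientGroup.mk' K b =
            QuotientGroup.mk' K b * QuotientGroup.mk' K a := by
          intro a b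
          obtain ⟨a1, ha1, a2, ha2, rfl⟩ := mem_sup_of_normal_right.1 (htopK ▸ mem_top a)
          obtain ⟨b1, hb1, b2, hb2, rfl⟩ := mem_sup_of_normal_right.1 (htopK ▸ mem_top b)
          rw [map_mul, map_mul, show QuotientGroup.mk' K a2 = 1 from (QuotientGroup.eq_one_iff a2).2 ha2,
            show QuotientGroup.mk' K b2 = 1 from (QuotientGroup.eq_one_iff b2).2 hb2, mul_one, mul_one,
            ← map_mul, (h.comm ha1 hb1).eq, map_mul]
        rw [← QuotientGroup.eq_one_iff]
        show QuotientGroup.mk' K (l * g * l⁻¹ * g⁻¹) = 1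
        rw [map_mul, map_mul, map_mul, hq l, mul_assoc (QuotientGroup.mk' K g),
          ← map_mul, mul_inv_cancel, map_one, mul_one, ← map_mul, mul_inv_cancel, map_one]
      have hle : L ≤ K := by
        have hp : ⁅L, L⁆ = L := by
          have h3 := hL.2.1.commutator_eq_top
          rw [← map_subtype_commutator, h3, ← MonoidHom.range_eq_map, range_subtype]
        rw [← hp, Subgroup.commutator_le]
        intro a ha b _
        rw [commutatorElement_def]
        exact h2 b a ha
      exact e (Components.component_eq_of_le hL hK hle)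
    have hEK' : E = K := le_antisymm (hEl ▸ Components.layer_le_iff.2 fun L hL => (honly L hL).le)
      (hEl ▸ Components.component_le_layer hK)
    rw [← hE, hEK']
    refine ⟨?_, hKnab, htopK⟩
    haveI : Nontrivial K := (nontrivial_iff_ne_bot K).2 hKne
    refine ⟨fun M hM => ?_⟩
    haveI := hM
    rcases Components.qs_normal_cases hK.2 M with e | e
    · exact Or.inr e
    · left
      rw [eq_bot_iff]
      intro m hm
      refine mem_bot.2 (Subtype.ext (hKcen m m.2 fun k hk => ?_))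
      exact congrArg Subtype.val (Subgroup.mem_center_iff.1 (e hm) ⟨k, hk⟩).symm
  · -- impossible: `V` moves `K`
    exfalso
    obtain ⟨a, ha, haK⟩ := SetLike.not_le_iff_exists.1 hnorm
    have hconjc : ∀ g : G, IsComponent (K.map (MulAut.conj g).toMonoidHom) := fun g =>
      Components.isComponent_conj g hK
    have hmove : ∀ g : G, g ∉ normalizer (K : Set G) →
        ∀ x ∈ K, ∀ k ∈ K, x * (g * k * g⁻¹) = (g * k * g⁻¹) * x := by
      intro g hg x hx k hk
      refine hcomm K _ hK (hconjc g) (fun e => hg ?_) x hx _ ⟨k, hk, rfl⟩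
      exact (ConjFunctor.cj_eq_iff (g := g)).1 e.symm
    obtain ⟨k, hkK, hkodd, hk1⟩ : ∃ k ∈ K, Odd (orderOf k) ∧ k ≠ 1 := by
      by_contra hno
      push Not at hno
      have hp : IsPGroup 2 K := by
        intro x
        obtain ⟨i, m, hm, hm'⟩ : ∃ i m, Odd m ∧ orderOf x = 2 ^ i * m :=
          Nat.exists_eq_two_pow_mul_odd (orderOf_pos x).ne'
        refine ⟨i, Subtype.ext (hno _ (x ^ 2 ^ i).2 ?_)⟩
        rw [Subgroup.orderOf_coe, orderOf_pow' _ (by positivity), hm',
          Nat.gcd_eq_right (dvd_mul_right _ _), Nat.mul_div_cancel_left _ (by positivity)]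
        exact hm
      have hb := h.subnormal_two_bot hK.1 hp
      exact hKnab ⟨⟨fun a b => Subtype.ext (by
        have ha := mem_bot.1 (hb.le a.2)
        have hb' := mem_bot.1 (hb.le b.2)
        show (a : G) * b = b * a
        rw [ha, hb'])⟩⟩
    obtain ⟨k', hk'⟩ : ∃ k', k' = a * k⁻¹ * a⁻¹ := ⟨_, rfl⟩
    have hkk' : Commute k k' := hk' ▸ hmove a haK k hkK k⁻¹ (K.inv_mem hkK)
    have hak' : a * k' * a⁻¹ = k⁻¹ := by
      rw [hk']
      calc a * (a * k⁻¹ * a⁻¹) * a⁻¹ = (a * a) * k⁻¹ * (a * a)⁻¹ := by group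
        _ = k⁻¹ := by rw [h.sq ha]; group
    have hinv : a * (k * k') * a⁻¹ = (k * k')⁻¹ := by
      calc a * (k * k') * a⁻¹ = (a * k * a⁻¹) * (a * k' * a⁻¹) := by group
        _ = (k * k')⁻¹ := by rw [hak', hk']; group
    have hodd : Odd (orderOf (k * k')) := by
      refine (hkodd.mul ?_).of_dvd_nat hkk'.orderOf_mul_dvd_mul_orderOf
      rw [hk', Invol.orderOf_conj, orderOf_inv]
      exact hkodd
    obtain ⟨z, hz, hz1, hzh⟩ := h.sidki (k * k') a ha hodd hinv
    -- the normalizer of `K` in `V` is nontrivial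
    obtain ⟨W, hW⟩ : ∃ W, W = V ⊓ normalizer (K : Set G) := ⟨_, rfl⟩
    have hW1 : W ≠ ⊥ := by
      intro e
      have hno : ∀ w ∈ V, w ≠ 1 → w ∉ normalizer (K : Set G) := fun w hw hw1 hn => hw1 (by
        have : w ∈ W := hW ▸ ⟨hw, hn⟩
        rwa [e, mem_bot] at this)
      have hzconj : z * (k * k') * z⁻¹ = k * k' := by rw [hzh, mul_inv_cancel_right]
      by_cases hza : z = a
      · subst hza
        rw [hinv] at hzconj
        have h2 := eq_one_of_sq hodd (mul_eq_one_iff_eq_inv.2 hzconj.symm)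
        have h3 : k = k'⁻¹ := eq_inv_of_mul_eq_one_left h2
        refine hk1 (hKcen k hkK fun y hy => ?_)
        have := hmove z haK y hy k hkK
        have h4 : z * k * z⁻¹ = k :=
          calc z * k * z⁻¹ = k'⁻¹ := by rw [hk']; group
            _ = k := h3.symm
        rw [h4] at this
        exact this.symm
      · refine hk1 (hKcen k hkK fun y hy => ?_)
        have hza' : z * a ∉ normalizer (K : Set G) := hno _ (V.mul_mem hz ha) fun e1 => hza (by
          rw [eq_inv_of_mul_eq_one_left e1, h.inv_eq ha])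
        have c1 : Commute y (z * k * z⁻¹) := hmove z (hno z hz hz1) y hy k hkK
        have c2 : Commute y (z * k' * z⁻¹) := by
          rw [hk', show z * (a * k⁻¹ * a⁻¹) * z⁻¹ = z * a * k⁻¹ * (z * a)⁻¹ by group]
          exact hmove (z * a) hza' y hy k⁻¹ (K.inv_mem hkK)
        have c3 : Commute y k' := hk' ▸ hmove a haK y hy k⁻¹ (K.inv_mem hkK)
        have c4 : Commute y (k * k') := by
          rw [← hzconj, show z * (k * k') * z⁻¹ = (z * k * z⁻¹) * (z * k' * z⁻¹) by group]
          exact c1.mul_right c2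
        have := c4.mul_right c3.inv_right
        rw [mul_inv_cancel_right] at this
        exact this.eq.symm
    have hWV : W ≤ V := hW ▸ inf_le_left
    have hWn : W ≤ normalizer (K : Set G) := hW ▸ inf_le_right
    have hHn : K ⊔ W ≤ normalizer (K : Set G) := sup_le le_normalizer hWn
    have hHtop : K ⊔ W ≠ ⊤ := fun e => hnorm fun v _ => hHn (e ▸ mem_top v)
    obtain ⟨y, hyH, hyW, hy1, hyc⟩ := h.meets_of_pair (H := K ⊔ W) (W := W) hWV le_sup_right hW1
      hHtop (fun m hm u hu hmodd hminv hm1 => by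
        have hmK : m ∈ K := by
          have hm' : m ∈ ((W ⊔ K : Subgroup G) : Set G) := by rw [sup_comm]; exact hm
          rw [Subgroup.coe_mul_of_left_le_normalizer_right W K hWn] at hm'
          obtain ⟨d, hd, c, hc, rfl⟩ := hm'
          replace hmodd : Odd (orderOf (d * c)) := hmodd
          -- the odd element is its own square root
          obtain ⟨j, hj⟩ := exists_pow_eq_self_of_coprime (x := d * c) (n := 2)
            (Nat.coprime_two_left.2 hmodd)
          have hsq : (d * c) ^ 2 ∈ K := by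
            rw [pow_two, show d * c * (d * c) = (d * c * d⁻¹) * (d * d) * c by group,
              h.sq (hWV hd), mul_one]
            exact K.mul_mem ((mem_normalizer_iff.1 (hWn hd) c).1 hc) hc
          show d * c ∈ K
          rw [← hj]
          exact pow_mem hsq j
        obtain ⟨w, hw, hw1, hwm⟩ := h.sidki m u (hWV hu) hmodd hminv
        refine ⟨w, hW ▸ ⟨hw, ?_⟩, hw1, hwm⟩
        by_contra hwn
        refine hm1 (hKcen m hmK fun x hx => ?_)
        have := hmove w hwn x hx m hmK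
        rw [hwm, mul_inv_cancel_right] at this
        exact this.symm)
    have hyK := h.commute_of_mem_core hK.1 le_sup_left hHn hyH hyc
    refine hy1 (hCE y fun L hL l hl => ?_)
    -- `y` centralizes every component
    have hE' : E ≤ centralizer ({y} : Set G) := by
      obtain ⟨X, hX⟩ : ∃ X, X = Subgroup.normalClosure (K : Set G) := ⟨_, rfl⟩
      have hXne : X ≠ ⊥ := fun e => hk1 (by
        have : k ∈ X := hX ▸ Subgroup.subset_normalClosure hkK
        rwa [e, mem_bot] at this)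
      haveI : X.Normal := hX ▸ inferInstance
      have htop := h.sup_normal_eq_top X hXne
      have hEne : E ≠ ⊥ := fun e => hk1 (by
        have : k ∈ E := hEl ▸ Components.component_le_layer hK hkK
        rwa [e, mem_bot] at this)
      have htopE := h.sup_normal_eq_top E hEne
      have hEK : E ≤ normalizer (K : Set G) := by
        rw [hEl, Components.layer_le_iff]
        intro M hM
        by_cases e : M = K
        · exact e ▸ le_normalizer
        · intro l hl
          refine mem_normalizer_iff.2 fun k => ⟨fun hk => ?_, fun hk => ?_⟩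
          · rwa [hcomm M K hM hK e l hl k hk, mul_inv_cancel_right]
          · have h2 := hcomm M K hM hK e l⁻¹ (M.inv_mem hl) _ hk
            rw [show l⁻¹ * (l * k * l⁻¹) = k * l⁻¹ by group] at h2
            rwa [mul_right_cancel h2]
      have hXy : X ≤ centralizer ({y} : Set G) := by
        rw [hX, normalClosure, closure_le]
        intro x hx
        obtain ⟨c, hc, hcx⟩ := Group.mem_conjugatesOfSet_iff.1 hx
        obtain ⟨g, hg⟩ := isConj_iff.1 hcx
        obtain ⟨v, hv, e, he, rfl⟩ := mem_sup_of_normal_right.1 (htopE ▸ mem_top g)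
        have hec : e * c * e⁻¹ ∈ K := (mem_normalizer_iff.1 (hEK he) c).1 hc
        rw [SetLike.mem_coe, mem_centralizer_singleton_iff, ← hg,
          show v * e * c * (v * e)⁻¹ = v * (e * c * e⁻¹) * v⁻¹ by group]
        obtain ⟨d, hd⟩ : ∃ d, d = e * c * e⁻¹ := ⟨_, rfl⟩
        rw [← hd] at hec ⊢
        have h1 := hyK d hec
        have h2 : Commute y v := h.comm (hWV hyW) hv
        exact (((h2.mul_right h1).mul_right h2.inv_right).eq).symm
      intro e _
      have hle : V ⊔ X ≤ centralizer ({y} : Set G) :=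
        sup_le (fun v hv => mem_centralizer_singleton_iff.2 (h.comm hv (hWV hyW)).eq) hXy
      exact hle (htop ▸ mem_top e)
    exact mem_centralizer_singleton_iff.1 (hE' (hEl ▸ Components.component_le_layer hL hl)) |>.symm

end Hyp

end Cfsg.Agent.SidkiMin
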