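import Mathlib
import Cfsg.Prelude.Def_Classical
import Cfsg.Agent.Lib.Forms.SpOrder
import Cfsg.Agent.Lib.AutPSp.Main

/-! The Sylow 2-subgroups of `A₈` and of `PSp₄(3)` as images of a wreath product. -/

set_option autoImplicit false
set_option maxRecDepth 100000

namespace Cfsg.Agent.LocalEvenB.SylowWreath

/-- A subgroup of Sylow order is isomorphic to every Sylow subgroup. -/
theorem sylow_of_range {X : Type*} [Group X] [Finite X] {a : ℕ} (R : Subgroup X) (w : ℕ) (hR : Nat.card R = 2 ^ a)
    (hX : Nat.card X = 2 ^ a * w) (hw : Odd w) (S : Sylow 2 X) : Nonempty ((S : Subgroup X) ≃* R) := by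
  haveI : Fact (Nat.Prime 2) := ⟨Nat.prime_two⟩
  obtain ⟨T, hT⟩ := (IsPGroup.of_card (n := a) hR).exists_le_sylow
  obtain ⟨k, hk'⟩ := IsPGroup.iff_card.1 T.2
  have hle : 2 ^ k ∣ 2 ^ a := by
    have h := hk' ▸ (T : Subgroup X).card_subgroup_dvd_card
    rw [hX] at h
    exact ((Nat.coprime_two_left.2 hw).pow_left k).dvd_of_dvd_mul_right h
  have hTR : R = T := Subgroup.eq_of_le_of_card_ge hT (by rw [hR, hk']; exact Nat.le_of_dvd (by positivity) hle)
  obtain ⟨e'⟩ : Nonempty ((S : Subgroup X) ≃* (T : Subgroup X)) := ⟨Sylow.equiv S T⟩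
  exact ⟨e'.trans (MulEquiv.subgroupCongr hTR.symm)⟩

/-- Two homomorphisms with the same kernel and Sylow-sized images give isomorphic Sylow subgroups. -/
theorem sylow_iso {W G H : Type*} [Group W] [Finite W] [Group G] [Finite G] [Group H] [Finite H] (f : W →* G)
    (g : W →* H) (hker : ∀ w, f w = 1 ↔ g w = 1) {c a u v : ℕ} (hc : Nat.card f.ker = c) (hc0 : 0 < c)
    (hW : Nat.card W = 2 ^ a * c) (hG : Nat.card G = 2 ^ a * u) (hu : Odd u) (hH : Nat.card H = 2 ^ a * v)
    (hv : Odd v) (P : Sylow 2 G) (Q : Sylow 2 H) :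
    Nonempty ((P : Subgroup G) ≃* (Q : Subgroup H)) := by
  haveI : Fact (Nat.Prime 2) := ⟨Nat.prime_two⟩
  have hk : f.ker = g.ker := Subgroup.ext fun w => by simp only [MonoidHom.mem_ker]; exact hker w
  have hf : Nat.card f.range = 2 ^ a := by
    have h := f.ker.card_mul_index
    rw [Subgroup.index_ker, hc, hW, mul_comm (2 ^ a) c] at h
    exact Nat.eq_of_mul_eq_mul_left hc0 h
  have e : f.range ≃* g.range := (QuotientGroup.quotientKerEquivRange f).symm.trans
    ((QuotientGroup.quotientMulEquivOfEq hk).trans (QuotientGroup.quotientKerEquivRange g))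
  have hg : Nat.card g.range = 2 ^ a := (Nat.card_congr e.toEquiv).symm.trans hf
  obtain ⟨e1⟩ := sylow_of_range f.range u hf hG hu P
  obtain ⟨e2⟩ := sylow_of_range g.range v hg hH hv Q
  exact ⟨e1.trans (e.trans e2.symm)⟩

/-- The quaternion group of order eight. -/
abbrev Q8 := QuaternionGroup 2

/-- A group of order two. -/
abbrev C2 := Multiplicative (ZMod 2)

theorem c2_cases (x : C2) : x = 1 ∨ x = Multiplicative.ofAdd 1 := by revert x; decide

/-- The homomorphism sending the generator to an involution. -/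
def c2Hom {G : Type*} [Group G] (s : G) (hs : s * s = 1) : C2 →* G where
  toFun x := if x = 1 then 1 else s
  map_one' := if_pos rfl
  map_mul' x y := by
    have h : (Multiplicative.ofAdd 1 : C2) * Multiplicative.ofAdd 1 = 1 := by decide
    have h1 : (Multiplicative.ofAdd 1 : C2) ≠ 1 := by decide
    rcases c2_cases x with rfl | rfl <;> rcases c2_cases y with rfl | rfl <;> simp [h, h1, hs]

theorem c2Hom_gen {G : Type*} [Group G] (s : G) (hs : s * s = 1) : c2Hom s hs (Multiplicative.ofAdd 1) = s :=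
  show (if (Multiplicative.ofAdd 1 : C2) = 1 then 1 else s) = s from if_neg (by decide)

/-- Exchanging the factors. -/
def swapAct (N : Type*) [Group N] : C2 →* MulAut (N × N) :=
  c2Hom MulEquiv.prodComm (MulEquiv.ext fun x => rfl)

/-- The wreath product of `Q8` by a group of order two. -/
abbrev WQ := SemidirectProduct (Q8 × Q8) C2 (swapAct Q8)

/-- A homomorphism out of the wreath product. -/
def mkW {G : Type*} [Group G] (L R : Q8 →* G) (hcomm : ∀ a b, Commute (L a) (R b)) (s : G) (hs : s * s = 1)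
    (hsw : ∀ a, s * L a * s = R a) : WQ →* G :=
  SemidirectProduct.lift (L.noncommCoprod R hcomm) (c2Hom s hs) (by
    have hinv : s⁻¹ = s := inv_eq_of_mul_eq_one_left hs
    have hsw' : ∀ a, s * R a * s = L a := fun a => by
      rw [← hsw]
      calc s * (s * L a * s) * s = (s * s) * L a * (s * s) := by group
        _ = L a := by rw [hs, one_mul, mul_one]
    intro x
    rcases c2_cases x with rfl | rfl
    · ext p <;> simp
    · have h1 : c2Hom s hs (Multiplicative.ofAdd 1) = s := c2Hom_gen s hs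
      have h2 : swapAct Q8 (Multiplicative.ofAdd 1) = MulEquiv.prodComm := c2Hom_gen _ _
      refine MonoidHom.ext fun p => ?_
      rw [MonoidHom.comp_apply, MonoidHom.comp_apply, h1, h2]
      show L p.2 * R p.1 = s * (L p.1 * R p.2) * s⁻¹
      rw [hinv, show s * (L p.1 * R p.2) * s = (s * L p.1 * s) * (s * R p.2 * s) by
        calc s * (L p.1 * R p.2) * s = s * L p.1 * 1 * R p.2 * s := by group
          _ = _ := by rw [← hs]; group, hsw, hsw', (hcomm p.2 p.1).eq])

/-- An automorphism of `Q8` exchanging two generators. -/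
def al : Q8 → Q8
  | .a i => if i = 1 then .xa 0 else if i = 3 then .xa 2 else .a i
  | .xa i => if i = 0 then .a 1 else if i = 2 then .a 3 else if i = 1 then .xa 3 else .xa 1

/-- The same, bundled. -/
def alHom : Q8 →* Q8 where
  toFun := al
  map_one' := by decide
  map_mul' := by decide +kernel

/-- Left translations. -/
def lPerm : Q8 →* Equiv.Perm Q8 where
  toFun a := Equiv.mulLeft a
  map_one' := Equiv.ext fun x => one_mul x
  map_mul' a b := Equiv.ext fun x => mul_assoc a b x

/-- Twisted right translations. -/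
def rPerm : Q8 →* Equiv.Perm Q8 where
  toFun a := Equiv.mulRight (al a)⁻¹
  map_one' := Equiv.ext (by decide +kernel)
  map_mul' a b := Equiv.ext fun x => by
    show x * (al (a * b))⁻¹ = x * (al b)⁻¹ * (al a)⁻¹
    rw [show al (a * b) = al a * al b from alHom.map_mul a b, mul_inv_rev, mul_assoc]

/-- The swapping permutation. -/
def sPerm : Equiv.Perm Q8 := Function.Involutive.toPerm (fun x => (al x)⁻¹) (by unfold Function.Involutive; decide +kernel)

/-- The homomorphism into the symmetric group. -/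
def fPerm : WQ →* Equiv.Perm Q8 :=
  mkW lPerm rPerm (fun a b => Equiv.ext fun x => (mul_assoc a x _).symm) sPerm
    (Equiv.ext (by decide +kernel))
    (fun a => Equiv.ext (by revert a; decide +kernel))

theorem fPerm_even (w : WQ) : fPerm w ∈ alternatingGroup Q8 := by
  have hs : Equiv.Perm.sign sPerm = 1 := by decide +kernel
  have hl : ∀ a, Equiv.Perm.sign (lPerm a) = 1 := by decide +kernel
  rw [Equiv.Perm.mem_alternatingGroup]
  show Equiv.Perm.sign ((lPerm w.1.1 * rPerm w.1.2) * c2Hom sPerm _ w.2) = 1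
  have hr : ∀ a, Equiv.Perm.sign (rPerm a) = 1 := by decide +kernel
  rw [map_mul, map_mul, hl, hr, one_mul, one_mul]
  rcases c2_cases w.2 with h | h <;> rw [h]
  · rw [map_one, map_one]
  · rw [c2Hom_gen, hs]

/-- The image in the alternating group. -/
noncomputable def fAlt : WQ →* alternatingGroup (Fin 8) :=
  (Equiv.altCongrHom (Fintype.equivFinOfCardEq (α := Q8) (n := 8) (by rw [QuaternionGroup.card]))).toMonoidHom.comp
    (fPerm.codRestrict _ fPerm_even)

theorem fAlt_eq_one (w : WQ) : fAlt w = 1 ↔ fPerm w = 1 := by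
  rw [fAlt, MonoidHom.comp_apply, MulEquiv.coe_toMonoidHom, MulEquiv.map_eq_one_iff, Subtype.ext_iff]
  rfl

abbrev M4 := Matrix (Fin 2 ⊕ Fin 2) (Fin 2 ⊕ Fin 2) (ZMod 3)

/-- `Q8` inside `SL₂(3)`. -/
def sl : Q8 → Matrix (Fin 2) (Fin 2) (ZMod 3)
  | .a i => !![0, -1; 1, 0] ^ i.val
  | .xa i => !![1, 1; 1, -1] * !![0, -1; 1, 0] ^ i.val

/-- Side and slot of an index. -/
def pos : Fin 2 ⊕ Fin 2 → Fin 2 × Fin 2
  | .inl k => (0, k)
  | .inr k => (1, k)

/-- `Q8` in one of the two hyperbolic planes. -/
def blk (t : Fin 2) (a : Q8) : M4 := fun i j =>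
  if (pos i).2 = (pos j).2 then (if (pos i).2 = t then sl a (pos i).1 (pos j).1 else (if (pos i).1 = (pos j).1 then 1 else 0))
  else 0

/-- Exchanging the planes. -/
def swapM : M4 := fun i j => if (pos i).1 = (pos j).1 ∧ (pos i).2 ≠ (pos j).2 then 1 else 0

theorem blk_symp : ∀ t a, blk t a * Matrix.J (Fin 2) (ZMod 3) * (blk t a).transpose = Matrix.J (Fin 2) (ZMod 3) := by
  decide +kernel

/-- The plane embeddings. -/
def blkHom (t : Fin 2) : Q8 →* Matrix.symplecticGroup (Fin 2) (ZMod 3) where
  toFun a := ⟨blk t a, SymplecticGroup.mem_iff.2 (blk_symp t a)⟩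
  map_one' := Subtype.ext (by revert t; decide +kernel)
  map_mul' a b := Subtype.ext (by revert t a b; decide +kernel)

/-- The swap as a symplectic map. -/
def swapS : Matrix.symplecticGroup (Fin 2) (ZMod 3) :=
  ⟨swapM, SymplecticGroup.mem_iff.2 (by decide +kernel)⟩

/-- The homomorphism into the symplectic group. -/
def gSp : WQ →* Matrix.symplecticGroup (Fin 2) (ZMod 3) :=
  mkW (blkHom 0) (blkHom 1) (fun a b => Subtype.ext (by revert a b; decide +kernel)) swapS
    (Subtype.ext (by decide +kernel))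
    (fun a => Subtype.ext (by revert a; decide +kernel))

theorem kernels : ∀ p : (Q8 × Q8) × C2,
    (fPerm ⟨p.1, p.2⟩ = 1 ↔ ((gSp ⟨p.1, p.2⟩).1 = 1 ∨ (gSp ⟨p.1, p.2⟩).1 = -1)) := by
  decide +kernel

instance : Fintype WQ := Fintype.ofEquiv _ SemidirectProduct.equivProd.symm

theorem card_ker : Fintype.card {p : (Q8 × Q8) × C2 // fPerm ⟨p.1, p.2⟩ = 1} = 2 := by decide +kernel

theorem card_WQ : Nat.card WQ = 2 ^ 6 * 2 := by
  rw [Nat.card_congr SemidirectProduct.equivProd, Nat.card_prod, Nat.card_prod]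
  simp [Nat.card_eq_fintype_card, QuaternionGroup.card]

theorem center_sp {F : Type} [Field F] [Fintype F] (hF : Fintype.card F = 3)
    (z : Matrix.symplecticGroup (Fin 2) F) :
    z ∈ Subgroup.center _ ↔ z.1 = 1 ∨ z.1 = -1 := by
  classical
  haveI : Fact (Nat.Prime 3) := ⟨Nat.prime_three⟩
  haveI : CharP F 3 := charP_of_card_eq_prime hF
  have hc : Nat.card (Subgroup.center (Matrix.symplecticGroup (Fin 2) F)) = 2 :=
    AutPSp.card_center_sp (F := F) 3 (by norm_num) (f := 1) le_rfl (by rw [hF, pow_one])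
  set n : Matrix.symplecticGroup (Fin 2) F := ⟨-1, SymplecticGroup.neg_mem (one_mem _)⟩
  have hn : n ∈ Subgroup.center _ := Subgroup.mem_center_iff.2 fun y => Subtype.ext (by
    show y.1 * -1 = -1 * y.1
    rw [mul_neg, neg_mul, mul_one, one_mul])
  have hne : (1 : Matrix.symplecticGroup (Fin 2) F) ≠ n := by
    intro e
    have e' : (1 : F) = -1 := by
      have := congrFun (congrFun (congrArg Subtype.val e) (.inl 0)) (.inl 0)
      simpa [n] using this
    have : ((2 : ℕ) : F) = 0 := by push_cast; linear_combination e'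
    rw [CharP.cast_eq_zero_iff F 3] at this
    omega
  have hset : ({1, n} : Set (Matrix.symplecticGroup (Fin 2) F)) = ((Subgroup.center (Matrix.symplecticGroup (Fin 2) F) : Subgroup _) : Set _) := by
    refine Set.eq_of_subset_of_ncard_le ?_ ?_ (Set.toFinite _)
    · rintro u (rfl | rfl)
      · exact one_mem _
      · exact hn
    · rw [← Nat.card_coe_set_eq, Set.ncard_pair hne]; exact hc.le
  rw [← SetLike.mem_coe, ← hset]
  constructor
  · rintro (rfl | rfl)
    · exact Or.inl rfl
    · exact Or.inr rfl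
  · rintro (h | h)
    · exact Or.inl (Subtype.ext h)
    · exact Or.inr (Subtype.ext h)

/-- The Sylow 2-subgroups of `A₈` and `PSp₄(3)` are isomorphic. -/
theorem alt_psp {F : Type} [Field F] [Fintype F] (hF : Fintype.card F = 3)
    (P : Sylow 2 (alternatingGroup (Fin 8))) (Q : Sylow 2 (Cfsg.PSp 2 F)) :
    Nonempty ((P : Subgroup (alternatingGroup (Fin 8))) ≃* (Q : Subgroup (Cfsg.PSp 2 F))) := by
  classical
  haveI : Fact (Nat.Prime 3) := ⟨Nat.prime_three⟩
  haveI : CharP F 3 := charP_of_card_eq_prime hF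
  let e : ZMod 3 ≃+* F := ZMod.ringEquiv F hF
  let lift : Matrix.symplecticGroup (Fin 2) (ZMod 3) →* Matrix.symplecticGroup (Fin 2) F :=
    { toFun := fun A => ⟨e.toRingHom.mapMatrix A.1, by
        have h := congrArg e.toRingHom.mapMatrix (SymplecticGroup.mem_iff.1 A.2)
        rw [map_mul, map_mul] at h
        have hJ : e.toRingHom.mapMatrix (Matrix.J (Fin 2) (ZMod 3)) = Matrix.J (Fin 2) F := by
          ext (i | i) (j | j) <;> simp [Matrix.J, Matrix.one_apply, apply_ite e.toRingHom]
        rw [hJ] at h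
        exact SymplecticGroup.mem_iff.2 h⟩
      map_one' := Subtype.ext (map_one e.toRingHom.mapMatrix)
      map_mul' := fun A B => Subtype.ext (map_mul e.toRingHom.mapMatrix A.1 B.1) }
  have linj : Function.Injective (e.toRingHom.mapMatrix (m := Fin 2 ⊕ Fin 2)) := Matrix.map_injective e.injective
  let g : WQ →* Cfsg.PSp 2 F := (QuotientGroup.mk' _).comp (lift.comp gSp)
  have hker : ∀ w, fAlt w = 1 ↔ g w = 1 := by
    intro w
    have h := kernels (w.1, w.2)
    rw [fAlt_eq_one, show w = ⟨w.1, w.2⟩ from rfl, h]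
    show _ ↔ ((lift (gSp w) : Matrix.symplecticGroup (Fin 2) F) : Cfsg.PSp 2 F) = 1
    rw [QuotientGroup.eq_one_iff, center_sp hF]
    refine or_congr ?_ ?_
    · exact ⟨fun h => (congrArg e.toRingHom.mapMatrix h).trans (map_one _), fun h => linj (h.trans (map_one _).symm)⟩
    · exact ⟨fun h => (congrArg e.toRingHom.mapMatrix h).trans (by rw [map_neg, map_one]),
        fun h => linj (h.trans (by rw [map_neg, map_one]))⟩
  have hc : Nat.card fAlt.ker = 2 := by
    refine Eq.trans ?_ card_ker
    rw [← Nat.card_eq_fintype_card]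
    refine Nat.card_congr (Equiv.subtypeEquiv SemidirectProduct.equivProd fun w => ?_)
    rw [MonoidHom.mem_ker, fAlt_eq_one]
    rfl
  refine sylow_iso fAlt g hker hc two_pos card_WQ (u := 315) ?_ (by decide) (v := 405) ?_ (by decide) P Q
  · haveI : Nontrivial (Fin 8) := inferInstance
    have := two_mul_card_alternatingGroup (α := Fin 8)
    rw [Fintype.card_perm, Fintype.card_fin] at this
    rw [Nat.card_eq_fintype_card]
    norm_num [Nat.factorial] at this ⊢
    omega
  · haveI : Fact (Nat.Prime 3) := ⟨Nat.prime_three⟩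
    haveI : CharP F 3 := charP_of_card_eq_prime hF
    have h1 := (Subgroup.center (Matrix.symplecticGroup (Fin 2) F)).card_eq_card_quotient_mul_card_subgroup
    rw [FormsLib.card_symplecticGroup, AutPSp.card_center_sp (F := F) 3 (by norm_num) (f := 1) le_rfl
      (by rw [hF, pow_one]), hF] at h1
    norm_num [Finset.prod_range_succ, -Nat.card_eq_fintype_card] at h1
    show Nat.card (Matrix.symplecticGroup (Fin 2) F ⧸ Subgroup.center _) = _
    omega

end Cfsg.Agent.LocalEvenB.SylowWreath
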