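import Mathlib
import Cfsg.Agent.Lib.LocalEvenB.SylowWreathQ8
import Cfsg.Agent.Lib.LinearGroups.OrthOrder

/-! The Sylow 2-subgroups of `S₈` and of `O₆⁻(2)` as images of a wreath product. -/

set_option autoImplicit false
set_option maxRecDepth 100000

namespace Cfsg.Agent.LocalEvenB.SylowWreath

open Matrix QuadraticMap

/-- The dihedral action on four points. -/
def d4pt : DihedralGroup 4 → Fin 4 → Fin 4
  | .r i, x => x + (show Fin 4 from i)
  | .sr i, x => -(x + (show Fin 4 from i))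

/-- The dihedral group as permutations. -/
def dPerm : DihedralGroup 4 →* Equiv.Perm (Fin 4) where
  toFun g := ⟨d4pt g, d4pt g⁻¹, by unfold Function.LeftInverse; revert g; decide +kernel,
    by unfold Function.RightInverse Function.LeftInverse; revert g; decide +kernel⟩
  map_one' := Equiv.ext (by decide +kernel)
  map_mul' a b := Equiv.ext fun x => by revert a b x; decide +kernel

abbrev V4 := Multiplicative (Fin 4 → ZMod 2)

/-- Permutation of the coordinates. -/
def permAct : DihedralGroup 4 →* MulAut V4 where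
  toFun g :=
    { toFun := fun v => Multiplicative.ofAdd fun i => Multiplicative.toAdd v ((dPerm g).symm i)
      invFun := fun v => Multiplicative.ofAdd fun i => Multiplicative.toAdd v (dPerm g i)
      left_inv := fun v => congrArg Multiplicative.ofAdd (funext fun i => by simp; rfl)
      right_inv := fun v => congrArg Multiplicative.ofAdd (funext fun i => by simp; rfl)
      map_mul' := fun v w => rfl }
  map_one' := MulEquiv.ext fun v => by rw [map_one]; rfl
  map_mul' a b := MulEquiv.ext fun v => by rw [map_mul]; rfl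

/-- The wreath product. -/
abbrev WD := SemidirectProduct V4 (DihedralGroup 4) permAct

instance : Fintype WD := Fintype.ofEquiv _ SemidirectProduct.equivProd.symm

/-- Flipping inside the pairs. -/
def fT : V4 →* Equiv.Perm (Fin 4 × ZMod 2) where
  toFun v :=
    { toFun := fun x => (x.1, x.2 + Multiplicative.toAdd v x.1)
      invFun := fun x => (x.1, x.2 - Multiplicative.toAdd v x.1)
      left_inv := fun x => by simp
      right_inv := fun x => by simp }
  map_one' := Equiv.ext fun x => by simp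
  map_mul' v w := Equiv.ext fun x => by
    refine Prod.ext rfl ?_
    show x.2 + (Multiplicative.toAdd v x.1 + Multiplicative.toAdd w x.1) =
      x.2 + Multiplicative.toAdd w x.1 + Multiplicative.toAdd v x.1
    ring

/-- Moving the pairs. -/
def fR : DihedralGroup 4 →* Equiv.Perm (Fin 4 × ZMod 2) where
  toFun g := Equiv.prodCongr (dPerm g) (Equiv.refl _)
  map_one' := by rw [map_one]; rfl
  map_mul' a b := by rw [map_mul]; rfl

/-- The permutation homomorphism. -/
def fP : WD →* Equiv.Perm (Fin 4 × ZMod 2) :=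
  SemidirectProduct.lift fT fR (fun g => MonoidHom.ext fun v => Equiv.ext (by revert g v; decide +kernel))

abbrev I6 := (Fin 2 ⊕ Fin 2) ⊕ Fin 2
abbrev M6 := Matrix I6 I6 (ZMod 2)

/-- The coordinates of the middle part as an even subset of five points. -/
def toW (u : I6 → ZMod 2) : Fin 4 → ZMod 2 :=
  let x := u (.inl (.inl 1))
  let y := u (.inl (.inr 1))
  let a := u (.inr 0)
  let b := u (.inr 1)
  ![x, x + y + a, x + y + a + b, x + y + b]

/-- The coordinates of a vector from its parts. -/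
def ofW (e f : ZMod 2) (w : Fin 4 → ZMod 2) : I6 → ZMod 2
  | .inl (.inl i) => if i = 0 then e else w 0
  | .inl (.inr i) => if i = 0 then f else (w 1 + w 0) + (w 2 + w 0) + (w 3 + w 0)
  | .inr i => if i = 0 then (w 2 + w 0) + (w 3 + w 0) else (w 1 + w 0) + (w 2 + w 0)

/-- The quadratic form on even subsets. -/
def qW (w : Fin 4 → ZMod 2) : ZMod 2 :=
  w 0 * w 1 + w 0 * w 2 + w 0 * w 3 + w 1 * w 2 + w 1 * w 3 + w 2 * w 3 + (w 0 + w 1 + w 2 + w 3)

/-- Its bilinear form. -/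
def bW (w v : Fin 4 → ZMod 2) : ZMod 2 :=
  w 0 * v 0 + w 1 * v 1 + w 2 * v 2 + w 3 * v 3 + (w 0 + w 1 + w 2 + w 3) * (v 0 + v 1 + v 2 + v 3)

/-- Siegel transvections. -/
def tM (v : V4) : M6 := Matrix.of fun i j =>
  let u : I6 → ZMod 2 := fun k => if k = j then 1 else 0
  ofW (u (.inl (.inl 0)) + bW (toW u) (Multiplicative.toAdd v) + qW (Multiplicative.toAdd v) * u (.inl (.inr 0)))
    (u (.inl (.inr 0))) (fun k => toW u k + u (.inl (.inr 0)) * Multiplicative.toAdd v k) i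

/-- Coordinate permutations. -/
def rM (g : DihedralGroup 4) : M6 := Matrix.of fun i j =>
  let u : I6 → ZMod 2 := fun k => if k = j then 1 else 0
  ofW (u (.inl (.inl 0))) (u (.inl (.inr 0))) (fun k => toW u ((dPerm g).symm k)) i

/-- Transvections, bundled. -/
def tHom : V4 →* M6 where
  toFun := tM
  map_one' := by decide +kernel
  map_mul' := by decide +kernel

/-- Coordinate permutations, bundled. -/
def rHom : DihedralGroup 4 →* M6 where
  toFun := rM
  map_one' := by decide +kernel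
  map_mul' := by decide +kernel

/-- The matrix homomorphism. -/
def gGL : WD →* GL I6 (ZMod 2) :=
  SemidirectProduct.lift tHom.toHomUnits rHom.toHomUnits (fun g => MonoidHom.ext fun v => Units.ext (by
    show tM (permAct g v) = rM g * tM v * rM g⁻¹
    revert g v; decide +kernel))

theorem t_pres : ∀ (v : V4) (u : I6 → ZMod 2),
    Cfsg.quadFormMinus 2 (ZMod 2) 1 1 (tM v *ᵥ u) = Cfsg.quadFormMinus 2 (ZMod 2) 1 1 u := by
  decide +kernel

theorem r_pres : ∀ (g : DihedralGroup 4) (u : I6 → ZMod 2),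
    Cfsg.quadFormMinus 2 (ZMod 2) 1 1 (rM g *ᵥ u) = Cfsg.quadFormMinus 2 (ZMod 2) 1 1 u := by
  decide +kernel

theorem gGL_mem (w : WD) : gGL w ∈ Cfsg.isometryGroup (ZMod 2) (Cfsg.quadFormMinus 2 (ZMod 2) 1 1) := by
  intro u _
  show Cfsg.quadFormMinus 2 (ZMod 2) 1 1 ((tM w.1 * rM w.2) *ᵥ u) = _
  rw [← Matrix.mulVec_mulVec, t_pres, r_pres]

theorem fP_inj : ∀ p : V4 × DihedralGroup 4, fP ⟨p.1, p.2⟩ = 1 → p = 1 := by decide +kernel

theorem g_inj : ∀ p : V4 × DihedralGroup 4, tM p.1 * rM p.2 = 1 → p = 1 := by decide +kernel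

theorem zmod_two_one : ∀ c : ZMod 2, c ≠ 0 → c = 1 := by decide

theorem card_WD : Nat.card WD = 2 ^ 7 * 1 := by
  rw [Nat.card_congr SemidirectProduct.equivProd, Nat.card_prod, DihedralGroup.nat_card, Nat.card_eq_fintype_card]
  simp

section order

/-- The anisotropic plane over the field with two elements. -/
noncomputable def q0 : QuadraticForm (ZMod 2) (Fin 2 → ZMod 2) :=
  linMulLin (LinearMap.proj 0) (LinearMap.proj 0) + linMulLin (LinearMap.proj 0) (LinearMap.proj 1) +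
    linMulLin (LinearMap.proj 1) (LinearMap.proj 1)

theorem q0_apply (v : Fin 2 → ZMod 2) : q0 v = v 0 ^ 2 + v 0 * v 1 + v 1 ^ 2 := by
  simp [q0, pow_two]

theorem q0_nondeg : (polarBilin q0).Nondegenerate := by
  refine OrthOrder.nondegenerate_iff.2 fun x hx => ?_
  have h0 := hx (Pi.single 0 1)
  have h1 := hx (Pi.single 1 1)
  simp only [polar, q0_apply, Pi.add_apply] at h0 h1
  have key : ∀ s t : ZMod 2, ((s + 1) ^ 2 + (s + 1) * (t + 0) + (t + 0) ^ 2 - (s ^ 2 + s * t + t ^ 2) - (1 ^ 2 + 1 * 0 + 0 ^ 2) = 0) →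
      ((s + 0) ^ 2 + (s + 0) * (t + 1) + (t + 1) ^ 2 - (s ^ 2 + s * t + t ^ 2) - (0 ^ 2 + 0 * 1 + 1 ^ 2) = 0) → s = 0 ∧ t = 0 := by
    decide
  obtain ⟨e0, e1⟩ := key (x 0) (x 1) (by simpa using h0) (by simpa using h1)
  funext i
  fin_cases i
  · exact e0
  · exact e1

theorem card_zero : ∀ m : ℕ, Nat.card {v // OrthOrder.qSum m q0 v = 0} =
    Nat.card {v : (Fin m ⊕ Fin m → ZMod 2) × (Fin 2 → ZMod 2) //
      Cfsg.quadFormPlus m (ZMod 2) v.1 + (v.2 0 ^ 2 + v.2 0 * v.2 1 + v.2 1 ^ 2) = 0} := fun m =>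
  Nat.card_congr (Equiv.subtypeEquivRight fun v => by rw [OrthOrder.qSum_apply, q0_apply])

theorem card_q0 : Nat.card (FormsLib.oGroup q0) = 6 := by
  rw [← OrthOrder.card_isometryGroup (fun v : Fin 2 → ZMod 2 => v 0 ^ 2 + v 0 * v 1 + v 1 ^ 2) q0
    (LinearEquiv.refl _ _) (fun v => q0_apply v)]
  have h : ∀ g : GL (Fin 2) (ZMod 2), g ∈ Cfsg.isometryGroup (ZMod 2) (fun v : Fin 2 → ZMod 2 => v 0 ^ 2 + v 0 * v 1 + v 1 ^ 2) ↔
      ∀ u : Fin 2 → ZMod 2, ((g.1 *ᵥ u) 0) ^ 2 + (g.1 *ᵥ u) 0 * (g.1 *ᵥ u) 1 + ((g.1 *ᵥ u) 1) ^ 2 = u 0 ^ 2 + u 0 * u 1 + u 1 ^ 2 :=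
    fun g => ⟨fun h u => h u u, fun h u _ => h u⟩
  rw [Nat.card_congr (Equiv.subtypeEquivRight h), Nat.card_eq_fintype_card]
  decide +kernel

theorem card_O6 : Nat.card (Cfsg.isometryGroup (ZMod 2) (Cfsg.quadFormMinus 2 (ZMod 2) 1 1)) = 2 ^ 7 * 405 := by
  rw [OrthOrder.card_isometryGroup _ (OrthOrder.qSum 2 q0) (LinearEquiv.sumArrowLequivProdArrow _ _ _ _) (fun v => by
    rw [OrthOrder.qSum_apply, q0_apply]
    simp [Cfsg.quadFormPlus, Cfsg.quadFormMinus, LinearEquiv.sumArrowLequivProdArrow])]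
  rw [OrthOrder.card_qSum_succ q0_nondeg 1, OrthOrder.card_qSum_succ q0_nondeg 0, OrthOrder.card_qSum_zero, card_q0,
    card_zero, card_zero, ZMod.card, Nat.card_fun]
  simp only [Nat.card_eq_fintype_card, ZMod.card, Fintype.card_fin]
  have z1 : Fintype.card {v : (Fin (0+1) ⊕ Fin (0+1) → ZMod 2) × (Fin 2 → ZMod 2) //
      Cfsg.quadFormPlus (0+1) (ZMod 2) v.1 + (v.2 0 ^ 2 + v.2 0 * v.2 1 + v.2 1 ^ 2) = 0} = 6 := by decide +kernel
  have z2 : Fintype.card {v : (Fin (1+1) ⊕ Fin (1+1) → ZMod 2) × (Fin 2 → ZMod 2) //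
      Cfsg.quadFormPlus (1+1) (ZMod 2) v.1 + (v.2 0 ^ 2 + v.2 0 * v.2 1 + v.2 1 ^ 2) = 0} = 28 := by decide +kernel
  rw [z1, z2]
  norm_num

end order

/-- The Sylow 2-subgroups of `S₈` and `O₆⁻(2)` are isomorphic. -/
theorem sym_o6 {K : Type} [Field K] [Fintype K] (hK : Fintype.card K = 2) (a b : K)
    (hab : ∀ z₁ z₂ : K, z₁ ^ 2 + a * z₁ * z₂ + b * z₂ ^ 2 = 0 → z₁ = 0 ∧ z₂ = 0)
    (P : Sylow 2 (Equiv.Perm (Fin 8))) (Q : Sylow 2 (Cfsg.isometryGroup K (Cfsg.quadFormMinus 2 K a b))) :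
    Nonempty ((P : Subgroup (Equiv.Perm (Fin 8))) ≃*
      (Q : Subgroup (Cfsg.isometryGroup K (Cfsg.quadFormMinus 2 K a b)))) := by
  classical
  haveI : Fact (Nat.Prime 2) := ⟨Nat.prime_two⟩
  haveI : CharP K 2 := charP_of_card_eq_prime hK
  let e : ZMod 2 ≃+* K := ZMod.ringEquiv K hK
  have hb : b = e 1 := by
    rw [map_one]
    have hb0 : b ≠ 0 := fun h => one_ne_zero (hab 0 1 (by simp [h])).2
    obtain ⟨c, rfl⟩ := e.surjective b
    have hc : c ≠ 0 := fun h => hb0 (by rw [h, map_zero])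
    rw [zmod_two_one c hc, map_one]
  have ha : a = e 1 := by
    rw [map_one]
    have ha0 : a ≠ 0 := fun h => one_ne_zero (hab 1 1 (by
      rw [hb, map_one, h]
      linear_combination (norm := skip) (CharP.cast_eq_zero K 2)
      push_cast
      ring)).1
    obtain ⟨c, rfl⟩ := e.surjective a
    have hc : c ≠ 0 := fun h => ha0 (by rw [h, map_zero])
    rw [zmod_two_one c hc, map_one]
  let E : GL I6 (ZMod 2) ≃* GL I6 K := Units.mapEquiv e.mapMatrix.toMulEquiv
  have hE : ∀ (g : GL I6 (ZMod 2)) (u : I6 → ZMod 2), (E g).1 *ᵥ (e ∘ u) = e ∘ (g.1 *ᵥ u) := fun g u =>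
    funext fun i => (RingHom.map_mulVec e.toRingHom g.1 u i).symm
  have hq : ∀ u : I6 → ZMod 2, Cfsg.quadFormMinus 2 K a b (e ∘ u) = e (Cfsg.quadFormMinus 2 (ZMod 2) 1 1 u) := by
    intro u; simp [Cfsg.quadFormMinus, ha, hb, map_add, map_mul, map_pow, -ZMod.pow_card]
  have hmap : ∀ g, g ∈ Cfsg.isometryGroup (ZMod 2) (Cfsg.quadFormMinus 2 (ZMod 2) 1 1) ↔
      E g ∈ Cfsg.isometryGroup K (Cfsg.quadFormMinus 2 K a b) := by
    intro g
    constructor
    · intro h u _
      obtain ⟨u, rfl⟩ : ∃ u₀ : I6 → ZMod 2, u = e ∘ u₀ := ⟨e.symm ∘ u, funext fun i => (e.apply_symm_apply _).symm⟩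
      show Cfsg.quadFormMinus 2 K a b ((E g).1 *ᵥ (e ∘ u)) = Cfsg.quadFormMinus 2 K a b (e ∘ u)
      rw [hE, hq, hq]
      exact congrArg e (h u u)
    · intro h u _
      have h' : Cfsg.quadFormMinus 2 K a b ((E g).1 *ᵥ (e ∘ u)) = Cfsg.quadFormMinus 2 K a b (e ∘ u) := h (e ∘ u) (e ∘ u)
      rw [hE, hq, hq] at h'
      exact e.injective h'
  let O := Cfsg.isometryGroup (ZMod 2) (Cfsg.quadFormMinus 2 (ZMod 2) 1 1)
  let T : O ≃* Cfsg.isometryGroup K (Cfsg.quadFormMinus 2 K a b) :=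
    { toFun := fun g => ⟨E g.1, (hmap g.1).1 g.2⟩
      invFun := fun g => ⟨E.symm g.1, (hmap _).2 (by rw [E.apply_symm_apply]; exact g.2)⟩
      left_inv := fun g => Subtype.ext (E.symm_apply_apply g.1)
      right_inv := fun g => Subtype.ext (E.apply_symm_apply g.1)
      map_mul' := fun g g' => Subtype.ext (map_mul E g.1 g'.1) }
  let ι : Fin 4 × ZMod 2 ≃ Fin 8 := Fintype.equivFinOfCardEq (by simp)
  let f : WD →* Equiv.Perm (Fin 8) := ι.permCongrHom.toMonoidHom.comp fP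
  let g := T.toMonoidHom.comp (gGL.codRestrict O gGL_mem)
  have hf1 : ∀ w, f w = 1 → w = 1 := by
    intro w hw
    have h : fP w = 1 := ι.permCongrHom.injective (hw.trans (map_one _).symm)
    have h' := fP_inj (w.1, w.2) h
    exact SemidirectProduct.ext (congrArg Prod.fst h') (congrArg Prod.snd h')
  have hg1 : ∀ w, g w = 1 → w = 1 := by
    intro w hw
    have h : gGL w = 1 := congrArg Subtype.val (T.injective (hw.trans (map_one T).symm))
    have h' := g_inj (w.1, w.2) (congrArg Units.val h)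
    exact SemidirectProduct.ext (congrArg Prod.fst h') (congrArg Prod.snd h')
  refine sylow_iso f g (fun w => ⟨fun h => by rw [hf1 w h, map_one], fun h => by rw [hg1 w h, map_one]⟩)
    (c := 1) ?_ one_pos card_WD (u := 315) ?_ (by decide) (v := 405) ?_ (by decide) P Q
  · rw [(MonoidHom.ker_eq_bot_iff f).2 ((injective_iff_map_eq_one f).2 hf1), Subgroup.card_bot]
  · rw [Nat.card_eq_fintype_card, Fintype.card_perm, Fintype.card_fin]
    rfl
  · rw [← Nat.card_congr T.toEquiv]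
    exact card_O6

end Cfsg.Agent.LocalEvenB.SylowWreath
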