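import Mathlib
import Cfsg.Agent.Lib.FGS.AutAlt

/-! Maximal sets all whose three-cycles lie in a given permutation group. -/

set_option autoImplicit false

namespace Cfsg.Agent.LocalEvenB.ThreeCycleSets

open Equiv Equiv.Perm

variable {α : Type*} [Fintype α] [DecidableEq α] (H : Subgroup (Perm α))

/-- All three-cycles on the set lie in the subgroup. -/
def Good (Δ : Finset α) : Prop := 3 ≤ Δ.card ∧ ∀ c : Perm α, c.IsThreeCycle → c.support ⊆ Δ → c ∈ H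

theorem three_form {c : Perm α} (hc : c.IsThreeCycle) {a : α} (ha : a ∈ c.support) :
    c = FGS.AutAlt.c3 a (c a) (c (c a)) ∧ c.support = {a, c a, c (c a)} ∧ c a ≠ a ∧ c (c a) ≠ a ∧ c (c a) ≠ c a ∧
      c (c (c a)) = a := by
  have ha' := mem_support.1 ha
  obtain ⟨h1, h2, h3, h4, h5⟩ := FGS.AutAlt.three_eq hc ha'
  refine ⟨h5, Finset.ext fun x => ⟨fun hx => by simpa using h4 x (mem_support.1 hx), fun hx => ?_⟩, ha', h1, h2, h3⟩
  simp only [Finset.mem_insert, Finset.mem_singleton] at hx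
  rw [mem_support]
  rcases hx with rfl | rfl | rfl
  · exact ha'
  · exact h2
  · rw [h3]; exact h1.symm

theorem c3_rot {a b c : α} (hab : a ≠ b) (hac : a ≠ c) (hbc : b ≠ c) :
    FGS.AutAlt.c3 b c a = FGS.AutAlt.c3 a b c := by
  refine Perm.ext fun x => ?_
  by_cases ha : x = a
  · rw [ha, FGS.AutAlt.c3_c, FGS.AutAlt.c3_a hab hac]
  by_cases hb : x = b
  · rw [hb, FGS.AutAlt.c3_a hbc hab.symm, FGS.AutAlt.c3_b hac hbc]
  by_cases hc : x = c
  · rw [hc, FGS.AutAlt.c3_b hab.symm hac.symm, FGS.AutAlt.c3_c]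
  rw [FGS.AutAlt.c3_other hb hc ha, FGS.AutAlt.c3_other ha hb hc]

theorem c3_inv {a b c : α} (hab : a ≠ b) (hac : a ≠ c) (hbc : b ≠ c) :
    (FGS.AutAlt.c3 a b c)⁻¹ = FGS.AutAlt.c3 a c b := by
  refine inv_eq_of_mul_eq_one_right (Perm.ext fun x => ?_)
  rw [Perm.mul_apply, Perm.one_apply]
  by_cases ha : x = a
  · rw [ha, FGS.AutAlt.c3_a hac hab, FGS.AutAlt.c3_c]
  by_cases hb : x = b
  · rw [hb, FGS.AutAlt.c3_c, FGS.AutAlt.c3_a hab hac]
  by_cases hc : x = c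
  · rw [hc, FGS.AutAlt.c3_b hab hbc.symm, FGS.AutAlt.c3_b hac hbc]
  rw [FGS.AutAlt.c3_other ha hc hb, FGS.AutAlt.c3_other ha hb hc]

theorem c3_conj (g : Perm α) (a b c : α) :
    g * FGS.AutAlt.c3 a b c * g⁻¹ = FGS.AutAlt.c3 (g a) (g b) (g c) := by
  rw [FGS.AutAlt.c3, FGS.AutAlt.c3, swap_apply_apply, swap_apply_apply]
  group

theorem c3_support {a b c : α} (hab : a ≠ b) (hac : a ≠ c) (hbc : b ≠ c) :
    (FGS.AutAlt.c3 a b c).support = {a, b, c} := by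
  have ha : a ∈ (FGS.AutAlt.c3 a b c).support := by
    rw [mem_support, FGS.AutAlt.c3_a hab hac]; exact hab.symm
  obtain ⟨-, h, -⟩ := three_form (FGS.AutAlt.c3_three hab hac hbc) ha
  rwa [FGS.AutAlt.c3_a hab hac, FGS.AutAlt.c3_b hac hbc] at h

theorem c3_mul_aux {a b d t : α} (hba : b ≠ a) (hbd : b ≠ d) (hbt : b ≠ t) (had : a ≠ d) (hat : a ≠ t)
    (hdt : d ≠ t) : FGS.AutAlt.c3 b a d * FGS.AutAlt.c3 b d t = FGS.AutAlt.c3 d t a := by
  refine Perm.ext fun y => ?_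
  rw [Perm.mul_apply]
  by_cases y1 : y = b
  · rw [y1, FGS.AutAlt.c3_a hbd hbt, FGS.AutAlt.c3_c, FGS.AutAlt.c3_other hbd hbt hba]
  by_cases y2 : y = d
  · rw [y2, FGS.AutAlt.c3_b hbt hdt, FGS.AutAlt.c3_other hbt.symm hat.symm hdt.symm,
      FGS.AutAlt.c3_a hdt had.symm]
  by_cases y3 : y = t
  · rw [y3, FGS.AutAlt.c3_c, FGS.AutAlt.c3_a hba hbd, FGS.AutAlt.c3_b had.symm hat.symm]
  by_cases y4 : y = a
  · rw [y4, FGS.AutAlt.c3_other hba.symm had hat, FGS.AutAlt.c3_b hbd had, FGS.AutAlt.c3_c]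
  rw [FGS.AutAlt.c3_other y1 y2 y3, FGS.AutAlt.c3_other y1 y4 y2, FGS.AutAlt.c3_other y2 y3 y4]

variable {H}

theorem Good.c3_mem {Δ : Finset α} (h : Good H Δ) {a b c : α} (ha : a ∈ Δ) (hb : b ∈ Δ) (hc : c ∈ Δ)
    (hab : a ≠ b) (hac : a ≠ c) (hbc : b ≠ c) : FGS.AutAlt.c3 a b c ∈ H := by
  refine h.2 _ (FGS.AutAlt.c3_three hab hac hbc) ?_
  rw [c3_support hab hac hbc]
  simp [Finset.insert_subset_iff, ha, hb, hc]

theorem Good.insert {Δ : Finset α} (h : Good H Δ) {x a b : α} (hx : x ∉ Δ) (ha : a ∈ Δ) (hb : b ∈ Δ) (hab : a ≠ b)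
    (hc : FGS.AutAlt.c3 x a b ∈ H) : Good H (insert x Δ) := by
  have hne : ∀ {p : α}, p ∈ Δ → x ≠ p := fun hp e => hx (e ▸ hp)
  have hrev : ∀ {p q : α}, p ∈ Δ → q ∈ Δ → p ≠ q → FGS.AutAlt.c3 x p q ∈ H → FGS.AutAlt.c3 x q p ∈ H := by
    intro p q hp hq hpq hm
    rw [← c3_inv (hne hp) (hne hq) hpq]
    exact H.inv_mem hm
  have hturn : ∀ {p q r : α}, p ∈ Δ → q ∈ Δ → r ∈ Δ → p ≠ q → p ≠ r → q ≠ r →
      FGS.AutAlt.c3 x p q ∈ H → FGS.AutAlt.c3 x q r ∈ H := by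
    intro p q r hp hq hr hpq hpr hqr hm
    have hs := h.c3_mem hp hq hr hpq hpr hqr
    have h1 := H.mul_mem (H.mul_mem hs hm) (H.inv_mem hs)
    rwa [c3_conj, FGS.AutAlt.c3_other (hne hp) (hne hq) (hne hr), FGS.AutAlt.c3_a hpq hpr,
      FGS.AutAlt.c3_b hpr hqr] at h1
  have hall : ∀ {p q : α}, p ∈ Δ → q ∈ Δ → p ≠ q → FGS.AutAlt.c3 x p q ∈ H := by
    intro p q hp hq hpq
    obtain ⟨b', hb', hpb', hm⟩ : ∃ b' ∈ Δ, p ≠ b' ∧ FGS.AutAlt.c3 x p b' ∈ H := by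
      rcases eq_or_ne p a with rfl | hpa
      · exact ⟨b, hb, hab, hc⟩
      rcases eq_or_ne p b with rfl | hpb
      · exact ⟨a, ha, hab.symm, hrev ha hp hab hc⟩
      · exact ⟨a, ha, hpa, hrev ha hp hpa.symm
          (hturn hb ha hp hab.symm hpb.symm hpa.symm (hrev ha hb hab hc))⟩
    rcases eq_or_ne b' q with rfl | hbq
    · exact hm
    · exact hturn hb' hp hq hpb'.symm hbq hpq (hrev hp hb' hpb' hm)
  refine ⟨h.1.trans (Finset.card_le_card (Finset.subset_insert _ _)), fun c hc3 hsub => ?_⟩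
  by_cases hxc : x ∈ c.support
  · obtain ⟨e, hs, h1, h2, h3, -⟩ := three_form hc3 hxc
    have hin : ∀ y, y ∈ c.support → y ≠ x → y ∈ Δ := fun y hy hyx => (Finset.mem_insert.1 (hsub hy)).resolve_left hyx
    rw [e]
    exact hall (hin _ (by rw [hs]; simp) h1) (hin _ (by rw [hs]; simp) h2) h3.symm
  · exact h.2 c hc3 fun y hy => (Finset.mem_insert.1 (hsub hy)).resolve_left fun e => hxc (e ▸ hy)

/-- A maximal set. -/
def MaxGood (H : Subgroup (Perm α)) (Δ : Finset α) : Prop := Good H Δ ∧ ∀ Γ, Good H Γ → Δ ⊆ Γ → Γ = Δ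

theorem exists_maxGood {c : Perm α} (hc : c.IsThreeCycle) (hcH : c ∈ H) :
    ∃ Δ, MaxGood H Δ ∧ c.support ⊆ Δ := by
  classical
  have hgood : Good H c.support := by
    refine ⟨hc.card_support.ge, fun d hd hsub => ?_⟩
    have hseq : d.support = c.support := Finset.eq_of_subset_of_card_le hsub (by rw [hc.card_support, hd.card_support])
    obtain ⟨a, ha⟩ := Finset.card_pos.1 (by rw [hd.card_support]; norm_num : 0 < d.support.card)
    obtain ⟨ed, hsd, h1, h2, h3, h3'⟩ := three_form hd ha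
    obtain ⟨ec, hsc, k1, k2, k3, -⟩ := three_form hc (hseq ▸ ha)
    have hda : d a ∈ ({a, c a, c (c a)} : Finset α) := by rw [← hsc, ← hseq, hsd]; simp
    have hdda : d (d a) ∈ ({a, c a, c (c a)} : Finset α) := by rw [← hsc, ← hseq, hsd]; simp
    simp only [Finset.mem_insert, Finset.mem_singleton] at hda hdda
    rcases hda with e | e | e
    · exact absurd e h1
    · have e2 : d (d a) = c (c a) := (hdda.resolve_left h2).resolve_left (fun e' => h3 (e'.trans e.symm))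
      rw [ed, e2, e, ← ec]; exact hcH
    · have e2 : d (d a) = c a := (hdda.resolve_left h2).resolve_right (fun e' => h3 (e'.trans e.symm))
      rw [ed, e2, e, ← c3_inv k1.symm k2.symm k3.symm, ← ec]; exact H.inv_mem hcH
  obtain ⟨Δ, hΔ, hmax⟩ := (Finset.univ.filter fun Γ => Good H Γ ∧ c.support ⊆ Γ).exists_max_image Finset.card
    ⟨c.support, Finset.mem_filter.2 ⟨Finset.mem_univ _, hgood, Finset.Subset.refl _⟩⟩
  have hΔ' := (Finset.mem_filter.1 hΔ).2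
  exact ⟨Δ, ⟨hΔ'.1, fun Γ hΓ hsub => (Finset.eq_of_subset_of_card_le hsub
    (hmax Γ (Finset.mem_filter.2 ⟨Finset.mem_univ _, hΓ, hΔ'.2.trans hsub⟩))).symm⟩, hΔ'.2⟩

theorem MaxGood.support_subset {Δ : Finset α} (h : MaxGood H Δ) {c : Perm α} (hc : c.IsThreeCycle) (hcH : c ∈ H)
    {a : α} (ha : a ∈ c.support) (haΔ : a ∈ Δ) : c.support ⊆ Δ := by
  classical
  obtain ⟨e, hs, h1, h2, h3, h3'⟩ := three_form hc ha
  have step : ∀ x p r : α, x ∉ Δ → p ∈ Δ → r ∈ Δ → p ≠ r → FGS.AutAlt.c3 x p r ∈ H → False := by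
    intro x p r hx hp hr hpr hm
    have := h.2 _ (h.1.insert hx hp hr hpr hm) (Finset.subset_insert _ _)
    exact hx (this ▸ Finset.mem_insert_self x Δ)
  have hrot1 := c3_rot (a := a) (b := c a) (c := c (c a)) h1.symm h2.symm h3.symm
  have hrot2 := c3_rot (a := c a) (b := c (c a)) (c := a) h3.symm h1 h2
  rw [hs]
  by_cases hb : c a ∈ Δ
  · by_cases hd : c (c a) ∈ Δ
    · simp [Finset.insert_subset_iff, haΔ, hb, hd]
    · exact (step (c (c a)) a (c a) hd haΔ hb h1.symm (by rw [hrot2, hrot1, ← e]; exact hcH)).elim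
  · by_cases hd : c (c a) ∈ Δ
    · exact (step (c a) (c (c a)) a hb hd haΔ h2 (by rw [hrot1, ← e]; exact hcH)).elim
    · exfalso
      obtain ⟨t, htΔ, hta⟩ : ∃ t ∈ Δ, t ≠ a :=
        Finset.exists_mem_ne (by have := h.1.1; omega) a
      obtain ⟨s, hsΔ, hsa, hst⟩ : ∃ s ∈ Δ, s ≠ a ∧ s ≠ t := by
        by_contra hno
        push Not at hno
        have hsub : Δ ⊆ {a, t} := fun s hs' => by
          rcases eq_or_ne s a with h' | h'
          · simp [h']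
          · simp [hno s hs' h']
        have := (Finset.card_le_card hsub).trans Finset.card_le_two
        have := h.1.1
        omega
      have hk := h.1.c3_mem haΔ htΔ hsΔ hta.symm hsa.symm hst.symm
      have hcH' : FGS.AutAlt.c3 (c a) (c (c a)) a ∈ H := by rw [hrot1, ← e]; exact hcH
      have hconj : FGS.AutAlt.c3 (c a) (c (c a)) t ∈ H := by
        have h' := H.mul_mem (H.mul_mem hk hcH') (H.inv_mem hk)
        have n1 : ∀ y, y ∉ Δ → FGS.AutAlt.c3 a t s y = y := fun y hy =>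
          FGS.AutAlt.c3_other (fun e' => hy (e' ▸ haΔ)) (fun e' => hy (e' ▸ htΔ)) (fun e' => hy (e' ▸ hsΔ))
        rwa [c3_conj, n1 _ hb, n1 _ hd, FGS.AutAlt.c3_a hta.symm hsa.symm] at h'
      refine step (c (c a)) t a hd htΔ haΔ hta ?_
      have h' := H.mul_mem (H.inv_mem hcH') hconj
      have hbt : c a ≠ t := fun e' => hb (e' ▸ htΔ)
      have hdt : c (c a) ≠ t := fun e' => hd (e' ▸ htΔ)
      rwa [c3_inv h3.symm h1 h2, c3_mul_aux h1 h3.symm hbt h2.symm hta.symm hdt] at h'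

end Cfsg.Agent.LocalEvenB.ThreeCycleSets
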