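import Mathlib
import Cfsg.Agent.Lib.LocalEvenB.ThreeCycleSets
import Cfsg.Agent.Lib.LocalEvenB.Basic

/-! Two proper overgroups of a Sylow 3-subgroup generating an alternating group. -/

set_option autoImplicit false

namespace Cfsg.Agent.LocalEvenB.ThreeSylowAlt

open Equiv Equiv.Perm ThreeCycleSets

variable {n : ℕ}

/-- The even permutations preserving a relation. -/
def stab (r : Setoid (Fin n)) : Subgroup (Perm (Fin n)) where
  carrier := {g | g ∈ alternatingGroup (Fin n) ∧ ∀ x y, r (g x) (g y) ↔ r x y}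
  one_mem' := ⟨(alternatingGroup (Fin n)).one_mem, fun _ _ => Iff.rfl⟩
  mul_mem' := fun {a b} ha hb => ⟨(alternatingGroup (Fin n)).mul_mem ha.1 hb.1,
    fun x y => by rw [Perm.mul_apply, Perm.mul_apply, ha.2, hb.2]⟩
  inv_mem' := fun {a} ha => ⟨(alternatingGroup (Fin n)).inv_mem ha.1, fun x y => by
    have := ha.2 (a⁻¹ x) (a⁻¹ y)
    simpa using this.symm⟩

theorem c3_mem_stab {r : Setoid (Fin n)} {a b c : Fin n} (hab : a ≠ b) (hac : a ≠ c) (hbc : b ≠ c) (rab : r a b)
    (rac : r a c) : FGS.AutAlt.c3 a b c ∈ stab r := by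
  have key : ∀ x, r (FGS.AutAlt.c3 a b c x) x := by
    intro x
    by_cases h1 : x = a
    · rw [h1, FGS.AutAlt.c3_a hab hac]; exact r.symm rab
    by_cases h2 : x = b
    · rw [h2, FGS.AutAlt.c3_b hac hbc]; exact r.trans (r.symm rac) rab
    by_cases h3 : x = c
    · rw [h3, FGS.AutAlt.c3_c]; exact rac
    rw [FGS.AutAlt.c3_other h1 h2 h3]
  exact ⟨(FGS.AutAlt.c3_three hab hac hbc).mem_alternatingGroup,
    fun x y => ⟨fun h => r.trans (r.symm (key x)) (r.trans h (key y)),
      fun h => r.trans (key x) (r.trans h (r.symm (key y)))⟩⟩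

theorem alt_le_of_univ {L : Subgroup (Perm (Fin n))} (h : ∀ c : Perm (Fin n), c.IsThreeCycle → c ∈ L) :
    alternatingGroup (Fin n) ≤ L := by
  rw [← Perm.closure_three_cycles_eq_alternating, Subgroup.closure_le]
  exact h

theorem fix_all {g : Perm (Fin n)} (hn : 4 ≤ n) (h : ∀ c : Perm (Fin n), c.IsThreeCycle → Commute g c) : g = 1 := by
  refine Perm.ext fun a => ?_
  by_contra hb
  rw [Perm.one_apply] at hb
  obtain ⟨c, hc⟩ : ∃ c, c ∉ ({a, g a} : Finset (Fin n)) := by
    by_contra h'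
    push Not at h'
    have := Finset.card_le_card (show (Finset.univ : Finset (Fin n)) ⊆ {a, g a} from fun d _ => h' d)
    rw [Finset.card_univ, Fintype.card_fin] at this
    have := this.trans Finset.card_le_two
    omega
  obtain ⟨d, hd⟩ : ∃ d, d ∉ ({a, g a, c} : Finset (Fin n)) := by
    by_contra h'
    push Not at h'
    have := Finset.card_le_card (show (Finset.univ : Finset (Fin n)) ⊆ {a, g a, c} from fun d _ => h' d)
    rw [Finset.card_univ, Fintype.card_fin] at this
    have := this.trans Finset.card_le_three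
    omega
  simp only [Finset.mem_insert, Finset.mem_singleton, not_or] at hc hd
  have e := congrFun (congrArg DFunLike.coe (h _ (FGS.AutAlt.c3_three (Ne.symm hc.1) (Ne.symm hd.1)
    (Ne.symm hd.2.2))).eq) a
  rw [Perm.mul_apply, Perm.mul_apply, FGS.AutAlt.c3_a (Ne.symm hc.1) (Ne.symm hd.1),
    FGS.AutAlt.c3_other hb (Ne.symm hc.2) (Ne.symm hd.2.1)] at e
  exact hc.1 (g.injective e)

/-- Facts used about the image of a Sylow 3-subgroup of the alternating group. -/
structure SylData (n : ℕ) where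
  S : Subgroup (Perm (Fin n))
  le : S ≤ alternatingGroup (Fin n)
  pg : IsPGroup 3 S
  max : ∀ R : Subgroup (Perm (Fin n)), IsPGroup 3 R → S ≤ Subgroup.normalizer (R : Set (Perm (Fin n))) → R ≤ S

theorem even_of_pow {g : Perm (Fin n)} {k : ℕ} (hk : Odd k) (hg : g ^ k = 1) : g ∈ alternatingGroup (Fin n) := by
  rw [mem_alternatingGroup]
  have := congrArg Perm.sign hg
  rw [map_pow, map_one] at this
  rcases Int.units_eq_one_or (Perm.sign g) with h | h
  · exact h
  · rw [h, hk.neg_one_pow] at this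
    exact absurd this (by decide)

theorem le_alt_of_pGroup {R : Subgroup (Perm (Fin n))} (hR : IsPGroup 3 R) : R ≤ alternatingGroup (Fin n) := by
  intro g hg
  obtain ⟨k, hk⟩ := hR ⟨g, hg⟩
  exact even_of_pow ((by decide : Odd 3).pow (n := k)) (by simpa using congrArg Subtype.val hk)

/-- The data attached to a Sylow subgroup. -/
def sylData (P : Sylow 3 (alternatingGroup (Fin n))) : SylData n where
  S := (P : Subgroup (alternatingGroup (Fin n))).map (alternatingGroup (Fin n)).subtype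
  le := Subgroup.map_subtype_le _
  pg := P.2.map _
  max := fun R hR hN => by
    set S' := (P : Subgroup (alternatingGroup (Fin n))).map (alternatingGroup (Fin n)).subtype
    have hT : IsPGroup 3 (R ⊔ S' : Subgroup (Perm (Fin n))) := hR.to_sup_of_normal_left' (P.2.map _) hN
    have h1 : IsPGroup 3 ((R ⊔ S').subgroupOf (alternatingGroup (Fin n))) :=
      hT.comap_of_injective _ (Subgroup.subtype_injective _)
    have h2 : (P : Subgroup (alternatingGroup (Fin n))) ≤ (R ⊔ S').subgroupOf (alternatingGroup (Fin n)) :=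
      fun x hx => Subgroup.mem_sup_right (Subgroup.mem_map_of_mem _ hx)
    have h3 := P.3 h1 h2
    intro g hg
    have hg' : g ∈ alternatingGroup (Fin n) := le_alt_of_pGroup hT (Subgroup.mem_sup_left hg)
    have : (⟨g, hg'⟩ : alternatingGroup (Fin n)) ∈ (R ⊔ S').subgroupOf (alternatingGroup (Fin n)) :=
      Subgroup.mem_sup_left hg
    rw [h3] at this
    exact ⟨_, this, rfl⟩

variable (D : SylData n)

theorem SylData.mem_of_commute {z : Perm (Fin n)} (hz : z ^ 3 = 1) (hc : ∀ s ∈ D.S, Commute s z) : z ∈ D.S := by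
  refine D.max (Subgroup.zpowers z) ?_ (fun s hs => ?_) (Subgroup.mem_zpowers z)
  · rintro ⟨x, hx⟩
    obtain ⟨k, rfl⟩ := Subgroup.mem_zpowers_iff.1 hx
    refine ⟨1, Subtype.ext ?_⟩
    simp only [pow_one, SubgroupClass.coe_pow, OneMemClass.coe_one]
    rw [← zpow_natCast, zpow_comm, zpow_natCast, hz, one_zpow]
  · rw [Subgroup.mem_normalizer_iff]
    intro x
    have key : ∀ x ∈ Subgroup.zpowers z, Commute s x := by
      intro x hx
      obtain ⟨k, rfl⟩ := Subgroup.mem_zpowers_iff.1 hx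
      exact (hc s hs).zpow_right k
    refine ⟨fun hx => by rwa [(key x hx).eq, mul_inv_cancel_right], fun hx => ?_⟩
    have e : x = s * x * s⁻¹ := by
      have := key _ hx
      have h' := this.eq
      simp only [← mul_assoc] at h'
      have := congrArg (fun w => s⁻¹ * w) h'
      simp only [mul_assoc, inv_mul_cancel_left, inv_mul_cancel, mul_one] at this
      simpa [mul_assoc] using this.symm
    rwa [e]

/-- The orbit relation. -/
def SylData.rel : Setoid (Fin n) := MulAction.orbitRel D.S (Fin n)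

theorem SylData.rel_iff {x y : Fin n} : D.rel x y ↔ ∃ s ∈ D.S, s y = x := by
  show x ∈ MulAction.orbit D.S y ↔ _
  constructor
  · rintro ⟨⟨s, hs⟩, rfl⟩; exact ⟨s, hs, rfl⟩
  · rintro ⟨s, hs, rfl⟩; exact ⟨⟨s, hs⟩, rfl⟩

theorem SylData.rel_apply {s : Perm (Fin n)} (hs : s ∈ D.S) (x : Fin n) : D.rel (s x) x :=
  D.rel_iff.2 ⟨s, hs, rfl⟩

/-- The orbit of a point. -/
noncomputable def SylData.orb (x : Fin n) : Finset (Fin n) :=
  haveI := Classical.decPred fun y => D.rel y x
  Finset.univ.filter fun y => D.rel y x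

theorem SylData.mem_orb {x y : Fin n} : y ∈ D.orb x ↔ D.rel y x := by simp [SylData.orb]

theorem SylData.orb_inv {s : Perm (Fin n)} (hs : s ∈ D.S) (x y : Fin n) : s y ∈ D.orb x ↔ y ∈ D.orb x := by
  rw [D.mem_orb, D.mem_orb]
  exact ⟨D.rel.trans (D.rel.symm (D.rel_apply hs y)), D.rel.trans (D.rel_apply hs y)⟩

theorem SylData.orb_card (x : Fin n) : ∃ a : ℕ, (D.orb x).card = 3 ^ a := by
  haveI : Fact (Nat.Prime 3) := ⟨Nat.prime_three⟩
  obtain ⟨a, ha⟩ := D.pg.card_orbit x (α := Fin n)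
  refine ⟨a, ?_⟩
  rw [← ha, ← Nat.card_eq_finsetCard]
  exact Nat.card_congr (Equiv.subtypeEquivRight fun y => D.mem_orb)

theorem SylData.orb_three {x : Fin n} (h : (D.orb x).card ≠ 1) : 3 ≤ (D.orb x).card := by
  obtain ⟨a, ha⟩ := D.orb_card x
  rcases a with _ | a
  · exact absurd (by simpa using ha) h
  · rw [ha, pow_succ]
    have := Nat.one_le_pow a 3 (by norm_num)
    omega

theorem SylData.orb_fix {x : Fin n} (h : (D.orb x).card = 1) {s : Perm (Fin n)} (hs : s ∈ D.S) : s x = x :=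
  Finset.card_le_one.1 h.le _ (D.mem_orb.2 (D.rel_apply hs x)) _ (D.mem_orb.2 (D.rel.refl x))

theorem SylData.two_fixed {x y w : Fin n} (hx : (D.orb x).card = 1) (hy : (D.orb y).card = 1)
    (hw : (D.orb w).card = 1) (hxy : x ≠ y) (hxw : x ≠ w) : y = w := by
  by_contra hyw
  have hm : FGS.AutAlt.c3 x y w ∈ D.S := by
    refine D.mem_of_commute ?_ fun s hs => ?_
    · rw [← (FGS.AutAlt.c3_three hxy hxw hyw).orderOf]; exact pow_orderOf_eq_one _
    · have e := c3_conj s x y w
      rw [D.orb_fix hx hs, D.orb_fix hy hs, D.orb_fix hw hs, mul_inv_eq_iff_eq_mul] at e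
      exact e
  have := D.orb_fix hx hm
  rw [FGS.AutAlt.c3_a hxy hxw] at this
  exact hxy this.symm

/-- A central element of order three with support equal to a nontrivial orbit. -/
theorem SylData.exists_central {x : Fin n} (h : (D.orb x).card ≠ 1) :
    ∃ z ∈ D.S, z ^ 3 = 1 ∧ (∀ s ∈ D.S, Commute s z) ∧ ∀ y, z y ≠ y ↔ y ∈ D.orb x := by
  classical
  haveI : Fact (Nat.Prime 3) := ⟨Nat.prime_three⟩
  set b := D.orb x
  let ρ : D.S →* Perm (Fin n) :=
    (Perm.ofSubtype (p := fun y => y ∈ b)).comp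
      { toFun := fun s => (s : Perm (Fin n)).subtypePerm fun y => D.orb_inv s.2 x y
        map_one' := by ext; rfl
        map_mul' := fun a c => by ext; rfl }
  have ρin : ∀ (s : D.S) y, y ∈ b → ρ s y = (s : Perm (Fin n)) y := fun s y hy => by
    show ofSubtype _ y = _
    rw [ofSubtype_apply_of_mem _ hy]
    rfl
  have ρout : ∀ (s : D.S) y, y ∉ b → ρ s y = y := fun s y hy => ofSubtype_apply_of_not_mem _ hy
  have hconj : ∀ s t : D.S, (s : Perm (Fin n)) * ρ t * (↑s)⁻¹ = ρ (s * t * s⁻¹) := by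
    intro s t
    refine Perm.ext fun y => ?_
    have hy' : (↑s : Perm (Fin n))⁻¹ y ∈ b ↔ y ∈ b := D.orb_inv (D.S.inv_mem s.2) x y
    by_cases hy : y ∈ b
    · rw [ρin _ y hy, Perm.mul_apply, Perm.mul_apply, ρin _ _ (hy'.2 hy)]
      rfl
    · rw [ρout _ y hy, Perm.mul_apply, Perm.mul_apply, ρout _ _ (mt hy'.1 hy)]
      simp
  have hR : ρ.range ≤ D.S := by
    refine D.max _ (IsPGroup.of_surjective D.pg ρ.rangeRestrict ρ.rangeRestrict_surjective) fun s hs => ?_
    rw [Subgroup.mem_normalizer_iff]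
    intro g
    refine ⟨?_, fun hg => ?_⟩
    · rintro ⟨t, rfl⟩; exact ⟨_, (hconj ⟨s, hs⟩ t).symm⟩
    · obtain ⟨t, ht⟩ := hg
      refine ⟨(⟨s, hs⟩ : D.S)⁻¹ * t * (⟨s, hs⟩ : D.S)⁻¹⁻¹, ?_⟩
      rw [← hconj, ht]
      simp [mul_assoc]
  haveI : Group.IsNilpotent D.S := D.pg.isNilpotent
  set N : Subgroup D.S := ρ.range.subgroupOf D.S
  haveI : N.Normal := ⟨fun g hg s => by
    obtain ⟨t, ht⟩ := Subgroup.mem_subgroupOf.1 hg
    exact Subgroup.mem_subgroupOf.2 ⟨s * t * s⁻¹, by rw [← hconj, ht]; rfl⟩⟩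
  have hN : N ≠ ⊥ := by
    intro hbot
    refine h (Finset.card_eq_one.2 ⟨x, Finset.ext fun y => ⟨fun hy => ?_, fun hy => ?_⟩⟩)
    · obtain ⟨s, hs, hsy⟩ := D.rel_iff.1 (D.mem_orb.1 hy)
      have hmem : (⟨ρ ⟨s, hs⟩, hR ⟨_, rfl⟩⟩ : D.S) ∈ N := ⟨_, rfl⟩
      rw [hbot, Subgroup.mem_bot] at hmem
      have := congrArg (fun u : D.S => (u : Perm (Fin n)) x) hmem
      simp only [OneMemClass.coe_one, Perm.one_apply] at this
      rw [ρin _ x (D.mem_orb.2 (D.rel.refl x))] at this
      simp [← hsy, this]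
    · rw [Finset.mem_singleton] at hy; rw [hy]; exact D.mem_orb.2 (D.rel.refl x)
  obtain ⟨w, hwN, hwc, hw1⟩ := LocalEvenB.exists_mem_center_ne_one N hN
  obtain ⟨k, hk⟩ := (IsPGroup.iff_orderOf.1 D.pg) w
  obtain ⟨k, rfl⟩ : ∃ j, k = j + 1 := ⟨k - 1, by
    rcases k with _ | k
    · rw [pow_zero, orderOf_eq_one_iff] at hk; exact absurd hk hw1
    · omega⟩
  set z : D.S := w ^ 3 ^ k
  have hz3 : z ^ 3 = 1 := by rw [← pow_mul, ← pow_succ, ← hk]; exact pow_orderOf_eq_one w
  have hz1 : z ≠ 1 := fun e => by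
    have := Nat.le_of_dvd (by positivity) (orderOf_dvd_of_pow_eq_one e)
    rw [hk, pow_succ] at this
    have := Nat.one_le_pow k 3 (by norm_num)
    omega
  have hcomm : ∀ s ∈ D.S, Commute s (z : Perm (Fin n)) := fun s hs => by
    have := Subgroup.mem_center_iff.1 ((Subgroup.center D.S).pow_mem hwc (3 ^ k)) ⟨s, hs⟩
    exact congrArg Subtype.val this
  obtain ⟨t, ht⟩ := Subgroup.mem_subgroupOf.1 (N.pow_mem hwN (3 ^ k))
  refine ⟨z, z.2, by simpa using congrArg Subtype.val hz3, hcomm, fun y => ⟨fun hy => ?_, fun hy hzy => hz1 ?_⟩⟩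
  · by_contra hyb
    exact hy (by rw [show (z : Perm (Fin n)) = ρ t from ht.symm]; exact ρout t y hyb)
  · refine Subtype.ext (Perm.ext fun u => ?_)
    by_cases hu : u ∈ b
    · obtain ⟨s, hs, rfl⟩ := D.rel_iff.1 (D.rel.trans (D.mem_orb.1 hu) (D.rel.symm (D.mem_orb.1 hy)))
      have := congrFun (congrArg DFunLike.coe (hcomm s hs).eq) y
      rw [Perm.mul_apply, Perm.mul_apply, hzy] at this
      exact this.symm
    · rw [show (z : Perm (Fin n)) = ρ t from ht.symm]
      exact ρout t u hu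

/-- Connecting the classes of a relation by an even permutation commuting with `z`. -/
theorem exists_delta {z : Perm (Fin n)} (hz : z ^ 3 = 1) (hfpf : ∀ y, z y ≠ y) {a a' a'' : Fin n}
    (h1 : a' ∉ ({a, z a, z (z a)} : Finset (Fin n))) (h2 : a'' ∉ ({a, z a, z (z a)} : Finset (Fin n)))
    (h3 : a'' ∉ ({a', z a', z (z a')} : Finset (Fin n))) :
    ∃ δ : Perm (Fin n), δ ∈ alternatingGroup (Fin n) ∧ Commute z δ ∧ δ a = a' ∧ δ a' = a'' := by
  have z3 : ∀ y, z (z (z y)) = y := fun y => by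
    have := congrFun (congrArg DFunLike.coe hz) y
    simpa [pow_succ] using this
  simp only [Finset.mem_insert, Finset.mem_singleton, not_or] at h1 h2 h3
  have n1 : a ≠ a' := Ne.symm h1.1
  have n2 : a ≠ a'' := Ne.symm h2.1
  have n3 : a' ≠ a'' := Ne.symm h3.1
  set c := FGS.AutAlt.c3 a a' a'' with hc
  have c3' : c.IsThreeCycle := FGS.AutAlt.c3_three n1 n2 n3
  set d := z * c * z⁻¹ with hd
  set e := z * d * z⁻¹ with he
  have hec : z * e * z⁻¹ = c := by
    have z4 : z * z * z = 1 := by rw [← hz, pow_succ, pow_two]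
    calc z * e * z⁻¹ = (z * z * z) * c * (z * z * z)⁻¹ := by rw [he, hd]; group
      _ = c := by rw [z4]; simp
  have sd : d = FGS.AutAlt.c3 (z a) (z a') (z a'') := c3_conj z a a' a''
  have se : e = FGS.AutAlt.c3 (z (z a)) (z (z a')) (z (z a'')) := by rw [he, sd]; exact c3_conj z _ _ _
  have q : ∀ u v : Fin n, z u = v → u = z (z v) := fun u v h => by rw [← h, z3]
  have fixd : ∀ y, y = a ∨ y = a' ∨ y = a'' → d y = y ∧ e y = y := by
    intro y hy
    rw [sd, se]
    rcases hy with e | e | e <;> rw [e]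
    · exact ⟨FGS.AutAlt.c3_other (hfpf a).symm (fun e => h1.2.2 (q _ _ e.symm)) (fun e => h2.2.2 (q _ _ e.symm)),
        FGS.AutAlt.c3_other (fun e => hfpf (z (z a)) (by rw [z3]; exact e))
          (fun e => h1.2.1 (by rw [e, z3])) (fun e => h2.2.1 (by rw [e, z3]))⟩
    · exact ⟨FGS.AutAlt.c3_other h1.2.1 (hfpf a').symm (fun e => h3.2.2 (q _ _ e.symm)),
        FGS.AutAlt.c3_other h1.2.2 (fun e => hfpf (z (z a')) (by rw [z3]; exact e))
          (fun e => h3.2.1 (by rw [e, z3]))⟩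
    · exact ⟨FGS.AutAlt.c3_other h2.2.1 h3.2.1 (hfpf a'').symm,
        FGS.AutAlt.c3_other h2.2.2 h3.2.2 (fun e => hfpf (z (z a'')) (by rw [z3]; exact e))⟩
  have cd : Commute c d := by
    refine Disjoint.commute fun y => ?_
    by_cases hy : y = a ∨ y = a' ∨ y = a''
    · exact Or.inr (fixd y hy).1
    · push Not at hy; exact Or.inl (FGS.AutAlt.c3_other hy.1 hy.2.1 hy.2.2)
  have ce : Commute c e := by
    refine Disjoint.commute fun y => ?_
    by_cases hy : y = a ∨ y = a' ∨ y = a''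
    · exact Or.inr (fixd y hy).2
    · push Not at hy; exact Or.inl (FGS.AutAlt.c3_other hy.1 hy.2.1 hy.2.2)
  refine ⟨c * d * e, ?_, ?_, ?_, ?_⟩
  · refine (alternatingGroup (Fin n)).mul_mem ((alternatingGroup (Fin n)).mul_mem c3'.mem_alternatingGroup ?_) ?_
    · exact alternatingGroup.normal.conj_mem _ c3'.mem_alternatingGroup z
    · exact alternatingGroup.normal.conj_mem _ (alternatingGroup.normal.conj_mem _ c3'.mem_alternatingGroup z) z
  · show z * (c * d * e) = (c * d * e) * z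
    calc z * (c * d * e) = (z * c * z⁻¹) * (z * d * z⁻¹) * (z * e * z⁻¹) * z := by group
      _ = c * d * e * z := by rw [hec, ← he, ← hd, (cd.mul_right ce).eq.symm, mul_assoc c d e]
  · rw [Perm.mul_apply, Perm.mul_apply, (fixd a (.inl rfl)).2, (fixd a (.inl rfl)).1, hc, FGS.AutAlt.c3_a n1 n2]
  · rw [Perm.mul_apply, Perm.mul_apply, (fixd a' (.inr (.inl rfl))).2, (fixd a' (.inr (.inl rfl))).1, hc,
      FGS.AutAlt.c3_b n2 n3]

theorem exists_out {r : Setoid (Fin n)} {p : Fin n} (q : Fin n) (hq : ¬ r p q)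
    (h : ∃ w, w ≠ p ∧ r p w) : ¬ alternatingGroup (Fin n) ≤ stab r := by
  obtain ⟨w, hwp, hw⟩ := h
  have hqw : q ≠ w := fun e => hq (e ▸ hw)
  have hpq : p ≠ q := fun e => hq (e ▸ r.refl p)
  intro hle
  have hm := (hle (FGS.AutAlt.c3_three hpq hwp.symm hqw).mem_alternatingGroup).2 p w
  rw [FGS.AutAlt.c3_a hpq hwp.symm, FGS.AutAlt.c3_c] at hm
  exact hq (r.symm (hm.2 hw))

/-- `GenPair D L₁ L₂` : two proper overgroups generating the alternating group. -/
def GenPair (D : SylData n) : Prop :=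
  ∃ L₁ L₂ : Subgroup (Perm (Fin n)), D.S ≤ L₁ ∧ D.S ≤ L₂ ∧ L₁ ≤ alternatingGroup (Fin n) ∧
    L₂ ≤ alternatingGroup (Fin n) ∧ ¬ alternatingGroup (Fin n) ≤ L₁ ∧ ¬ alternatingGroup (Fin n) ≤ L₂ ∧
    alternatingGroup (Fin n) ≤ L₁ ⊔ L₂

theorem good_class {r : Setoid (Fin n)} {L : Subgroup (Perm (Fin n))} (hL : stab r ≤ L) (Δ : Finset (Fin n))
    (h3 : 3 ≤ Δ.card) (hr : ∀ x ∈ Δ, ∀ y ∈ Δ, r x y) : Good L Δ := by
  refine ⟨h3, fun c hc hsub => ?_⟩
  obtain ⟨u, hu⟩ := Finset.card_pos.1 (by rw [hc.card_support]; norm_num : 0 < c.support.card)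
  obtain ⟨e, hs, h1, h2, h3, -⟩ := three_form hc hu
  rw [e]
  exact hL (c3_mem_stab h1.symm h2.symm h3.symm (hr _ (hsub hu) _ (hsub (by rw [hs]; simp)))
    (hr _ (hsub hu) _ (hsub (by rw [hs]; simp))))

theorem maxGood_univ_of {L : Subgroup (Perm (Fin n))} {Δ : Finset (Fin n)} (hΔ : MaxGood L Δ)
    (h : ∀ x, x ∈ Δ) : alternatingGroup (Fin n) ≤ L :=
  alt_le_of_univ fun c hc => hΔ.1.2 c hc fun x _ => h x

theorem exists_third {Δ : Finset (Fin n)} (h : 3 ≤ Δ.card) (a b : Fin n) : ∃ c ∈ Δ, c ≠ a ∧ c ≠ b := by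
  by_contra hno
  push Not at hno
  have : Δ ⊆ {a, b} := fun c hc => by
    rcases eq_or_ne c a with e | e
    · simp [e]
    · simp [hno c hc e]
  have := (Finset.card_le_card this).trans Finset.card_le_two
  omega

/-- Two classes or more, with a fixed-point-free central element. -/
theorem genPair_blocks (hn : 7 ≤ n) {z : Perm (Fin n)} (hz : z ^ 3 = 1) (hfpf : ∀ y, z y ≠ y)
    (hcomm : ∀ s ∈ D.S, Commute s z) (r : Setoid (Fin n)) [DecidableRel r.r] (hr : D.S ≤ stab r)
    (hsize : ∀ x, 3 ≤ (Finset.univ.filter fun y => r x y).card)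
    (a₀ : Fin n) (hbig : 4 ≤ (Finset.univ.filter fun y => r a₀ y).card) (b₀ : Fin n) (hb₀ : ¬ r a₀ b₀)
    (hsep : ∀ x, r x (z x) ∨ 7 ≤ (Finset.univ.filter fun y => r x y).card) : GenPair D := by
  classical
  set Cz := Subgroup.centralizer ({z} : Set (Perm (Fin n))) ⊓ alternatingGroup (Fin n) with hCz
  refine ⟨stab r, Cz, hr, le_inf (fun s hs => Subgroup.mem_centralizer_singleton_iff.2 (hcomm s hs).eq) D.le,
    fun g hg => hg.1, inf_le_right, ?_, ?_, ?_⟩
  · obtain ⟨w, hw, hwne⟩ := Finset.exists_mem_ne (by omega : 1 < (Finset.univ.filter fun y => r a₀ y).card) a₀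
    exact exists_out b₀ hb₀ ⟨w, hwne, (Finset.mem_filter.1 hw).2⟩
  · intro hle
    have : z = 1 := fix_all (by omega) fun c hc =>
      (Subgroup.mem_centralizer_singleton_iff.1 (hle hc.mem_alternatingGroup).1).symm
    exact hfpf a₀ (by rw [this]; rfl)
  set L := stab r ⊔ Cz
  have hLr : stab r ≤ L := le_sup_left
  have cls : ∀ x, Good L (Finset.univ.filter fun y => r x y) := fun x => good_class hLr _ (hsize x)
    fun u hu v hv => r.trans (r.symm (Finset.mem_filter.1 hu).2) (Finset.mem_filter.1 hv).2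
  obtain ⟨t₁, ht₁, ht₁a⟩ := Finset.exists_mem_ne (by omega : 1 < (Finset.univ.filter fun y => r a₀ y).card) a₀
  obtain ⟨t₂, ht₂, ht₂a, ht₂t⟩ := exists_third (by omega : 3 ≤ (Finset.univ.filter fun y => r a₀ y).card) a₀ t₁
  obtain ⟨Δ, hΔ, hsub⟩ := exists_maxGood (H := L) (FGS.AutAlt.c3_three ht₁a.symm ht₂a.symm ht₂t.symm)
    ((cls a₀).c3_mem (Finset.mem_filter.2 ⟨Finset.mem_univ _, r.refl a₀⟩) ht₁ ht₂ ht₁a.symm ht₂a.symm ht₂t.symm)
  rw [c3_support ht₁a.symm ht₂a.symm ht₂t.symm] at hsub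
  have ha₀Δ : a₀ ∈ Δ := hsub (by simp)
  -- a class meeting Δ is contained in Δ
  have spread : ∀ x ∈ Δ, ∀ y, r x y → y ∈ Δ := by
    intro x hx y hxy
    rcases eq_or_ne y x with rfl | hyx
    · exact hx
    obtain ⟨w, hw, hwx, hwy⟩ := exists_third (hsize x) x y
    have hm := (cls x).c3_mem (Finset.mem_filter.2 ⟨Finset.mem_univ _, r.refl x⟩)
      (Finset.mem_filter.2 ⟨Finset.mem_univ _, hxy⟩) hw hyx.symm hwx.symm hwy.symm
    have := hΔ.support_subset (FGS.AutAlt.c3_three hyx.symm hwx.symm hwy.symm) hm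
      (a := x) (by rw [c3_support hyx.symm hwx.symm hwy.symm]; simp) hx
    exact this (by rw [c3_support hyx.symm hwx.symm hwy.symm]; simp)
  refine maxGood_univ_of hΔ fun b => ?_
  by_cases hb : r a₀ b
  · exact spread a₀ ha₀Δ b hb
  obtain ⟨a', ha', ha'o⟩ : ∃ a', r a₀ a' ∧ a' ∉ ({a₀, z a₀, z (z a₀)} : Finset (Fin n)) := by
    by_contra h
    push Not at h
    have := (Finset.card_le_card (show (Finset.univ.filter fun y => r a₀ y) ⊆ {a₀, z a₀, z (z a₀)} from
      fun y hy => h y (Finset.mem_filter.1 hy).2)).trans Finset.card_le_three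
    omega
  obtain ⟨a'', ha'', h2, h3⟩ : ∃ a'', r b a'' ∧ a'' ∉ ({a₀, z a₀, z (z a₀)} : Finset (Fin n)) ∧
      a'' ∉ ({a', z a', z (z a')} : Finset (Fin n)) := by
    by_cases hbig' : 7 ≤ (Finset.univ.filter fun y => r b y).card
    · by_contra h
      push Not at h
      have hsub : (Finset.univ.filter fun y => r b y) ⊆
          ({a₀, z a₀, z (z a₀)} : Finset (Fin n)) ∪ {a', z a', z (z a')} := fun y hy => by
        rw [Finset.mem_union]
        by_cases h' : y ∈ ({a₀, z a₀, z (z a₀)} : Finset (Fin n))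
        · exact Or.inl h'
        · exact Or.inr (h y (Finset.mem_filter.1 hy).2 h')
      have := (Finset.card_le_card hsub).trans (Finset.card_union_le _ _)
      have := Finset.card_le_three (a := a₀) (b := z a₀) (c := z (z a₀))
      have := Finset.card_le_three (a := a') (b := z a') (c := z (z a'))
      omega
    · have zb : r b (z b) := (hsep b).resolve_right hbig'
      have z3 : z (z (z b)) = b := by
        have := congrFun (congrArg DFunLike.coe hz) b
        simpa [pow_succ] using this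
      have key : ∀ u, r a₀ u → b ∉ ({u, z u, z (z u)} : Finset (Fin n)) := by
        intro u hu hmem
        have z3u : z (z (z u)) = u := by
          have := congrFun (congrArg DFunLike.coe hz) u
          simpa [pow_succ] using this
        simp only [Finset.mem_insert, Finset.mem_singleton] at hmem
        have zzb : r b (z (z b)) := by
          rcases hsep (z b) with h | h
          · exact r.trans zb h
          · have e : (Finset.univ.filter fun y => r (z b) y) = Finset.univ.filter fun y => r b y := by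
              ext y
              simp only [Finset.mem_filter, Finset.mem_univ, true_and]
              exact ⟨r.trans zb, r.trans (r.symm zb)⟩
            rw [e] at h
            exact absurd h hbig'
        rcases hmem with h | h | h
        · exact hb (h ▸ hu)
        · exact hb (r.trans hu (r.symm (by rw [h, z3u] at zzb; rw [h]; exact zzb)))
        · exact hb (r.trans hu (r.symm (by rw [h, z3u] at zb; rw [h]; exact zb)))
      exact ⟨b, r.refl b, key a₀ (r.refl a₀), key a' ha'⟩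
  obtain ⟨δ, hδA, hδz, hδ1, hδ2⟩ := exists_delta hz hfpf ha'o h2 h3
  have hna : a' ≠ a₀ := fun e => ha'o (by rw [e]; simp)
  obtain ⟨w, hw, hwa, hwa'⟩ := exists_third (hsize a₀) a₀ a'
  have hδL : δ ∈ L := Subgroup.mem_sup_right ⟨Subgroup.mem_centralizer_singleton_iff.2 hδz.eq.symm, hδA⟩
  have hm := L.mul_mem (L.mul_mem hδL ((cls a₀).c3_mem (Finset.mem_filter.2 ⟨Finset.mem_univ _, r.refl a₀⟩)
    (Finset.mem_filter.2 ⟨Finset.mem_univ _, ha'⟩) hw hna.symm hwa.symm hwa'.symm)) (L.inv_mem hδL)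
  rw [c3_conj, hδ1, hδ2] at hm
  have hne1 : a' ≠ a'' := fun e => h3 (by rw [← e]; simp)
  have hne2 : a' ≠ δ w := fun e => hwa (δ.injective (hδ1.trans e)).symm
  have hne3 : a'' ≠ δ w := fun e => hwa' (δ.injective (hδ2.trans e)).symm
  have := hΔ.support_subset (FGS.AutAlt.c3_three hne1 hne2 hne3) hm (a := a')
    (by rw [c3_support hne1 hne2 hne3]; simp) (spread a₀ ha₀Δ a' ha')
  exact spread a'' (this (by rw [c3_support hne1 hne2 hne3]; simp)) b (r.symm ha'')

/-- Three orbits or more. -/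
theorem genPair_three {u v w : Fin n} (huv : ¬ D.rel u v) (huw : ¬ D.rel u w) (hvw : ¬ D.rel v w)
    (hbig : 3 ≤ (D.orb w).card) : GenPair D := by
  classical
  let R : Fin n → Setoid (Fin n) := fun p =>
    ⟨fun x y => x ∈ D.orb p ↔ y ∈ D.orb p, ⟨fun _ => Iff.rfl, Iff.symm, Iff.trans⟩⟩
  have hS : ∀ p, D.S ≤ stab (R p) := fun p s hs => ⟨D.le hs, fun x y => by
    show (s x ∈ _ ↔ s y ∈ _) ↔ _
    rw [D.orb_inv hs, D.orb_inv hs]
    rfl⟩
  have prp : ∀ p, ¬ D.rel p w → ¬ alternatingGroup (Fin n) ≤ stab (R p) := by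
    intro p hp
    obtain ⟨w', hw', hne⟩ := Finset.exists_mem_ne (by omega : 1 < (D.orb w).card) w
    have hno : ∀ y, y ∈ D.orb w → y ∉ D.orb p := fun y hy hy' =>
      hp (D.rel.trans (D.rel.symm (D.mem_orb.1 hy')) (D.mem_orb.1 hy))
    refine exists_out (p := w) p ?_ ⟨w', hne, ?_⟩
    · show ¬ (w ∈ D.orb p ↔ p ∈ D.orb p)
      intro h
      exact hno w (D.mem_orb.2 (D.rel.refl w)) (h.2 (D.mem_orb.2 (D.rel.refl p)))
    · show (w ∈ D.orb p ↔ w' ∈ D.orb p)
      exact iff_of_false (hno w (D.mem_orb.2 (D.rel.refl w))) (hno w' hw')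
  refine ⟨stab (R u), stab (R v), hS u, hS v, fun g hg => hg.1, fun g hg => hg.1, prp u huw, prp v hvw, ?_⟩
  set L := stab (R u) ⊔ stab (R v)
  set Ω : Fin n → Finset (Fin n) := fun p => Finset.univ.filter fun x => x ∉ D.orb p
  have hmem : ∀ p x, x ∈ Ω p ↔ ¬ D.rel x p := fun p x => by simp [Ω, D.mem_orb]
  have hΩ : ∀ p, ¬ D.rel p w → 3 ≤ (Ω p).card := fun p hp => hbig.trans (Finset.card_le_card fun y hy => by
    rw [hmem]; exact fun h => hp (D.rel.trans (D.rel.symm h) (D.mem_orb.1 hy)))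
  have good : ∀ p, stab (R p) ≤ L → ¬ D.rel p w → Good L (Ω p) := fun p hp hpw => good_class hp _ (hΩ p hpw)
    fun x hx y hy => by
      show (x ∈ D.orb p ↔ y ∈ D.orb p)
      exact iff_of_false (Finset.mem_filter.1 hx).2 (Finset.mem_filter.1 hy).2
  have gu := good u le_sup_left huw
  have gv := good v le_sup_right hvw
  obtain ⟨w₁, hw₁, hw₁w⟩ := Finset.exists_mem_ne (by omega : 1 < (D.orb w).card) w
  obtain ⟨w₂, hw₂, hw₂w, hw₂₁⟩ := exists_third hbig w w₁
  have inU : ∀ y ∈ D.orb w, y ∈ Ω u ∧ y ∈ Ω v := fun y hy =>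
    ⟨(hmem _ _).2 fun h => huw (D.rel.trans (D.rel.symm h) (D.mem_orb.1 hy)),
      (hmem _ _).2 fun h => hvw (D.rel.trans (D.rel.symm h) (D.mem_orb.1 hy))⟩
  have hwo : w ∈ D.orb w := D.mem_orb.2 (D.rel.refl w)
  obtain ⟨Δ, hΔ, hsub⟩ := exists_maxGood (H := L) (FGS.AutAlt.c3_three hw₁w.symm hw₂w.symm hw₂₁.symm)
    (gu.c3_mem (inU _ hwo).1 (inU _ hw₁).1 (inU _ hw₂).1 hw₁w.symm hw₂w.symm hw₂₁.symm)
  rw [c3_support hw₁w.symm hw₂w.symm hw₂₁.symm] at hsub
  refine maxGood_univ_of hΔ fun x => ?_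
  have key : ∀ p, Good L (Ω p) → w ∈ Ω p → w₁ ∈ Ω p → w₂ ∈ Ω p → x ∈ Ω p → x ∈ Δ := by
    intro p g h0 h1 h2 hx
    rcases eq_or_ne x w with rfl | hxw
    · exact hsub (by simp)
    obtain ⟨t, ht, htw, htx⟩ := exists_third g.1 w x
    have := hΔ.support_subset (FGS.AutAlt.c3_three hxw.symm htw.symm htx.symm)
      (g.c3_mem h0 hx ht hxw.symm htw.symm htx.symm) (a := w)
      (by rw [c3_support hxw.symm htw.symm htx.symm]; simp) (hsub (by simp))
    exact this (by rw [c3_support hxw.symm htw.symm htx.symm]; simp)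
  by_cases hxu : D.rel x u
  · exact key v gv (inU _ hwo).2 (inU _ hw₁).2 (inU _ hw₂).2
      ((hmem _ _).2 fun h => huv (D.rel.trans (D.rel.symm hxu) h))
  · exact key u gu (inU _ hwo).1 (inU _ hw₁).1 (inU _ hw₂).1 ((hmem _ _).2 hxu)

/-- The transitive case: blocks of size `n / 3`. -/
theorem genPair_one (ha : ∀ x y, D.rel x y) (h27 : 27 ≤ n) : GenPair D := by
  classical
  haveI : Fact (Nat.Prime 3) := ⟨Nat.prime_three⟩
  let x₀ : Fin n := ⟨0, by omega⟩
  have horb : D.orb x₀ = Finset.univ := Finset.eq_univ_of_forall fun y => D.mem_orb.2 (ha y x₀)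
  have hcard1 : (D.orb x₀).card ≠ 1 := by rw [horb, Finset.card_univ, Fintype.card_fin]; omega
  obtain ⟨z, -, hz, hcomm, hmoves⟩ := D.exists_central hcard1
  have hfpf : ∀ y, z y ≠ y := fun y => (hmoves y).2 (by rw [horb]; exact Finset.mem_univ _)
  set St := MulAction.stabilizer D.S x₀
  obtain ⟨a, hcardS⟩ := IsPGroup.iff_card.1 D.pg
  obtain ⟨b, hcardSt⟩ := IsPGroup.iff_card.1 (D.pg.to_subgroup St)
  have hindex : St.index = n := by
    rw [MulAction.index_stabilizer]
    have : MulAction.orbit D.S x₀ = Set.univ := Set.eq_univ_of_forall fun y => ha y x₀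
    rw [this, Set.ncard_univ, Nat.card_eq_fintype_card, Fintype.card_fin]
  have hmul : 3 ^ b * n = 3 ^ a := by
    have h := St.card_mul_index
    rw [hindex, hcardSt, hcardS] at h
    exact h
  have hba : b + 1 ≤ a := by
    by_contra h
    have := Nat.pow_le_pow_right (show 0 < 3 by norm_num) (show a ≤ b by omega)
    have := Nat.one_le_pow b 3 (by norm_num)
    nlinarith
  obtain ⟨M, hMcard, hStM⟩ := Sylow.exists_subgroup_card_pow_prime_le 3
    (n := b) (m := a - 1) (by rw [hcardS]; exact pow_dvd_pow 3 (by omega)) St hcardSt (by omega)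
  have hMidx : M.index = 3 := by
    have h := M.card_mul_index
    rw [hMcard, hcardS, show a = (a - 1) + 1 by omega, pow_succ] at h
    exact Nat.eq_of_mul_eq_mul_left (pow_pos (by norm_num) _) h
  have hex : ∀ y, ∃ s : D.S, (s : Perm (Fin n)) x₀ = y := fun y => by
    obtain ⟨s, hs, e⟩ := D.rel_iff.1 (ha y x₀); exact ⟨⟨s, hs⟩, e⟩
  choose g hg using hex
  let f : Fin n → D.S ⧸ M := fun y => (g y : D.S ⧸ M)
  have hequiv : ∀ (s : D.S) y, f ((s : Perm (Fin n)) y) = s • f y := by
    intro s y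
    show ((g _ : D.S) : D.S ⧸ M) = ((s * g y : D.S) : D.S ⧸ M)
    rw [QuotientGroup.eq]
    refine hStM (MulAction.mem_stabilizer_iff.2 ?_)
    show (((g ((s : Perm (Fin n)) y))⁻¹ * (s * g y) : D.S) : Perm (Fin n)) x₀ = x₀
    rw [Subgroup.coe_mul, Subgroup.coe_mul, Perm.mul_apply, Perm.mul_apply, hg, InvMemClass.coe_inv, inv_eq_iff_eq]
    exact (hg _).symm
  let r : Setoid (Fin n) := Setoid.ker f
  have hrr : ∀ x y, r x y ↔ f x = f y := fun _ _ => Iff.rfl
  have hS : D.S ≤ stab r := fun s hs => ⟨D.le hs, fun x y => by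
    rw [hrr, hrr, hequiv ⟨s, hs⟩, hequiv ⟨s, hs⟩]
    exact (MulAction.injective _).eq_iff⟩
  haveI : DecidableRel r.r := fun x y => decEq (f x) (f y)
  have hcls : ∀ x y, (Finset.univ.filter fun u => r x u).card = (Finset.univ.filter fun u => r y u).card := by
    intro x y
    obtain ⟨s, hs, rfl⟩ := D.rel_iff.1 (ha y x)
    refine (Finset.card_bij (fun u _ => s u) (fun u hu => ?_) (fun u _ v _ e => s.injective e) fun u hu => ?_)
    · simp only [Finset.mem_filter, Finset.mem_univ, true_and] at hu ⊢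
      exact ((hS hs).2 x u).2 hu
    · refine ⟨s⁻¹ u, ?_, by simp⟩
      simp only [Finset.mem_filter, Finset.mem_univ, true_and] at hu ⊢
      have := (hS hs).2 x (s⁻¹ u)
      rw [show s (s⁻¹ u) = u by simp] at this
      exact this.1 hu
  have hsum : (Finset.univ.filter fun u => r x₀ u).card * 3 = n := by
    have hc : ∀ q : D.S ⧸ M, (Finset.univ.filter fun u => f u = q).card = (Finset.univ.filter fun u => r x₀ u).card := by
      intro q
      induction q using QuotientGroup.induction_on with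
      | H s =>
        have e : f ((s : Perm (Fin n)) x₀) = (s : D.S ⧸ M) := by
          show ((g _ : D.S) : D.S ⧸ M) = _
          rw [QuotientGroup.eq]
          refine hStM (MulAction.mem_stabilizer_iff.2 ?_)
          show (((g ((s : Perm (Fin n)) x₀))⁻¹ * s : D.S) : Perm (Fin n)) x₀ = x₀
          rw [Subgroup.coe_mul, Perm.mul_apply, InvMemClass.coe_inv, inv_eq_iff_eq, hg]
        rw [← hcls ((s : Perm (Fin n)) x₀) x₀]
        refine congrArg Finset.card (Finset.ext fun u => ?_)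
        simp only [Finset.mem_filter, Finset.mem_univ, true_and, hrr, e, eq_comm]
    haveI : Fintype (D.S ⧸ M) := Fintype.ofFinite _
    have := Finset.card_eq_sum_card_fiberwise (s := (Finset.univ : Finset (Fin n))) (t := (Finset.univ : Finset (D.S ⧸ M)))
      (f := f) (fun u _ => Finset.mem_univ _)
    rw [Finset.sum_congr rfl (fun q _ => hc q), Finset.sum_const, Finset.card_univ, Finset.card_univ, Fintype.card_fin,
      ← Nat.card_eq_fintype_card (α := D.S ⧸ M), ← Subgroup.index_eq_card, hMidx, smul_eq_mul] at this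
    omega
  have hbig : ∀ x, 7 ≤ (Finset.univ.filter fun u => r x u).card := fun x => by rw [hcls x x₀]; omega
  obtain ⟨b₀, hb₀⟩ : ∃ b₀, ¬ r x₀ b₀ := by
    by_contra h
    push Not at h
    rw [Finset.filter_true_of_mem (fun u _ => h u), Finset.card_univ, Fintype.card_fin] at hsum
    omega
  exact genPair_blocks D (by omega) hz hfpf hcomm r hS (fun x => by have := hbig x; omega) x₀
    (by have := hbig x₀; omega) b₀ hb₀ fun x => Or.inr (hbig x)

theorem main (hn : 5 ≤ n) (h6 : n ≠ 6) (h9 : n ≠ 9) (h1 : ∀ a : ℕ, 2 ≤ a → n ≠ 3 ^ a + 1) : GenPair D := by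
  classical
  by_cases htr : ∀ x y, D.rel x y
  · refine genPair_one D htr ?_
    let x₀ : Fin n := ⟨0, by omega⟩
    obtain ⟨a, ha⟩ := D.orb_card x₀
    rw [show D.orb x₀ = Finset.univ from Finset.eq_univ_of_forall fun y => D.mem_orb.2 (htr y x₀),
      Finset.card_univ, Fintype.card_fin] at ha
    have h3a : 3 ≤ a := by
      by_contra h
      interval_cases a <;> omega
    calc 27 = 3 ^ 3 := by norm_num
      _ ≤ 3 ^ a := Nat.pow_le_pow_right (by norm_num) h3a
      _ = n := ha.symm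
  push Not at htr
  obtain ⟨p, q, hpq⟩ := htr
  by_cases hthree : ∀ x, D.rel x p ∨ D.rel x q
  · have hsum : (D.orb p).card + (D.orb q).card = n := by
      rw [← Finset.card_union_of_disjoint, show D.orb p ∪ D.orb q = Finset.univ from
        Finset.eq_univ_of_forall fun x => Finset.mem_union.2 ((hthree x).imp D.mem_orb.2 D.mem_orb.2),
        Finset.card_univ, Fintype.card_fin]
      rw [Finset.disjoint_left]
      exact fun x hx hx' => hpq (D.rel.trans (D.rel.symm (D.mem_orb.1 hx)) (D.mem_orb.1 hx'))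
    obtain ⟨i, hi⟩ := D.orb_card p
    obtain ⟨j, hj⟩ := D.orb_card q
    have two : ∀ {i : ℕ}, n = 3 ^ i + 1 → False := by
      intro i e
      rcases i with _ | _ | i
      · simp at e; omega
      · simp at e; omega
      · exact h1 (i + 2) (by omega) e
    have hp1 : (D.orb p).card ≠ 1 := fun e => two (i := j) (by rw [← hsum, e, hj, add_comm])
    have hq1 : (D.orb q).card ≠ 1 := fun e => two (i := i) (by rw [← hsum, e, hi])
    have hp3 := D.orb_three hp1
    have hq3 := D.orb_three hq1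
    obtain ⟨z₁, hz₁S, hz₁, hc₁, hm₁⟩ := D.exists_central hp1
    obtain ⟨z₂, -, hz₂, hc₂, hm₂⟩ := D.exists_central hq1
    have hz : (z₁ * z₂) ^ 3 = 1 := by
      rw [(hc₂ z₁ hz₁S).mul_pow, hz₁, hz₂, mul_one]
    have hnot : ∀ y, y ∈ D.orb p → y ∉ D.orb q := fun y hy hy' =>
      hpq (D.rel.trans (D.rel.symm (D.mem_orb.1 hy)) (D.mem_orb.1 hy'))
    have hfpf : ∀ y, (z₁ * z₂) y ≠ y := by
      intro y
      rw [Perm.mul_apply]
      rcases hthree y with h | h
      · have : z₂ y = y := by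
          by_contra h'
          exact hnot y (D.mem_orb.2 h) ((hm₂ y).1 h')
        rw [this]
        exact (hm₁ y).2 (D.mem_orb.2 h)
      · have h' : z₁ y = y := by
          by_contra h'
          exact hnot y ((hm₁ y).1 h') (D.mem_orb.2 h)
        have e := congrFun (congrArg DFunLike.coe (hc₂ z₁ hz₁S).eq) y
        rw [Perm.mul_apply, Perm.mul_apply, h'] at e
        rw [e]
        exact (hm₂ y).2 (D.mem_orb.2 h)
    let r : Setoid (Fin n) :=
      ⟨fun x y => x ∈ D.orb p ↔ y ∈ D.orb p, ⟨fun _ => Iff.rfl, Iff.symm, Iff.trans⟩⟩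
    haveI : DecidableRel r.r := Classical.decRel _
    have hr : D.S ≤ stab r := fun s hs => ⟨D.le hs, fun x y => by
      show (s x ∈ _ ↔ s y ∈ _) ↔ _
      rw [D.orb_inv hs, D.orb_inv hs]
      rfl⟩
    have cp : ∀ x, x ∈ D.orb p → (Finset.univ.filter fun y => r x y).card = (D.orb p).card := fun x hx =>
      congrArg Finset.card (Finset.ext fun y => by
        simp only [Finset.mem_filter, Finset.mem_univ, true_and]
        show (x ∈ D.orb p ↔ y ∈ D.orb p) ↔ _
        simp [hx])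
    have cq : ∀ x, x ∉ D.orb p → (Finset.univ.filter fun y => r x y).card = (D.orb q).card := fun x hx =>
      congrArg Finset.card (Finset.ext fun y => by
        simp only [Finset.mem_filter, Finset.mem_univ, true_and]
        show (x ∈ D.orb p ↔ y ∈ D.orb p) ↔ _
        simp only [hx, false_iff]
        exact ⟨fun h => D.mem_orb.2 ((hthree y).resolve_left fun h' => h (D.mem_orb.2 h')), fun h h' => hnot y h' h⟩)
    have hz' : ∀ s ∈ D.S, Commute s (z₁ * z₂) := fun s hs => (hc₁ s hs).mul_right (hc₂ s hs)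
    have hsep : ∀ x, r x ((z₁ * z₂) x) := fun x => by
      show (x ∈ D.orb p ↔ (z₁ * z₂) x ∈ D.orb p)
      rw [D.orb_inv (D.mem_of_commute hz hz')]
    have hsize : ∀ x, 3 ≤ (Finset.univ.filter fun y => r x y).card := fun x => by
      by_cases hx : x ∈ D.orb p
      · rw [cp x hx]; exact hp3
      · rw [cq x hx]; exact hq3
    have hpp : p ∈ D.orb p := D.mem_orb.2 (D.rel.refl p)
    have hqp : q ∉ D.orb p := fun h => hpq (D.rel.symm (D.mem_orb.1 h))
    by_cases hbig : 4 ≤ (D.orb p).card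
    · exact genPair_blocks D (by omega) hz hfpf hz' r hr hsize p (by rw [cp p hpp]; exact hbig) q
        (fun h => hqp (h.1 hpp)) fun x => Or.inl (hsep x)
    · exact genPair_blocks D (by omega) hz hfpf hz' r hr hsize q
        (by rw [cq q hqp]; omega) p (fun h => hqp (h.2 hpp)) fun x => Or.inl (hsep x)
  · push Not at hthree
    obtain ⟨x, hxp, hxq⟩ := hthree
    by_cases hx : (D.orb x).card = 1
    · by_cases hp : (D.orb p).card = 1
      · by_cases hq : (D.orb q).card = 1
        · have hne : p ≠ q := fun e => hpq (e ▸ D.rel.refl p)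
          have hne' : p ≠ x := fun e => hxp (e ▸ D.rel.refl p)
          exact absurd (D.two_fixed hp hq hx hne hne' ▸ D.rel.refl q) hxq
        · exact genPair_three D hxp hxq hpq (D.orb_three hq)
      · exact genPair_three D hxq hxp (fun h => hpq (D.rel.symm h)) (D.orb_three hp)
    · exact genPair_three D hpq (fun h => hxp (D.rel.symm h)) (fun h => hxq (D.rel.symm h)) (D.orb_three hx)

end Cfsg.Agent.LocalEvenB.ThreeSylowAlt
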