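import Mathlib

/-! Matrix units from two involutions with anticommutator `-1`, and coordinates with respect to them. -/

set_option autoImplicit false

namespace Cfsg.Agent.LocalEvenB.TraceOne

variable {R : Type*} [Ring R]

/-- Two involutions with anticommutator `-1` in a ring of exponent four. -/
structure Pair (R : Type*) [Ring R] where
  U : R
  L : R
  hU : U * U = 1
  hL : L * L = 1
  hLU : L * U = -1 - U * L
  h4 : (4 : R) = 0

namespace Pair

variable (P : Pair R)

/-- An integral combination. -/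
def comb (a b c d : ℤ) : R := a • (1 : R) + b • P.U + c • P.L + d • (P.U * P.L)

theorem comb_congr {a b c d a' b' c' d' : ℤ} (ha : (4 : ℤ) ∣ a - a') (hb : (4 : ℤ) ∣ b - b')
    (hc : (4 : ℤ) ∣ c - c') (hd : (4 : ℤ) ∣ d - d') : P.comb a b c d = P.comb a' b' c' d' := by
  have key : ∀ (m m' : ℤ) (X : R), (4 : ℤ) ∣ m - m' → m • X = m' • X := fun m m' X ⟨t, ht⟩ => by
    have : (4 * t : ℤ) • X = 0 := by
      rw [zsmul_eq_mul, Int.cast_mul, Int.cast_ofNat, P.h4, zero_mul, zero_mul]
    rw [show m = 4 * t + m' by omega, add_zsmul, this, zero_add]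
  simp only [comb]
  rw [key a a' _ ha, key b b' _ hb, key c c' _ hc, key d d' _ hd]

theorem comb_mul (a b c d a' b' c' d' : ℤ) : P.comb a b c d * P.comb a' b' c' d' =
    P.comb (a * a' + b * b' + c * c' - c * b' - d * d')
      (a * b' + b * a' - c * d' - d * b' + d * c')
      (a * c' + b * d' + c * a' - c * d' - d * b')
      (a * d' + b * c' - c * b' + d * a' - d * d') := by
  have e1 : P.U * (P.U * P.L) = P.L := by rw [← mul_assoc, P.hU, one_mul]
  have e2 : P.U * P.L * P.U = -P.U - P.L := by
    rw [mul_assoc, P.hLU, mul_sub, mul_neg, mul_one, e1]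
  have e3 : P.L * (P.U * P.L) = -P.L - P.U := by
    rw [← mul_assoc, P.hLU, sub_mul, neg_mul, one_mul, mul_assoc, P.hL, mul_one]
  have e4 : P.U * P.L * P.L = P.U := by rw [mul_assoc, P.hL, mul_one]
  have e5 : P.U * P.L * (P.U * P.L) = -(P.U * P.L) - 1 := by
    rw [mul_assoc, e3, mul_sub, mul_neg, P.hU]
  simp only [comb, mul_add, add_mul, smul_mul_assoc, mul_smul_comm, one_mul, mul_one, P.hU, P.hL, P.hLU,
    e1, e2, e3, e4, e5]
  module

theorem comb_one : P.comb 1 0 0 0 = 1 := by simp [comb]

theorem comb_zero : P.comb 0 0 0 0 = 0 := by simp [comb]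

theorem comb_add (a b c d a' b' c' d' : ℤ) :
    P.comb a b c d + P.comb a' b' c' d' = P.comb (a + a') (b + b') (c + c') (d + d') := by
  simp only [comb]; module

/-- The matrix units. -/
def e : Fin 2 → Fin 2 → R :=
  ![![P.comb (-1) 1 (-1) 1, P.comb 1 (-1) 2 2], ![P.comb (-1) 2 (-1) 2, P.comb 2 (-1) 1 (-1)]]

theorem e_mul (i j k l : Fin 2) : P.e i j * P.e k l = if j = k then P.e i l else 0 := by
  fin_cases i <;> fin_cases j <;> fin_cases k <;> fin_cases l <;>
    simp only [e, Fin.zero_eta, Fin.mk_one, Matrix.cons_val_zero, Matrix.cons_val_one, if_pos rfl,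
      Fin.zero_ne_one, Fin.one_eq_zero_iff, if_false, OfNat.ofNat_ne_one, comb_mul] <;>
    first
      | exact P.comb_congr (by decide) (by decide) (by decide) (by decide)
      | (rw [← P.comb_zero]; exact P.comb_congr (by decide) (by decide) (by decide) (by decide))

theorem e_sum : P.e 0 0 + P.e 1 1 = 1 := by
  simp only [e, Matrix.cons_val_zero, Matrix.cons_val_one]
  rw [comb_add, ← comb_one P]
  exact P.comb_congr (by decide) (by decide) (by decide) (by decide)

theorem U_eq : P.U = -P.e 0 0 + P.e 0 1 + P.e 1 1 := by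
  simp only [e, Matrix.cons_val_zero, Matrix.cons_val_one]
  rw [show P.U = P.comb 0 1 0 0 by simp [comb],
    show -P.comb (-1) 1 (-1) 1 = P.comb 1 (-1) 1 (-1) by simp only [comb]; module, comb_add, comb_add]
  exact P.comb_congr (by decide) (by decide) (by decide) (by decide)

theorem L_eq : P.L = P.e 0 0 + P.e 1 0 - P.e 1 1 := by
  simp only [e, Matrix.cons_val_zero, Matrix.cons_val_one]
  rw [show P.L = P.comb 0 0 1 0 by simp [comb], sub_eq_add_neg,
    show -P.comb 2 (-1) 1 (-1) = P.comb (-2) 1 (-1) 1 by simp only [comb]; module, comb_add, comb_add]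
  exact P.comb_congr (by decide) (by decide) (by decide) (by decide)

/-- A coordinate. -/
def entry (X : R) (i j : Fin 2) : R := P.e 0 i * X * P.e j 0 + P.e 1 i * X * P.e j 1

/-- The coefficient ring. -/
abbrev K : Subring R := Subring.centralizer (Set.range fun ij : Fin 2 × Fin 2 => P.e ij.1 ij.2)

theorem entry_mem (X : R) (i j : Fin 2) : P.entry X i j ∈ P.K := by
  rw [Subring.mem_centralizer_iff]
  rintro _ ⟨⟨k, l⟩, rfl⟩
  simp only [entry, mul_add, add_mul, ← mul_assoc, e_mul]
  simp only [mul_assoc, e_mul]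
  fin_cases k <;> fin_cases l <;> simp

/-- The coordinate homomorphism. -/
def Φ : R →+* Matrix (Fin 2) (Fin 2) P.K where
  toFun X := Matrix.of fun i j => ⟨P.entry X i j, P.entry_mem X i j⟩
  map_one' := by
    ext i j
    fin_cases i <;> fin_cases j <;> simp [entry, e_mul, e_sum]
  map_zero' := by ext i j; simp [entry]
  map_add' X Y := by ext i j; simp only [entry, Matrix.of_apply, Matrix.add_apply, AddMemClass.coe_add, mul_add, add_mul]; abel
  map_mul' X Y := by
    refine Matrix.ext fun i j => Subtype.ext ?_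
    simp only [Matrix.of_apply, Matrix.mul_apply, Fin.sum_univ_two, AddMemClass.coe_add, MulMemClass.coe_mul]
    have key : ∀ l m : Fin 2, P.e l i * X * P.e m l * (P.e l m * Y * P.e j l) = P.e l i * (X * P.e m m * Y) * P.e j l :=
      fun l m => by
        simp only [mul_assoc]
        rw [← mul_assoc (P.e m l), e_mul, if_pos rfl]
    have off : ∀ l l' m : Fin 2, l ≠ l' → P.e l i * X * P.e m l * (P.e l' m * Y * P.e j l') = 0 := fun l l' m hl => by
      simp only [mul_assoc]
      rw [← mul_assoc (P.e m l), e_mul, if_neg hl, zero_mul, mul_zero, mul_zero]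
    simp only [entry, add_mul, mul_add]
    rw [key, key, key, key, off 0 1 0 (by decide), off 1 0 0 (by decide), off 0 1 1 (by decide), off 1 0 1 (by decide)]
    rw [show X * Y = X * P.e 0 0 * Y + X * P.e 1 1 * Y by rw [← add_mul, ← mul_add, e_sum, mul_one]]
    simp only [mul_add, add_mul]
    abel

theorem Φ_apply (X : R) (i j : Fin 2) : ((P.Φ X i j : P.K) : R) = P.entry X i j := rfl

theorem Φ_e (k l i j : Fin 2) :
    ((P.Φ (P.e k l) i j : P.K) : R) = if i = k ∧ j = l then 1 else 0 := by
  rw [Φ_apply, entry, e_mul, e_mul]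
  fin_cases i <;> fin_cases j <;> fin_cases k <;> fin_cases l <;> simp [e_mul, e_sum]

theorem recover (X : R) :
    X = (∑ i, ∑ j, (P.Φ X i j : R) * P.e i j) := by
  have key : ∀ i j : Fin 2, (P.Φ X i j : R) * P.e i j = P.e i i * X * P.e j j := fun i j => by
    rw [Φ_apply, entry, add_mul, mul_assoc (P.e 0 i * X), mul_assoc (P.e 1 i * X), e_mul, e_mul]
    fin_cases i <;> fin_cases j <;> simp
  simp only [Fin.sum_univ_two, key]
  rw [← mul_add, ← mul_add, e_sum, mul_one, mul_one, ← add_mul, e_sum, one_mul]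

theorem Φ_injective : Function.Injective P.Φ := fun X Y h => by
  rw [P.recover X, P.recover Y, h]

end Pair

end Cfsg.Agent.LocalEvenB.TraceOne
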