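import Mathlib
import Cfsg.Agent.Lib.LocalEvenB.TraceOneUnits

/-!
Representations of `SL₂` in characteristic two in which the elements of trace one satisfy `g² + g + 1 = 0`.
-/

set_option autoImplicit false

namespace Cfsg.Agent.LocalEvenB.TraceOne

open Matrix

variable {F : Type*} [Field F] [Fintype F] [CharP F 2]

/-- The upper transvection. -/
def u (c : F) : SpecialLinearGroup (Fin 2) F := ⟨!![1, c; 0, 1], by simp [det_fin_two_of]⟩

/-- The lower transvection. -/
def l (c : F) : SpecialLinearGroup (Fin 2) F := ⟨!![1, 0; c, 1], by simp [det_fin_two_of]⟩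

theorem u_coe (c : F) : (u c : Matrix (Fin 2) (Fin 2) F) = !![1, c; 0, 1] := rfl

theorem l_coe (c : F) : (l c : Matrix (Fin 2) (Fin 2) F) = !![1, 0; c, 1] := rfl

omit [Fintype F] in
theorem add_self (x : F) : x + x = 0 := CharTwo.add_self_eq_zero x

theorem sl_ext {g h : SpecialLinearGroup (Fin 2) F} (e : (g : Matrix (Fin 2) (Fin 2) F) = h) : g = h :=
  Subtype.ext e

theorem u_mul (a c : F) : u a * u c = u (a + c) := by
  apply sl_ext
  simp [u_coe, add_comm]

theorem u_zero : u (0 : F) = 1 := by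
  apply sl_ext
  simp [u_coe, Matrix.one_fin_two]

theorem u_sq (c : F) : u c * u c = 1 := by rw [u_mul, add_self, u_zero]

theorem l_sq (c : F) : l c * l c = 1 := by
  apply sl_ext
  simp [l_coe, Matrix.one_fin_two, add_self]

theorem trace_ul {c : F} (hc : c ≠ 0) : trace ((u c * l c⁻¹ : SpecialLinearGroup (Fin 2) F) : Matrix (Fin 2) (Fin 2) F) = 1 := by
  simp [u_coe, l_coe, trace_fin_two, mul_inv_cancel₀ hc, add_self]

theorem l_conj (c : F) : (u 1 * l 1 * u 1) * u c * (u 1 * l 1 * u 1) = l c := by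
  apply sl_ext
  simp [u_coe, l_coe, add_self]

theorem ulu {c : F} (hc : c ≠ 0) : u c * l 1 * u c = l c⁻¹ * u (c * c) * l c⁻¹ := by
  have h1 : c⁻¹ * (c * c) = c := by field_simp
  have h2 : c * c * c⁻¹ = c := by field_simp
  apply sl_ext
  simp [u_coe, l_coe, h1, h2]
  refine ⟨?_, ?_⟩ <;> field_simp <;> grind

/-- The diagonal element. -/
def d (c : F) : SpecialLinearGroup (Fin 2) F := u c * l c⁻¹ * u c * (u 1 * l 1 * u 1)

theorem d_coe {c : F} (hc : c ≠ 0) : (d c : Matrix (Fin 2) (Fin 2) F) = !![c, 0; 0, c⁻¹] := by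
  simp [d, u_coe, l_coe, add_self, mul_inv_cancel₀ hc, inv_mul_cancel₀ hc]

theorem d_mul {a c : F} (ha : a ≠ 0) (hc : c ≠ 0) : d a * d c = d (a * c) := by
  apply sl_ext
  show (d a : Matrix (Fin 2) (Fin 2) F) * (d c : Matrix (Fin 2) (Fin 2) F) = (d (a * c) : Matrix (Fin 2) (Fin 2) F)
  rw [d_coe ha, d_coe hc, d_coe (mul_ne_zero ha hc)]
  simp [mul_comm]

theorem decompose (g : SpecialLinearGroup (Fin 2) F) (hc : g 1 0 ≠ 0) :
    g = u ((g 0 0 + 1) / g 1 0) * l (g 1 0) * u ((g 1 1 + 1) / g 1 0) := by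
  have hdet : g 0 0 * g 1 1 - g 0 1 * g 1 0 = 1 := by
    have := g.2; rwa [det_fin_two] at this
  have h2 := add_self (1 : F)
  apply sl_ext
  refine (Matrix.eta_fin_two (g : Matrix (Fin 2) (Fin 2) F)).trans ?_
  show _ = (u ((g 0 0 + 1) / g 1 0) : Matrix (Fin 2) (Fin 2) F) * (l (g 1 0) : Matrix (Fin 2) (Fin 2) F) *
    (u ((g 1 1 + 1) / g 1 0) : Matrix (Fin 2) (Fin 2) F)
  simp only [u_coe, l_coe, Matrix.mul_fin_two]
  ext i j
  fin_cases i <;> fin_cases j <;> simp <;> field_simp <;> grind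

variable {R : Type*} [Ring R] (ρ : SpecialLinearGroup (Fin 2) F →* R)
  (hρ : ∀ g : SpecialLinearGroup (Fin 2) F, trace (g : Matrix (Fin 2) (Fin 2) F) = 1 → ρ g * ρ g + ρ g + 1 = 0)

include hρ

theorem anti {c : F} (hc : c ≠ 0) : ρ (l c⁻¹) * ρ (u c) = -1 - ρ (u c) * ρ (l c⁻¹) := by
  have h := hρ _ (trace_ul hc)
  rw [map_mul] at h
  have h1 : ρ (l c⁻¹) * ρ (u c) * (ρ (u c) * ρ (l c⁻¹)) = 1 := by
    rw [← map_mul, ← map_mul, ← map_mul, mul_assoc (l c⁻¹), ← mul_assoc (u c), u_sq, one_mul, l_sq, map_one]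
  have h2 := congrArg (fun X => ρ (l c⁻¹) * ρ (u c) * X) h
  simp only [mul_add, mul_zero, mul_one, ← mul_assoc (ρ (l c⁻¹) * ρ (u c)) (ρ (u c) * ρ (l c⁻¹)), h1, one_mul] at h2
  linear_combination (norm := abel) h2

/-- The pair attached to a representation. -/
def pairOf (h4 : (4 : R) = 0) : Pair R where
  U := ρ (u 1)
  L := ρ (l 1)
  hU := by rw [← map_mul, u_sq, map_one]
  hL := by rw [← map_mul, l_sq, map_one]
  hLU := by simpa using anti ρ hρ (one_ne_zero (α := F))
  h4 := h4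

theorem pairOf_U (h4 : (4 : R) = 0) : (pairOf ρ hρ h4).U = ρ (u 1) := rfl

theorem pairOf_L (h4 : (4 : R) = 0) : (pairOf ρ hρ h4).L = ρ (l 1) := rfl

theorem Φ_U (h4 : (4 : R) = 0) :
    (pairOf ρ hρ h4).Φ (ρ (u 1)) = !![-1, 1; 0, 1] := by
  rw [← pairOf_U ρ hρ h4, Pair.U_eq, map_add, map_add, map_neg]
  refine Matrix.ext fun i j => Subtype.ext ?_
  fin_cases i <;> fin_cases j <;> simp [Pair.Φ_e]

theorem Φ_L (h4 : (4 : R) = 0) :
    (pairOf ρ hρ h4).Φ (ρ (l 1)) = !![1, 0; 1, -1] := by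
  rw [← pairOf_L ρ hρ h4, Pair.L_eq, map_sub, map_add]
  refine Matrix.ext fun i j => Subtype.ext ?_
  fin_cases i <;> fin_cases j <;> simp [Pair.Φ_e]

/-- The coefficient homomorphism. -/
theorem exists_theta (h2 : (2 : R) = 0) (h4 : (4 : R) = 0) :
    ∃ θ : F →+* (pairOf ρ hρ h4).K, ∀ g : SpecialLinearGroup (Fin 2) F,
      (pairOf ρ hρ h4).Φ (ρ g) = (g : Matrix (Fin 2) (Fin 2) F).map θ := by
  set P := pairOf ρ hρ h4 with hP
  have k2 : ∀ x : P.K, x + x = 0 := fun x => Subtype.ext (by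
    show (x : R) + x = 0
    rw [← two_mul, h2, zero_mul])
  have kneg : ∀ x : P.K, -x = x := fun x => neg_eq_of_add_eq_zero_left (k2 x)
  let τ : SpecialLinearGroup (Fin 2) F → Matrix (Fin 2) (Fin 2) P.K := fun g => P.Φ (ρ g)
  have hτ : ∀ g h, τ (g * h) = τ g * τ h := fun g h => by simp [τ]
  have hU : τ (u 1) = !![1, 1; 0, 1] := by
    show P.Φ (ρ (u 1)) = _
    rw [Φ_U ρ hρ h4, kneg]
  have hL : τ (l 1) = !![1, 0; 1, 1] := by
    show P.Φ (ρ (l 1)) = _
    rw [Φ_L ρ hρ h4, kneg]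
  let α : F → P.K := fun c => τ (u c) 0 0
  let B : F → P.K := fun c => τ (u c) 0 1
  have hu : ∀ c, τ (u c) = !![α c, B c; 0, α c] := by
    intro c
    have h := hτ (u 1) (u c)
    rw [u_mul, add_comm, ← u_mul, hτ, hU, Matrix.eta_fin_two (τ (u c))] at h
    simp only [Matrix.mul_fin_two, mul_one, mul_zero, one_mul, zero_mul, add_zero, zero_add] at h
    have e00 := congrFun (congrFun h 0) 0
    have e01 := congrFun (congrFun h 0) 1
    simp only [Matrix.of_apply, Matrix.cons_val_zero, Matrix.cons_val_one] at e00 e01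
    refine (Matrix.eta_fin_two (τ (u c))).trans ?_
    have h10 : τ (u c) 1 0 = 0 := left_eq_add.1 e00
    have h11 : τ (u c) 1 1 = α c := by
      show _ = τ (u c) 0 0
      rw [add_comm] at e01
      exact (add_left_cancel e01).symm
    rw [h10, h11]
  have hone : τ 1 = 1 := by simp [τ]
  have hsq : ∀ c, α c * α c = 1 ∧ α c * B c = B c * α c := fun c => by
    have h := hτ (u c) (u c)
    rw [u_sq, hone, hu, Matrix.mul_fin_two] at h
    have e00 := congrFun (congrFun h 0) 0
    have e01 := congrFun (congrFun h 0) 1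
    simp at e00 e01
    exact ⟨e00.symm, by
      have := eq_neg_of_add_eq_zero_left e01.symm
      rwa [kneg] at this⟩
  have hadd : ∀ a c, α (a + c) = α a * α c ∧ B (a + c) = α a * B c + B a * α c := fun a c => by
    have h := hτ (u a) (u c)
    rw [u_mul, hu, hu, hu, Matrix.mul_fin_two] at h
    have e00 := congrFun (congrFun h 0) 0
    have e01 := congrFun (congrFun h 0) 1
    simp at e00 e01
    exact ⟨e00, e01⟩
  have hl : ∀ c, τ (l c) = !![α c, 0; B c, α c] := fun c => by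
    rw [← l_conj c, hτ, hτ, hτ, hτ, hU, hL, hu, Matrix.mul_fin_two, Matrix.mul_fin_two, Matrix.mul_fin_two,
      Matrix.mul_fin_two]
    refine Matrix.ext fun i j => ?_
    fin_cases i <;> fin_cases j <;> simp [k2]
  have hrel : ∀ c : F, c ≠ 0 → B c * B c⁻¹ = 1 ∧ B c * α c⁻¹ = α c⁻¹ * B c ∧ B c⁻¹ * B c = 1 := by
    intro c hc
    have h0' : ρ (u c) * ρ (l c⁻¹) + ρ (l c⁻¹) * ρ (u c) + 1 = 0 := by rw [anti ρ hρ hc]; abel
    have h : τ (u c) * τ (l c⁻¹) + τ (l c⁻¹) * τ (u c) + 1 = 0 := by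
      simpa [τ] using congrArg P.Φ h0'
    rw [hu, hl, Matrix.mul_fin_two, Matrix.mul_fin_two] at h
    have e00 := congrFun (congrFun h 0) 0
    have e01 := congrFun (congrFun h 0) 1
    have e11 := congrFun (congrFun h 1) 1
    simp at e00 e01 e11
    have hcomm : α c⁻¹ * α c = α c * α c⁻¹ := by
      rw [← (hadd _ _).1, ← (hadd _ _).1, add_comm]
    rw [hcomm] at e00 e11
    refine ⟨?_, ?_, ?_⟩
    · have : B c * B c⁻¹ + 1 + (α c * α c⁻¹ + α c * α c⁻¹) = 0 := by
        rw [← e00]; abel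
      rw [k2, add_zero] at this
      rw [eq_neg_of_add_eq_zero_left this, kneg]
    · rw [eq_neg_of_add_eq_zero_left e01, kneg]
    · have : B c⁻¹ * B c + 1 + (α c * α c⁻¹ + α c * α c⁻¹) = 0 := by
        rw [← e11]; abel
      rw [k2, add_zero] at this
      rw [eq_neg_of_add_eq_zero_left this, kneg]
  have h1 : α 1 = 1 ∧ B 1 = 1 := by
    simp only [α, B, hU]; exact ⟨rfl, rfl⟩
  have h0 : α 0 = 1 ∧ B 0 = 0 := by
    simp only [α, B, u_zero, hone]; exact ⟨rfl, rfl⟩
  have hB2 : ∀ c : F, c ≠ 0 → B (c * c) = B c * B c := by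
    intro c hc
    have h := congrArg τ (ulu hc)
    rw [hτ, hτ, hτ, hτ, hu, hu, hL, hl, Matrix.mul_fin_two, Matrix.mul_fin_two, Matrix.mul_fin_two,
      Matrix.mul_fin_two] at h
    have e01 := congrFun (congrFun h 0) 1
    simp at e01
    have e02 : B c * B c = α c⁻¹ * B (c * c) * α c⁻¹ := by
      rw [← e01, add_mul]
      rw [(hsq c).2, show B c * α c + B c * B c + B c * α c = B c * B c + (B c * α c + B c * α c) by abel,
        k2, add_zero]
    have h3 : B (c * c) = α c⁻¹ * (B c * B c) * α c⁻¹ := by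
      rw [e02, ← mul_assoc, ← mul_assoc, (hsq _).1, one_mul, mul_assoc, (hsq _).1, mul_one]
    rw [h3, ← mul_assoc, ← (hrel c hc).2.1, mul_assoc (B c), ← (hrel c hc).2.1, ← mul_assoc, mul_assoc,
      (hsq _).1, mul_one]
  have hα : ∀ c, α c = 1 := by
    intro c
    obtain ⟨s, rfl⟩ : ∃ s, s * s = c := by
      obtain ⟨s, hs⟩ := FiniteField.isSquare_of_char_two (ringChar.eq F 2) c
      exact ⟨s, hs.symm⟩
    rcases eq_or_ne s 0 with rfl | hs0
    · rw [mul_zero]; exact h0.1
    rcases eq_or_ne s 1 with rfl | hs1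
    · rw [mul_one]; exact h1.1
    have hs1' : s + 1 ≠ 0 := fun h => hs1 (by
      rw [eq_neg_of_add_eq_zero_left h]; exact CharTwo.neg_eq 1)
    have h3 := hB2 (s + 1) hs1'
    rw [show (s + 1) * (s + 1) = s * s + 1 by linear_combination s * add_self (1 : F),
      (hadd _ _).2, (hadd s 1).2, h1.1, h1.2, mul_one, mul_one, mul_one, hB2 s hs0] at h3
    have h4' : α (s * s) + B s * B s = 1 + B s * B s := by
      rw [h3]
      simp only [mul_one]
      rw [add_mul, mul_add, mul_add, (hsq s).1, (hsq s).2,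
        show 1 + B s * α s + (B s * α s + B s * B s) = 1 + B s * B s + (B s * α s + B s * α s) by abel, k2, add_zero]
    exact add_right_cancel h4'
  have hBadd : ∀ a c, B (a + c) = B a + B c := fun a c => by
    rw [(hadd a c).2, hα, hα, one_mul, mul_one, add_comm]
  have hd : ∀ c, c ≠ 0 → τ (d c) 0 0 = B c ∧ τ (d c) 0 1 = 0 := fun c hc => by
    rw [d, hτ, hτ, hτ, hτ, hτ, hU, hL, hu, hl, hα, hα]
    simp only [Matrix.mul_fin_two]
    simp [(hrel c hc).1, k2]
  have hmul : ∀ a c, B (a * c) = B a * B c := fun a c => by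
    rcases eq_or_ne a 0 with rfl | ha
    · simp [h0.2]
    rcases eq_or_ne c 0 with rfl | hc
    · simp [h0.2]
    rw [← (hd _ (mul_ne_zero ha hc)).1, ← d_mul ha hc, hτ, Matrix.mul_apply, Fin.sum_univ_two, (hd a ha).1,
      (hd a ha).2, (hd c hc).1, zero_mul, add_zero]
  let θ : F →+* P.K :=
    { toFun := B, map_one' := h1.2, map_mul' := hmul, map_zero' := h0.2, map_add' := hBadd }
  refine ⟨θ, fun g => ?_⟩
  let m : SpecialLinearGroup (Fin 2) F → Matrix (Fin 2) (Fin 2) P.K := fun g => (g : Matrix (Fin 2) (Fin 2) F).map θ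
  have hm : ∀ g h, m (g * h) = m g * m h := fun g h => by
    show ((g : Matrix (Fin 2) (Fin 2) F) * (h : Matrix (Fin 2) (Fin 2) F)).map θ = _
    rw [Matrix.map_mul]
  have hmu : ∀ c, τ (u c) = m (u c) := fun c => by
    rw [hu, hα]; ext i j; fin_cases i <;> fin_cases j <;> simp [m, u, θ, h0.2, h1.2]
  have hml : ∀ c, τ (l c) = m (l c) := fun c => by
    rw [hl, hα]; ext i j; fin_cases i <;> fin_cases j <;> simp [m, l, θ, h0.2, h1.2]
  have hgen : ∀ g : SpecialLinearGroup (Fin 2) F, g 1 0 ≠ 0 → τ g = m g := fun g hg => by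
    rw [decompose g hg, hτ, hτ, hm, hm, hmu, hml, hmu]
  show τ g = m g
  by_cases hg : g 1 0 = 0
  · have h11 : g 1 1 ≠ 0 := fun h => by
      have := g.2
      rw [det_fin_two, hg, h] at this
      simp at this
    have h := hgen (g * l 1) (by
      show ((g : Matrix (Fin 2) (Fin 2) F) * (l (1 : F) : Matrix (Fin 2) (Fin 2) F)) 1 0 ≠ 0
      simp [l_coe, Matrix.mul_apply, Fin.sum_univ_two, hg, h11])
    rw [show g = g * l 1 * l 1 by rw [mul_assoc, l_sq, mul_one], hτ, hm, h, hml]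
  · exact hgen g hg

omit hρ in
theorem Φ_of_mem (P : Pair R) (x : P.K) : P.Φ (x : R) = Matrix.scalar (Fin 2) x := by
  refine Matrix.ext fun i j => Subtype.ext ?_
  have hc : ∀ i j, (x : R) * P.e i j = P.e i j * x := fun i j =>
    (Subring.mem_centralizer_iff.1 x.2 _ ⟨(i, j), rfl⟩).symm
  rw [Pair.Φ_apply, Pair.entry, ← hc, ← hc, mul_assoc, mul_assoc, P.e_mul, P.e_mul]
  fin_cases i <;> fin_cases j <;> simp [← mul_add, P.e_sum]

/-- The representation extends to the matrix ring. -/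
theorem exists_extend (h2 : (2 : R) = 0) :
    ∃ Ψ : Matrix (Fin 2) (Fin 2) F →+* R, ∀ g : SpecialLinearGroup (Fin 2) F,
      Ψ (g : Matrix (Fin 2) (Fin 2) F) = ρ g := by
  have h4 : (4 : R) = 0 := by rw [show (4 : R) = 2 * 2 by norm_num, h2, zero_mul]
  have hex := exists_theta ρ hρ h2 h4
  set P := pairOf ρ hρ h4
  obtain ⟨θ, hθ⟩ := hex
  have hsurj : Function.Surjective P.Φ := fun m => by
    refine ⟨∑ i, ∑ j, (m i j : R) * P.e i j, ?_⟩
    simp only [map_sum, map_mul, Φ_of_mem]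
    refine Matrix.ext fun a b => Subtype.ext ?_
    simp only [Fin.sum_univ_two, Matrix.add_apply, Matrix.scalar_apply, Matrix.diagonal_mul, AddMemClass.coe_add,
      MulMemClass.coe_mul, Pair.Φ_e]
    fin_cases a <;> fin_cases b <;> simp
  let E : R ≃+* Matrix (Fin 2) (Fin 2) P.K := RingEquiv.ofBijective P.Φ ⟨P.Φ_injective, hsurj⟩
  refine ⟨E.symm.toRingHom.comp θ.mapMatrix, fun g => ?_⟩
  apply E.injective
  show E (E.symm _) = P.Φ (ρ g)
  rw [E.apply_symm_apply, hθ]
  rfl

/-- Representations in exponent four reduce to exponent two. -/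
theorem two_eq_zero {R' : Type*} [Ring R'] (π : R →+* R') (h4 : (4 : R) = 0) (h2' : (2 : R') = 0)
    (hjj : ∀ j k, π j = 0 → π k = 0 → j * k = 0) (h2j : ∀ j, π j = 0 → 2 * j = 0) (hF : 2 < Fintype.card F) :
    (2 : R) = 0 := by
  classical
  have hρ' : ∀ g : SpecialLinearGroup (Fin 2) F, trace (g : Matrix (Fin 2) (Fin 2) F) = 1 →
      (π.toMonoidHom.comp ρ) g * (π.toMonoidHom.comp ρ) g + (π.toMonoidHom.comp ρ) g + 1 = 0 := fun g hg => by
    show π (ρ g) * π (ρ g) + π (ρ g) + 1 = 0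
    rw [← map_mul, ← map_one π, ← map_add, ← map_add, hρ g hg, map_zero]
  have h4' : (4 : R') = 0 := by rw [← map_ofNat π, h4, map_zero]
  have hex := exists_theta (π.toMonoidHom.comp ρ) hρ' h2' h4'
  set P := pairOf ρ hρ h4 with hPdef
  set P' := pairOf (π.toMonoidHom.comp ρ) hρ' h4' with hP'def
  obtain ⟨θ, hθ⟩ := hex
  have hcomb : ∀ a b c d, π (P.comb a b c d) = P'.comb a b c d := fun a b c d => by
    simp only [Pair.comb, map_add, map_zsmul, map_mul, map_one]; rfl
  have he : ∀ i j, π (P.e i j) = P'.e i j := fun i j => by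
    fin_cases i <;> fin_cases j <;> simp [Pair.e, hcomb]
  have hent : ∀ X i j, π (P.Φ X i j : R) = (P'.Φ (π X) i j : R') := fun X i j => by
    simp [Pair.Φ_apply, Pair.entry, he]
  obtain ⟨c, hc⟩ : ∃ c : F, c ∉ ({0, 1} : Finset F) := by
    by_contra h
    push Not at h
    exact absurd ((Finset.card_le_card (s := Finset.univ) fun x _ => h x).trans Finset.card_le_two) (not_le.2 (by rwa [Finset.card_univ]))
  simp only [Finset.mem_insert, Finset.mem_singleton, not_or] at hc
  obtain ⟨hc0, hc1⟩ := hc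
  have hU : P.Φ (ρ (u 1)) = !![-1, 1; 0, 1] := Φ_U ρ hρ h4
  set X := P.Φ (ρ (u c)) with hX
  have hcm : P.Φ (ρ (u 1)) * X = X * P.Φ (ρ (u 1)) := by
    rw [hX, ← map_mul, ← map_mul, ← map_mul, ← map_mul, u_mul, u_mul, add_comm]
  have hXX : X * X = 1 := by rw [hX, ← map_mul, ← map_mul, u_sq, map_one, map_one]
  rw [hU, Matrix.eta_fin_two X, Matrix.mul_fin_two, Matrix.mul_fin_two] at hcm
  have e00 := congrFun (congrFun hcm 0) 0
  have e01 := congrFun (congrFun hcm 0) 1
  simp at e00 e01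
  rw [Matrix.eta_fin_two X, Matrix.mul_fin_two] at hXX
  have f01 := congrFun (congrFun hXX 0) 1
  simp at f01
  set a := X 0 0
  set b := X 0 1
  have hs : X 1 0 = 0 := e00
  have ht : X 1 1 = a + b + b := by linear_combination (norm := abel) e01
  rw [ht] at f01
  have habR : (a : R) * b + (b : R) * ((a : R) + b + b) = 0 := by
    have := congrArg Subtype.val f01
    push_cast at this
    exact this
  set r : R := (b : R)
  set D : R := (a : R) - 1
  have hπD : π D = 0 := by
    rw [map_sub, map_one, hent]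
    show ((P'.Φ ((π.toMonoidHom.comp ρ) (u c)) 0 0 : P'.K) : R') - 1 = 0
    rw [hθ]
    simp [u]
  have hπr : π r = (θ c : R') := by
    rw [hent]
    show ((P'.Φ ((π.toMonoidHom.comp ρ) (u c)) 0 1 : P'.K) : R') = (θ c : R')
    rw [hθ]
    simp [u]
  have hH : D * r + r * D = -(2 * (r + r * r)) := by
    have e : D * r + r * D + 2 * (r + r * r) = (a : R) * r + r * ((a : R) + r + r) := by
      simp only [D, sub_mul, mul_sub, mul_add, two_mul, one_mul, mul_one]; abel
    rw [habR] at e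
    exact eq_neg_of_add_eq_zero_left e
  have hcomm2 : Commute D (r * r) := by
    have h5 : Commute r (D * r + r * D) := by
      rw [hH]
      exact ((Commute.ofNat_right r 2).mul_right ((Commute.refl r).add_right ((Commute.refl r).mul_right (Commute.refl r)))).neg_right
    have := h5.eq
    rw [mul_add, add_mul] at this
    show D * (r * r) = r * r * D
    simp only [← mul_assoc] at this ⊢
    linear_combination (norm := abel) -this
  set q := Fintype.card F
  have hq : Even q := by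
    obtain ⟨n, -, hn⟩ := FiniteField.card F 2
    show Even (Fintype.card F)
    rw [hn]; exact (Nat.even_pow' n.ne_zero).2 even_two
  obtain ⟨q', hq'⟩ := hq
  have hπrq : π (r ^ q - r) = 0 := by
    rw [map_sub, map_pow, hπr, ← Subring.coe_pow, ← map_pow, FiniteField.pow_card, sub_self]
  have hrq : Commute D (r ^ q) := by
    rw [hq', ← two_mul, pow_mul, pow_two]; exact hcomm2.pow_right _
  have hDr : D * r = r * D := by
    have h5 := hjj D _ hπD hπrq
    have h6 := hjj _ D hπrq hπD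
    rw [mul_sub, sub_eq_zero] at h5
    rw [sub_mul, sub_eq_zero] at h6
    rw [← h5, ← h6, hrq.eq]
  have h7 : 2 * (r + r * r) = 0 := by
    have h8 : D * r + r * D = 0 := by rw [← hDr, ← two_mul, ← mul_assoc, h2j D hπD, zero_mul]
    rw [hH, neg_eq_zero] at h8
    exact h8
  have hne : c + c * c ≠ 0 := by
    rw [show c + c * c = c * (1 + c) by ring]
    refine mul_ne_zero hc0 fun h => hc1 ?_
    rw [eq_neg_of_add_eq_zero_right h]; exact CharTwo.neg_eq 1
  have hj : π ((r + r * r) ^ (q - 1) - 1) = 0 := by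
    rw [map_sub, map_one, map_pow, map_add, map_mul, hπr, ← Subring.coe_mul, ← Subring.coe_add, ← map_mul, ← map_add,
      ← Subring.coe_pow, ← map_pow, FiniteField.pow_card_sub_one_eq_one _ hne, map_one, OneMemClass.coe_one, sub_self]
  have h9 := h2j _ hj
  rw [show q - 1 = (q - 2) + 1 by omega, pow_succ', mul_sub, ← mul_assoc, h7, zero_mul, zero_sub, mul_one,
    neg_eq_zero] at h9
  exact h9

end Cfsg.Agent.LocalEvenB.TraceOne
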