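import Mathlib
import Cfsg.Agent.Lib.LocalEvenB.TraceOneRep

/-! The elements of trace one in `SL₂` of characteristic two. -/

set_option autoImplicit false

namespace Cfsg.Agent.LocalEvenB.TraceOne

open Matrix

variable {F : Type*} [Field F] [Fintype F] [CharP F 2]

theorem trace_eq_one_of_cube {g : SpecialLinearGroup (Fin 2) F} (h3 : g ^ 3 = 1) (h1 : g ≠ 1) :
    trace (g : Matrix (Fin 2) (Fin 2) F) = 1 := by
  obtain ⟨⟨a, b⟩, c, e⟩ : ∃ (p : F × F) (c e : F), (g : Matrix (Fin 2) (Fin 2) F) = !![p.1, p.2; c, e] :=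
    ⟨(g 0 0, g 0 1), g 1 0, g 1 1, Matrix.eta_fin_two _⟩
  obtain ⟨e, he⟩ := e
  have hdet : a * e - b * c = 1 := by
    have := g.2; rwa [he, det_fin_two_of] at this
  have hm := congrArg (fun x : SpecialLinearGroup (Fin 2) F => (x : Matrix (Fin 2) (Fin 2) F)) h3
  rw [pow_succ, pow_two] at hm
  change (g : Matrix (Fin 2) (Fin 2) F) * (g : Matrix (Fin 2) (Fin 2) F) * (g : Matrix (Fin 2) (Fin 2) F) =
    (1 : Matrix (Fin 2) (Fin 2) F) at hm
  rw [he, Matrix.mul_fin_two, Matrix.mul_fin_two, Matrix.one_fin_two] at hm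
  have e00 := congrFun (congrFun hm 0) 0
  have e01 := congrFun (congrFun hm 0) 1
  have e10 := congrFun (congrFun hm 1) 0
  have e11 := congrFun (congrFun hm 1) 1
  simp at e00 e01 e10 e11
  show trace (g : Matrix (Fin 2) (Fin 2) F) = 1
  rw [he, trace_fin_two_of]
  show a + e = 1
  by_contra ht
  have ht2 : (a + e) * (a + e) + 1 ≠ 0 := by
    intro h
    refine ht ?_
    have h2 := add_self (1 : F)
    have : (a + e + 1) * (a + e + 1) = 0 := by linear_combination h + (a + e) * h2
    rcases mul_eq_zero.1 this with h' | h' <;>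
      · rw [eq_neg_of_add_eq_zero_left h']; exact CharTwo.neg_eq 1
  have h2 := add_self (1 : F)
  have hb : b = 0 := by
    refine (mul_eq_zero.1 (?_ : ((a + e) * (a + e) + 1) * b = 0)).resolve_left ht2
    grind
  have hc : c = 0 := by
    refine (mul_eq_zero.1 (?_ : ((a + e) * (a + e) + 1) * c = 0)).resolve_left ht2
    grind
  subst hb; subst hc
  have hae : a * e = 1 := by simpa using hdet
  have ha : a * a * a = 1 := by grind
  have hsum : (a + 1) * (a * a + a + 1) = 0 := by linear_combination ha + (a * a + a + 1) * h2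
  rcases mul_eq_zero.1 hsum with h | h
  · have ha1 : a = 1 := by rw [eq_neg_of_add_eq_zero_left h]; exact CharTwo.neg_eq 1
    have he1 : e = 1 := by simpa [ha1] using hae
    refine h1 (sl_ext ?_)
    rw [he, ha1, he1]
    exact Matrix.one_fin_two.symm
  · have : a * (a + e + 1) = 0 := by linear_combination h + hae - (1 : F) * 0
    refine ht ?_
    rcases mul_eq_zero.1 this with h' | h'
    · simp [h'] at hae
    · rw [eq_neg_of_add_eq_zero_left h']; exact CharTwo.neg_eq 1

theorem exists_frame (g : SpecialLinearGroup (Fin 2) F) (ht : trace (g : Matrix (Fin 2) (Fin 2) F) = 1) :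
    ∃ h : SpecialLinearGroup (Fin 2) F,
      (g : Matrix (Fin 2) (Fin 2) F) * (h : Matrix (Fin 2) (Fin 2) F) = (h : Matrix (Fin 2) (Fin 2) F) * !![0, 1; 1, 1] := by
  obtain ⟨a, b, c, e, he⟩ : ∃ a b c e : F, (g : Matrix (Fin 2) (Fin 2) F) = !![a, b; c, e] :=
    ⟨g 0 0, g 0 1, g 1 0, g 1 1, Matrix.eta_fin_two _⟩
  have hdet : a * e - b * c = 1 := by
    have := g.2; rwa [he, det_fin_two_of] at this
  rw [he, trace_fin_two_of] at ht
  have hP : ∃ P : Matrix (Fin 2) (Fin 2) F, P.det ≠ 0 ∧ !![a, b; c, e] * P = P * !![0, 1; 1, 1] := by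
    have h2 := add_self (1 : F)
    by_cases hc : c = 0
    · by_cases hb : b = 0
      · refine ⟨!![1, a; 1, e], ?_, ?_⟩
        · rw [det_fin_two_of]
          intro h
          refine one_ne_zero (α := F) ?_
          linear_combination h - ht + a * h2
        · subst hb; subst hc
          ext i j
          fin_cases i <;> fin_cases j <;> simp [Matrix.mul_apply, Fin.sum_univ_two] <;> grind
      · refine ⟨!![0, b; 1, e], ?_, ?_⟩
        · rw [det_fin_two_of]; simpa using hb
        · subst hc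
          ext i j
          fin_cases i <;> fin_cases j <;> simp [Matrix.mul_apply, Fin.sum_univ_two] <;> grind
    · refine ⟨!![1, a; 0, c], ?_, ?_⟩
      · rw [det_fin_two_of]; simpa using hc
      · ext i j
        fin_cases i <;> fin_cases j <;> simp [Matrix.mul_apply, Fin.sum_univ_two] <;> grind
  obtain ⟨P, hP0, hPC⟩ := hP
  obtain ⟨s, hs⟩ := FiniteField.isSquare_of_char_two (ringChar.eq F 2) P.det⁻¹
  have hdet' : (s • P).det = 1 := by
    rw [det_smul, Fintype.card_fin, pow_two, ← hs, inv_mul_cancel₀ hP0]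
  refine ⟨⟨s • P, hdet'⟩, ?_⟩
  show (g : Matrix (Fin 2) (Fin 2) F) * (s • P) = (s • P) * !![0, 1; 1, 1]
  rw [he, mul_smul_comm, hPC, smul_mul_assoc]

theorem trace_one_conj (g g' : SpecialLinearGroup (Fin 2) F) (ht : trace (g : Matrix (Fin 2) (Fin 2) F) = 1)
    (ht' : trace (g' : Matrix (Fin 2) (Fin 2) F) = 1) : ∃ h : SpecialLinearGroup (Fin 2) F, h * g * h⁻¹ = g' := by
  obtain ⟨P, hP⟩ := exists_frame g ht
  obtain ⟨P', hP'⟩ := exists_frame g' ht'
  let C : SpecialLinearGroup (Fin 2) F := ⟨!![0, 1; 1, 1], by rw [det_fin_two_of]; simp [CharTwo.neg_eq]⟩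
  have e : g * P = P * C := sl_ext hP
  have e' : g' * P' = P' * C := sl_ext hP'
  refine ⟨P' * P⁻¹, ?_⟩
  rw [eq_mul_inv_iff_mul_eq.2 e, eq_mul_inv_iff_mul_eq.2 e']
  group

/-- An additive subgroup containing the identity and the trace-one elements contains the matrix units. -/
theorem single_mem_of_trace_one (S : AddSubgroup (Matrix (Fin 2) (Fin 2) F)) (h1 : (1 : Matrix (Fin 2) (Fin 2) F) ∈ S)
    (hS : ∀ m : Matrix (Fin 2) (Fin 2) F, m.det = 1 → m.trace = 1 → m ∈ S) (hF : 2 < Fintype.card F) :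
    !![0, 1; 0, 0] ∈ S ∧ !![0, 0; 1, 0] ∈ S ∧ !![1, 0; 0, 0] ∈ S ∧ !![0, 0; 0, 1] ∈ S := by
  classical
  have hex : ∀ x : F, ∃ c : F, c ≠ 0 ∧ c ≠ x := fun x => by
    by_contra h
    push Not at h
    have hsub : (Finset.univ : Finset F) ⊆ {0, x} := fun c _ => by
      rcases eq_or_ne c 0 with h' | h'
      · simp [h']
      · simp [h c h']
    exact absurd ((Finset.card_le_card hsub).trans Finset.card_le_two) (not_le.2 (by rwa [Finset.card_univ]))
  have h2 := add_self (1 : F)
  obtain ⟨a, ha0, ha1⟩ := hex 1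
  have hk : a * a + a ≠ 0 := by
    rw [show a * a + a = a * (a + 1) by ring]
    refine mul_ne_zero ha0 fun h => ha1 ?_
    rw [eq_neg_of_add_eq_zero_left h]; exact CharTwo.neg_eq 1
  obtain ⟨t, ht0, htk⟩ := hex (a * a + a)⁻¹
  set k := a * a + a with hkdef
  have hs0 : k⁻¹ + t ≠ 0 := fun h => htk (by
    rw [eq_neg_of_add_eq_zero_left h]; exact (CharTwo.neg_eq t).symm)
  have hm : ∀ x y : F, y ≠ 0 → !![x, y; (x * x + x + 1) / y, x + 1] ∈ S ∧ !![x, (x * x + x + 1) / y; y, x + 1] ∈ S := by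
    intro x y hy
    refine ⟨hS _ ?_ ?_, hS _ ?_ ?_⟩
    · rw [det_fin_two_of, mul_div_cancel₀ _ hy]; linear_combination (-1 : F) * h2
    · rw [trace_fin_two_of]; linear_combination x * h2
    · rw [det_fin_two_of, div_mul_cancel₀ _ hy]; linear_combination (-1 : F) * h2
    · rw [trace_fin_two_of]; linear_combination x * h2
  have hy1 : (k⁻¹ + t)⁻¹ ≠ 0 := inv_ne_zero hs0
  have hy2 : t⁻¹ ≠ 0 := inv_ne_zero ht0
  have h21 : !![0, 0; 1, 0] ∈ S := by
    have := S.add_mem (S.add_mem (hm a _ hy1).1 (hm 0 _ hy1).1) (S.add_mem (hm a _ hy2).1 (hm 0 _ hy2).1)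
    convert this using 1
    ext i j
    fin_cases i <;> fin_cases j <;> simp <;> field_simp <;> grind
  have h12 : !![0, 1; 0, 0] ∈ S := by
    have := S.add_mem (S.add_mem (hm a _ hy1).2 (hm 0 _ hy1).2) (S.add_mem (hm a _ hy2).2 (hm 0 _ hy2).2)
    convert this using 1
    ext i j
    fin_cases i <;> fin_cases j <;> simp <;> field_simp <;> grind
  have h22 : !![0, 0; 0, 1] ∈ S := by
    have := S.add_mem (hm 0 1 one_ne_zero).1 (S.add_mem h12 h21)
    convert this using 1
    ext i j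
    fin_cases i <;> fin_cases j <;> simp [add_self]
  refine ⟨h12, h21, ?_, h22⟩
  have := S.add_mem h1 h22
  convert this using 1
  ext i j
  fin_cases i <;> fin_cases j <;> simp [add_self]

end Cfsg.Agent.LocalEvenB.TraceOne
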