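import Mathlib
import Cfsg.Prelude.Def_BaumannBlocks
import Cfsg.Agent.Lib.LocalEvenB.TraceOneElems

/-! `2`-groups acted on by `SL₂(2ⁿ)` in which an element of order three fixes only the identity. -/

set_option autoImplicit false

namespace Cfsg.Agent.LocalEvenB.TraceOne

open Subgroup
open scoped IsMulCommutative commutatorElement

universe u v

variable {F : Type v} [Field F] [Fintype F] [CharP F 2] {G : Type u} [Group G] [Finite G]

/-- The conjugation action on an abelian kernel. -/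
def conjEnd {A : Type*} [Group A] (N : Subgroup A) [N.Normal] [IsMulCommutative N] (g : A) :
    AddMonoid.End (Additive N) :=
  MonoidHom.toAdditive (MulAut.conjNormal (H := N) g).toMonoidHom

theorem conjEnd_apply {A : Type*} [Group A] (N : Subgroup A) [N.Normal] [IsMulCommutative N] (g : A)
    (v : Additive N) : ((conjEnd N g v).toMul : A) = g * (v.toMul : A) * g⁻¹ :=
  MulAut.conjNormal_apply g v.toMul

theorem end_ext {A : Type*} [AddCommGroup A] {f g : AddMonoid.End A} (h : ∀ v, f v = g v) : f = g :=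
  DFunLike.ext f g h

theorem two_end_eq_zero {A : Type*} [AddCommGroup A] (h : ∀ v : A, v + v = 0) : (2 : AddMonoid.End A) = 0 := by
  rw [← one_add_one_eq_two]
  exact end_ext h

/-- The hypothesis: the kernel of a map onto `SL₂` is a `2`-group on which `x` acts without fixed points. -/
structure Ctx (π : G →* Matrix.SpecialLinearGroup (Fin 2) F) (x : G) : Prop where
  surj : Function.Surjective π
  two : IsPGroup 2 π.ker
  ord : orderOf x = 3
  fpf : ∀ q ∈ π.ker, x * q * x⁻¹ = q → q = 1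

variable {π : G →* Matrix.SpecialLinearGroup (Fin 2) F} {x : G}

omit [Finite G] [Fintype F] [CharP F 2] in
theorem Ctx.notMem (h : Ctx π x) : x ∉ π.ker := fun hx => by
  obtain ⟨k, hk⟩ := IsPGroup.iff_orderOf.1 h.two ⟨x, hx⟩
  rw [← Subgroup.orderOf_coe] at hk
  simp only [h.ord] at hk
  rcases Nat.eq_zero_or_pos k with rfl | hk0
  · norm_num at hk
  · exact absurd (hk ▸ dvd_pow_self 2 hk0.ne') (by norm_num)

theorem Ctx.trace (h : Ctx π x) : Matrix.trace (π x : Matrix (Fin 2) (Fin 2) F) = 1 :=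
  trace_eq_one_of_cube (by rw [← map_pow, ← h.ord, pow_orderOf_eq_one, map_one]) fun e => h.notMem e

omit [Fintype F] [CharP F 2] in
theorem Ctx.prod_eq (h : Ctx π x) {q : G} (hq : q ∈ π.ker) :
    q * (x * q * x⁻¹) * (x * (x * q * x⁻¹) * x⁻¹) = 1 := by
  let f : π.ker → π.ker := fun s =>
    ⟨(s : G)⁻¹ * (x * s * x⁻¹), mul_mem (inv_mem s.2) ((MonoidHom.normal_ker π).conj_mem _ s.2 x)⟩
  have hf : Function.Injective f := fun s t hst => by
    have e : (s : G)⁻¹ * (x * s * x⁻¹) = (t : G)⁻¹ * (x * t * x⁻¹) := congrArg Subtype.val hst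
    have h1 := h.fpf ((t : G) * (s : G)⁻¹) (mul_mem t.2 (inv_mem s.2)) (by
      have e2 : x * ((t : G) * (s : G)⁻¹) * x⁻¹ =
          (t : G) * ((t : G)⁻¹ * (x * t * x⁻¹)) * (((s : G)⁻¹ * (x * s * x⁻¹))⁻¹ * (s : G)⁻¹) := by group
      rw [e2, ← e]; group)
    exact Subtype.ext (mul_inv_eq_one.1 h1).symm
  obtain ⟨s, hs⟩ := (Finite.injective_iff_surjective.1 hf) ⟨q, hq⟩
  have hs' : (s : G)⁻¹ * (x * s * x⁻¹) = q := congrArg Subtype.val hs
  have hx3 : x * x * x = 1 := by rw [← pow_three', ← h.ord, pow_orderOf_eq_one]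
  have hxi : x⁻¹ = x * x := inv_eq_of_mul_eq_one_left hx3
  rw [← hs']
  calc (s : G)⁻¹ * (x * s * x⁻¹) * (x * ((s : G)⁻¹ * (x * s * x⁻¹)) * x⁻¹) *
        (x * (x * ((s : G)⁻¹ * (x * s * x⁻¹)) * x⁻¹) * x⁻¹)
      = (s : G)⁻¹ * (x * x * x) * (s : G) * (x * x * x)⁻¹ := by group
    _ = 1 := by rw [hx3]; group

theorem Ctx.exists_lift (h : Ctx π x) {m : Matrix.SpecialLinearGroup (Fin 2) F}
    (hm : Matrix.trace (m : Matrix (Fin 2) (Fin 2) F) = 1) :
    ∃ y : G, π y = m ∧ ∀ q ∈ π.ker, q * (y * q * y⁻¹) * (y * (y * q * y⁻¹) * y⁻¹) = 1 ∧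
      q * (y * q * y⁻¹) = y * q * y⁻¹ * q := by
  obtain ⟨k, hk⟩ := trace_one_conj (π x) m h.trace hm
  obtain ⟨t, rfl⟩ := h.surj k
  have h0 : ∀ q ∈ π.ker, q * (t * x * t⁻¹ * q * (t * x * t⁻¹)⁻¹) *
      (t * x * t⁻¹ * (t * x * t⁻¹ * q * (t * x * t⁻¹)⁻¹) * (t * x * t⁻¹)⁻¹) = 1 := fun q hq => by
    have h1 := h.prod_eq ((MonoidHom.normal_ker π).conj_mem q hq t⁻¹)
    rw [inv_inv] at h1
    calc q * (t * x * t⁻¹ * q * (t * x * t⁻¹)⁻¹) *
        (t * x * t⁻¹ * (t * x * t⁻¹ * q * (t * x * t⁻¹)⁻¹) * (t * x * t⁻¹)⁻¹)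
        = t * (t⁻¹ * q * t * (x * (t⁻¹ * q * t) * x⁻¹) * (x * (x * (t⁻¹ * q * t) * x⁻¹) * x⁻¹)) * t⁻¹ := by group
      _ = 1 := by rw [h1]; group
  refine ⟨t * x * t⁻¹, by rw [map_mul, map_mul, map_inv, hk], fun q hq => ⟨h0 q hq, ?_⟩⟩
  set y := t * x * t⁻¹
  have hy3 : y ^ 3 = 1 := by rw [conj_pow, ← h.ord, pow_orderOf_eq_one, mul_one, mul_inv_cancel]
  set a := y * q * y⁻¹
  set b := y * a * y⁻¹
  have e3 : y * b * y⁻¹ = q := by
    calc y * b * y⁻¹ = y ^ 3 * q * (y ^ 3)⁻¹ := by rw [pow_three']; simp only [b, a]; group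
      _ = q := by rw [hy3]; group
  have h2 : q⁻¹ * a⁻¹ * b⁻¹ = 1 := by
    calc q⁻¹ * a⁻¹ * b⁻¹ = q⁻¹ * (y * q⁻¹ * y⁻¹) * (y * (y * q⁻¹ * y⁻¹) * y⁻¹) := by simp only [b, a]; group
      _ = 1 := h0 q⁻¹ (inv_mem hq)
  have h1 : q * a * b = 1 := h0 q hq
  have hb : b = a⁻¹ * q⁻¹ := by
    rw [← mul_inv_rev]; exact eq_inv_of_mul_eq_one_right h1
  rw [hb] at h2
  calc q * a = a * q * (q⁻¹ * a⁻¹ * (a⁻¹ * q⁻¹)⁻¹) := by group
    _ = a * q := by rw [h2, mul_one]

/-- The representation on an abelian kernel. -/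
theorem Ctx.exists_rep (h : Ctx π x) [IsMulCommutative π.ker] :
    ∃ ρ : Matrix.SpecialLinearGroup (Fin 2) F →* AddMonoid.End (Additive π.ker),
      (∀ (g : G) (v : Additive π.ker), ((ρ (π g) v).toMul : G) = g * (v.toMul : G) * g⁻¹) ∧
      ∀ m : Matrix.SpecialLinearGroup (Fin 2) F, Matrix.trace (m : Matrix (Fin 2) (Fin 2) F) = 1 →
        ρ m * ρ m + ρ m + 1 = 0 := by
  have key : ∀ g g' : G, π g = π g' → conjEnd π.ker g = conjEnd π.ker g' := fun g g' e => by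
    refine end_ext fun v => Additive.toMul.injective (Subtype.ext ?_)
    rw [conjEnd_apply, conjEnd_apply]
    have hk : g'⁻¹ * g ∈ π.ker := by rw [MonoidHom.mem_ker, map_mul, map_inv, e, inv_mul_cancel]
    have hc : g'⁻¹ * g * (v.toMul : G) = (v.toMul : G) * (g'⁻¹ * g) :=
      congrArg Subtype.val (mul_comm (⟨_, hk⟩ : π.ker) v.toMul)
    calc g * (v.toMul : G) * g⁻¹ = g' * (g'⁻¹ * g * (v.toMul : G)) * g⁻¹ := by group
      _ = g' * (v.toMul : G) * g'⁻¹ := by rw [hc]; group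
  choose s hs using h.surj
  have h1 : conjEnd π.ker (s 1) = 1 := by
    rw [key (s 1) 1 (by rw [hs, map_one])]
    refine end_ext fun v => Additive.toMul.injective (Subtype.ext ?_)
    rw [conjEnd_apply]
    simp
  have hmul : ∀ a b, conjEnd π.ker (s (a * b)) = conjEnd π.ker (s a) * conjEnd π.ker (s b) := fun a b => by
    rw [key (s (a * b)) (s a * s b) (by rw [hs, map_mul, hs, hs])]
    refine end_ext fun v => Additive.toMul.injective (Subtype.ext ?_)
    rw [conjEnd_apply]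
    show _ = ((conjEnd π.ker (s a) (conjEnd π.ker (s b) v)).toMul : G)
    rw [conjEnd_apply, conjEnd_apply]; group
  refine ⟨MonoidHom.mk ⟨fun m => conjEnd π.ker (s m), h1⟩ hmul, fun g v => ?_, fun m hm => ?_⟩
  · show ((conjEnd π.ker (s (π g)) v).toMul : G) = _
    rw [key (s (π g)) g (hs _), conjEnd_apply]
  · show conjEnd π.ker (s m) * conjEnd π.ker (s m) + conjEnd π.ker (s m) + 1 = 0
    obtain ⟨y, hy, hyq⟩ := h.exists_lift hm
    rw [key (s m) y (by rw [hs, hy])]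
    refine end_ext fun v => Additive.toMul.injective (Subtype.ext ?_)
    show ((conjEnd π.ker y (conjEnd π.ker y v)).toMul * (conjEnd π.ker y v).toMul * v.toMul : π.ker).1 = 1
    have hc : ∀ a b : π.ker, (a : G) * b = b * a := fun a b => congrArg Subtype.val (mul_comm a b)
    rw [Subgroup.coe_mul, Subgroup.coe_mul, hc (conjEnd π.ker y (conjEnd π.ker y v)).toMul, conjEnd_apply π.ker y (conjEnd π.ker y v)]
    simp only [conjEnd_apply]
    have h3 := (hyq _ v.toMul.2).1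
    rw [mul_assoc] at h3
    exact mul_eq_one_comm.1 h3

theorem Ctx.quotient (h : Ctx π x) (N : Subgroup G) [N.Normal] (hN : N ≤ π.ker) :
    Ctx (QuotientGroup.lift N π hN) (x : G ⧸ N) where
  surj m := by
    obtain ⟨g, hg⟩ := h.surj m
    exact ⟨(g : G ⧸ N), hg⟩
  two := by
    refine IsPGroup.of_surjective h.two
      (((QuotientGroup.mk' N).comp π.ker.subtype).codRestrict _ fun q => q.2) ?_
    rintro ⟨q, hq⟩
    obtain ⟨g, rfl⟩ := QuotientGroup.mk_surjective q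
    exact ⟨⟨g, hq⟩, rfl⟩
  ord := by
    refine orderOf_eq_prime ?_ fun e => h.notMem (hN ((QuotientGroup.eq_one_iff x).1 e))
    rw [← QuotientGroup.mk_pow, ← h.ord, pow_orderOf_eq_one, QuotientGroup.mk_one]
  fpf := by
    intro qb hqb hfix
    obtain ⟨q, rfl⟩ := QuotientGroup.mk_surjective qb
    have hq : q ∈ π.ker := hqb
    have h1 := congrArg (QuotientGroup.mk' N) (h.prod_eq hq)
    simp only [map_mul, map_inv, map_one, QuotientGroup.mk'_apply, hfix] at h1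
    have h3 : orderOf (q : G ⧸ N) ∣ 3 := orderOf_dvd_of_pow_eq_one (by rw [pow_three']; exact h1)
    obtain ⟨k, hk⟩ := IsPGroup.iff_orderOf.1 h.two ⟨q, hq⟩
    have hd : orderOf (q : G ⧸ N) ∣ 2 ^ k := by
      rw [← hk, ← Subgroup.orderOf_coe]; exact orderOf_map_dvd (QuotientGroup.mk' N) q
    exact orderOf_eq_one_iff.1 (Nat.eq_one_of_dvd_coprimes (Nat.Coprime.pow_left k (by norm_num)) hd h3)

omit [Finite G] in
theorem comm_bimul {Q : Subgroup G} (hcen : ∀ a ∈ Q, ∀ b ∈ Q, ∀ c ∈ Q, ⁅a, b⁆ * c = c * ⁅a, b⁆)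
    {a b c : G} (ha : a ∈ Q) (hb : b ∈ Q) (hc : c ∈ Q) :
    ⁅a * b, c⁆ = ⁅a, c⁆ * ⁅b, c⁆ ∧ ⁅c, a * b⁆ = ⁅c, a⁆ * ⁅c, b⁆ := by
  constructor
  · have e : ⁅a * b, c⁆ = a * ⁅b, c⁆ * a⁻¹ * ⁅a, c⁆ := by simp only [commutatorElement_def]; group
    rw [e, ← hcen b hb c hc a ha, mul_inv_cancel_right]
    exact hcen b hb c hc _ (mul_mem (mul_mem (mul_mem ha hc) (inv_mem ha)) (inv_mem hc))
  · have e : ⁅c, a * b⁆ = ⁅c, a⁆ * (a * ⁅c, b⁆ * a⁻¹) := by simp only [commutatorElement_def]; group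
    rw [e, ← hcen c hc b hb a ha, mul_inv_cancel_right]

theorem Ctx.comm_of_quotient (h : Ctx π x) (hF : 2 < Fintype.card F) (Z : Subgroup G) [Z.Normal]
    (hZ : Z ≤ π.ker) (hZc : ∀ z ∈ Z, ∀ q ∈ π.ker, z * q = q * z) (hZ2 : ∀ z ∈ Z, z * z = 1)
    (hel : Cfsg.IsElementaryAbelian 2 (QuotientGroup.lift Z π hZ).ker) :
    ∀ q ∈ π.ker, ∀ r ∈ π.ker, q * r = r * q := by
  set π' := QuotientGroup.lift Z π hZ with hπ'
  have hctx := h.quotient Z hZ
  have := hel.1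
  obtain ⟨ρ, hρ, hρ1⟩ := hctx.exists_rep
  have h2 : (2 : AddMonoid.End (Additive π'.ker)) = 0 := by
    refine two_end_eq_zero fun v => Additive.toMul.injective (Subtype.ext ?_)
    show ((v.toMul * v.toMul : π'.ker) : G ⧸ Z) = 1
    rw [Subgroup.coe_mul, ← pow_two]; exact hel.2 _ v.toMul.2
  obtain ⟨Ψ, hΨ⟩ := exists_extend ρ hρ1 h2
  let bar : ∀ q ∈ π.ker, Additive π'.ker := fun q hq => Additive.ofMul ⟨(q : G ⧸ Z), hq⟩
  have hval : ∀ v : Additive π'.ker, ∃ q, ∃ hq : q ∈ π.ker, bar q hq = v := fun v => by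
    obtain ⟨q, hq⟩ := QuotientGroup.mk_surjective (v.toMul : G ⧸ Z)
    have hqk : q ∈ π.ker := by
      have := v.toMul.2
      rw [← hq] at this
      exact this
    exact ⟨q, hqk, Additive.toMul.injective (Subtype.ext hq)⟩
  have hcZ : ∀ q ∈ π.ker, ∀ r ∈ π.ker, ⁅q, r⁆ ∈ Z := fun q hq r hr => by
    rw [← QuotientGroup.eq_one_iff]
    show QuotientGroup.mk' Z ⁅q, r⁆ = 1
    rw [map_commutatorElement, commutatorElement_eq_one_iff_mul_comm]
    exact congrArg Subtype.val (hel.1.1.1 ⟨(q : G ⧸ Z), hq⟩ ⟨(r : G ⧸ Z), hr⟩)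
  have hcen : ∀ a ∈ π.ker, ∀ b ∈ π.ker, ∀ c ∈ π.ker, ⁅a, b⁆ * c = c * ⁅a, b⁆ :=
    fun a ha b hb c hc => hZc _ (hcZ a ha b hb) c hc
  have hinvZ : ∀ a ∈ π.ker, ∀ b ∈ π.ker, ⁅a, b⁆⁻¹ = ⁅a, b⁆ := fun a ha b hb =>
    inv_eq_of_mul_eq_one_left (hZ2 _ (hcZ a ha b hb))
  have hsymm : ∀ a ∈ π.ker, ∀ b ∈ π.ker, ⁅a, b⁆ = ⁅b, a⁆ := fun a ha b hb => by
    rw [← commutatorElement_inv, hinvZ b hb a ha]
  have hz1 : ∀ z ∈ Z, ∀ q ∈ π.ker, ⁅z, q⁆ = 1 ∧ ⁅q, z⁆ = 1 := fun z hz q hq =>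
    ⟨commutatorElement_eq_one_iff_mul_comm.2 (hZc z hz q hq),
      commutatorElement_eq_one_iff_mul_comm.2 (hZc z hz q hq).symm⟩
  have hcong : ∀ q (hq : q ∈ π.ker) q' (hq' : q' ∈ π.ker), bar q hq = bar q' hq' → ∀ r ∈ π.ker,
      ⁅q, r⁆ = ⁅q', r⁆ ∧ ⁅r, q⁆ = ⁅r, q'⁆ := fun q hq q' hq' e r hr => by
    have hz : q'⁻¹ * q ∈ Z := QuotientGroup.eq.1 (congrArg (fun v : Additive π'.ker => (v.toMul : G ⧸ Z)) e).symm
    obtain ⟨e1, e2⟩ := comm_bimul hcen hq' (hZ hz) hr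
    rw [mul_inv_cancel_left] at e1 e2
    rw [e1, e2, (hz1 _ hz r hr).1, (hz1 _ hz r hr).2, mul_one, mul_one]
    exact ⟨rfl, rfl⟩
  have hbar : ∀ q (hq : q ∈ π.ker) r (hr : r ∈ π.ker), bar (q * r) (mul_mem hq hr) = bar q hq + bar r hr :=
    fun q hq r hr => rfl
  let S : AddSubgroup (Matrix (Fin 2) (Fin 2) F) :=
    { carrier := {m | ∀ q (hq : q ∈ π.ker) r (hr : r ∈ π.ker) q' (hq' : q' ∈ π.ker) r' (hr' : r' ∈ π.ker),
        bar q' hq' = Ψ m (bar q hq) → bar r' hr' = Ψ m (bar r hr) → ⁅q, r'⁆ = ⁅q', r⁆}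
      zero_mem' := by
        intro q hq r hr q' hq' r' hr' eq' er'
        rw [map_zero] at eq' er'
        have hzq : q' ∈ Z := (QuotientGroup.eq_one_iff q').1 (congrArg (fun v : Additive π'.ker => (v.toMul : G ⧸ Z)) eq')
        have hzr : r' ∈ Z := (QuotientGroup.eq_one_iff r').1 (congrArg (fun v : Additive π'.ker => (v.toMul : G ⧸ Z)) er')
        rw [(hz1 _ hzr q hq).2, (hz1 _ hzq r hr).1]
      add_mem' := by
        intro m m' hm hm' q hq r hr q' hq' r' hr' eq' er'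
        obtain ⟨q1, hq1, e1⟩ := hval (Ψ m (bar q hq))
        obtain ⟨q2, hq2, e2⟩ := hval (Ψ m' (bar q hq))
        obtain ⟨r1, hr1, f1⟩ := hval (Ψ m (bar r hr))
        obtain ⟨r2, hr2, f2⟩ := hval (Ψ m' (bar r hr))
        have eq2 : bar q' hq' = bar (q1 * q2) (mul_mem hq1 hq2) := by
          rw [eq', hbar q1 hq1 q2 hq2, e1, e2, map_add]; rfl
        have er2 : bar r' hr' = bar (r1 * r2) (mul_mem hr1 hr2) := by
          rw [er', hbar r1 hr1 r2 hr2, f1, f2, map_add]; rfl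
        rw [(hcong _ _ _ _ er2 q hq).2, (hcong _ _ _ _ eq2 r hr).1, (comm_bimul hcen hr1 hr2 hq).2,
          (comm_bimul hcen hq1 hq2 hr).1, hm q hq r hr q1 hq1 r1 hr1 e1 f1, hm' q hq r hr q2 hq2 r2 hr2 e2 f2]
      neg_mem' := by
        intro m hm
        have : -m = m := by ext i j; simp [CharTwo.neg_eq]
        rwa [this] }
  have h1S : (1 : Matrix (Fin 2) (Fin 2) F) ∈ S := by
    intro q hq r hr q' hq' r' hr' eq' er'
    rw [map_one] at eq' er'
    rw [(hcong r' hr' r hr er' q hq).2, (hcong q' hq' q hq eq' r hr).1]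
  have hS : ∀ m : Matrix (Fin 2) (Fin 2) F, m.det = 1 → m.trace = 1 → m ∈ S := by
    intro m hd ht q hq r hr q' hq' r' hr' eq' er'
    obtain ⟨y, hy, hyq⟩ := h.exists_lift (m := ⟨m, hd⟩) ht
    have hconj : ∀ a (ha : a ∈ π.ker), Ψ m (bar a ha) = bar (y * a * y⁻¹) ((MonoidHom.normal_ker π).conj_mem a ha y) :=
      fun a ha => by
        show Ψ ((⟨m, hd⟩ : Matrix.SpecialLinearGroup (Fin 2) F) : Matrix (Fin 2) (Fin 2) F) (bar a ha) = _
        refine (DFunLike.congr_fun (hΨ ⟨m, hd⟩) (bar a ha)).trans ?_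
        rw [← hy]
        refine Additive.toMul.injective (Subtype.ext ?_)
        exact hρ (y : G ⧸ Z) _
    rw [hconj] at eq' er'
    rw [(hcong _ _ _ _ er' q hq).2, (hcong _ _ _ _ eq' r hr).1]
    set a := y * q * y⁻¹
    set b := y * r * y⁻¹
    have ha : a ∈ π.ker := (MonoidHom.normal_ker π).conj_mem q hq y
    have hb : b ∈ π.ker := (MonoidHom.normal_ker π).conj_mem r hr y
    have hqa : ⁅q, a⁆ = 1 := commutatorElement_eq_one_iff_mul_comm.2 (hyq q hq).2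
    have hrb : ⁅r, b⁆ = 1 := commutatorElement_eq_one_iff_mul_comm.2 (hyq r hr).2
    have hboth : ⁅q * r, a * b⁆ = 1 := by
      have := (hyq (q * r) (mul_mem hq hr)).2
      rw [show y * (q * r) * y⁻¹ = a * b by simp only [a, b]; group] at this
      exact commutatorElement_eq_one_iff_mul_comm.2 this
    rw [(comm_bimul hcen hq hr (mul_mem ha hb)).1, (comm_bimul hcen ha hb hq).2, (comm_bimul hcen ha hb hr).2,
      hqa, hrb, one_mul, mul_one] at hboth
    rw [eq_inv_of_mul_eq_one_left hboth, hinvZ r hr a ha, hsymm r hr a ha]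
  obtain ⟨h12, h21, h11, -⟩ := single_mem_of_trace_one S h1S hS hF
  intro q hq r hr
  obtain ⟨q1, hq1, e1⟩ := hval (Ψ !![1, 0; 0, 0] (bar q hq))
  obtain ⟨q2, hq2, e2⟩ := hval (Ψ !![0, 0; 0, 1] (bar q hq))
  obtain ⟨qa, hqa, ea⟩ := hval (Ψ !![0, 1; 0, 0] (bar q hq))
  obtain ⟨rb, hrb, eb⟩ := hval (Ψ !![0, 0; 1, 0] (bar r hr))
  obtain ⟨r1, hr1, f1⟩ := hval (Ψ !![1, 0; 0, 0] (bar r hr))
  obtain ⟨rab, hrab, eab⟩ := hval (Ψ !![0, 1; 0, 0] (bar rb hrb))
  obtain ⟨qba, hqba, eba⟩ := hval (Ψ !![0, 0; 1, 0] (bar qa hqa))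
  have hAB : bar rab hrab = bar r1 hr1 := by
    rw [eab, eb, f1]
    show (Ψ !![0, 1; 0, 0] * Ψ !![0, 0; 1, 0]) (bar r hr) = _
    rw [← map_mul]
    congr 2
    ext i j
    fin_cases i <;> fin_cases j <;> simp
  have hBA : bar qba hqba = bar q2 hq2 := by
    rw [eba, ea, e2]
    show (Ψ !![0, 0; 1, 0] * Ψ !![0, 1; 0, 0]) (bar q hq) = _
    rw [← map_mul]
    congr 2
    ext i j
    fin_cases i <;> fin_cases j <;> simp
  have s1 : ⁅q, rab⁆ = ⁅qa, rb⁆ := h12 q hq rb hrb qa hqa rab hrab ea eab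
  have s2 : ⁅qa, rb⁆ = ⁅qba, r⁆ := h21 qa hqa r hr qba hqba rb hrb eba eb
  have s3 : ⁅q, r1⁆ = ⁅q1, r⁆ := h11 q hq r hr q1 hq1 r1 hr1 e1 f1
  rw [s2, (hcong _ _ _ _ hAB q hq).2, (hcong _ _ _ _ hBA r hr).1, s3] at s1
  have hsum : bar q hq = bar (q1 * q2) (mul_mem hq1 hq2) := by
    rw [hbar q1 hq1 q2 hq2, e1, e2]
    show _ = (Ψ !![1, 0; 0, 0] + Ψ !![0, 0; 0, 1]) (bar q hq)
    rw [← map_add, show (!![1, 0; 0, 0] + !![0, 0; 0, 1] : Matrix (Fin 2) (Fin 2) F) = 1 by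
      simp [Matrix.one_fin_two], map_one]
    rfl
  refine commutatorElement_eq_one_iff_mul_comm.1 ?_
  rw [(hcong _ _ _ _ hsum r hr).1, (comm_bimul hcen hq1 hq2 hr).1, ← s1]
  exact hZ2 _ (hcZ q1 hq1 r hr)

theorem Ctx.elementary (h : Ctx π x) (hF : 2 < Fintype.card F) : Cfsg.IsElementaryAbelian 2 π.ker := by
  suffices ∀ (n : ℕ) (G : Type u) [Group G] [Finite G] (π : G →* Matrix.SpecialLinearGroup (Fin 2) F) (x : G),
      Nat.card π.ker = n → Ctx π x → Cfsg.IsElementaryAbelian 2 π.ker from this _ G π x rfl h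
  intro n
  induction n using Nat.strong_induction_on with
  | _ n ih =>
  intro G _ _ π x hn h
  by_cases hb : π.ker = ⊥
  · have h1 : ∀ a ∈ π.ker, a = (1 : G) := fun a ha => Subgroup.mem_bot.1 (hb ▸ ha)
    exact ⟨⟨⟨fun a b => Subtype.ext (by show (a : G) * b = b * a; rw [h1 a a.2, h1 b b.2])⟩⟩,
      fun a ha => by rw [h1 a ha, one_pow]⟩
  let Z : Subgroup G :=
    { carrier := {z | z ∈ π.ker ∧ (∀ q ∈ π.ker, z * q = q * z) ∧ z * z = 1}
      one_mem' := ⟨one_mem _, fun q _ => by rw [one_mul, mul_one], one_mul 1⟩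
      mul_mem' := fun {a b} ha hb => ⟨mul_mem ha.1 hb.1,
        fun q hq => by rw [mul_assoc, hb.2.1 q hq, ← mul_assoc, ha.2.1 q hq, mul_assoc],
        by rw [mul_assoc, ← mul_assoc b, hb.2.1 a ha.1, mul_assoc a, hb.2.2, mul_one, ha.2.2]⟩
      inv_mem' := fun {a} ha => by
        rw [show a⁻¹ = a from inv_eq_of_mul_eq_one_left ha.2.2]; exact ha }
  have hZn : Z.Normal := ⟨fun z hz g => by
    refine ⟨(MonoidHom.normal_ker π).conj_mem z hz.1 g, fun q hq => ?_, ?_⟩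
    · have h1 := hz.2.1 _ ((MonoidHom.normal_ker π).conj_mem q hq g⁻¹)
      rw [inv_inv] at h1
      calc g * z * g⁻¹ * q = g * (z * (g⁻¹ * q * g)) * g⁻¹ := by group
        _ = g * (g⁻¹ * q * g * z) * g⁻¹ := by rw [h1]
        _ = q * (g * z * g⁻¹) := by group
    · calc g * z * g⁻¹ * (g * z * g⁻¹) = g * (z * z) * g⁻¹ := by group
        _ = 1 := by rw [hz.2.2]; group⟩
  have hZne : Z ≠ ⊥ := by
    intro hZ
    have : Nontrivial π.ker := (Subgroup.nontrivial_iff_ne_bot _).2 hb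
    have := h.two.center_nontrivial
    obtain ⟨k, hk⟩ := IsPGroup.iff_card.1 (h.two.to_subgroup (Subgroup.center π.ker))
    have h2 : 2 ∣ Nat.card (Subgroup.center π.ker) := by
      rcases Nat.eq_zero_or_pos k with rfl | hk0
      · exact absurd hk Finite.one_lt_card.ne'
      · rw [hk]; exact dvd_pow_self 2 hk0.ne'
    obtain ⟨c, hc⟩ := exists_prime_orderOf_dvd_card' (G := Subgroup.center π.ker) 2 h2
    have hc2 : c * c = 1 := by
      have := pow_orderOf_eq_one c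
      rwa [hc, pow_two] at this
    have hmem : ((c : π.ker) : G) ∈ Z := ⟨(c : π.ker).2,
      fun q hq => congrArg Subtype.val ((Subgroup.mem_center_iff.1 c.2 ⟨q, hq⟩).symm),
      by rw [← Subgroup.coe_mul, ← Subgroup.coe_mul, hc2]; rfl⟩
    rw [hZ, Subgroup.mem_bot] at hmem
    rw [show c = 1 from Subtype.ext (Subtype.ext hmem), orderOf_one] at hc
    norm_num at hc
  have hZle : Z ≤ π.ker := fun z hz => hz.1
  have hlt : Nat.card (QuotientGroup.lift Z π hZle).ker < n := by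
    rw [← hn]
    refine lt_of_le_of_ne (Nat.card_le_card_of_surjective
      (((QuotientGroup.mk' Z).comp π.ker.subtype).codRestrict _ fun q => q.2) ?_) fun e => hZne ?_
    · rintro ⟨q, hq⟩
      obtain ⟨g, rfl⟩ := QuotientGroup.mk_surjective q
      exact ⟨⟨g, hq⟩, rfl⟩
    · have hsurj : Function.Surjective
          (((QuotientGroup.mk' Z).comp π.ker.subtype).codRestrict (QuotientGroup.lift Z π hZle).ker fun q => q.2) := by
        rintro ⟨q, hq⟩
        obtain ⟨g, rfl⟩ := QuotientGroup.mk_surjective q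
        exact ⟨⟨g, hq⟩, rfl⟩
      have hinj := ((Nat.bijective_iff_surjective_and_card _).2 ⟨hsurj, e.symm⟩).1
      refine (Subgroup.eq_bot_iff_forall _).2 fun z hz => ?_
      have : (⟨z, hZle hz⟩ : π.ker) = 1 := hinj (Subtype.ext ((QuotientGroup.eq_one_iff z).2 hz))
      exact congrArg Subtype.val this
  have hel := ih _ hlt (G ⧸ Z) _ _ rfl (h.quotient Z hZle)
  have hcomm := h.comm_of_quotient hF Z hZle (fun z hz => hz.2.1) (fun z hz => hz.2.2) hel
  have hab : IsMulCommutative π.ker := ⟨⟨fun a b => Subtype.ext (hcomm a a.2 b b.2)⟩⟩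
  refine ⟨hab, fun q hq => ?_⟩
  have hsqZ : ∀ q ∈ π.ker, q ^ 2 ∈ Z := fun q hq => by
    rw [← QuotientGroup.eq_one_iff, QuotientGroup.mk_pow]
    exact hel.2 _ (show ((q : G ⧸ Z)) ∈ (QuotientGroup.lift Z π hZle).ker from hq)
  obtain ⟨ρ, hρ, hρ1⟩ := h.exists_rep
  let D : AddSubgroup (Additive π.ker) := (nsmulAddMonoidHom (α := Additive π.ker) 2).range
  have hD : ∀ (f : AddMonoid.End (Additive π.ker)), D ≤ D.comap f := by
    rintro f _ ⟨a, rfl⟩
    exact ⟨f a, (map_nsmul f 2 a).symm⟩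
  let red : AddMonoid.End (Additive π.ker) →+* AddMonoid.End (Additive π.ker ⧸ D) :=
    { toFun := fun f => QuotientAddGroup.map D D f (hD f)
      map_one' := by
        refine end_ext fun v => ?_
        obtain ⟨a, rfl⟩ := QuotientAddGroup.mk_surjective v
        rfl
      map_mul' := fun f g => by
        refine end_ext fun v => ?_
        obtain ⟨a, rfl⟩ := QuotientAddGroup.mk_surjective v
        rfl
      map_zero' := by
        refine end_ext fun v => ?_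
        obtain ⟨a, rfl⟩ := QuotientAddGroup.mk_surjective v
        rfl
      map_add' := fun f g => by
        refine end_ext fun v => ?_
        obtain ⟨a, rfl⟩ := QuotientAddGroup.mk_surjective v
        rfl }
  have h4v : ∀ a : Additive π.ker, 2 • (2 • a) = 0 := fun a => by
    refine Additive.toMul.injective (Subtype.ext ?_)
    show (((a.toMul : π.ker) ^ 2) ^ 2 : π.ker).1 = 1
    rw [Subgroup.coe_pow, Subgroup.coe_pow, pow_two (_ ^ 2)]
    exact (hsqZ _ a.toMul.2).2.2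
  have hends : ∀ (m : ℕ) (f : AddMonoid.End (Additive π.ker)) (a : Additive π.ker),
      ((m : AddMonoid.End (Additive π.ker)) * f) a = m • f a := fun m f a => by
    rw [← nsmul_eq_mul]; rfl
  have h4 : (4 : AddMonoid.End (Additive π.ker)) = 0 := by
    refine end_ext fun a => ?_
    have := hends 4 1 a
    rw [mul_one] at this
    show ((4 : ℕ) : AddMonoid.End (Additive π.ker)) a = 0
    rw [this]
    show (2 * 2) • a = 0
    rw [mul_smul]; exact h4v a
  have h2' : (2 : AddMonoid.End (Additive π.ker ⧸ D)) = 0 := by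
    refine two_end_eq_zero fun v => ?_
    obtain ⟨a, rfl⟩ := QuotientAddGroup.mk_surjective v
    show ((a + a : Additive π.ker) : Additive π.ker ⧸ D) = 0
    exact (QuotientAddGroup.eq_zero_iff _).2 ⟨a, two_nsmul a⟩
  have hker : ∀ j, red j = 0 → ∀ a, ∃ b, j a = 2 • b := fun j hj a => by
    obtain ⟨b, hb⟩ := (QuotientAddGroup.eq_zero_iff _).1 (DFunLike.congr_fun hj (a : Additive π.ker ⧸ D))
    exact ⟨b, hb.symm⟩
  have h2 := two_eq_zero (R' := AddMonoid.End (Additive π.ker ⧸ D)) ρ hρ1 red h4 h2' (fun j k hj hk => by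
      refine end_ext fun a => ?_
      show j (k a) = 0
      obtain ⟨b, hb⟩ := hker k hk a
      obtain ⟨c, hc⟩ := hker j hj b
      rw [hb, map_nsmul, hc, h4v]) (fun j hj => by
      refine end_ext fun a => ?_
      obtain ⟨b, hb⟩ := hker j hj a
      rw [show (2 : AddMonoid.End (Additive π.ker)) = ((2 : ℕ) : AddMonoid.End (Additive π.ker)) from rfl, hends, hb,
        h4v]
      rfl) hF
  have h2a := hends 2 1 (Additive.ofMul (⟨q, hq⟩ : π.ker))
  rw [mul_one, show ((2 : ℕ) : AddMonoid.End (Additive π.ker)) = 2 from rfl, h2] at h2a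
  exact congrArg (fun v : Additive π.ker => (v.toMul : G)) h2a.symm

end Cfsg.Agent.LocalEvenB.TraceOne
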