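import Mathlib
import Cfsg.Agent.Lib.LocalEvenB.TraceOneModule

/-! The kernel is a direct product of natural modules. -/

set_option autoImplicit false

namespace Cfsg.Agent.LocalEvenB.TraceOne

open Subgroup
open scoped IsMulCommutative

universe u v

variable {F : Type v} [Field F] [Fintype F] [CharP F 2]

/-- A module over the matrix ring is a sum of natural modules. -/
theorem exists_natural_sum {A : Type*} [AddCommGroup A] [Finite A]
    (Ψ : Matrix (Fin 2) (Fin 2) F →+* AddMonoid.End A) :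
    ∃ (k : ℕ) (Φ : (Fin k → Fin 2 → F) →+ A), Function.Bijective Φ ∧
      ∀ (m : Matrix (Fin 2) (Fin 2) F) (f : Fin k → Fin 2 → F), Ψ m (Φ f) = Φ (fun i => m.mulVec (f i)) := by
  let hM : Module F A := Module.compHom A (Ψ.comp (Matrix.scalar (Fin 2)))
  have hsm : ∀ (c : F) (v : A), c • v = Ψ (Matrix.scalar (Fin 2) c) v := fun c v => rfl
  have hcomp : ∀ (a b : Matrix (Fin 2) (Fin 2) F) (v : A), Ψ (a * b) v = Ψ a (Ψ b v) := fun a b v => by
    rw [map_mul]; rfl
  let I : Submodule F A :=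
    { carrier := {v | Ψ !![1, 0; 0, 0] v = v}
      zero_mem' := map_zero (Ψ !![1, 0; 0, 0])
      add_mem' := fun {a b} (ha : Ψ !![1, 0; 0, 0] a = a) (hb : Ψ !![1, 0; 0, 0] b = b) => by
        show Ψ !![1, 0; 0, 0] (a + b) = a + b
        rw [map_add, ha, hb]
      smul_mem' := fun c v (hv : Ψ !![1, 0; 0, 0] v = v) => by
        show Ψ !![1, 0; 0, 0] (c • v) = c • v
        rw [hsm, ← hcomp, show !![1, 0; 0, 0] * Matrix.scalar (Fin 2) c = Matrix.scalar (Fin 2) c * !![1, 0; 0, 0] from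
          (Matrix.scalar_commute c (fun r => Commute.all c r) _).eq.symm, hcomp, hv] }
  have : Module.Finite F A := Module.Finite.of_finite
  let b := Module.finBasis F I
  set k := Module.finrank F I
  let col : (Fin 2 → F) →+ Matrix (Fin 2) (Fin 2) F :=
    { toFun := fun f => !![f 0, 0; f 1, 0]
      map_zero' := by ext i j; fin_cases i <;> fin_cases j <;> simp
      map_add' := fun f g => by ext i j; fin_cases i <;> fin_cases j <;> simp }
  let Φ : (Fin k → Fin 2 → F) →+ A :=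
    { toFun := fun f => ∑ i, Ψ (col (f i)) (b i : A)
      map_zero' := Finset.sum_eq_zero fun i _ => by rw [Pi.zero_apply, map_zero, map_zero]; rfl
      map_add' := fun f g => by
        rw [← Finset.sum_add_distrib]
        refine Finset.sum_congr rfl fun i _ => ?_
        rw [Pi.add_apply, map_add, map_add]; rfl }
  have hΦ : ∀ f, Φ f = ∑ i, Ψ (col (f i)) (b i : A) := fun f => rfl
  have hequiv : ∀ (m : Matrix (Fin 2) (Fin 2) F) (f : Fin k → Fin 2 → F), Ψ m (Φ f) = Φ (fun i => m.mulVec (f i)) := by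
    intro m f
    rw [hΦ, hΦ, map_sum]
    refine Finset.sum_congr rfl fun i _ => ?_
    rw [← hcomp]
    congr 2
    ext a c
    fin_cases a <;> fin_cases c <;> simp [col, Matrix.mul_apply, Fin.sum_univ_two, Matrix.mulVec, dotProduct]
  have hbI : ∀ i, Ψ !![1, 0; 0, 0] (b i : A) = b i := fun i => (b i).2
  have hread : ∀ (m : Matrix (Fin 2) (Fin 2) F) (r : Fin 2) (f : Fin k → Fin 2 → F),
      (∀ g : Fin 2 → F, m * col g = Matrix.scalar (Fin 2) (g r) * !![1, 0; 0, 0]) →
      Ψ m (Φ f) = ((∑ i, f i r • b i : I) : A) := fun m r f hm => by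
    rw [hΦ, map_sum, AddSubmonoidClass.coe_finsetSum]
    refine Finset.sum_congr rfl fun i _ => ?_
    rw [← hcomp, hm, hcomp, hbI]
    rfl
  have h0 : ∀ g : Fin 2 → F, !![1, 0; 0, 0] * col g = Matrix.scalar (Fin 2) (g 0) * !![1, 0; 0, 0] := fun g => by
    ext a c; fin_cases a <;> fin_cases c <;> simp [col, Matrix.mul_apply, Fin.sum_univ_two]
  have h1 : ∀ g : Fin 2 → F, !![0, 1; 0, 0] * col g = Matrix.scalar (Fin 2) (g 1) * !![1, 0; 0, 0] := fun g => by
    ext a c; fin_cases a <;> fin_cases c <;> simp [col, Matrix.mul_apply, Fin.sum_univ_two]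
  have hinj : Function.Injective Φ := by
    rw [injective_iff_map_eq_zero]
    intro f hf
    funext i r
    have key : ∀ (m : Matrix (Fin 2) (Fin 2) F) (r : Fin 2),
        (∀ g : Fin 2 → F, m * col g = Matrix.scalar (Fin 2) (g r) * !![1, 0; 0, 0]) → f i r = 0 := fun m r hm => by
      have e := hread m r f hm
      rw [hf, map_zero] at e
      exact Fintype.linearIndependent_iff.1 b.linearIndependent (fun i => f i r) (Subtype.ext e.symm) i
    fin_cases r
    · exact key _ 0 h0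
    · exact key _ 1 h1
  refine ⟨k, Φ, ⟨hinj, fun v => ?_⟩, hequiv⟩
  have hmem : ∀ m : Matrix (Fin 2) (Fin 2) F, !![1, 0; 0, 0] * m = m → Ψ m v ∈ I := fun m hm => by
    show Ψ !![1, 0; 0, 0] (Ψ m v) = Ψ m v
    rw [← hcomp, hm]
  let p : I := ⟨Ψ !![1, 0; 0, 0] v, hmem _ (by ext a c; fin_cases a <;> fin_cases c <;> simp)⟩
  let q : I := ⟨Ψ !![0, 1; 0, 0] v, hmem _ (by ext a c; fin_cases a <;> fin_cases c <;> simp)⟩
  refine ⟨fun i => ![b.repr p i, b.repr q i], ?_⟩
  have hsplit : ∀ g : Fin 2 → F, col g = Matrix.scalar (Fin 2) (g 0) * !![1, 0; 0, 0] +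
      !![0, 0; 1, 0] * Matrix.scalar (Fin 2) (g 1) := fun g => by
    ext a c; fin_cases a <;> fin_cases c <;> simp [col, Matrix.mul_apply, Fin.sum_univ_two]
  have hp : ∑ i, b.repr p i • (b i : A) = p := by
    have := congrArg (fun w : I => (w : A)) (b.sum_repr p)
    simp only [AddSubmonoidClass.coe_finsetSum] at this
    exact this
  have hq : ∑ i, b.repr q i • (b i : A) = q := by
    have := congrArg (fun w : I => (w : A)) (b.sum_repr q)
    simp only [AddSubmonoidClass.coe_finsetSum] at this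
    exact this
  rw [hΦ]
  simp only [hsplit, map_add, map_mul, Matrix.cons_val_zero, Matrix.cons_val_one]
  show ∑ i, (Ψ (Matrix.scalar (Fin 2) (b.repr p i)) (Ψ !![1, 0; 0, 0] (b i : A)) +
    Ψ !![0, 0; 1, 0] (Ψ (Matrix.scalar (Fin 2) (b.repr q i)) (b i : A))) = v
  rw [Finset.sum_add_distrib, ← map_sum]
  simp only [hbI, ← hsm]
  rw [hp, hq]
  show Ψ !![1, 0; 0, 0] v + Ψ !![0, 0; 1, 0] (Ψ !![0, 1; 0, 0] v) = v
  rw [← hcomp]
  show (Ψ !![1, 0; 0, 0] + Ψ (!![0, 0; 1, 0] * !![0, 1; 0, 0])) v = v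
  rw [← map_add, show (!![1, 0; 0, 0] + !![0, 0; 1, 0] * !![0, 1; 0, 0] : Matrix (Fin 2) (Fin 2) F) = 1 by
    simp [Matrix.one_fin_two], map_one]
  rfl

variable {G : Type u} [Group G] [Finite G] {π : G →* Matrix.SpecialLinearGroup (Fin 2) F} {x : G}

theorem Ctx.decompose (h : Ctx π x) (hF : 2 < Fintype.card F) :
    ∃ (k : ℕ) (V : Fin k → Subgroup G), (∀ i, V i ≤ π.ker ∧ (V i).Normal ∧
      Cfsg.ActsAsSL2OnSection F ⊤ ⊤ (V i) ⊥) ∧ iSupIndep V ∧ ⨆ i, V i = π.ker := by
  have hel := h.elementary hF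
  have := hel.1
  obtain ⟨ρ, hρ, hρ1⟩ := h.exists_rep
  have h2 : (2 : AddMonoid.End (Additive π.ker)) = 0 := two_end_eq_zero fun v =>
    Additive.toMul.injective (Subtype.ext (by
      show ((v.toMul * v.toMul : π.ker) : G) = 1
      rw [Subgroup.coe_mul, ← pow_two]; exact hel.2 _ v.toMul.2))
  obtain ⟨Ψ, hΨ⟩ := exists_extend ρ hρ1 h2
  obtain ⟨k, Φ, hbij, hequiv⟩ := exists_natural_sum Ψ
  let ΦG : Multiplicative (Fin k → Fin 2 → F) →* G := π.ker.subtype.comp (AddMonoidHom.toMultiplicativeLeft Φ)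
  have hΦinj : Function.Injective ΦG := fun a b e => hbij.1 (Subtype.ext e : (Φ a.toAdd).toMul = (Φ b.toAdd).toMul)
  let ι : Fin k → (Multiplicative (Fin 2 → F) →* Multiplicative (Fin k → Fin 2 → F)) := fun i =>
    AddMonoidHom.toMultiplicative (AddMonoidHom.single (fun _ : Fin k => Fin 2 → F) i)
  have hι : ∀ i, Function.Injective (ι i) := fun i a b e => Pi.single_injective i e
  let V : Fin k → Subgroup G := fun i => ((ΦG.comp (ι i))).range
  have hconj : ∀ (g : G) (f : Multiplicative (Fin k → Fin 2 → F)),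
      g * ΦG f * g⁻¹ = ΦG (Multiplicative.ofAdd fun i => (π g : Matrix (Fin 2) (Fin 2) F).mulVec (f.toAdd i)) := fun g f => by
    show g * ((Φ f.toAdd).toMul : G) * g⁻¹ = ((Φ _).toMul : G)
    rw [← hρ, ← DFunLike.congr_fun (hΨ (π g)) (Φ f.toAdd), hequiv]
    rfl
  have hconjV : ∀ (i : Fin k) (g : G) (a : Multiplicative (Fin 2 → F)),
      g * ΦG (ι i a) * g⁻¹ = ΦG (ι i (Multiplicative.ofAdd ((π g : Matrix (Fin 2) (Fin 2) F).mulVec a.toAdd))) :=
    fun i g a => by
      rw [hconj]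
      congr 1
      show Multiplicative.ofAdd (fun j => (π g : Matrix (Fin 2) (Fin 2) F).mulVec
        ((Pi.single i a.toAdd : Fin k → Fin 2 → F) j)) =
        Multiplicative.ofAdd (Pi.single i ((π g : Matrix (Fin 2) (Fin 2) F).mulVec a.toAdd))
      congr 1
      funext j
      rcases eq_or_ne j i with rfl | hji
      · rw [Pi.single_eq_same, Pi.single_eq_same]
      · rw [Pi.single_eq_of_ne hji, Pi.single_eq_of_ne hji, Matrix.mulVec_zero]
  have hinjc : ∀ i, Function.Injective (ΦG.comp (ι i)) := fun i a b e => hι i (hΦinj e)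
  have hιne : ∀ (i j : Fin k) (c : Multiplicative (Fin 2 → F)), i ≠ j → (ι j c).toAdd i = 0 := fun i j c hij => by
    show (Pi.single j c.toAdd : Fin k → Fin 2 → F) i = 0
    exact Pi.single_eq_of_ne hij _
  have hιeq : ∀ (i : Fin k) (c : Multiplicative (Fin 2 → F)), (ι i c).toAdd i = c.toAdd := fun i c => by
    show (Pi.single i c.toAdd : Fin k → Fin 2 → F) i = c.toAdd
    exact Pi.single_eq_same i _
  have hVn : ∀ i, (V i).Normal := fun i => ⟨by
    rintro _ ⟨a, rfl⟩ g
    exact ⟨_, (hconjV i g a).symm⟩⟩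
  refine ⟨k, V, fun i => ⟨?_, hVn i, ?_⟩, ?_, ?_⟩
  · rintro _ ⟨a, rfl⟩
    exact ((Φ (ι i a).toAdd).toMul).2
  · have := hVn i
    refine ⟨le_of_le_of_eq le_top (Subgroup.normalizer_eq_top (H := V i)).symm, bot_le, π.comp (⊤ : Subgroup G).subtype,
      (MonoidHom.ofInjective (hinjc i)).symm.toMonoidHom, ?_, ?_, fun u => ?_, fun e u => ?_⟩
    · rw [MonoidHom.range_eq_top]
      intro m
      obtain ⟨g, hg⟩ := h.surj m
      exact ⟨⟨g, Subgroup.mem_top g⟩, hg⟩
    · exact MulEquiv.surjective _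
    · rw [MulEquiv.coe_toMonoidHom, MulEquiv.map_eq_one_iff, Subgroup.mem_bot, OneMemClass.coe_eq_one]
    · obtain ⟨a, rfl⟩ := (MonoidHom.ofInjective (hinjc i)).surjective u
      refine ⟨MonoidHom.ofInjective (hinjc i)
        (Multiplicative.ofAdd ((π e : Matrix (Fin 2) (Fin 2) F).mulVec a.toAdd)), (hconjV i e a).symm, ?_⟩
      rw [MulEquiv.coe_toMonoidHom, MulEquiv.symm_apply_apply, MulEquiv.symm_apply_apply]
      rfl
  · intro i
    rw [disjoint_iff, Subgroup.eq_bot_iff_forall]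
    rintro y ⟨⟨a, rfl⟩, hy⟩
    let W : Subgroup G :=
      { carrier := {y | ∃ f : Multiplicative (Fin k → Fin 2 → F), f.toAdd i = 0 ∧ ΦG f = y}
        one_mem' := ⟨1, rfl, map_one ΦG⟩
        mul_mem' := by
          rintro _ _ ⟨f, hf, rfl⟩ ⟨f', hf', rfl⟩
          exact ⟨f * f', by rw [toAdd_mul, Pi.add_apply, hf, hf', add_zero], map_mul _ _ _⟩
        inv_mem' := by
          rintro _ ⟨f, hf, rfl⟩
          exact ⟨f⁻¹, by rw [toAdd_inv, Pi.neg_apply, hf, neg_zero], map_inv _ _⟩ }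
    have hle : (⨆ (j : Fin k) (_ : j ≠ i), V j) ≤ W := iSup₂_le fun j hj => by
      rintro _ ⟨c, rfl⟩
      exact ⟨ι j c, hιne i j c hj.symm, rfl⟩
    obtain ⟨f, hf, hfe⟩ := hle hy
    have e : f = ι i a := hΦinj hfe
    subst e
    have ha : a.toAdd = 0 := by rw [← hιeq i a]; exact hf
    rw [show a = 1 from ha, map_one]
  · refine le_antisymm (iSup_le fun i => ?_) fun q hq => ?_
    · rintro _ ⟨a, rfl⟩
      exact ((Φ (ι i a).toAdd).toMul).2
    · obtain ⟨f, hf⟩ := hbij.2 (Additive.ofMul (⟨q, hq⟩ : π.ker))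
      rw [show q = ΦG (Multiplicative.ofAdd f) by show q = ((Φ f).toMul : G); rw [hf]; rfl,
        ← Finset.univ_sum_single f]
      have key : ∀ s : Finset (Fin k), ΦG (Multiplicative.ofAdd (∑ i ∈ s, Pi.single i (f i))) ∈ ⨆ i, V i := by
        intro s
        induction s using Finset.induction_on with
        | empty => rw [Finset.sum_empty, ofAdd_zero, map_one]; exact one_mem _
        | insert i t hi ih =>
          rw [Finset.sum_insert hi, ofAdd_add, map_mul]
          exact mul_mem ((le_iSup V i) ⟨Multiplicative.ofAdd (f i), rfl⟩) ih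
      exact key Finset.univ

end Cfsg.Agent.LocalEvenB.TraceOne
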