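import Cfsg.Agent.Lib.LocalEvenB.ZNUnique

/-!
The maximal 2-local subgroup attached to an admissible component.
-/

set_option autoImplicit false

namespace Cfsg.Agent.LocalEvenB.ZN

open Subgroup Cfsg Agent.LocalEvenA
open scoped IsMulCommutative commutatorElement Pointwise

variable {G : Type*} [Group G] [Finite G]

/-- Every 2-local subgroup above `⟨K, J(T)⟩` has a Sylow subgroup with Thompson subgroup `J(T)`. -/
def Adm (T K : Subgroup G) : Prop :=
  ∀ L : Subgroup G, IsTwoLocal L → K ⊔ thompsonSubgroupOf 2 T ≤ L →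
    ∃ T0 : Subgroup G, IsSylowTwoIn T0 L ∧ thompsonSubgroupOf 2 T0 = thompsonSubgroupOf 2 T

theorem adm_of_outside {S : Sylow 2 G} {M T K : Subgroup G} (h : MSetup S M)
    (hT : T ∈ maxStraddlingTwoSubgroups M) (hKM : ¬ K ≤ M) : Adm T K := by
  intro L hL hX
  obtain ⟨T0, hT0, hJ⟩ := exists_sylowIn (isPGroup_thompson hT.1.1) (le_sup_right.trans hX)
  exact ⟨T0, hT0,
    (sylowIn_straddle h hT hL (fun hle => hKM ((le_sup_left.trans hX).trans hle)) hT0 hJ).1⟩

theorem adm_of_sylow (S : Sylow 2 G) (K : Subgroup G) : Adm (S : Subgroup G) K := by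
  intro L _ hX
  obtain ⟨T0, hT0, hJ⟩ := exists_sylowIn (isPGroup_thompson S.2) (le_sup_right.trans hX)
  obtain ⟨g, hg⟩ := LocalEvenB.sylow_conj_le S hT0.2.1
  exact ⟨T0, hT0, (thompson_eq_of_conj_le hJ hg).1⟩

theorem adm_congr {T T' K : Subgroup G} (h : thompsonSubgroupOf 2 T = thompsonSubgroupOf 2 T')
    (ha : Adm T K) : Adm T' K := by
  intro L hL hX
  rw [← h] at hX ⊢
  exact ha L hL hX

theorem Adm.data (hG : ZNHyp G) {T K L : Subgroup G} (ha : Adm T K) (hK : IsJComponent T K)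
    (hL : IsTwoLocal L) (hX : K ⊔ thompsonSubgroupOf 2 T ≤ L) :
    ∃ T0 : Subgroup G, IsPGroup 2 T0 ∧ L ∈ jOvergroups T0 ∧
      thompsonSubgroupOf 2 T0 = thompsonSubgroupOf 2 T := by
  obtain ⟨T0, hT0, hJ⟩ := ha L hL hX
  exact ⟨T0, hT0.2.1, mem_jOvergroups_of_isTwoLocal hG hK (le_sup_left.trans hX) hL hT0 hJ, hJ⟩

theorem sup_le_normalizer_wOf {T K : Subgroup G} (hT : IsPGroup 2 T) (hK : IsJComponent T K) :
    K ⊔ thompsonSubgroupOf 2 T ≤ normalizer (wOf K : Set G) :=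
  sup_le (le_normalizer.trans (normalizer_le_normalizer_wOf K))
    (preComp_of_isJComponent hT hK).J_le_normalizer_wOf

theorem isTwoLocal_normalizer_wOf {T K : Subgroup G} (hK : IsJComponent T K) :
    IsTwoLocal (normalizer (wOf K : Set G)) := ⟨wOf K, isPGroup_wOf hK, wOf_ne_bot hK, rfl⟩

theorem Adm.compSet_le (hG : ZNHyp G) {T K L : Subgroup G} (ha : Adm T K)
    (hK : IsJComponent T K) (hL : IsTwoLocal L) (hX : K ⊔ thompsonSubgroupOf 2 T ≤ L) :
    compSet T L ⊆ compSet T (normalizer (wOf K : Set G)) := by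
  intro K' hK'
  obtain ⟨T0, hT0, hLT, hJ⟩ := ha.data hG hK hL hX
  rw [← compSet_congr hJ] at hK'
  have hKL : K ∈ compSet T0 L := ⟨isJComponent_congr hJ.symm hK, le_sup_left.trans hX⟩
  exact ⟨isJComponent_congr hJ hK'.1,
    (comps_le_normalizer hG hT0 hLT hKL hK').trans (normalizer_le_normalizer_wOf K)⟩

/-- The maximal 2-local subgroup attached to `K`. -/
noncomputable def lmax (T K : Subgroup G) : Subgroup G := normalizer (wSpan T K : Set G)

theorem Adm.wSpan_facts (hG : ZNHyp G) {T K : Subgroup G} (hT : IsPGroup 2 T) (ha : Adm T K)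
    (hK : IsJComponent T K) : IsPGroup 2 (wSpan T K) ∧ wSpan T K ≠ ⊥ := by
  obtain ⟨T0, hT0, hLT, hJ⟩ :=
    ha.data hG hK (isTwoLocal_normalizer_wOf hK) (sup_le_normalizer_wOf hT hK)
  refine ⟨(LData.isPGroup_R (normalizer (wOf K : Set G))).to_le (sSup_le ?_), ne_bot_of_le_ne_bot (wOf_ne_bot hK)
    (le_sSup ⟨K, ⟨hK, le_sup_left.trans (sup_le_normalizer_wOf hT hK)⟩, rfl⟩)⟩
  rintro _ ⟨K', hK', rfl⟩
  rw [← compSet_congr hJ] at hK'
  exact (comps_wOf_le hG hT0 hLT hK' hK').1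

theorem Adm.isTwoLocal_lmax (hG : ZNHyp G) {T K : Subgroup G} (hT : IsPGroup 2 T) (ha : Adm T K)
    (hK : IsJComponent T K) : IsTwoLocal (lmax T K) :=
  ⟨_, (ha.wSpan_facts hG hT hK).1, (ha.wSpan_facts hG hT hK).2, rfl⟩

/-- Every 2-local subgroup above `⟨K, J(T)⟩` is contained in `lmax T K`. -/
theorem Adm.local_le (hG : ZNHyp G) {T K L : Subgroup G} (hT : IsPGroup 2 T) (ha : Adm T K)
    (hK : IsJComponent T K) (hL : IsTwoLocal L) (hX : K ⊔ thompsonSubgroupOf 2 T ≤ L) :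
    L ≤ lmax T K := by
  classical
  obtain ⟨T0, hT0, hLT, hJ⟩ := ha.data hG hK hL hX
  set N := normalizer (wOf K : Set G)
  have hsub := ha.compSet_le hG hK hL hX
  obtain ⟨T1, hT1, hNT, hJ1⟩ :=
    ha.data hG hK (isTwoLocal_normalizer_wOf hK) (sup_le_normalizer_wOf hT hK)
  refine (le_comps_sup_normalizer hG hT0 hLT).trans
    (sup_le (sSup_le fun K' hK' => ?_) fun n hn => ?_)
  · rw [compSet_congr hJ] at hK'
    have hK'N : K' ∈ compSet T1 N := by rw [compSet_congr hJ1]; exact hsub hK'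
    intro k hk
    refine LocalEvenB.mem_normalizer_of_conjMap_le (map_le_iff_le_comap.2 (sSup_le ?_))
    rintro _ ⟨K'', hK'', rfl⟩
    rw [← compSet_congr hJ1] at hK''
    have hkn := normalizer_le_normalizer_wOf K'' (comps_le_normalizer hG hT1 hNT hK'' hK'N hk)
    rw [← map_le_iff_le_comap, LocalEvenB.conjMap_eq_of_mem_normalizer hkn]
    rw [compSet_congr hJ1] at hK''
    exact le_sSup ⟨K'', hK'', rfl⟩
  · obtain ⟨hnL, hnJ⟩ := hn
    rw [hJ] at hnJ
    set f := (MulAut.conj n) with hf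
    set K1 := K.map f.toMonoidHom with hK1
    have hK1c : K1 ∈ compSet T L := compSet_conj hnL hnJ ⟨hK, le_sup_left.trans hX⟩
    set N1 := normalizer (wOf K1 : Set G)
    have hX1 : K ⊔ thompsonSubgroupOf 2 T ≤ N1 := by
      refine sup_le ?_ (preComp_of_isJComponent hT hK1c.1).J_le_normalizer_wOf
      refine (comps_le_normalizer hG hT0 hLT ?_ ?_).trans (normalizer_le_normalizer_wOf K1)
      · rw [compSet_congr hJ]; exact hK1c
      · exact ⟨isJComponent_congr hJ.symm hK, le_sup_left.trans hX⟩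
    have hsub1 := ha.compSet_le hG hK (isTwoLocal_normalizer_wOf hK1c.1) hX1
    refine LocalEvenB.mem_normalizer_of_conjMap_le (map_le_iff_le_comap.2 (sSup_le ?_))
    rintro _ ⟨K'', hK'', rfl⟩
    rw [← map_le_iff_le_comap]
    refine le_sSup ⟨K''.map f.toMonoidHom, hsub1 ⟨?_, ?_⟩, wOf_map_equiv f K''⟩
    · exact isJComponent_conj_normalizer hnJ hK''.1
    · rintro _ ⟨k, hk, rfl⟩
      refine LocalEvenB.mem_normalizer_of_conjMap_le ?_
      rw [hK1, wOf_map_equiv]
      show ((wOf K).map f.toMonoidHom).map (MulAut.conj (f k)).toMonoidHom ≤ _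
      rw [LocalEvenB.conjMap_conjMap, show f k * n = n * k by
        simp [hf, MulAut.conj_apply], ← LocalEvenB.conjMap_conjMap]
      exact map_mono (LocalEvenB.conjMap_le_of_mem_normalizer (hK''.2 hk))

theorem Adm.sup_le_lmax (hG : ZNHyp G) {T K : Subgroup G} (hT : IsPGroup 2 T) (ha : Adm T K)
    (hK : IsJComponent T K) : K ⊔ thompsonSubgroupOf 2 T ≤ lmax T K :=
  (sup_le_normalizer_wOf hT hK).trans
    (ha.local_le hG hT hK (isTwoLocal_normalizer_wOf hK) (sup_le_normalizer_wOf hT hK))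

theorem Adm.isMaximal (hG : ZNHyp G) {T K : Subgroup G} (hT : IsPGroup 2 T) (ha : Adm T K)
    (hK : IsJComponent T K) : IsMaximalTwoLocal (lmax T K) :=
  ⟨ha.isTwoLocal_lmax hG hT hK, fun N hN hle => le_antisymm
    (ha.local_le hG hT hK hN ((ha.sup_le_lmax hG hT hK).trans hle)) hle⟩

theorem Adm.eq_lmax (hG : ZNHyp G) {T K L : Subgroup G} (hT : IsPGroup 2 T) (ha : Adm T K)
    (hK : IsJComponent T K) (hL : IsMaximalTwoLocal L)
    (hX : K ⊔ thompsonSubgroupOf 2 T ≤ L) : L = lmax T K :=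
  (hL.2 _ (ha.isMaximal hG hT hK).1 (ha.local_le hG hT hK hL.1 hX)).symm

/-- A maximal 2-local subgroup is its own normalizer. -/
theorem normalizer_eq_of_isMaximal (hG : ZNHyp G) {L : Subgroup G} (hL : IsMaximalTwoLocal L) :
    normalizer (L : Set G) = L := by
  obtain ⟨W, hW, hW1, hLW⟩ := hL.1
  have hne : pCoreOf 2 L ≠ ⊥ := ne_bot_of_le_ne_bot hW1
    (le_pCoreOf (hLW ▸ le_normalizer) (le_of_eq hLW) hW)
  have he : normalizer (pCoreOf 2 L : Set G) = L :=
    hL.2 _ ⟨_, pCoreOf_isPGroup' 2 L, hne, rfl⟩ (le_normalizer_pCoreOf 2 L)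
  refine le_antisymm (fun g hg => ?_) le_normalizer
  rw [← he]
  refine LocalEvenB.mem_normalizer_of_conjMap_le ?_
  exact ((pCoreOf_map_equiv (MulAut.conj g) L).symm.trans
    (congrArg (pCoreOf 2) (LocalEvenB.conjMap_eq_of_mem_normalizer hg))).le

theorem isMaximal_map_conj {L : Subgroup G} (hL : IsMaximalTwoLocal L) (g : G) :
    IsMaximalTwoLocal (L.map (MulAut.conj g).toMonoidHom) := by
  have key : ∀ (x : G) {N : Subgroup G}, IsTwoLocal N →
      IsTwoLocal (N.map (MulAut.conj x).toMonoidHom) := by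
    rintro x N ⟨W, hW, hW1, rfl⟩
    exact ⟨W.map (MulAut.conj x).toMonoidHom, LocalEvenB.conjMap_isPGroup hW,
      (map_eq_bot_iff_of_injective W (MulAut.conj x).injective).not.2 hW1,
      map_equiv_normalizer_eq W (MulAut.conj x)⟩
  refine ⟨key g hL.1, fun N hN hle => ?_⟩
  have h1 := hL.2 _ (key g⁻¹ hN) (by
    have := map_mono (f := (MulAut.conj g⁻¹).toMonoidHom) hle
    rwa [LocalEvenB.conjMap_conjMap, inv_mul_cancel, LocalEvenB.conjMap_one] at this)
  rw [← h1, LocalEvenB.conjMap_conjMap, mul_inv_cancel, LocalEvenB.conjMap_one]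

/-- Conjugation by an element normalising `J(T)` carries `lmax`. -/
theorem Adm.lmax_conj (hG : ZNHyp G) {T K : Subgroup G} (hT : IsPGroup 2 T) (ha : Adm T K)
    (hK : IsJComponent T K) {g : G} (hg : g ∈ normalizer (thompsonSubgroupOf 2 T : Set G))
    (ha' : Adm T (K.map (MulAut.conj g).toMonoidHom)) :
    (lmax T K).map (MulAut.conj g).toMonoidHom = lmax T (K.map (MulAut.conj g).toMonoidHom) := by
  refine ha'.eq_lmax hG hT (isJComponent_conj_normalizer hg hK)
    (isMaximal_map_conj (ha.isMaximal hG hT hK) g) ?_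
  have := map_mono (f := (MulAut.conj g).toMonoidHom) (ha.sup_le_lmax hG hT hK)
  rwa [Subgroup.map_sup, LocalEvenB.conjMap_eq_of_mem_normalizer hg] at this

end Cfsg.Agent.LocalEvenB.ZN
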