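import Cfsg.Agent.Lib.LocalEvenB.ZNComp

/-!
Further general facts about `J(T)`-components: transport under conjugation and the splitting of
`Ω₁(Z(J(T)))`.
-/

set_option autoImplicit false

namespace Cfsg.Agent.LocalEvenB.ZN

open Subgroup Cfsg Agent.LocalEvenA
open scoped IsMulCommutative commutatorElement Pointwise

variable {G : Type*} [Group G]

/-- The standing hypotheses. -/
structure ZNHyp (G : Type*) [Group G] : Prop where
  char : IsCharacteristicTwoType G
  solv : ∀ N : Subgroup G, IsTwoLocal N → Group.IsSolvable ↥N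
  cen : ∀ S : Sylow 2 G, centralizer (omegaCenterOf (S : Subgroup G) : Set G) ≤
    normalizer ((S : Subgroup G) : Set G)

/-! ### Transport -/

theorem pCoreOf_map_equiv {H : Type*} [Group H] (f : G ≃* H) (K : Subgroup G) :
    pCoreOf 2 (K.map f.toMonoidHom) = (pCoreOf 2 K).map f.toMonoidHom := by
  let e : ↥K ≃* ↥(K.map f.toMonoidHom) := K.equivMapOfInjective f.toMonoidHom f.injective
  rw [pCoreOf, pCoreOf, ← pCore_map_iso (p := 2) e, Subgroup.map_map, Subgroup.map_map]
  rfl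

theorem omegaCenterOf_map_equiv {H : Type*} [Group H] (f : G ≃* H) (P : Subgroup G) :
    omegaCenterOf (P.map f.toMonoidHom) = (omegaCenterOf P).map f.toMonoidHom := by
  ext x
  simp only [mem_map_equiv, mem_omegaCenterOf, mem_map_equiv]
  constructor
  · rintro ⟨h1, h2, h3⟩
    refine ⟨h1, fun a ha => f.injective ?_, ?_⟩
    · have := h2 (f a) (by simpa using ha)
      simpa using this
    · rw [← map_mul, h3, map_one]
  · rintro ⟨h1, h2, h3⟩
    refine ⟨h1, fun a ha => f.symm.injective ?_, f.symm.injective ?_⟩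
    · rw [map_mul, map_mul]
      exact h2 _ ha
    · rw [map_mul, h3, map_one]

theorem wOf_map_equiv {H : Type*} [Group H] (f : G ≃* H) (K : Subgroup G) :
    wOf (K.map f.toMonoidHom) = (wOf K).map f.toMonoidHom := by
  rw [wOf, wOf, pCoreOf_map_equiv, omegaCenterOf_map_equiv, map_commutator]

theorem isJComponent_congr {T T' K : Subgroup G}
    (h : thompsonSubgroupOf 2 T = thompsonSubgroupOf 2 T') (hK : IsJComponent T K) :
    IsJComponent T' K := by
  unfold IsJComponent at hK ⊢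
  rw [← h]
  exact hK

theorem isJComponent_conj {T K : Subgroup G} (g : G) (hK : IsJComponent T K) :
    IsJComponent (T.map (MulAut.conj g).toMonoidHom) (K.map (MulAut.conj g).toMonoidHom) := by
  obtain ⟨h1, h2, h3, h4, h5, h6⟩ := hK
  unfold IsJComponent
  set f := (MulAut.conj g) with hf
  refine ⟨?_, ?_, ?_, ?_, ?_, ?_⟩
  · conv_rhs => rw [← h1]
    rw [MonoidHom.map_closure]
    congr 1
    ext x
    constructor
    · rintro ⟨hx, ho⟩
      obtain ⟨a, ha, rfl⟩ := hx
      refine ⟨a, ⟨ha, ?_⟩, rfl⟩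
      rwa [MulEquiv.coe_toMonoidHom, MulEquiv.orderOf_eq] at ho
    · rintro ⟨a, ⟨ha, ho⟩, rfl⟩
      exact ⟨⟨a, ha, rfl⟩, by rwa [MulEquiv.coe_toMonoidHom, MulEquiv.orderOf_eq]⟩
  · rw [← map_conj_thompson, ← map_commutator, h2]
  · rw [pCoreOf_map_equiv, relIndex_map_map_of_injective _ _ f.injective, h3]
  · intro S hS hJ
    rw [← map_conj_thompson] at hS hJ ⊢
    rw [← Subgroup.map_sup] at hS
    have e : (S.comap f.toMonoidHom).map f.toMonoidHom = S :=
      map_comap_eq_self_of_surjective f.surjective S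
    rw [← e] at hS hJ ⊢
    obtain ⟨hle, hp, hodd⟩ := hS
    rw [← map_conj_thompson]
    refine congrArg _ (h4 _ ⟨(map_le_map_iff_of_injective f.injective).1 hle, ?_, ?_⟩
      ((map_le_map_iff_of_injective f.injective).1 hJ))
    · exact hp.of_equiv (equivMapOfInjective _ _ f.injective).symm
    · rwa [relIndex_map_map_of_injective _ _ f.injective] at hodd
  · rw [wOf_map_equiv, card_map_of_injective f.injective, h5]
  · rw [wOf_map_equiv]
    rintro _ ⟨w, hw, rfl⟩
    rw [← map_mul, h6 w hw, map_one]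

variable [Finite G]

omit [Finite G] in
theorem wOf_ne_bot {T K : Subgroup G} (hK : IsJComponent T K) : wOf K ≠ ⊥ := by
  intro h
  have := hK.2.2.2.2.1
  rw [h, card_bot] at this
  omega

theorem isPGroup_wOf {T K : Subgroup G} (hK : IsJComponent T K) : IsPGroup 2 (wOf K) := by
  haveI : Fact (Nat.Prime 2) := ⟨Nat.prime_two⟩
  exact IsPGroup.of_card (n := 2) hK.2.2.2.2.1

theorem normalizer_le_normalizer_wOf (K : Subgroup G) :
    normalizer (K : Set G) ≤ normalizer (wOf K : Set G) := by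
  intro g hg
  refine LocalEvenB.mem_normalizer_of_conjMap_le ?_
  have e := LocalEvenB.conjMap_eq_of_mem_normalizer hg
  exact ((wOf_map_equiv (MulAut.conj g) K).symm.trans (congrArg wOf e)).le

namespace PreComp

variable {T K : Subgroup G}

theorem exists_mem_wOf_ne (h : PreComp T K) (hne : wOf K ≠ ⊥) :
    ∃ A, Transfer.IsMaxElemIn 2 T A ∧ ∃ a ∈ A, ∃ w ∈ wOf K, a * w ≠ w * a := by
  obtain ⟨y, hy, hyo, hyQ⟩ := h.exists_gen
  obtain ⟨A, hA, a, ha, -, hinv⟩ := h.exists_inverting hy hyQ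
  exact ⟨A, hA, a, ha, (h.wOf_spec hne hy hyo hyQ).2.2.2 A hA a ha hinv⟩

theorem eq_one_of_fixed (h : PreComp T K) (hne : wOf K ≠ ⊥) {w : G} (hw : w ∈ wOf K)
    (hc : ∀ k ∈ K, k * w = w * k) : w = 1 := by
  obtain ⟨y, hy, hyo, hyQ⟩ := h.exists_gen
  exact (h.wOf_spec hne hy hyo hyQ).2.2.1 w hw (hc y hy)

theorem J_le_normalizer_wOf (h : PreComp T K) :
    thompsonSubgroupOf 2 T ≤ normalizer (wOf K : Set G) :=
  h.le_normalizer_comm.trans (normalizer_le_normalizer_wOf K)

theorem wOf_le_Q (h : PreComp T K) : wOf K ≤ pCoreOf 2 K := fun w hw =>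
  (mem_omegaCenterOf.1 (wOf_le_omega ((le_sup_left : K ≤ K ⊔ _).trans h.le_normalizer_omega) hw)).1

theorem wOf_commute_Q (h : PreComp T K) {w q : G} (hw : w ∈ wOf K) (hq : q ∈ pCoreOf 2 K) :
    w * q = q * w :=
  (mem_omegaCenterOf.1 (wOf_le_omega ((le_sup_left : K ≤ K ⊔ _).trans h.le_normalizer_omega) hw)).2.1
    q hq

theorem wOf_elemAb (h : PreComp T K) : IsElementaryAbelian 2 (wOf K) :=
  Transfer.ea_mono (elemAb_omegaCenterOf _)
    (wOf_le_omega ((le_sup_left : K ≤ K ⊔ _).trans h.le_normalizer_omega))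

theorem wOf_sq (h : PreComp T K) {w : G} (hw : w ∈ wOf K) : w * w = 1 := by
  simpa [sq] using h.wOf_elemAb.2 w hw

/-- An involution moving `w ∈ W_K` fixes exactly `1` and `[a, w]` in `W_K`. -/
theorem wOf_cases (h : PreComp T K) (hcard : Nat.card (wOf K) = 4) {a w : G} (haa : a * a = 1)
    (haW : a ∈ normalizer (wOf K : Set G)) (hw : w ∈ wOf K) (haw : a * w ≠ w * a) :
    (a * w * a⁻¹ * w⁻¹) ∈ wOf K ∧ a * w * a⁻¹ * w⁻¹ ≠ 1 ∧
      (∀ x ∈ wOf K, a * x = x * a → x = 1 ∨ x = a * w * a⁻¹ * w⁻¹) ∧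
      (∀ g : G, g * w = w * g → g * (a * w * a⁻¹ * w⁻¹) = (a * w * a⁻¹ * w⁻¹) * g →
        g ∈ centralizer (wOf K : Set G)) := by
  classical
  have hWe := h.wOf_elemAb
  set v := a * w * a⁻¹ * w⁻¹ with hv
  have hawW : a * w * a⁻¹ ∈ wOf K := (mem_normalizer_iff.1 haW w).1 hw
  have hvW : v ∈ wOf K := mul_mem hawW (inv_mem hw)
  have hv1 : v ≠ 1 := fun h' => haw (mul_inv_eq_iff_eq_mul.1 (mul_inv_eq_one.1 h'))
  have hai : a⁻¹ = a := inv_eq_of_mul_eq_one_right haa
  have hwi : w⁻¹ = w := inv_eq_of_mul_eq_one_right (h.wOf_sq hw)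
  have hav : a * v = v * a := by
    have e : a * v * a⁻¹ = w * (a * w * a⁻¹) := by
      rw [hv, hai, hwi]
      simp only [mul_assoc]
      rw [← mul_assoc a a, haa, one_mul]
    refine mul_inv_eq_iff_eq_mul.1 ?_
    rw [e, hv, hwi]
    exact Transfer.ea_commute hWe hw hawW
  have hw1 : w ≠ 1 := fun h' => haw (by rw [h', mul_one, one_mul])
  have hvw : v ≠ w := fun h' => haw (by rw [← h']; exact hav)
  have hvw1 : v * w ≠ 1 := fun h' => hvw ((eq_inv_of_mul_eq_one_left h').trans hwi)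
  have hgen : ∀ x ∈ wOf K, x = 1 ∨ x = v ∨ x = w ∨ x = v * w := by
    intro x hx
    by_contra hcon
    push Not at hcon
    have hS : ({1, v, w, v * w, x} : Finset G).card = 5 := by
      rw [Finset.card_insert_of_notMem (by simp [hv1.symm, hw1.symm, hvw1.symm, hcon.1.symm]),
        Finset.card_insert_of_notMem (by simp [hvw, hcon.2.1.symm, hw1]),
        Finset.card_insert_of_notMem (by simp [hcon.2.2.1.symm, hv1]),
        Finset.card_insert_of_notMem (by simp [hcon.2.2.2.symm]),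
        Finset.card_singleton]
    have hsub : (({1, v, w, v * w, x} : Finset G) : Set G) ⊆ (wOf K : Set G) := by
      intro u hu
      simp only [Finset.coe_insert, Finset.coe_singleton, Set.mem_insert_iff,
        Set.mem_singleton_iff] at hu
      rcases hu with rfl | rfl | rfl | rfl | rfl
      exacts [one_mem _, hvW, hw, mul_mem hvW hw, hx]
    have h9 := Set.ncard_le_ncard hsub (Set.toFinite _)
    rw [Set.ncard_coe_finset, hS, ← Nat.card_coe_set_eq, SetLike.coe_sort_coe, hcard] at h9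
    omega
  refine ⟨hvW, hv1, fun x hx hax => ?_, fun g hgw hgv => mem_centralizer_iff.2 fun x hx => ?_⟩
  · rcases hgen x hx with h' | h' | h' | h'
    · exact Or.inl h'
    · exact Or.inr h'
    · exact absurd (h' ▸ hax) haw
    · exfalso
      apply haw
      have := ((show Commute a x from hax))
      rw [h'] at this
      have h2 := (show Commute a v from hav).inv_right.mul_right this
      rwa [inv_mul_cancel_left] at h2
  · rcases hgen x hx with rfl | rfl | rfl | rfl
    · rw [one_mul, mul_one]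
    · exact hgv.symm
    · exact hgw.symm
    · exact ((Commute.mul_right (hgv : Commute g v) hgw).eq).symm

/-- `W_K` lies in some largest elementary abelian subgroup, with a hyperplane of a given one. -/
theorem exists_BW (h : PreComp T K) (hne : wOf K ≠ ⊥) {y : G} (hy : y ∈ K) (hyo : Odd (orderOf y))
    (hyQ : y ∉ pCoreOf 2 K) :
    ∃ A a, Transfer.IsMaxElemIn 2 T A ∧ a ∈ A ∧ y * (a * y * a) ∈ pCoreOf 2 K ∧
      (∃ w ∈ wOf K, a * w ≠ w * a) ∧
      Transfer.IsMaxElemIn 2 (pCoreOf 2 K ⊔ thompsonSubgroupOf 2 T)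
        ((A ⊓ centralizer (wOf K : Set G)) ⊔ wOf K) ∧
      wOf K ≤ thompsonSubgroupOf 2 T := by
  haveI : Fact (Nat.Prime 2) := ⟨Nat.prime_two⟩
  have hspec := h.wOf_spec hne hy hyo hyQ
  obtain ⟨A, hA, a, ha, haa, hinv⟩ := h.exists_inverting hy hyQ
  obtain ⟨w, hw, haw⟩ := hspec.2.2.2 A hA a ha hinv
  have hAJ := maxElem_of_sup hA
  obtain ⟨hvW, hv1, hvfix, hcentg⟩ :=
    h.wOf_cases hspec.1 haa (h.J_le_normalizer_wOf (hAJ ha)) hw haw
  set W := wOf K with hW
  set v := a * w * a⁻¹ * w⁻¹ with hv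
  set B := A ⊓ centralizer (W : Set G) with hB
  have hWe := h.wOf_elemAb
  have hfix : ∀ c ∈ A, c * v = v * c := by
    intro c hc
    have hcv : c * v * c⁻¹ ∈ W := (mem_normalizer_iff.1 (h.J_le_normalizer_wOf (hAJ hc)) v).1 hvW
    have hac := Transfer.ea_commute hA.2.1 ha hc
    have hav : a * v = v * a := by
      have e : a * v * a⁻¹ = w * (a * w * a⁻¹) := by
        rw [hv, inv_eq_of_mul_eq_one_right haa, inv_eq_of_mul_eq_one_right (h.wOf_sq hw)]
        simp only [mul_assoc]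
        rw [← mul_assoc a a, haa, one_mul]
      refine mul_inv_eq_iff_eq_mul.1 ?_
      rw [e, hv, inv_eq_of_mul_eq_one_right (h.wOf_sq hw)]
      exact Transfer.ea_commute hWe hw ((mem_normalizer_iff.1 (h.J_le_normalizer_wOf (hAJ ha)) w).1 hw)
    have hcomm : Commute a (c * v * c⁻¹) :=
      ((show Commute a c from hac).mul_right hav).mul_right (show Commute a c from hac).inv_right
    rcases hvfix _ hcv hcomm.eq with h' | h'
    · exact absurd (conj_eq_one_iff.1 h') hv1
    · exact mul_inv_eq_iff_eq_mul.1 h'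
  have hBi : B.relIndex A ≤ 2 := by
    refine Nat.le_of_eq ?_
    rw [Subgroup.relIndex, index_eq_two_iff]
    refine ⟨⟨a, ha⟩, fun b => ?_⟩
    have haB : a ∉ B := fun h' => haw ((mem_centralizer_iff.1 h'.2 w hw).symm)
    by_cases hbw : (b : G) * w = w * b
    · have hbB : (b : G) ∈ B := ⟨b.2, hcentg _ hbw (hfix b b.2)⟩
      refine Or.inr ⟨mem_subgroupOf.2 hbB, fun h' => haB ?_⟩
      have := B.mul_mem (B.inv_mem hbB) (mem_subgroupOf.1 h')
      simpa using this
    · refine Or.inl ⟨mem_subgroupOf.2 ⟨A.mul_mem b.2 ha, hcentg _ ?_ (hfix _ (A.mul_mem b.2 ha))⟩,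
        fun h' => hbw (mem_centralizer_iff.1 (mem_subgroupOf.1 h').2 w hw).symm⟩
      -- both move `w` to `v w`
      have key : ∀ c ∈ A, c * w ≠ w * c → c * w * c⁻¹ = v * w := by
        intro c hc hcw
        obtain ⟨hu, hu1, hufix, -⟩ := h.wOf_cases hspec.1 (by simpa [sq] using hA.2.1.2 c hc)
          (h.J_le_normalizer_wOf (hAJ hc)) hw hcw
        rcases hufix v hvW (hfix c hc) with h' | h'
        · exact absurd h' hv1
        · rw [h', inv_mul_cancel_right]
      refine mul_inv_eq_iff_eq_mul.1 ?_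
      calc (b : G) * a * w * ((b : G) * a)⁻¹ = (b : G) * (a * w * a⁻¹) * (b : G)⁻¹ := by group
        _ = ((b : G) * v * (b : G)⁻¹) * ((b : G) * w * (b : G)⁻¹) := by
            rw [key a ha haw]; group
        _ = w := by
            rw [key b b.2 hbw, hfix b b.2, mul_inv_cancel_right, ← mul_assoc, h.wOf_sq hvW, one_mul]
  have hWB : B ⊔ W ≤ pCoreOf 2 K ⊔ thompsonSubgroupOf 2 T :=
    sup_le ((inf_le_left.trans hAJ).trans le_sup_right) (h.wOf_le_Q.trans le_sup_left)
  have hBWe : IsElementaryAbelian 2 (B ⊔ W : Subgroup G) :=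
    Transfer.ea_sup (Transfer.ea_mono hA.2.1 inf_le_left) hWe inf_le_right
  -- `B W` has at least the order of `A`
  have hinf : Nat.card (B ⊓ W : Subgroup G) ≤ 2 := by
    have hle : (B ⊓ W : Subgroup G) ≤ zpowers v := fun x hx => by
      rcases hvfix x hx.2 (Transfer.ea_commute hA.2.1 ha hx.1.1) with h' | h'
      · exact h' ▸ one_mem _
      · exact h' ▸ mem_zpowers v
    refine (card_le_of_le hle).trans ?_
    rw [Nat.card_zpowers]
    exact orderOf_le_of_pow_eq_one (by norm_num) (by rw [sq]; exact h.wOf_sq hvW)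
  have hcardBW : Nat.card A ≤ Nat.card (B ⊔ W : Subgroup G) := by
    have h5 := FF.card_sup_mul_card_inf (H := B) (K := W) (le_centralizer_iff.1 inf_le_right)
    rw [hspec.1] at h5
    have h1 : Nat.card B * B.relIndex A = Nat.card A := by
      rw [← relIndex_bot_left, ← relIndex_bot_left]
      exact relIndex_mul_relIndex ⊥ B A bot_le inf_le_left
    have h2 : Nat.card A ≤ Nat.card B * 2 := h1 ▸ Nat.mul_le_mul_left _ hBi
    have h3 : Nat.card (B ⊔ W : Subgroup G) * Nat.card (B ⊓ W : Subgroup G) ≤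
        Nat.card (B ⊔ W : Subgroup G) * 2 := Nat.mul_le_mul_left _ hinf
    omega
  have hmaxBW : Transfer.IsMaxElemIn 2 (pCoreOf 2 K ⊔ thompsonSubgroupOf 2 T) (B ⊔ W) :=
    ⟨hWB, hBWe, fun D hD hDe => ((h.maxElem_QJ hA).2.2 D hD hDe).trans hcardBW⟩
  exact ⟨A, a, hA, ha, hinv, ⟨w, hw, haw⟩, hmaxBW,
    le_sup_right.trans ((maxElem_of_sup hmaxBW).trans h.thompson_QJ.le)⟩

/-- The splitting of `Ω₁(Z(J(T)))`. -/
theorem omega_center_split (h : PreComp T K) (hne : wOf K ≠ ⊥) :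
    Nat.card ↥(omegaCenterOf (thompsonSubgroupOf 2 T) ⊓ wOf K) = 2 ∧
      ∀ z ∈ omegaCenterOf (thompsonSubgroupOf 2 T), ∃ c w, z = c * w ∧
        c ∈ omegaCenterOf (thompsonSubgroupOf 2 T) ∧
        c ∈ centralizer ((K ⊔ thompsonSubgroupOf 2 T : Subgroup G) : Set G) ∧
        w ∈ omegaCenterOf (thompsonSubgroupOf 2 T) ∧ w ∈ wOf K := by
  haveI : Fact (Nat.Prime 2) := ⟨Nat.prime_two⟩
  set J := thompsonSubgroupOf 2 T with hJ
  set Q := pCoreOf 2 K with hQ
  set W := wOf K with hW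
  set Z0 := omegaCenterOf J with hZ0
  obtain ⟨y, hy, hyo, hyQ⟩ := h.exists_gen
  have hspec := h.wOf_spec hne hy hyo hyQ
  obtain ⟨A, a, hA, ha, hinv, ⟨w0, hw0, haw0⟩, hBW, hWJ⟩ := h.exists_BW hne hy hyo hyQ
  set B := A ⊓ centralizer (W : Set G) with hB
  have haJ := maxElem_of_sup hA ha
  have hWe : IsElementaryAbelian 2 W := h.wOf_elemAb
  have hsq : ∀ x ∈ W, x * x = 1 := fun x hx => h.wOf_sq hx
  have hfix : ∀ x ∈ W, (x ∈ Z0 ↔ ∀ j ∈ J, x * j = j * x) := fun x hx =>
    ⟨fun h' => (mem_omegaCenterOf.1 h').2.1, fun h' => mem_omegaCenterOf.2 ⟨hWJ hx, h', hsq x hx⟩⟩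
  obtain ⟨hvW, hv1, hvfix, -⟩ := h.wOf_cases hspec.1 (by simpa [sq] using hA.2.1.2 a ha)
    (h.J_le_normalizer_wOf haJ) hw0 haw0
  set v := a * w0 * a⁻¹ * w0⁻¹ with hv
  have hcases : ∀ x ∈ Z0 ⊓ W, x = 1 ∨ x = v := fun x hx =>
    hvfix x hx.2 ((hfix x hx.2).1 hx.1 a haJ).symm
  have hvZ : v ∈ Z0 ⊓ W := by
    haveI := h.hT.isNilpotent
    haveI : (W.subgroupOf J).Normal :=
      normal_subgroupOf_of_le_normalizer h.J_le_normalizer_wOf
    have hWne : W.subgroupOf J ≠ ⊥ := by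
      intro h'
      rw [subgroupOf_eq_bot, disjoint_iff, inf_eq_left.2 hWJ] at h'
      exact hne h'
    obtain ⟨x, hxW, hxc, hx1⟩ := LocalEvenB.exists_mem_center_ne_one _ hWne
    have hxZ : (x : G) ∈ Z0 ⊓ W := ⟨(hfix x hxW).2 fun j hj =>
      congrArg Subtype.val (mem_center_iff.1 hxc ⟨j, hj⟩).symm, hxW⟩
    rcases hcases _ hxZ with h' | h'
    · exact absurd (Subtype.ext h') hx1
    · exact h' ▸ hxZ
  have hcard2 : Nat.card ↥(Z0 ⊓ W) = 2 := by
    have he : Z0 ⊓ W = zpowers v := le_antisymm (fun x hx => by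
      rcases hcases x hx with h' | h'
      · exact h' ▸ one_mem _
      · exact h' ▸ mem_zpowers v) (zpowers_le.2 hvZ)
    rw [he, Nat.card_zpowers, orderOf_eq_prime (by rw [sq]; exact hsq v hvW) hv1]
  refine ⟨hcard2, fun z hz => ?_⟩
  obtain ⟨hzJ, hzc, hz2⟩ := mem_omegaCenterOf.1 hz
  -- `P = C_X(W)`
  set X := K ⊔ J with hX
  set P := X ⊓ centralizer (W : Set G) with hP
  have hXW : X ≤ normalizer (W : Set G) :=
    sup_le (le_normalizer.trans (normalizer_le_normalizer_wOf K)) h.J_le_normalizer_wOf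
  have hXP : X ≤ normalizer (P : Set G) := fun g (hg : g ∈ X) =>
    LocalEvenB.mem_normalizer_of_conj_mem fun p hp => ⟨X.mul_mem (X.mul_mem hg hp.1) (X.inv_mem hg),
      mem_centralizer_iff.2 fun u hu => by
        have hu' : g⁻¹ * u * g ∈ W := by
          have := (mem_normalizer_iff.1 (hXW (inv_mem hg)) u).1 hu
          rwa [inv_inv] at this
        have := mem_centralizer_iff.1 hp.2 _ hu'
        calc u * (g * p * g⁻¹) = g * (g⁻¹ * u * g * p) * g⁻¹ := by group
          _ = g * (p * (g⁻¹ * u * g)) * g⁻¹ := by rw [this]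
          _ = g * p * g⁻¹ * u := by group⟩
  have hPQ : P ≤ Q ⊔ J := by
    intro x hx
    have h1 : (x : G) ∈ ((K ⊔ J : Subgroup G) : Set G) := hx.1
    rw [coe_mul_of_right_le_normalizer_left K J h.le_normalizer_comm, Set.mem_mul] at h1
    obtain ⟨k, hk, j, hj, rfl⟩ := h1
    have hjv : Commute j v := ((hfix v hvW).1 hvZ.1 j hj).symm
    have hkjv : Commute (k * j) v := (mem_centralizer_iff.1 hx.2 v hvW).symm
    have hkv : Commute k v := by simpa using hkjv.mul_left hjv.inv_left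
    rcases h.cases_mem hy hyQ hk with h2 | h2 | h2
    · exact mul_mem (mem_sup_left h2) (mem_sup_right hj)
    · have hq : Commute (y⁻¹ * k) v := (h.wOf_commute_Q hvW h2).symm
      exact absurd (hspec.2.2.1 v hvW (by simpa using (hkv.mul_left hq.inv_left).eq)) hv1
    · have hq : Commute (y * k) v := (h.wOf_commute_Q hvW h2).symm
      exact absurd (hspec.2.2.1 v hvW (by simpa using (hq.mul_left hkv.inv_left).eq)) hv1
  have hBWP : B ⊔ W ≤ P := by
    refine sup_le (le_inf (inf_le_left.trans ((maxElem_of_sup hA).trans le_sup_right)) inf_le_right)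
      (le_inf (hWJ.trans le_sup_right) ?_)
    haveI := hWe.1
    exact le_centralizer W
  have hBWmax : Transfer.IsMaxElemIn 2 P (B ⊔ W) :=
    ⟨hBWP, hBW.2.1, fun D hD hDe => hBW.2.2 D (hD.trans hPQ) hDe⟩
  have hJPle : thompsonSubgroupOf 2 P ≤ J := by
    rw [Transfer.thompsonSubgroupOf_eq P]
    refine sSup_le fun D hD => le_trans ?_ h.thompson_QJ.le
    exact maxElem_of_sup ⟨hD.1.trans hPQ, hD.2.1, fun E hE hEe =>
      (hBW.2.2 E hE hEe).trans (hD.2.2 _ hBWP hBW.2.1)⟩
  set U1 := omegaCenterOf (thompsonSubgroupOf 2 P) with hU1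
  have hU1e : IsElementaryAbelian 2 U1 := elemAb_omegaCenterOf _
  have habsorb : ∀ u ∈ Q ⊔ J, u * u = 1 → (∀ d ∈ thompsonSubgroupOf 2 P, u * d = d * u) →
      u ∈ B ⊔ W := by
    intro u hu hu3 hu2
    have hc : B ⊔ W ≤ centralizer (zpowers u : Set G) := by
      rw [zpowers_eq_closure, centralizer_closure]
      intro d hd
      rw [mem_centralizer_singleton_iff]
      exact (hu2 d (maxElem_of_sup hBWmax hd)).symm
    have := hBW.2.2 ((B ⊔ W) ⊔ zpowers u) (sup_le hBW.1 (zpowers_le.2 hu))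
      (Transfer.ea_sup hBW.2.1 (Transfer.ea_zpowers (by rw [sq]; exact hu3)) hc)
    rw [eq_of_le_of_card_ge le_sup_left this]
    exact mem_sup_right (mem_zpowers u)
  have hU1le : U1 ≤ B ⊔ W := fun u hu => by
    obtain ⟨hu1, hu2, hu3⟩ := mem_omegaCenterOf.1 hu
    exact habsorb u (hPQ (Transfer.thompsonSubgroupOf_le P hu1)) hu3 hu2
  have hzU1 : z ∈ U1 := mem_omegaCenterOf.2
    ⟨maxElem_of_sup hBWmax (habsorb z (mem_sup_right hzJ) hz2 fun d hd => hzc d (hJPle hd)),
      fun d hd => hzc d (hJPle hd), hz2⟩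
  have hWU1 : ∀ u ∈ W, u ∈ U1 := fun u hu => mem_omegaCenterOf.2
    ⟨maxElem_of_sup hBWmax (mem_sup_right hu), fun d hd =>
      mem_centralizer_iff.1 ((Transfer.thompsonSubgroupOf_le P hd : d ∈ P).2) u hu, hsq u hu⟩
  have hXU1 : X ≤ normalizer (U1 : Set G) := (hXP.trans
    (Transfer.normalizer_le_normalizer_thompson P)).trans (normalizer_le_normalizer_omegaCenterOf _)
  -- `X` stabilises `U₁ ⊇ W`
  let N : Subgroup G :=
    { carrier := {x | x ∈ X ∧ ∀ u ∈ U1, x * u * x⁻¹ * u⁻¹ ∈ W}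
      one_mem' := ⟨one_mem _, fun u _ => by simp [one_mem]⟩
      mul_mem' := fun {p q} hp hq => ⟨mul_mem hp.1 hq.1, fun u hu => by
        have hqu : q * u * q⁻¹ ∈ U1 := (mem_normalizer_iff.1 (hXU1 hq.1) u).1 hu
        have := mul_mem (hp.2 _ hqu) (hq.2 u hu)
        convert this using 1
        group⟩
      inv_mem' := fun {p} hp => ⟨inv_mem hp.1, fun u hu => by
        have hqu : p⁻¹ * u * p⁻¹⁻¹ ∈ U1 := (mem_normalizer_iff.1 (hXU1 (inv_mem hp.1)) u).1 hu
        have := inv_mem (hp.2 _ hqu)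
        convert this using 1
        group⟩ }
  have hXN : X ≤ normalizer (N : Set G) := fun g (hg : g ∈ X) =>
    LocalEvenB.mem_normalizer_of_conj_mem fun p hp => ⟨mul_mem (mul_mem hg hp.1) (inv_mem hg),
      fun u hu => by
        have hu' : g⁻¹ * u * g ∈ U1 := by
          have := (mem_normalizer_iff.1 (hXU1 (inv_mem hg)) u).1 hu
          rwa [inv_inv] at this
        have := (mem_normalizer_iff.1 (hXW hg) _).1 (hp.2 _ hu')
        convert this using 1
        group⟩
  have haN : a ∈ N := ⟨mem_sup_right haJ, fun u hu => by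
    obtain ⟨b, hb, w, hw, rfl⟩ := Set.mem_mul.1 (show u ∈ (B : Set G) * (W : Set G) by
      rw [← coe_mul_of_left_le_normalizer_right B W
        ((inf_le_left.trans (maxElem_of_sup hA)).trans h.J_le_normalizer_wOf)]
      exact hU1le hu)
    have hab := Transfer.ea_commute hA.2.1 ha hb.1
    have hm : a * w * a⁻¹ * w⁻¹ ∈ W :=
      mul_mem ((mem_normalizer_iff.1 (hXW (mem_sup_right haJ)) w).1 hw) (inv_mem hw)
    have e : a * (b * w) * a⁻¹ * (b * w)⁻¹ = b * ((a * w * a⁻¹) * w⁻¹) * b⁻¹ := by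
      rw [← mul_assoc a b w, hab]; group
    rw [e, ← mem_centralizer_iff.1 hb.2 _ hm, mul_inv_cancel_right]
    exact hm⟩
  have hKN : K ≤ N := by
    have hn : K ≤ normalizer ((N ⊓ K : Subgroup G) : Set G) := fun g (hg : g ∈ K) =>
      LocalEvenB.mem_normalizer_of_conj_mem fun p hp =>
        ⟨(mem_normalizer_iff.1 (hXN (mem_sup_left hg)) p).1 hp.1,
          K.mul_mem (K.mul_mem hg hp.2) (K.inv_mem hg)⟩
    refine (le_of_le_sup h.odd (isPGroup_Q K) inf_le_right (pCoreOf_le' 2 K) hn ?_).trans inf_le_left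
    have haa : a * a = 1 := by simpa [sq] using hA.2.1.2 a ha
    set c0 := a * y * a⁻¹ * y⁻¹ with hc0
    have hc : c0 ∈ N ⊓ K := by
      refine ⟨?_, K.mul_mem ((mem_normalizer_iff.1 (h.le_normalizer_comm haJ) y).1 hy) (K.inv_mem hy)⟩
      have := mul_mem haN ((mem_normalizer_iff.1 (hXN (mem_sup_left hy)) _).1 (inv_mem haN))
      show c0 ∈ N
      rw [show c0 = a * (y * a⁻¹ * y⁻¹) by rw [hc0]; group]
      exact this
    have hnc : c0 ∉ Q := by
      intro hq
      apply hyQ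
      have e : y * y = (y * (a * y * a)) * (y⁻¹ * c0⁻¹ * y⁻¹⁻¹) := by
        rw [hc0]
        simp only [mul_inv_rev, inv_inv, inv_eq_of_mul_eq_one_right haa, mul_assoc,
          inv_mul_cancel_left]
        simp only [← mul_assoc a a, haa, one_mul, mul_inv_cancel_left, inv_mul_cancel_left]
      have h2 : y * y ∈ Q := by
        rw [e]
        exact mul_mem hinv ((mem_normalizer_iff.1 (Q_normal K (K.inv_mem hy)) _).1 (inv_mem hq))
      have h3 := h.pow_three_mem hy
      rw [pow_succ, sq] at h3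
      have := mul_mem (inv_mem h2) h3
      rwa [inv_mul_cancel_left] at this
    intro k hk
    have hcN : c0 ∈ Q ⊔ N ⊓ K := mem_sup_right hc
    rcases h.cases_mem hc.2 hnc hk with h2 | h2 | h2
    · exact mem_sup_left h2
    · simpa using mul_mem hcN ((le_sup_left : Q ≤ Q ⊔ N ⊓ K) h2)
    · simpa using mul_mem (inv_mem hcN) ((le_sup_left : Q ≤ Q ⊔ N ⊓ K) h2)
  -- decompose `z`
  haveI := hU1e.1
  have hyN : y ∈ normalizer (U1 : Set G) := hXU1 (mem_sup_left hy)
  set φ : MulAut U1 := U1.normalizerMonoidHom ⟨y, hyN⟩ with hφ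
  have hφo : Odd (orderOf φ) := by
    refine hyo.of_dvd_nat ?_
    rw [show orderOf y = orderOf (⟨y, hyN⟩ : normalizer (U1 : Set G)) from
      (orderOf_mk y hyN).symm, hφ]
    exact orderOf_map_dvd _ _
  obtain ⟨i, ⟨u, hu⟩, hfz⟩ := FF.sup_fix_eq_top (FF.mul_self_eq_one_of_elemAb hU1e) hφo
    (⟨z, hzU1⟩ : U1)
  have hiW : (i : G) ∈ W := by
    rw [← hu, FF.cm_apply, div_eq_mul_inv, coe_mul, coe_inv, hφ, FF.normalizerHom_apply]
    exact (hKN hy).2 u u.2
  set c : G := z * (i : G)⁻¹ with hcdef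
  have hcU : c ∈ U1 := mul_mem hzU1 (inv_mem i.2)
  have hyc : Commute y c := by
    have := congrArg Subtype.val hfz
    rw [hφ, FF.normalizerHom_apply, div_eq_mul_inv, coe_mul, coe_inv] at this
    exact mul_inv_eq_iff_eq_mul.1 this
  have hJQ : Q ⊔ J ≤ normalizer (J : Set G) := le_of_le_of_eq
    (le_normalizer.trans (Transfer.normalizer_le_normalizer_thompson (p := 2) (Q ⊔ J)))
    (congrArg (fun D : Subgroup G => normalizer (D : Set G)) h.thompson_QJ)
  -- the cocycle `q ↦ [q, c]` on `Q`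
  have hQc : ∀ q ∈ Q, Commute q c := by
    let d : G → G := fun x => x * c * x⁻¹ * c⁻¹
    have hdW : ∀ q ∈ Q, d q ∈ W := fun q hq => (hKN (pCoreOf_le' 2 K hq)).2 _ hcU
    have hdz : ∀ q ∈ Q, d q = q * z * q⁻¹ * z⁻¹ := by
      intro q hq
      have h1 : Commute q ((i : G)⁻¹) :=
        (show Commute q (i : G) from (h.wOf_commute_Q hiW hq).symm).inv_right
      show q * (z * (i : G)⁻¹) * q⁻¹ * (z * (i : G)⁻¹)⁻¹ = _
      rw [mul_assoc q, mul_assoc z, ← h1.inv_left.eq, mul_inv_rev, inv_inv]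
      group
    have hdfix : ∀ q ∈ Q, d q ∈ Z0 ⊓ W := by
      intro q hq
      refine ⟨(hfix _ (hdW q hq)).2 fun j hj => ?_, hdW q hq⟩
      have hm : j * q * j⁻¹ * q⁻¹ ∈ J := by
        have := mul_mem hj ((mem_normalizer_iff.1 (hJQ (mem_sup_left hq)) _).1 (inv_mem hj))
        convert this using 1
        group
      have hmQ : j * q * j⁻¹ * q⁻¹ ∈ Q :=
        mul_mem ((mem_normalizer_iff.1 (h.J_le_normalizer_Q hj) q).1 hq) (inv_mem hq)
      set m := j * q * j⁻¹ * q⁻¹ with hmdef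
      have hmz : Commute z m⁻¹ := (show Commute z m from hzc m hm).inv_right
      have hmd : Commute m (d q) := (h.wOf_commute_Q (hdW q hq) hmQ).symm
      have hjz : Commute j z := (hzc j hj).symm
      refine (mul_inv_eq_iff_eq_mul.1 ?_).symm
      calc j * d q * j⁻¹ = m * q * (j * z * j⁻¹) * q⁻¹ * m⁻¹ * (j * z * j⁻¹)⁻¹ := by
            rw [hdz q hq, hmdef]; group
        _ = m * d q * m⁻¹ := by
            rw [hjz.eq, mul_inv_cancel_right, mul_assoc _ m⁻¹, ← hmz.inv_left.eq, hdz q hq]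
            group
        _ = d q := by rw [hmd.eq, mul_inv_cancel_right]
    intro q hq
    have hd : d q = 1 := by
      rcases hcases _ (hdfix q hq) with h' | h'
      · exact h'
      exfalso
      apply hv1
      have hq' : y * q * y⁻¹ ∈ Q := (mem_normalizer_iff.1 (Q_normal K hy) q).1 hq
      have hdy : d (y * q * y⁻¹) = y * d q * y⁻¹ := by
        show y * q * y⁻¹ * c * (y * q * y⁻¹)⁻¹ * c⁻¹ = y * (q * c * q⁻¹ * c⁻¹) * y⁻¹
        calc y * q * y⁻¹ * c * (y * q * y⁻¹)⁻¹ * c⁻¹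
            = y * q * (y⁻¹ * c) * y * q⁻¹ * (y⁻¹ * c⁻¹) := by group
          _ = y * (q * c * q⁻¹ * c⁻¹) * y⁻¹ := by
              rw [hyc.inv_left.eq, hyc.inv_left.inv_right.eq]; group
      rcases hcases _ (hdfix _ hq') with h'' | h''
      · rw [hdy, h'] at h''
        exact absurd (conj_eq_one_iff.1 h'') hv1
      · rw [hdy, h'] at h''
        exact hspec.2.2.1 v hvW (mul_inv_eq_iff_eq_mul.1 h'')
    exact mul_inv_eq_iff_eq_mul.1 (mul_inv_eq_one.1 hd)
  have hKc : ∀ k ∈ K, Commute k c := by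
    intro k hk
    rcases h.cases_mem hy hyQ hk with h2 | h2 | h2
    · exact hQc k h2
    · simpa using hyc.mul_left (hQc _ h2)
    · simpa using hyc.inv_left.mul_left (hQc _ h2)
  have hJc : ∀ j ∈ J, Commute j c := by
    intro j hj
    have hcW : j * c * j⁻¹ * c⁻¹ ∈ W := by
      have hjz : Commute j z := (hzc j hj).symm
      have e : j * c * j⁻¹ * c⁻¹ = (j * z * j⁻¹) * (j * (i : G)⁻¹ * j⁻¹ * i) * z⁻¹ := by
        rw [hcdef]; group
      have hm : j * (i : G)⁻¹ * j⁻¹ * i ∈ W :=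
        mul_mem ((mem_normalizer_iff.1 (h.J_le_normalizer_wOf hj) _).1 (inv_mem hiW)) hiW
      have hzm : Commute z (j * (i : G)⁻¹ * j⁻¹ * i) := hzc _ (hWJ hm)
      rw [e, hjz.eq, mul_inv_cancel_right, hzm.eq, mul_inv_cancel_right]
      exact hm
    refine mul_inv_eq_iff_eq_mul.1 (mul_inv_eq_one.1 (h.eq_one_of_fixed hne hcW fun k hk => ?_))
    have hk' : j⁻¹ * k * j ∈ K := by
      have := (mem_normalizer_iff.1 (h.le_normalizer_comm (inv_mem hj)) k).1 hk
      rwa [inv_inv] at this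
    have h1 : Commute k (j * c * j⁻¹) := by
      show k * (j * c * j⁻¹) = j * c * j⁻¹ * k
      calc k * (j * c * j⁻¹) = j * ((j⁻¹ * k * j) * c) * j⁻¹ := by group
        _ = j * (c * (j⁻¹ * k * j)) * j⁻¹ := by rw [(hKc _ hk').eq]
        _ = j * c * j⁻¹ * k := by group
    exact (h1.mul_right (hKc k hk).inv_right).eq
  have hle : K ⊔ J ≤ centralizer (zpowers c : Set G) := by
    rw [zpowers_eq_closure, centralizer_closure]
    exact sup_le (fun k hk => mem_centralizer_singleton_iff.2 (hKc k hk).eq)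
      (fun j hj => mem_centralizer_singleton_iff.2 (hJc j hj).eq)
  have hcX : c ∈ centralizer ((K ⊔ J : Subgroup G) : Set G) :=
    le_centralizer_iff.1 hle (mem_zpowers c)
  have hcJ : c ∈ J := mul_mem hzJ (inv_mem (hWJ hiW))
  have hcZ : c ∈ Z0 := mem_omegaCenterOf.2 ⟨hcJ, fun j hj => ((hJc j hj).eq).symm, by
    simpa [sq] using hU1e.2 c hcU⟩
  refine ⟨c, i, (inv_mul_cancel_right z (i : G)).symm, hcZ, hcX, ?_, hiW⟩
  have : (i : G) = c⁻¹ * z := by rw [hcdef]; group
  rw [this]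
  exact mul_mem (inv_mem hcZ) hz

end PreComp

end Cfsg.Agent.LocalEvenB.ZN
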