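import Cfsg.Agent.Lib.LocalEvenB.ZNGood

/-!
A maximal straddling subgroup which is not Sylow in `G`.
-/

set_option autoImplicit false

namespace Cfsg.Agent.LocalEvenB.ZN

open Subgroup Cfsg Agent.LocalEvenA
open scoped IsMulCommutative commutatorElement Pointwise

variable {G : Type*} [Group G] [Finite G]

/-- An element of order two modulo `T` in the normalizer of `T`. -/
theorem exists_half_step {T X : Subgroup G} (hX : IsPGroup 2 X) (hTX : T ≤ X) (hne : ¬ X ≤ T) :
    ∃ s ∈ X, s ∉ T ∧ s ∈ normalizer (T : Set G) ∧ s * s ∈ T := by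
  haveI : Fact (Nat.Prime 2) := ⟨Nat.prime_two⟩
  obtain ⟨n, hnX, hnT, hnN⟩ := LocalEvenB.exists_mem_normalizer_not_mem hX hTX hne
  obtain ⟨k, hk⟩ := hX ⟨n, hnX⟩
  have hk' : n ^ 2 ^ k ∈ T := by
    rw [show n ^ 2 ^ k = 1 by simpa using congrArg Subtype.val hk]; exact one_mem T
  clear hk
  induction k with
  | zero => rw [pow_zero, pow_one] at hk'; exact absurd hk' hnT
  | succ j ih =>
    by_cases hj : n ^ 2 ^ j ∈ T
    · exact ih hj
    · refine ⟨n ^ 2 ^ j, pow_mem hnX _, hj, pow_mem hnN _, ?_⟩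
      rwa [← pow_add, ← two_mul, ← pow_succ']

/-- Admissible components with distinct maximal overgroups. -/
theorem Adm.not_le_of_ne (hG : ZNHyp G) {T K K' : Subgroup G} (hT : IsPGroup 2 T) (ha : Adm T K)
    (hK : IsJComponent T K) (ha' : Adm T K') (hK' : IsJComponent T K')
    (hne : lmax T K ≠ lmax T K') : ¬ K' ≤ lmax T K := fun hle =>
  hne ((ha.isMaximal hG hT hK).2 _ (ha'.isTwoLocal_lmax hG hT hK')
    (ha'.local_le hG hT hK' (ha.isTwoLocal_lmax hG hT hK)
      (sup_le hle (le_sup_right.trans (ha.sup_le_lmax hG hT hK))))).symm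

/-- The set-up for a component outside `M` and an element of `S` moving `T` off itself. -/
structure SwapData (S : Sylow 2 G) (M T K : Subgroup G) (s : G) : Prop where
  hM : MSetup S M
  hT : T ∈ maxStraddlingTwoSubgroups M
  hTS : T ≤ (S : Subgroup G)
  hK : K ∈ jComponentsOutside M T
  hs : s ∈ (S : Subgroup G)
  hsT : s ∉ T
  hsN : s ∈ normalizer (T : Set G)
  hss : s * s ∈ T

namespace SwapData

variable {S : Sylow 2 G} {M T K : Subgroup G} {s : G}

theorem adm (d : SwapData S M T K s) : Adm T K := adm_of_outside d.hM d.hT d.hK.2.1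

theorem lmax_mem (d : SwapData S M T K s) (hG : ZNHyp G) :
    lmax T K ∈ jOvergroups T ∧ K ⊔ T ≤ lmax T K :=
  ⟨(unique_maximal hG d.hM d.hT d.hK).2.2.1, (unique_maximal hG d.hM d.hT d.hK).2.1⟩

theorem s_normJ (d : SwapData S M T K s) :
    s ∈ normalizer (thompsonSubgroupOf 2 T : Set G) :=
  Transfer.normalizer_le_normalizer_thompson T d.hsN

theorem conj_outside (d : SwapData S M T K s) :
    K.map (MulAut.conj s).toMonoidHom ∈ jComponentsOutside M T := by
  have hKM : ¬ K.map (MulAut.conj s).toMonoidHom ≤ M := fun hle => d.hK.2.1 fun k hk => by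
    have := M.mul_mem (M.mul_mem (M.inv_mem (d.hM.S_le d.hs)) (hle ⟨k, hk, rfl⟩)) (d.hM.S_le d.hs)
    simpa [MulAut.conj_apply, mul_assoc] using this
  refine ⟨zero_of_not_le d.hM d.hT (isJComponent_conj_normalizer d.s_normJ d.hK.1.1) hKM, hKM, ?_⟩
  conv => arg 1; rw [← LocalEvenB.conjMap_eq_of_mem_normalizer d.hsN, ← Subgroup.map_sup,
    pCoreOf_map_equiv]
  exact (map_eq_bot_iff_of_injective _ (MulAut.conj s).injective).not.2 d.hK.2.2

theorem swap (d : SwapData S M T K s) : SwapData S M T (K.map (MulAut.conj s).toMonoidHom) s :=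
  ⟨d.hM, d.hT, d.hTS, d.conj_outside, d.hs, d.hsT, d.hsN, d.hss⟩

theorem lmax_ne (d : SwapData S M T K s) (hG : ZNHyp G) :
    lmax T K ≠ lmax T (K.map (MulAut.conj s).toMonoidHom) := by
  intro he
  rw [← d.adm.lmax_conj hG d.hT.1.1 d.hK.1.1 d.s_normJ d.swap.adm] at he
  have hn : s ∈ normalizer (lmax T K : Set G) := mem_normalizer_iff_map_conj_eq.2 he.symm
  rw [normalizer_eq_of_isMaximal hG (d.adm.isMaximal hG d.hT.1.1 d.hK.1.1)] at hn
  exact d.hsT ((inf_eq_of_sylowIn (d.lmax_mem hG).1.1 S.2 d.hTS).le ⟨hn, d.hs⟩)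

theorem disjoint (d : SwapData S M T K s) (hG : ZNHyp G) :
    zone T K ⊓ zone T (K.map (MulAut.conj s).toMonoidHom) = ⊥ :=
  zone_disjoint hG d.hT.1.1 d.adm d.hK.1.1
    (d.adm.not_le_of_ne hG d.hT.1.1 d.hK.1.1 d.swap.adm d.swap.hK.1.1 (d.lmax_ne hG))

theorem small (d : SwapData S M T K s) (hG : ZNHyp G) : Nat.card (zone T K) ≤ 2 :=
  card_zone_le_two d.hT.1.1 d.swap.hK.1.1 (d.disjoint hG)

theorem omega_le (d : SwapData S M T K s) (hG : ZNHyp G) :
    omegaCenterOf (S : Subgroup G) ≤ zJ T :=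
  omegaCenter_le_zJ (d.lmax_mem hG).1 d.hTS

theorem omega_fixed (d : SwapData S M T K s) {z : G}
    (hz : z ∈ omegaCenterOf (S : Subgroup G)) : s * z * s⁻¹ = z := by
  rw [← (mem_omegaCenterOf.1 hz).2.1 s d.hs, mul_inv_cancel_right]

/-- The component is the only one of its maximal overgroup. -/
theorem single (d : SwapData S M T K s) (hG : ZNHyp G) :
    ∀ K' ∈ compSet T (lmax T K), K' = K := by
  intro K' hK'
  by_contra hne
  have hTp := d.hT.1.1
  obtain ⟨hLT, hKT⟩ := d.lmax_mem hG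
  have hKc : K ∈ compSet T (lmax T K) := ⟨d.hK.1.1, le_sup_left.trans hKT⟩
  obtain ⟨w, hw1, hwW, hwZ, hwn, -, -, hor, -⟩ := exists_wgen hTp d.hK.1.1
  obtain ⟨w', hw'1, hw'W, hw'Z, -, -, -, -, -⟩ := exists_wgen hTp hK'.1
  have hw'zone : w' ∈ zone T K := wgen_mem_zone hG hTp hLT hK' hKc hne hw'Z hw'W
  have hwzone : w ∈ zone T K' := wgen_mem_zone hG hTp hLT hKc hK' (Ne.symm hne) hwZ hwW
  have hzc : ∀ z ∈ zone T K, z = 1 ∨ z = w' := by
    intro z hz
    have he : zpowers w' = zone T K := eq_of_le_of_card_ge (zpowers_le.2 hw'zone) (by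
      rw [Nat.card_zpowers, orderOf_eq_prime (by rw [sq]; exact zJ_sq hw'Z) hw'1]
      exact d.small hG)
    rw [← he] at hz
    obtain ⟨i, rfl⟩ := mem_zpowers_iff.1 hz
    rcases Int.even_or_odd i with ⟨j, rfl⟩ | ⟨j, rfl⟩
    · left; rw [← two_mul, zpow_mul, zpow_two, zJ_sq hw'Z, one_zpow]
    · right; rw [zpow_add, zpow_mul, zpow_two, zJ_sq hw'Z, one_zpow, one_mul, zpow_one]
  have hww : w * w = 1 := zJ_sq hwZ
  have hfour : ∀ z ∈ zJ T, z = 1 ∨ z = w' ∨ z = w ∨ z = w' * w := by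
    intro z hz
    rcases hor z hz with h | h
    · rcases hzc z h with e | e
      · exact Or.inl e
      · exact Or.inr (Or.inl e)
    · have hz' : z = z * w * w := by rw [mul_assoc, hww, mul_one]
      rcases hzc _ h with e | e
      · right; right; left; rw [hz', e, one_mul]
      · right; right; right; rw [hz', e]
  set K₂ := K.map (MulAut.conj s).toMonoidHom with hK₂
  obtain ⟨u, hu⟩ : ∃ u, u = s * w' * s⁻¹ := ⟨_, rfl⟩
  have huz : u ∈ zone T K₂ :=
    hu ▸ (zone_conj K d.s_normJ).le (LocalEvenB.conjMap_apply_mem hw'zone)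
  have hu1 : u ≠ 1 := fun e => hw'1 (conj_eq_one_iff.1 (hu.symm.trans e))
  have hunz : u ∉ zone T K := fun hh =>
    hu1 ((eq_bot_iff_forall _).1 (d.disjoint hG) u ⟨hh, huz⟩)
  rcases hfour u huz.1 with e | e | e | e
  · exact hu1 e
  · exact hunz (e ▸ hw'zone)
  · -- `C(w)` contains `K'` and the conjugate component
    rw [e] at huz hunz
    set N := normalizer (zpowers w : Set G) with hN
    have hle : centralizer ({w} : Set G) ≤ N := by
      refine le_trans ?_ (centralizer_le_normalizer _)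
      rw [zpowers_eq_closure, centralizer_closure]
    have hNl : IsTwoLocal N := ⟨zpowers w, LocalEvenB.isPGroup_zpowers ⟨1, by
      rw [pow_one]; exact orderOf_eq_prime (by rw [sq]; exact hww) hw1⟩,
      by simpa [zpowers_eq_bot] using hw1, rfl⟩
    have hX := (sup_le_centralizer_of_mem_zone huz).trans hle
    obtain ⟨T0, hT0, hNT, hJ⟩ := d.swap.adm.data hG d.swap.hK.1.1 hNl hX
    have hK'N : K' ∈ compSet T0 N := ⟨isJComponent_congr hJ.symm hK'.1,
      le_sup_left.trans ((sup_le_centralizer_of_mem_zone hwzone).trans hle)⟩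
    have hK₂N : K₂ ∈ compSet T0 N :=
      ⟨isJComponent_congr hJ.symm d.swap.hK.1.1, le_sup_left.trans hX⟩
    have hle' : normalizer (wOf K' : Set G) ≤ lmax T K :=
      d.adm.local_le hG hTp d.hK.1.1 (isTwoLocal_normalizer_wOf hK'.1)
        (sup_le ((comps_le_normalizer hG hTp hLT hK' hKc).trans (normalizer_le_normalizer_wOf K'))
          (preComp_of_isJComponent hTp hK'.1).J_le_normalizer_wOf)
    exact d.adm.not_le_of_ne hG hTp d.hK.1.1 d.swap.adm d.swap.hK.1.1 (d.lmax_ne hG)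
      (((comps_le_normalizer hG hT0 hNT hK'N hK₂N).trans (normalizer_le_normalizer_wOf K')).trans
        hle')
  · -- `w` generates the centre of `S`
    refine not_le_centralizer_omega hG S hTp hK'.1 ?_
    refine (sup_le_centralizer_of_mem_zone hwzone).trans fun g hg => ?_
    refine mem_centralizer_iff.2 fun z hz => ?_
    have hfix := d.omega_fixed hz
    rcases hfour z (d.omega_le hG hz) with f | f | f | f
    · rw [f, one_mul, mul_one]
    · rw [f] at hfix
      exact absurd (hu.trans hfix ▸ hw'zone) hunz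
    · rw [f]; exact (mem_centralizer_singleton_iff.1 hg).symm
    · exfalso
      rw [f] at hfix
      have h2 : s * (w' * w) * s⁻¹ = s * w' * s⁻¹ := by rw [hfix, ← e, hu]
      have h3 : w' * w = w' := by simpa using h2
      exact hw1 (mul_eq_left.1 h3)

theorem good (d : SwapData S M T K s) (hG : ZNHyp G) : Good T K :=
  ⟨d.hT.1.1, d.hK.1.1, d.adm, (d.lmax_mem hG).1, d.single hG, d.small hG⟩

/-- When `Z₀` has order four: its elements, and the centre of `S`. -/
theorem four (d : SwapData S M T K s) (hG : ZNHyp G) {c : G} (hc : c ∈ zone T K) (hc1 : c ≠ 1) :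
    s * c * s⁻¹ ∈ zone T (K.map (MulAut.conj s).toMonoidHom) ∧ s * c * s⁻¹ ≠ c ∧
      s * (s * c * s⁻¹) * s⁻¹ = c ∧
      (∀ z ∈ zJ T, z = 1 ∨ z = c ∨ z = s * c * s⁻¹ ∨ z = c * (s * c * s⁻¹)) ∧
      omegaCenterOf (S : Subgroup G) = zpowers (c * (s * c * s⁻¹)) := by
  haveI : Fact (Nat.Prime 2) := ⟨Nat.prime_two⟩
  have hgood := d.good hG
  obtain ⟨w, hw1, hwW, hwZ, hwn, -, -, hor, -⟩ := exists_wgen d.hT.1.1 d.hK.1.1
  obtain ⟨c', hc'⟩ : ∃ c', c' = s * c * s⁻¹ := ⟨_, rfl⟩
  rw [← hc']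
  have hc'z : c' ∈ zone T (K.map (MulAut.conj s).toMonoidHom) :=
    hc' ▸ (zone_conj K d.s_normJ).le (LocalEvenB.conjMap_apply_mem hc)
  have hc'1 : c' ≠ 1 := fun e => hc1 (conj_eq_one_iff.1 (hc'.symm.trans e))
  have hc'n : c' ∉ zone T K := fun hh =>
    hc'1 ((eq_bot_iff_forall _).1 (d.disjoint hG) c' ⟨hh, hc'z⟩)
  have hne : c' ≠ c := fun e => hc'n (e ▸ hc)
  have hcc : c * c = 1 := zJ_sq hc.1
  have hback : s * c' * s⁻¹ = c := by
    rw [hc', show s * (s * c * s⁻¹) * s⁻¹ = (s * s) * c * (s * s)⁻¹ by group,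
      hgood.normJ_centralizes hG (hgood.T_le_L d.hss) (hgood.T_le_normJ d.hss) hc.1,
      mul_inv_cancel_right]
  have hww : w * w = 1 := zJ_sq hwZ
  have hw : w = c' ∨ w = c * c' := by
    rcases hor c' hc'z.1 with h | h
    · exact absurd h hc'n
    · rcases hgood.zone_cases hc h hc1 with e | e
      · left
        rw [eq_inv_of_mul_eq_one_right e, inv_eq_of_mul_eq_one_right (zJ_sq hc'z.1)]
      · right
        calc w = c' * (c' * w) := by rw [← mul_assoc, zJ_sq hc'z.1, one_mul]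
          _ = c' * c := by rw [e]
          _ = c * c' := (mem_omegaCenterOf.1 hc.1).2.1 c' (mem_omegaCenterOf.1 hc'z.1).1 |>.symm
  have hall : ∀ z ∈ zJ T, z = 1 ∨ z = c ∨ z = c' ∨ z = c * c' := by
    intro z hz
    rcases hor z hz with h | h
    · rcases hgood.zone_cases hc h hc1 with e | e
      · exact Or.inl e
      · exact Or.inr (Or.inl e)
    · have hz' : z = z * w * w := by rw [mul_assoc, hww, mul_one]
      rcases hgood.zone_cases hc h hc1 with e | e <;> rw [e] at hz'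
      · rw [one_mul] at hz'
        rcases hw with f | f <;> rw [f] at hz'
        · exact Or.inr (Or.inr (Or.inl hz'))
        · exact Or.inr (Or.inr (Or.inr hz'))
      · rcases hw with f | f <;> rw [f] at hz'
        · exact Or.inr (Or.inr (Or.inr hz'))
        · rw [← mul_assoc, hcc, one_mul] at hz'
          exact Or.inr (Or.inr (Or.inl hz'))
  refine ⟨hc'z, hne, hback, hall, ?_⟩
  have hcase : ∀ z ∈ omegaCenterOf (S : Subgroup G), z = 1 ∨ z = c * c' := by
    intro z hz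
    have hfix := d.omega_fixed hz
    rcases hall z (d.omega_le hG hz) with e | e | e | e
    · exact Or.inl e
    · rw [e] at hfix; exact absurd (hc'.trans hfix) hne
    · rw [e, hback] at hfix; exact absurd hfix.symm hne
    · exact Or.inr e
  obtain ⟨z, hz, hz1⟩ := exists_omegaCenter_ne_one S.2
    (fun hb => d.hsT (by rw [show s = 1 from mem_bot.1 (hb ▸ d.hs)]; exact one_mem T))
  have hmem : c * c' ∈ omegaCenterOf (S : Subgroup G) := (hcase z hz).resolve_left hz1 ▸ hz
  refine le_antisymm (fun x hx => ?_) (zpowers_le.2 hmem)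
  rcases hcase x hx with e | e
  · exact e ▸ one_mem _
  · exact e ▸ mem_zpowers _

theorem relIndex_two (d : SwapData S M T K s) (hG : ZNHyp G) (h4 : Nat.card (zJ T) = 4) :
    (lmax T K ⊓ centralizer (zJ T : Set G)).relIndex (normalizer (zJ T : Set G)) = 2 := by
  haveI : Fact (Nat.Prime 2) := ⟨Nat.prime_two⟩
  have hz2 : Nat.card (zone T K) = 2 := by
    have := card_zJ_eq d.hT.1.1 d.hK.1.1; omega
  obtain ⟨c, hc1, -, hc, -⟩ := exists_gen_of_card_two hz2
  have hcz : c ∈ zone T K := hc.ge (mem_zpowers c)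
  obtain ⟨hc'z, hne, hback, hall, hΩ⟩ := d.four hG hcz hc1
  obtain ⟨c', hc'⟩ : ∃ c', c' = s * c * s⁻¹ := ⟨_, rfl⟩
  rw [← hc'] at hc'z hne hback hall hΩ
  have hmemH : ∀ g : G, g * c = c * g → g * c' = c' * g →
      g ∈ lmax T K ⊓ centralizer (zJ T : Set G) := by
    intro g h1 h2
    refine ⟨d.adm.centralizer_le hG d.hT.1.1 d.hK.1.1 hcz hc1 (mem_centralizer_singleton_iff.2 h1),
      mem_centralizer_iff.2 fun z hz => ?_⟩
    rcases hall z hz with rfl | rfl | rfl | rfl
    · rw [one_mul, mul_one]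
    · exact h1.symm
    · exact h2.symm
    · exact ((show Commute g c from h1).mul_right h2).symm.eq
  have hsZ : s ∈ normalizer (zJ T : Set G) :=
    normalizer_le_normalizer_omegaCenterOf _ d.s_normJ
  rw [Subgroup.relIndex, index_eq_two_iff]
  refine ⟨⟨s, hsZ⟩, fun b => ?_⟩
  have hbz : ∀ z ∈ zJ T, (b : G) * z * (b : G)⁻¹ ∈ zJ T := fun z hz =>
    (mem_normalizer_iff.1 b.2 z).1 hz
  have hcc' : c * c' ∈ zJ T := (zJ T).mul_mem hcz.1 hc'z.1
  have hd : (b : G) * (c * c') * (b : G)⁻¹ = c * c' := by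
    rcases hall _ (hbz _ hcc') with e | e | e | e
    · exfalso
      have h5 := conj_eq_one_iff.1 e
      exact hne (by rw [eq_inv_of_mul_eq_one_right h5, inv_eq_of_mul_eq_one_right (zJ_sq hcz.1)])
    · exact (not_le_centralizer_conj hG S hΩ (b : G) d.hT.1.1 d.hK.1.1
        ((sup_le_centralizer_of_mem_zone hcz).trans_eq (by rw [e]))).elim
    · exact (not_le_centralizer_conj hG S hΩ (b : G) d.hT.1.1 d.swap.hK.1.1
        ((sup_le_centralizer_of_mem_zone hc'z).trans_eq (by rw [e]))).elim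
    · exact e
  have hH : ∀ g : G, g ∈ lmax T K ⊓ centralizer (zJ T : Set G) → g * c * g⁻¹ = c := by
    intro g hg
    rw [← mem_centralizer_iff.1 hg.2 c hcz.1, mul_inv_cancel_right]
  have hbs : ∀ (h : (b : G) * c' * (b : G)⁻¹ = (b : G) * c' * (b : G)⁻¹),
      ((b : G) * s) * c * ((b : G) * s)⁻¹ = (b : G) * c' * (b : G)⁻¹ := fun _ => by
    rw [hc']; group
  have hbc' : (b : G) * c' * (b : G)⁻¹ = (b : G) * c * (b : G)⁻¹ * (c * c') := by
    conv_rhs => rw [← hd]
    rw [show (b : G) * c * (b : G)⁻¹ * ((b : G) * (c * c') * (b : G)⁻¹) =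
      (b : G) * (c * c) * c' * (b : G)⁻¹ by group, zJ_sq hcz.1, mul_one]
  rcases hall _ (hbz c hcz.1) with e | e | e | e
  · exact absurd (conj_eq_one_iff.1 e) hc1
  · -- fixes `c`
    refine Or.inr ⟨mem_subgroupOf.2 (hmemH b (mul_inv_eq_iff_eq_mul.1 e)
      (mul_inv_eq_iff_eq_mul.1 ?_)), fun h' => hne ?_⟩
    · rw [hbc', e, ← mul_assoc, zJ_sq hcz.1, one_mul]
    · have h1 := hH _ (mem_subgroupOf.1 h')
      rw [show ((b * ⟨s, hsZ⟩ : normalizer (zJ T : Set G)) : G) = (b : G) * s from rfl,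
        hbs rfl, hbc', e, ← mul_assoc, zJ_sq hcz.1, one_mul] at h1
      exact h1
  · -- exchanges `c` and `c'`
    refine Or.inl ⟨mem_subgroupOf.2 ?_, fun h' => hne ?_⟩
    · have h6 : (b : G) * c' * (b : G)⁻¹ = c := by
        rw [hbc', e, (mem_omegaCenterOf.1 hcz.1).2.1 c' (mem_omegaCenterOf.1 hc'z.1).1,
          ← mul_assoc, zJ_sq hc'z.1, one_mul]
      show (b : G) * s ∈ _
      refine hmemH _ (mul_inv_eq_iff_eq_mul.1 ?_) (mul_inv_eq_iff_eq_mul.1 ?_)
      · rw [hbs rfl, h6]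
      · rw [show (b : G) * s * c' * ((b : G) * s)⁻¹ = (b : G) * (s * c' * s⁻¹) * (b : G)⁻¹ by
          group, hback, e]
    · have h1 := hH _ (mem_subgroupOf.1 h')
      rw [e] at h1
      exact h1
  · exfalso
    have h7 : (b : G) * c * (b : G)⁻¹ = (b : G) * (c * c') * (b : G)⁻¹ := by rw [hd, e]
    have h8 : c = c * c' := by simpa using h7
    exact hne (by
      have h9 := left_eq_mul.1 h8
      rw [h9] at hc'
      exact absurd (conj_eq_one_iff.1 hc'.symm) hc1)

/-- The points of the two sides agree. -/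
theorem pt_eq (d : SwapData S M T K s) (hG : ZNHyp G) :
    pt T (wOf K) = pt T (wOf (K.map (MulAut.conj s).toMonoidHom)) := by
  haveI : Fact (Nat.Prime 2) := ⟨Nat.prime_two⟩
  have hgood := d.good hG
  have hgood' := d.swap.good hG
  obtain ⟨w, hw1, hwW, hwZ, hwn, heq, -, hor, -⟩ := exists_wgen d.hT.1.1 d.hK.1.1
  have hp1 : pt T (wOf K) = zpowers w := (hgood.pt_eq hG).trans heq
  have hp2 : pt T (wOf (K.map (MulAut.conj s).toMonoidHom)) = zpowers (s * w * s⁻¹) := by
    rw [hgood'.pt_eq hG, wOf_map_equiv, ← map_conj_zJ d.s_normJ,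
      ← Subgroup.map_inf _ _ _ (MulAut.conj s).injective, heq, MonoidHom.map_zpowers]
    rfl
  rw [hp1, hp2]
  by_cases hz : zone T K = ⊥
  · -- `Z₀` has order two
    congr 1
    have hsw : s * w * s⁻¹ ∈ zJ T := (map_conj_zJ d.s_normJ).le (LocalEvenB.conjMap_apply_mem hwZ)
    rcases hor _ hsw with h | h <;> rw [hz, mem_bot] at h
    · exact absurd (conj_eq_one_iff.1 h) hw1
    · rw [eq_inv_of_mul_eq_one_left h, inv_eq_of_mul_eq_one_right (zJ_sq hwZ)]
  · obtain ⟨c, hcz, hc1⟩ : ∃ c ∈ zone T K, c ≠ 1 := by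
      by_contra hc
      push Not at hc
      exact hz ((eq_bot_iff_forall _).2 hc)
    obtain ⟨hc'z, hne, hback, hall, hΩ⟩ := d.four hG hcz hc1
    obtain ⟨c', hc'⟩ : ∃ c', c' = s * c * s⁻¹ := ⟨_, rfl⟩
    rw [← hc'] at hc'z hne hback hall hΩ
    have hc'1 : c' ≠ 1 := fun e => hc1 (conj_eq_one_iff.1 (hc'.symm.trans e))
    rcases hall w hwZ with e | e | e | e
    · exact absurd e hw1
    · exact absurd (e ▸ hcz) hwn
    · exfalso
      rw [e] at hp1 hp2
      rw [hback] at hp2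
      have hdet : ∀ {K₀ : Subgroup G}, Good T K₀ → ∀ x : G, x ∈ zone T K₀ → x ≠ 1 →
          ∀ g : G, g * x * g⁻¹ = x →
          (wOf K₀).map (MulAut.conj g).toMonoidHom = wOf K₀ := fun {K₀} h0 x hx hx1 g hg =>
        LocalEvenB.conjMap_eq_of_mem_normalizer (normalizer_le_normalizer_wOf K₀
          (h0.L_le_normalizer hG (h0.adm.centralizer_le hG h0.hT h0.hK hx hx1
            (mem_centralizer_singleton_iff.2 (mul_inv_eq_iff_eq_mul.1 hg)))))
      refine (pair_of_good hG (hgood.toCent hG) (hgood'.toCent hG) (d.lmax_ne hG)).not_cross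
        (c₁ := c) (c₂ := c') ⟨hc1, hc'1, ?_, ?_, hdet hgood c hcz hc1,
          hdet hgood' c' hc'z hc'1⟩ hp1 hp2 fun g hg => ?_
      · exact fun p hp => mem_centralizer_singleton_iff.1
          (((hgood.P_le_L hG).trans (hgood.L_le_centralizer hG hcz)) hp)
      · exact fun p hp => mem_centralizer_singleton_iff.1
          (((hgood'.P_le_L hG).trans (hgood'.L_le_centralizer hG hc'z)) hp)
      · have h1 := hdet hgood c hcz hc1 (s⁻¹ * g) (by
          rw [show s⁻¹ * g * c * (s⁻¹ * g)⁻¹ = s⁻¹ * (g * c * g⁻¹) * s by group, hg, hc']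
          group)
        rw [wOf_map_equiv]
        conv_rhs => rw [← h1, LocalEvenB.conjMap_conjMap, mul_inv_cancel_left]
    · congr 1
      rw [e, show s * (c * c') * s⁻¹ = (s * c * s⁻¹) * (s * c' * s⁻¹) by group, ← hc', hback]
      exact (mem_omegaCenterOf.1 hcz.1).2.1 c' (mem_omegaCenterOf.1 hc'z.1).1

theorem pair (d : SwapData S M T K s) (hG : ZNHyp G) :
    Pair T (K ⊔ T) (K.map (MulAut.conj s).toMonoidHom ⊔ T) (wOf K)
      (wOf (K.map (MulAut.conj s).toMonoidHom)) :=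
  pair_of_good hG ((d.good hG).toCent hG) ((d.swap.good hG).toCent hG) (d.lmax_ne hG)

theorem map_sup_eq (d : SwapData S M T K s) :
    (K ⊔ T).map (MulAut.conj s).toMonoidHom = K.map (MulAut.conj s).toMonoidHom ⊔ T := by
  rw [Subgroup.map_sup, LocalEvenB.conjMap_eq_of_mem_normalizer d.hsN]

end SwapData

/-- A Sylow subgroup of `G` containing `T` inside `M`, with the set-up. -/
theorem exists_sylow_over {S : Sylow 2 G} {M T : Subgroup G} (h : MSetup S M)
    (hT : T ∈ maxStraddlingTwoSubgroups M) :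
    ∃ S' : Sylow 2 G, MSetup S' M ∧ T ≤ (S' : Subgroup G) := by
  haveI : Fact (Nat.Prime 2) := ⟨Nat.prime_two⟩
  obtain ⟨m, hm, hTm⟩ := exists_conj_sylow_le h.S_le hT.1.1 hT.1.2.2.1
  have hX : IsPGroup 2 ((S : Subgroup G).map (MulAut.conj m).toMonoidHom) :=
    LocalEvenB.conjMap_isPGroup S.2
  obtain ⟨P, hP⟩ := hX.exists_le_sylow
  have hPe : (P : Subgroup G) = (S : Subgroup G).map (MulAut.conj m).toMonoidHom :=
    (eq_of_le_of_card_ge hP (by
      rw [LocalEvenB.conjMap_card, P.card_eq_multiplicity, S.card_eq_multiplicity])).symm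
  refine ⟨P, ⟨h.core, h.loc, ?_⟩, hPe.symm ▸ hTm⟩
  rw [hPe, ← map_conj_thompson]
  intro g hg
  have hmg : m⁻¹ * g * m ∈ M := by
    refine h.nJ (LocalEvenB.mem_normalizer_of_conj_mem fun z hz => ?_)
    have h1 := (mem_normalizer_iff.1 hg _).1 ⟨z, hz, rfl⟩
    rw [LocalEvenB.mem_conjMap] at h1
    simpa [MulAut.conj_apply, mul_assoc] using h1
  have := M.mul_mem (M.mul_mem hm hmg) (M.inv_mem hm)
  simpa [mul_assoc] using this

/-- The swap data exist unless `T` is a Sylow subgroup of `G`. -/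
theorem exists_swapData {S : Sylow 2 G} {M T K : Subgroup G} (h : MSetup S M)
    (hT : T ∈ maxStraddlingTwoSubgroups M) (hTS : T ≤ (S : Subgroup G))
    (hK : K ∈ jComponentsOutside M T) (hne : T ≠ (S : Subgroup G)) :
    ∃ s, SwapData S M T K s := by
  obtain ⟨s, h1, h2, h3, h4⟩ := exists_half_step S.2 hTS fun hle => hne (le_antisymm hTS hle)
  exact ⟨s, h, hT, hTS, hK, h1, h2, h3, h4⟩

end Cfsg.Agent.LocalEvenB.ZN
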