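import Cfsg.Agent.Lib.LocalEvenB.ZNAdm

/-!
`Ω₁(Z(J(T)))` and the centralizers of the components in it.
-/

set_option autoImplicit false

namespace Cfsg.Agent.LocalEvenB.ZN

open Subgroup Cfsg Agent.LocalEvenA
open scoped IsMulCommutative commutatorElement Pointwise

variable {G : Type*} [Group G]

/-- `Ω₁(Z(J(T)))`. -/
abbrev zJ (T : Subgroup G) : Subgroup G := omegaCenterOf (thompsonSubgroupOf 2 T)

/-- The part of `Ω₁(Z(J(T)))` centralised by `K`. -/
abbrev zone (T K : Subgroup G) : Subgroup G := zJ T ⊓ centralizer (K : Set G)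

theorem zJ_congr {T T' : Subgroup G}
    (h : thompsonSubgroupOf 2 T = thompsonSubgroupOf 2 T') : zJ T = zJ T' := by
  rw [zJ, zJ, h]

theorem zJ_sq {T : Subgroup G} {z : G} (hz : z ∈ zJ T) : z * z = 1 :=
  (mem_omegaCenterOf.1 hz).2.2

theorem sup_le_centralizer_of_mem_zone {T K : Subgroup G} {z : G} (hz : z ∈ zone T K) :
    K ⊔ thompsonSubgroupOf 2 T ≤ centralizer ({z} : Set G) :=
  sup_le (fun k hk => mem_centralizer_singleton_iff.2 (mem_centralizer_iff.1 hz.2 k hk))
    (fun j hj => mem_centralizer_singleton_iff.2 ((mem_omegaCenterOf.1 hz.1).2.1 j hj).symm)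

variable [Finite G]

theorem map_conj_zJ {T : Subgroup G} {g : G}
    (hg : g ∈ normalizer (thompsonSubgroupOf 2 T : Set G)) :
    (zJ T).map (MulAut.conj g).toMonoidHom = zJ T := by
  rw [zJ, ← omegaCenterOf_map_equiv, LocalEvenB.conjMap_eq_of_mem_normalizer hg]

theorem zone_conj {T : Subgroup G} (K : Subgroup G) {g : G}
    (hg : g ∈ normalizer (thompsonSubgroupOf 2 T : Set G)) :
    (zone T K).map (MulAut.conj g).toMonoidHom =
      zone T (K.map (MulAut.conj g).toMonoidHom) := by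
  have hcen : (centralizer (K : Set G)).map (MulAut.conj g).toMonoidHom =
      centralizer ((K.map (MulAut.conj g).toMonoidHom : Subgroup G) : Set G) := by
    ext z
    rw [LocalEvenB.mem_conjMap, mem_centralizer_iff, mem_centralizer_iff]
    constructor
    · rintro h _ ⟨k, hk, rfl⟩
      have := h k hk
      show g * k * g⁻¹ * z = z * (g * k * g⁻¹)
      calc g * k * g⁻¹ * z = g * (k * (g⁻¹ * z * g)) * g⁻¹ := by group
        _ = g * ((g⁻¹ * z * g) * k) * g⁻¹ := by rw [this]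
        _ = z * (g * k * g⁻¹) := by group
    · intro h k hk
      have := h _ (LocalEvenB.conjMap_apply_mem (g := g) hk)
      calc k * (g⁻¹ * z * g) = g⁻¹ * (g * k * g⁻¹ * z) * g := by group
        _ = g⁻¹ * (z * (g * k * g⁻¹)) * g := by rw [this]
        _ = g⁻¹ * z * g * k := by group
  rw [zone, zone, Subgroup.map_inf _ _ _ (MulAut.conj g).injective, hcen, map_conj_zJ hg]

/-- The generator of `Z₀ ∩ W_K`. -/
theorem exists_wgen {T K : Subgroup G} (hT : IsPGroup 2 T) (hK : IsJComponent T K) :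
    ∃ w : G, w ≠ 1 ∧ w ∈ wOf K ∧ w ∈ zJ T ∧ w ∉ zone T K ∧
      zJ T ⊓ wOf K = zpowers w ∧ (∀ x ∈ zJ T ⊓ wOf K, x = 1 ∨ x = w) ∧
      (∀ z ∈ zJ T, z ∈ zone T K ∨ z * w ∈ zone T K) ∧ (zone T K).relIndex (zJ T) = 2 := by
  have hP := preComp_of_isJComponent hT hK
  have hne := wOf_ne_bot hK
  obtain ⟨hcard, hsplit⟩ := hP.omega_center_split hne
  haveI : Finite (zJ T ⊓ wOf K : Subgroup G) :=
    Nat.finite_of_card_ne_zero (hcard.trans_ne (by norm_num))
  have : Nontrivial (zJ T ⊓ wOf K : Subgroup G) :=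
    Finite.one_lt_card_iff_nontrivial.1 (by rw [hcard]; norm_num)
  obtain ⟨⟨w, hw⟩, hw1⟩ := exists_ne (1 : (zJ T ⊓ wOf K : Subgroup G))
  have hw1' : w ≠ 1 := fun e => hw1 (Subtype.ext e)
  have hww : w * w = 1 := hP.wOf_sq hw.2
  have heq : zpowers w = zJ T ⊓ wOf K := eq_of_le_of_card_ge (zpowers_le.2 hw) (by
    rw [hcard, Nat.card_zpowers, orderOf_eq_prime (by rw [sq]; exact hww) hw1'])
  have hall : ∀ x ∈ zJ T ⊓ wOf K, x = 1 ∨ x = w := by
    intro x hx
    rw [← heq] at hx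
    obtain ⟨i, rfl⟩ := mem_zpowers_iff.1 hx
    rcases Int.even_or_odd i with ⟨j, rfl⟩ | ⟨j, rfl⟩
    · left; rw [← two_mul, zpow_mul, zpow_two, hww, one_zpow]
    · right; rw [zpow_add, zpow_mul, zpow_two, hww, one_zpow, one_mul, zpow_one]
  have hnz : w ∉ zone T K := fun h' => hw1' (hP.eq_one_of_fixed hne hw.2
    fun k hk => mem_centralizer_iff.1 h'.2 k hk)
  have hor : ∀ z ∈ zJ T, z ∈ zone T K ∨ z * w ∈ zone T K := by
    intro z hz
    obtain ⟨c, v, rfl, hcZ, hcC, hvZ, hvW⟩ := hsplit z hz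
    have hc : c ∈ zone T K := ⟨hcZ, centralizer_le (le_sup_left : K ≤ _) hcC⟩
    rcases hall v ⟨hvZ, hvW⟩ with rfl | rfl
    · left; rwa [mul_one]
    · right; rwa [mul_assoc, hww, mul_one]
  refine ⟨w, hw1', hw.2, hw.1, hnz, heq.symm, hall, hor, ?_⟩
  rw [Subgroup.relIndex, index_eq_two_iff]
  refine ⟨⟨w, hw.1⟩, fun z => ?_⟩
  by_cases hz : (z : G) ∈ zone T K
  · refine Or.inr ⟨mem_subgroupOf.2 hz, fun h' => hnz ?_⟩
    have := (zone T K).mul_mem ((zone T K).inv_mem hz) (mem_subgroupOf.1 h')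
    simpa using this
  · exact Or.inl ⟨mem_subgroupOf.2 ((hor z z.2).resolve_left hz),
      fun h' => hz (mem_subgroupOf.1 h')⟩

theorem card_zJ_eq {T K : Subgroup G} (hT : IsPGroup 2 T) (hK : IsJComponent T K) :
    Nat.card (zJ T) = 2 * Nat.card (zone T K) := by
  obtain ⟨w, -, -, -, -, -, -, -, hidx⟩ := exists_wgen hT hK
  have := relIndex_mul_relIndex ⊥ (zone T K) (zJ T) bot_le inf_le_left
  rw [relIndex_bot_left, relIndex_bot_left, hidx] at this
  omega

theorem card_zone_le_two {T K K' : Subgroup G} (hT : IsPGroup 2 T) (hK' : IsJComponent T K')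
    (hd : zone T K ⊓ zone T K' = ⊥) : Nat.card (zone T K) ≤ 2 := by
  obtain ⟨w, -, -, -, -, -, -, -, hidx⟩ := exists_wgen hT hK'
  have h1 : (zone T K').relIndex (zone T K) = Nat.card (zone T K) := by
    rw [← inf_relIndex_right, inf_comm, hd, relIndex_bot_left]
  rw [← h1, ← hidx]
  exact relIndex_le_of_le_right inf_le_left (by rw [hidx]; decide)

theorem Adm.centralizer_le (hG : ZNHyp G) {T K : Subgroup G} (hT : IsPGroup 2 T) (ha : Adm T K)
    (hK : IsJComponent T K) {z : G} (hz : z ∈ zone T K) (hz1 : z ≠ 1) :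
    centralizer ({z} : Set G) ≤ lmax T K := by
  have hle : centralizer ({z} : Set G) ≤ normalizer (zpowers z : Set G) := by
    refine le_trans ?_ (centralizer_le_normalizer _)
    rw [zpowers_eq_closure, centralizer_closure]
  refine hle.trans (ha.local_le hG hT hK ⟨zpowers z, ?_, ?_, rfl⟩
    ((sup_le_centralizer_of_mem_zone hz).trans hle))
  · exact LocalEvenB.isPGroup_zpowers ⟨1, by
      rw [pow_one]; exact orderOf_eq_prime (by rw [sq]; exact zJ_sq hz.1) hz1⟩
  · simpa [zpowers_eq_bot] using hz1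

/-- Components with different maximal overgroups have disjoint centralised parts. -/
theorem zone_disjoint (hG : ZNHyp G) {T K K' : Subgroup G} (hT : IsPGroup 2 T) (ha : Adm T K)
    (hK : IsJComponent T K) (hne : ¬ K' ≤ lmax T K) : zone T K ⊓ zone T K' = ⊥ := by
  refine (eq_bot_iff_forall _).2 fun z hz => ?_
  by_contra hz1
  exact hne ((le_sup_left.trans (sup_le_centralizer_of_mem_zone hz.2)).trans
    (ha.centralizer_le hG hT hK hz.1 hz1))

/-- In a common overgroup the generator of one component lies in the centralised part of any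
other. -/
theorem wgen_mem_zone (hG : ZNHyp G) {T L K K' : Subgroup G} (hT : IsPGroup 2 T)
    (hLT : L ∈ jOvergroups T) (hK : K ∈ compSet T L) (hK' : K' ∈ compSet T L) (hne : K ≠ K')
    {w : G} (hw : w ∈ zJ T) (hwW : w ∈ wOf K) : w ∈ zone T K' := by
  refine ⟨hw, mem_centralizer_iff.2 fun k hk => ?_⟩
  obtain ⟨c, v, hcv, -, hcC, -, hvW⟩ :=
    (preComp_of_isJComponent hT hK'.1).omega_center_split (wOf_ne_bot hK'.1) |>.2 w hw
  have hkn : k ∈ normalizer (wOf K : Set G) :=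
    normalizer_le_normalizer_wOf K (comps_le_normalizer hG hT hLT hK hK' hk)
  have h1 : k * w * k⁻¹ * w⁻¹ ∈ wOf K :=
    mul_mem ((mem_normalizer_iff.1 hkn w).1 hwW) (inv_mem hwW)
  have hk' : k ∈ normalizer (wOf K' : Set G) := normalizer_le_normalizer_wOf K' (le_normalizer hk)
  have hm : k * v * k⁻¹ * v⁻¹ ∈ wOf K' :=
    mul_mem ((mem_normalizer_iff.1 hk' v).1 hvW) (inv_mem hvW)
  have hce : k * c = c * k := mem_centralizer_iff.1 hcC k (mem_sup_left hk)
  have hcW : (k * v * k⁻¹ * v⁻¹) * c = c * (k * v * k⁻¹ * v⁻¹) :=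
    mem_centralizer_iff.1 hcC _ (mem_sup_left (pCoreOf_le' 2 K'
      ((preComp_of_isJComponent hT hK'.1).wOf_le_Q hm)))
  have h2 : k * w * k⁻¹ * w⁻¹ ∈ wOf K' := by
    rw [hcv, show k * (c * v) * k⁻¹ * (c * v)⁻¹ = (k * c) * v * k⁻¹ * v⁻¹ * c⁻¹ by group, hce,
      show c * k * v * k⁻¹ * v⁻¹ * c⁻¹ = c * (k * v * k⁻¹ * v⁻¹) * c⁻¹ by group, ← hcW,
      mul_inv_cancel_right]
    exact hm
  by_contra hne'
  exact hne (comps_eq_of_wOf hG hT hLT hK hK' h1 h2
    (fun e => hne' (mul_inv_eq_iff_eq_mul.1 (mul_inv_eq_one.1 e)))).symm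

/-- The centre of a 2-group above `T` lies in `Ω₁(Z(J(T)))`. -/
theorem omegaCenter_le_zJ {T L X : Subgroup G} (hLT : L ∈ jOvergroups T) (hTX : T ≤ X) :
    omegaCenterOf X ≤ zJ T := by
  intro x hx
  obtain ⟨-, hc, hxx⟩ := mem_omegaCenterOf.1 hx
  have hxT : x ∈ T := pCoreOf_le_sylowIn hLT.1 (hLT.2.2 (mem_centralizer_iff.2 fun r hr =>
    (hc r (hTX (pCoreOf_le_sylowIn hLT.1 hr))).symm))
  obtain ⟨A, hA⟩ := Transfer.exists_isMaxElemIn (p := 2) T
  have hAc : A ≤ centralizer (zpowers x : Set G) := by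
    rw [zpowers_eq_closure, centralizer_closure]
    exact fun a ha => mem_centralizer_singleton_iff.2 (hc a (hTX (hA.1 ha))).symm
  have h1 := hA.2.2 (A ⊔ zpowers x) (sup_le hA.1 (zpowers_le.2 hxT))
    (Transfer.ea_sup hA.2.1 (Transfer.ea_zpowers (by rw [sq]; exact hxx)) hAc)
  have h2 : A ⊔ zpowers x = A := (eq_of_le_of_card_ge le_sup_left h1).symm
  have hxA : x ∈ A := h2 ▸ mem_sup_right (mem_zpowers x)
  exact mem_omegaCenterOf.2 ⟨maxElem_of_sup hA hxA,
    fun j hj => hc j (hTX (Transfer.thompsonSubgroupOf_le T hj)), hxx⟩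

theorem exists_omegaCenter_ne_one {X : Subgroup G} (hX : IsPGroup 2 X) (hX1 : X ≠ ⊥) :
    ∃ z ∈ omegaCenterOf X, z ≠ 1 := by
  haveI : Fact (Nat.Prime 2) := ⟨Nat.prime_two⟩
  haveI : Nontrivial X := (nontrivial_iff_ne_bot X).2 hX1
  haveI := hX.center_nontrivial
  obtain ⟨k, hk⟩ := IsPGroup.iff_card.1 (hX.to_subgroup (center X))
  have hk0 : k ≠ 0 := fun e => by
    rw [e, pow_zero] at hk
    have := Finite.one_lt_card_iff_nontrivial.2 (inferInstance : Nontrivial (center X))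
    omega
  obtain ⟨z, hz⟩ := exists_prime_orderOf_dvd_card' (G := center X) 2 (hk ▸ dvd_pow_self 2 hk0)
  refine ⟨((z : X) : G), mem_omegaCenterOf.2 ⟨(z : X).2, fun a ha => ?_, ?_⟩, fun e => ?_⟩
  · exact (congrArg Subtype.val (mem_center_iff.1 z.2 ⟨a, ha⟩)).symm
  · have := pow_orderOf_eq_one z
    rw [hz, sq] at this
    exact congrArg (fun u : center X => ((u : X) : G)) this
  · rw [show z = 1 from Subtype.ext (Subtype.ext e), orderOf_one] at hz
    omega

/-- A component does not normalise a 2-group containing `J(T)`. -/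
theorem comp_not_normalize {T K X : Subgroup G} (hK : IsJComponent T K) (hX : IsPGroup 2 X)
    (hJ : thompsonSubgroupOf 2 T ≤ X) (hn : K ≤ normalizer (X : Set G)) : False := by
  have h1 : K ≤ X := by
    conv_lhs => rw [← hK.2.1]
    exact (commutator_mono le_rfl hJ).trans
      ((commutator_comm _ _).le.trans (le_normalizer_iff_commutator_le_left.1 hn))
  have h2 : pCoreOf 2 K = K := le_antisymm (pCoreOf_le' 2 K)
    (le_pCoreOf le_rfl le_normalizer (hX.to_le h1))
  have h3 := hK.2.2.1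
  rw [h2, relIndex_self] at h3
  omega

theorem not_le_centralizer_omega (hG : ZNHyp G) (S : Sylow 2 G) {T K : Subgroup G}
    (hT : IsPGroup 2 T) (hK : IsJComponent T K)
    (h : K ⊔ thompsonSubgroupOf 2 T ≤ centralizer (omegaCenterOf (S : Subgroup G) : Set G)) :
    False := by
  haveI : Fact (Nat.Prime 2) := ⟨Nat.prime_two⟩
  have hn := h.trans (hG.cen S)
  have hX := S.2.to_sup_of_normal_left' (isPGroup_thompson hT) (le_sup_right.trans hn)
  exact comp_not_normalize hK S.2 (le_sup_right.trans (S.3 hX le_sup_left).le)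
    (le_sup_left.trans hn)

/-- No component centralises a conjugate of a generator of the centre of a Sylow subgroup. -/
theorem not_le_centralizer_conj (hG : ZNHyp G) (S : Sylow 2 G) {z : G}
    (hz : omegaCenterOf (S : Subgroup G) = zpowers z) (g : G) {T K : Subgroup G}
    (hT : IsPGroup 2 T) (hK : IsJComponent T K)
    (h : K ⊔ thompsonSubgroupOf 2 T ≤ centralizer ({g * z * g⁻¹} : Set G)) : False := by
  refine not_le_centralizer_omega hG S (LocalEvenB.conjMap_isPGroup (g := g⁻¹) hT)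
    (isJComponent_conj g⁻¹ hK) ?_
  rw [← map_conj_thompson, ← Subgroup.map_sup, hz, zpowers_eq_closure, centralizer_closure]
  rintro _ ⟨k, hk, rfl⟩
  have h1 := mem_centralizer_singleton_iff.1 (h hk)
  refine mem_centralizer_singleton_iff.2 ?_
  show g⁻¹ * k * g⁻¹⁻¹ * z = z * (g⁻¹ * k * g⁻¹⁻¹)
  calc g⁻¹ * k * g⁻¹⁻¹ * z = g⁻¹ * (k * (g * z * g⁻¹)) * g := by group
    _ = g⁻¹ * ((g * z * g⁻¹) * k) * g := by rw [h1]
    _ = z * (g⁻¹ * k * g⁻¹⁻¹) := by group

end Cfsg.Agent.LocalEvenB.ZN
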