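import Cfsg.Prelude.Def_JComponents
import Cfsg.Agent.Lib.LocalEvenB.FFGen
import Cfsg.Agent.Lib.LocalEvenA.Core
import Cfsg.Agent.Lib.ClassK.SubnormalTwo

/-!
General facts about `J(T)`-components.
-/

set_option autoImplicit false

namespace Cfsg.Agent.LocalEvenB.ZN

open Subgroup Cfsg Agent.LocalEvenA
open scoped IsMulCommutative commutatorElement

variable {G : Type*} [Group G]

/-! ### Elementary abelian subgroups of largest order -/

theorem maxElemAbelianOrder_eq {T A : Subgroup G} (hA : Transfer.IsMaxElemIn 2 T A) :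
    maxElemAbelianOrder T = Nat.card A := by
  have hA' : A.subgroupOf T ∈ maxElementaryAbelianSubgroups 2 T := by
    rw [Transfer.mem_maxElementaryAbelianSubgroups_iff, map_subgroupOf_eq_of_le hA.1]
    exact hA
  have h : (fun B : Subgroup T => Nat.card B) '' maxElementaryAbelianSubgroups 2 T =
      {Nat.card A} := by
    ext n
    constructor
    · rintro ⟨B, hB, rfl⟩
      show Nat.card B = Nat.card A
      rw [← Nat.card_congr (subgroupOfEquivOfLe hA.1).toEquiv]
      exact le_antisymm (hA'.2 B hB.1) (hB.2 _ hA'.1)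
    · rintro rfl
      exact ⟨_, hA', Nat.card_congr (subgroupOfEquivOfLe hA.1).toEquiv⟩
  rw [maxElemAbelianOrder, h, csSup_singleton]

theorem isPGroup_thompson {T : Subgroup G} (hT : IsPGroup 2 T) :
    IsPGroup 2 (thompsonSubgroupOf 2 T) :=
  hT.to_le (Transfer.thompsonSubgroupOf_le T)

theorem map_conj_thompson (T : Subgroup G) (g : G) :
    (thompsonSubgroupOf 2 T).map (MulAut.conj g).toMonoidHom =
      thompsonSubgroupOf 2 (T.map (MulAut.conj g).toMonoidHom) :=
  Transfer.map_thompsonSubgroupOf T _ (MulAut.conj g).injective.injOn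

variable [Finite G]

theorem maxElem_of_sup {T A : Subgroup G} (hA : Transfer.IsMaxElemIn 2 T A) :
    A ≤ thompsonSubgroupOf 2 T := Transfer.le_thompsonSubgroupOf hA

/-- A subgroup containing `J(T)` inside a conjugate of `T` has the same Thompson subgroup. -/
theorem thompson_eq_of_conj_le {T S : Subgroup G} {g : G}
    (hJS : thompsonSubgroupOf 2 T ≤ S) (hST : S ≤ T.map (MulAut.conj g).toMonoidHom) :
    thompsonSubgroupOf 2 S = thompsonSubgroupOf 2 T ∧
      ∀ A, Transfer.IsMaxElemIn 2 T A → Transfer.IsMaxElemIn 2 S A := by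
  have hmax : ∀ A, Transfer.IsMaxElemIn 2 T A → Transfer.IsMaxElemIn 2 S A := by
    intro A hA
    refine ⟨(maxElem_of_sup hA).trans hJS, hA.2.1, fun B hB hBe => ?_⟩
    have h1 : B.map (MulAut.conj g⁻¹).toMonoidHom ≤ T := by
      rintro _ ⟨b, hb, rfl⟩
      have := LocalEvenB.mem_conjMap.1 (hST (hB hb))
      simpa [MulAut.conj_apply] using this
    have := hA.2.2 _ h1 (Transfer.ea_map hBe _)
    rwa [LocalEvenB.conjMap_card] at this
  refine ⟨?_, hmax⟩
  set T' := T.map (MulAut.conj g).toMonoidHom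
  have h1 : thompsonSubgroupOf 2 T ≤ thompsonSubgroupOf 2 S := by
    rw [Transfer.thompsonSubgroupOf_eq T]
    exact sSup_le fun A hA => maxElem_of_sup (hmax A hA)
  have h2 : thompsonSubgroupOf 2 S ≤ thompsonSubgroupOf 2 T' := by
    rw [Transfer.thompsonSubgroupOf_eq S]
    refine sSup_le fun A hA => maxElem_of_sup ⟨hA.1.trans hST, hA.2.1, fun B hB hBe => ?_⟩
    obtain ⟨A0, hA0⟩ := Transfer.exists_isMaxElemIn (p := 2) T
    have h3 : B.map (MulAut.conj g⁻¹).toMonoidHom ≤ T := by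
      rintro _ ⟨b, hb, rfl⟩
      have := LocalEvenB.mem_conjMap.1 (hB hb)
      simpa [MulAut.conj_apply] using this
    have := hA0.2.2 _ h3 (Transfer.ea_map hBe _)
    rw [LocalEvenB.conjMap_card] at this
    exact this.trans (hA.2.2 A0 ((maxElem_of_sup hA0).trans hJS) hA0.2.1)
  refine (eq_of_le_of_card_ge h1 ((card_le_of_le h2).trans_eq ?_)).symm
  rw [← map_conj_thompson, LocalEvenB.conjMap_card]

/-! ### Subgroups generated by elements of odd order -/

/-- The subgroup generated by the elements of odd order of `X`. -/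
def oddSub (X : Subgroup G) : Subgroup G := closure {g : G | g ∈ X ∧ Odd (orderOf g)}

theorem oddSub_le (X : Subgroup G) : oddSub X ≤ X := (closure_le X).2 fun _ h => h.1

theorem mem_oddSub {X : Subgroup G} {g : G} (hg : g ∈ X) (ho : Odd (orderOf g)) : g ∈ oddSub X :=
  subset_closure ⟨hg, ho⟩

theorem normalizer_le_normalizer_oddSub (X : Subgroup G) :
    normalizer (X : Set G) ≤ normalizer (oddSub X : Set G) := by
  intro g hg
  refine LocalEvenB.mem_normalizer_of_conj_mem fun h hh => ?_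
  have hle : oddSub X ≤ (oddSub X).comap (MulAut.conj g).toMonoidHom := by
    refine (closure_le _).2 fun h hh => mem_oddSub ((mem_normalizer_iff.1 hg h).1 hh.1) ?_
    have := orderOf_injective (MulAut.conj g).toMonoidHom (MulAut.conj g).injective h
    show Odd (orderOf ((MulAut.conj g).toMonoidHom h))
    rw [this]
    exact hh.2
  exact hle hh

theorem mem_of_odd_pow {g : G} (hg : Odd (orderOf g)) {N : Subgroup G} {n : ℕ}
    (h : g ^ 2 ^ n ∈ N) : g ∈ N := by
  obtain ⟨m, hm⟩ := exists_pow_eq_self_of_coprime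
    ((Nat.coprime_two_left.2 hg).pow_left n)
  exact hm ▸ N.pow_mem h m

theorem le_of_pow_mem {K N : Subgroup G} (hK : oddSub K = K)
    (h : ∀ k ∈ K, ∃ n : ℕ, k ^ 2 ^ n ∈ N) : K ≤ N := by
  conv_lhs => rw [← hK]
  refine (closure_le N).2 fun k hk => ?_
  obtain ⟨n, hn⟩ := h k hk.1
  exact mem_of_odd_pow hk.2 hn

theorem le_of_le_sup {K N Q : Subgroup G} (hK : oddSub K = K) (hQ : IsPGroup 2 Q)
    (hNK : N ≤ K) (hQK : Q ≤ K) (hn : K ≤ normalizer (N : Set G)) (h : K ≤ Q ⊔ N) : K ≤ N := by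
  haveI : Fact (Nat.Prime 2) := ⟨Nat.prime_two⟩
  haveI hnorm : (N.subgroupOf K).Normal := normal_subgroupOf_of_le_normalizer hn
  obtain ⟨n, hn2⟩ := IsPGroup.iff_card.1 hQ
  have hd : (N.subgroupOf K).index ∣ 2 ^ n := by
    have h1 : (N.subgroupOf K).relIndex (Q.subgroupOf K ⊔ N.subgroupOf K) =
        (N.subgroupOf K).relIndex (Q.subgroupOf K) := relIndex_sup_right _ _
    rw [← subgroupOf_sup hQK hNK, subgroupOf_eq_top.2 h, relIndex_top_right] at h1
    rw [h1, ← hn2, ← Nat.card_congr (subgroupOfEquivOfLe hQK).toEquiv]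
    exact relIndex_dvd_card _ _
  obtain ⟨m, -, hm⟩ := (Nat.dvd_prime_pow Nat.prime_two).1 hd
  refine le_of_pow_mem hK fun k hk => ⟨m, ?_⟩
  have := (N.subgroupOf K).pow_index_mem ⟨k, hk⟩
  rw [hm] at this
  exact this

/-! ### Components -/

/-- The first four conditions in the definition of a component. -/
structure PreComp (T K : Subgroup G) : Prop where
  hT : IsPGroup 2 (thompsonSubgroupOf 2 T)
  odd : oddSub K = K
  comm : ⁅K, thompsonSubgroupOf 2 T⁆ = K
  idx : (pCoreOf 2 K).relIndex K = 3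
  syl : ∀ S : Subgroup G, IsSylowTwoIn S (K ⊔ thompsonSubgroupOf 2 T) →
    thompsonSubgroupOf 2 T ≤ S → thompsonSubgroupOf 2 S = thompsonSubgroupOf 2 T

omit [Finite G] in
theorem preComp_of_isJComponent {T K : Subgroup G} (hT : IsPGroup 2 T) (h : IsJComponent T K) :
    PreComp T K := ⟨isPGroup_thompson hT, h.1, h.2.1, h.2.2.1, h.2.2.2.1⟩

namespace PreComp

variable {T K : Subgroup G}

omit [Finite G] in
theorem le_normalizer_comm (h : PreComp T K) :
    thompsonSubgroupOf 2 T ≤ normalizer (K : Set G) := by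
  rw [le_normalizer_iff_commutator_le_left]
  exact h.comm.le

theorem J_le_normalizer_Q (h : PreComp T K) :
    thompsonSubgroupOf 2 T ≤ normalizer (pCoreOf 2 K : Set G) :=
  h.le_normalizer_comm.trans (pCoreOf_normalizer 2 K)

theorem eq_Q_of_pGroup (h : PreComp T K) {P : Subgroup G} (hP : IsPGroup 2 P)
    (hQP : pCoreOf 2 K ≤ P) (hPK : P ≤ K) : P = pCoreOf 2 K := by
  haveI : Fact (Nat.Prime 2) := ⟨Nat.prime_two⟩
  refine le_antisymm (relIndex_eq_one.1 ?_) hQP
  have h1 : (pCoreOf 2 K).relIndex P ∣ 3 := by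
    rw [← h.idx]; exact Dvd.intro _ (relIndex_mul_relIndex _ _ _ hQP hPK)
  rcases (Nat.dvd_prime Nat.prime_three).1 h1 with h2 | h2
  · exact h2
  · exfalso
    obtain ⟨n, hn⟩ := IsPGroup.iff_card.1 hP
    have h3 : 3 ∣ 2 ^ n := by rw [← hn, ← h2]; exact relIndex_dvd_card _ _
    exact absurd (Nat.prime_three.dvd_of_dvd_pow h3) (by decide)

theorem isPGroup_Q (K : Subgroup G) : IsPGroup 2 (pCoreOf 2 K) :=
  haveI : Fact (Nat.Prime 2) := ⟨Nat.prime_two⟩
  pCoreOf_isPGroup' 2 K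

/-- `O₂(K)J(T)` is a Sylow 2-subgroup of `KJ(T)`. -/
theorem isSylow_QJ (h : PreComp T K) :
    IsSylowTwoIn (pCoreOf 2 K ⊔ thompsonSubgroupOf 2 T) (K ⊔ thompsonSubgroupOf 2 T) := by
  haveI : Fact (Nat.Prime 2) := ⟨Nat.prime_two⟩
  set Q := pCoreOf 2 K
  set J := thompsonSubgroupOf 2 T
  set X := K ⊔ J
  have hQJ : IsPGroup 2 (Q ⊔ J : Subgroup G) :=
    (isPGroup_Q K).to_sup_of_normal_left' h.hT h.J_le_normalizer_Q
  have hle : Q ⊔ J ≤ X := sup_le_sup_right (pCoreOf_le' 2 K) _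
  refine ⟨hle, hQJ, ?_⟩
  obtain ⟨P, hP⟩ := (hQJ.of_equiv (subgroupOfEquivOfLe hle).symm).exists_le_sylow
  have hPm : (P : Subgroup X).map X.subtype ≤ Q ⊔ J := by
    intro x hx
    obtain ⟨p, hp, rfl⟩ := hx
    have hpX : (p : G) ∈ ((K ⊔ J : Subgroup G) : Set G) := p.2
    rw [coe_mul_of_right_le_normalizer_left K J h.le_normalizer_comm, Set.mem_mul] at hpX
    obtain ⟨k, hk, j, hj, hkj⟩ := hpX
    have hjP : j ∈ (P : Subgroup X).map X.subtype :=
      ⟨⟨j, hle (mem_sup_right hj)⟩, hP (show j ∈ Q ⊔ J from mem_sup_right hj), rfl⟩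
    have hkP : k ∈ (P : Subgroup X).map X.subtype := by
      have := mul_mem (⟨p, hp, rfl⟩ : (p : G) ∈ (P : Subgroup X).map X.subtype) (inv_mem hjP)
      rwa [← hkj, mul_inv_cancel_right] at this
    have hk' : k ∈ Q := by
      have hQle : Q ≤ (P : Subgroup X).map X.subtype ⊓ K := le_inf (fun q hq =>
        ⟨⟨q, hle (mem_sup_left hq)⟩, hP (show q ∈ Q ⊔ J from mem_sup_left hq), rfl⟩) (pCoreOf_le' 2 K)
      have heq := h.eq_Q_of_pGroup ((P.2.map _).to_le inf_le_left) hQle inf_le_right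
      exact heq.le ⟨hkP, hk⟩
    show (p : G) ∈ Q ⊔ J
    rw [← hkj]
    exact mul_mem (mem_sup_left hk') (mem_sup_right hj)
  have heq : (Q ⊔ J).subgroupOf X = (P : Subgroup X) := le_antisymm hP fun p hp =>
    mem_subgroupOf.2 (hPm ⟨p, hp, rfl⟩)
  rw [Subgroup.relIndex, heq]
  exact Nat.not_even_iff_odd.1 fun he => P.not_dvd_index (even_iff_two_dvd.1 he)

theorem thompson_QJ (h : PreComp T K) :
    thompsonSubgroupOf 2 (pCoreOf 2 K ⊔ thompsonSubgroupOf 2 T) = thompsonSubgroupOf 2 T :=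
  h.syl _ h.isSylow_QJ le_sup_right

theorem maxElem_QJ (h : PreComp T K) {A : Subgroup G} (hA : Transfer.IsMaxElemIn 2 T A) :
    Transfer.IsMaxElemIn 2 (pCoreOf 2 K ⊔ thompsonSubgroupOf 2 T) A := by
  refine ⟨(maxElem_of_sup hA).trans le_sup_right, hA.2.1, fun B hB hBe => ?_⟩
  obtain ⟨B0, hB0⟩ := Transfer.exists_isMaxElemIn (p := 2)
    (pCoreOf 2 K ⊔ thompsonSubgroupOf 2 T)
  have h1 : B0 ≤ T := (maxElem_of_sup hB0).trans (h.thompson_QJ.le.trans (Transfer.thompsonSubgroupOf_le T))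
  exact (hB0.2.2 B hB hBe).trans (hA.2.2 B0 h1 hB0.2.1)

/-- An element of odd order generating `K` modulo `O₂(K)`. -/
theorem exists_gen (h : PreComp T K) : ∃ y ∈ K, Odd (orderOf y) ∧ y ∉ pCoreOf 2 K := by
  by_contra hcon
  push Not at hcon
  have hle : K ≤ pCoreOf 2 K := by
    conv_lhs => rw [← h.odd]
    exact (closure_le _).2 fun k hk => hcon k hk.1 hk.2
  have := h.idx
  rw [relIndex_eq_one.2 hle] at this
  omega

theorem Q_normal (K : Subgroup G) : K ≤ normalizer (pCoreOf 2 K : Set G) :=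
  le_normalizer_pCoreOf 2 K

theorem pow_three_mem (h : PreComp T K) {y : G} (hy : y ∈ K) : y ^ 3 ∈ pCoreOf 2 K := by
  haveI : ((pCoreOf 2 K).subgroupOf K).Normal := normal_subgroupOf_of_le_normalizer (Q_normal K)
  have := ((pCoreOf 2 K).subgroupOf K).pow_index_mem ⟨y, hy⟩
  rwa [show ((pCoreOf 2 K).subgroupOf K).index = 3 from h.idx] at this

theorem cases_mem (h : PreComp T K) {y : G} (hy : y ∈ K) (hyQ : y ∉ pCoreOf 2 K) {k : G}
    (hk : k ∈ K) :
    k ∈ pCoreOf 2 K ∨ y⁻¹ * k ∈ pCoreOf 2 K ∨ y * k ∈ pCoreOf 2 K := by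
  classical
  haveI hn : ((pCoreOf 2 K).subgroupOf K).Normal := normal_subgroupOf_of_le_normalizer (Q_normal K)
  set q : K →* K ⧸ (pCoreOf 2 K).subgroupOf K := QuotientGroup.mk' _
  have hcard : Nat.card (K ⧸ (pCoreOf 2 K).subgroupOf K) = 3 := by
    rw [← index_eq_card]; exact h.idx
  have hgen : zpowers (q ⟨y, hy⟩) = ⊤ := by
    haveI : Fact (Nat.Prime 3) := ⟨Nat.prime_three⟩
    exact zpowers_eq_top_of_prime_card hcard fun h' => hyQ ((QuotientGroup.eq_one_iff (N := (pCoreOf 2 K).subgroupOf K) (⟨y, hy⟩ : K)).1 h')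
  obtain ⟨n, hn'⟩ := mem_zpowers_iff.1 (hgen.symm ▸ mem_top (q ⟨k, hk⟩))
  have h3 : (q ⟨y, hy⟩) ^ (3 : ℕ) = 1 := by rw [← hcard]; exact pow_card_eq_one'
  have hn3 : (q ⟨y, hy⟩) ^ n = (q ⟨y, hy⟩) ^ (n % 3) := by
    conv_lhs => rw [← Int.emod_add_mul_ediv n 3, zpow_add, zpow_mul]
    rw [show (q ⟨y, hy⟩) ^ (3 : ℤ) = 1 from by exact_mod_cast h3, one_zpow, mul_one]
  rw [hn3] at hn'
  have h0 : 0 ≤ n % 3 := Int.emod_nonneg _ (by norm_num)
  have h1 : n % 3 < 3 := Int.emod_lt_of_pos _ (by norm_num)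
  interval_cases hm : n % 3
  · left
    rw [zpow_zero] at hn'
    exact (QuotientGroup.eq_one_iff (N := (pCoreOf 2 K).subgroupOf K) (⟨k, hk⟩ : K)).1 hn'.symm
  · right; left
    rw [zpow_one] at hn'
    exact (QuotientGroup.eq_one_iff (N := (pCoreOf 2 K).subgroupOf K) ((⟨y, hy⟩ : K)⁻¹ * ⟨k, hk⟩)).1
      (by show q _ = 1; rw [map_mul, map_inv, ← hn', inv_mul_cancel])
  · right; right
    refine (QuotientGroup.eq_one_iff (N := (pCoreOf 2 K).subgroupOf K) ((⟨y, hy⟩ : K) * ⟨k, hk⟩)).1 ?_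
    show q _ = 1
    rw [map_mul, ← hn', ← zpow_one_add, show ((1 : ℤ) + 2) = ((3 : ℕ) : ℤ) by norm_num, zpow_natCast, h3]

/-- Some element of a largest elementary abelian subgroup inverts `K` modulo `O₂(K)`. -/
theorem exists_inverting (h : PreComp T K) {y : G} (hy : y ∈ K) (hyQ : y ∉ pCoreOf 2 K) :
    ∃ A, Transfer.IsMaxElemIn 2 T A ∧ ∃ a ∈ A, a * a = 1 ∧ y * (a * y * a) ∈ pCoreOf 2 K := by
  set Q := pCoreOf 2 K
  have hconj : ∀ a ∈ thompsonSubgroupOf 2 T, a * a = 1 → a * y * a ∈ K := by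
    intro a ha haa
    have := (mem_normalizer_iff.1 (h.le_normalizer_comm ha) y).1 hy
    rwa [inv_eq_of_mul_eq_one_right haa] at this
  by_contra hcon
  push Not at hcon
  let C : Subgroup G :=
    { carrier := {g | g ∈ normalizer (K : Set G) ∧ g * y * g⁻¹ * y⁻¹ ∈ Q}
      one_mem' := ⟨one_mem _, by simp [one_mem]⟩
      mul_mem' := fun {g k} hg hk => ⟨mul_mem hg.1 hk.1, by
        have hgQ : g ∈ normalizer (Q : Set G) := pCoreOf_normalizer 2 K hg.1
        have := mul_mem ((mem_normalizer_iff.1 hgQ _).1 hk.2) hg.2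
        convert this using 1
        group⟩
      inv_mem' := fun {g} hg => ⟨inv_mem hg.1, by
        have hgQ : g⁻¹ ∈ normalizer (Q : Set G) := inv_mem (pCoreOf_normalizer 2 K hg.1)
        have := inv_mem ((mem_normalizer_iff.1 hgQ _).1 hg.2)
        convert this using 1
        group⟩ }
  have hJC : thompsonSubgroupOf 2 T ≤ C := by
    rw [Transfer.thompsonSubgroupOf_eq T]
    refine sSup_le fun A hA a ha => ⟨h.le_normalizer_comm (maxElem_of_sup hA ha), ?_⟩
    have haa : a * a = 1 := by simpa [sq] using hA.2.1.2 a ha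
    rw [inv_eq_of_mul_eq_one_right haa]
    have haJ := maxElem_of_sup hA ha
    rcases h.cases_mem hy hyQ (hconj a haJ haa) with h1 | h1 | h1
    · exfalso
      apply hyQ
      have := (mem_normalizer_iff.1 (h.J_le_normalizer_Q haJ) _).1 h1
      rw [inv_eq_of_mul_eq_one_right haa, ← mul_assoc, ← mul_assoc, haa, one_mul, mul_assoc, haa,
        mul_one] at this
      exact this
    · have := (mem_normalizer_iff.1 (Q_normal K hy) _).1 h1
      rw [mul_inv_cancel_left] at this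
      exact this
    · exact absurd h1 (hcon A hA a ha haa)
  have hK : ⁅K, thompsonSubgroupOf 2 T⁆ ≤ Q := by
    rw [commutator_le]
    intro k hk j hj
    obtain ⟨hjN, hjy⟩ := hJC hj
    have hjQ : j ∈ normalizer (Q : Set G) := pCoreOf_normalizer 2 K hjN
    have hj' : ∀ {m : G}, m ∈ Q → j * m * j⁻¹ ∈ Q := fun hm => (mem_normalizer_iff.1 hjQ _).1 hm
    have hk' : ∀ {m : G}, m ∈ Q → k * m * k⁻¹ ∈ Q :=
      fun hm => (mem_normalizer_iff.1 (Q_normal K hk) _).1 hm
    have key : j * k * j⁻¹ * k⁻¹ ∈ Q := by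
      rcases h.cases_mem hy hyQ hk with h1 | h1 | h1
      · exact mul_mem (hj' h1) (inv_mem h1)
      · have e : j * k * j⁻¹ * k⁻¹ =
            (j * y * j⁻¹ * y⁻¹) * (y * ((j * (y⁻¹ * k) * j⁻¹) * (y⁻¹ * k)⁻¹) * y⁻¹) := by group
        rw [e]
        exact mul_mem hjy ((mem_normalizer_iff.1 (Q_normal K hy) _).1 (mul_mem (hj' h1) (inv_mem h1)))
      · have e : j * k * j⁻¹ * k⁻¹ =
            y⁻¹ * ((j * y * j⁻¹ * y⁻¹)⁻¹ * ((j * (y * k) * j⁻¹) * (y * k)⁻¹)) * y⁻¹⁻¹ := by group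
        rw [e]
        exact (mem_normalizer_iff.1 (Q_normal K (K.inv_mem hy)) _).1
          (mul_mem (inv_mem hjy) (mul_mem (hj' h1) (inv_mem h1)))
    have e : ⁅k, j⁆ = (j * k * j⁻¹ * k⁻¹)⁻¹ := by rw [commutatorElement_def]; group
    rw [e]
    exact inv_mem key
  rw [h.comm] at hK
  have := h.idx
  rw [relIndex_eq_one.2 hK] at this
  omega

end PreComp

omit [Finite G] in
theorem omegaCenterOf_eq (P : Subgroup G) : omegaCenterOf P = ClassK.omegaCenterTwo P :=
  ClassK.omegaOne_center_eq P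

theorem elemAb_omegaCenterOf (P : Subgroup G) : IsElementaryAbelian 2 (omegaCenterOf P) := by
  rw [omegaCenterOf_eq]
  refine ⟨⟨⟨fun a b => Subtype.ext (a.2.2.1 b b.2.1).eq⟩⟩, fun a ha => by rw [sq]; exact ha.2.2⟩

omit [Finite G] in
theorem mem_omegaCenterOf {P : Subgroup G} {x : G} :
    x ∈ omegaCenterOf P ↔ x ∈ P ∧ (∀ a ∈ P, x * a = a * x) ∧ x * x = 1 := by
  rw [omegaCenterOf_eq]
  exact Iff.rfl

theorem normalizer_le_normalizer_omegaCenterOf (P : Subgroup G) :
    normalizer (P : Set G) ≤ normalizer (omegaCenterOf P : Set G) := by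
  rw [omegaCenterOf_eq]
  exact ClassK.normalizer_le_normalizer_omegaCenterTwo P

namespace PreComp

variable {T K : Subgroup G}

theorem le_normalizer_omega (h : PreComp T K) :
    K ⊔ thompsonSubgroupOf 2 T ≤ normalizer (omegaCenterOf (pCoreOf 2 K) : Set G) :=
  sup_le ((Q_normal K).trans (normalizer_le_normalizer_omegaCenterOf _))
    (h.J_le_normalizer_Q.trans (normalizer_le_normalizer_omegaCenterOf _))

omit [Finite G] in
theorem wOf_le_omega (h : K ≤ normalizer (omegaCenterOf (pCoreOf 2 K) : Set G)) :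
    wOf K ≤ omegaCenterOf (pCoreOf 2 K) := le_normalizer_iff_commutator_le_left.1 h

/-- The structure of `W_K`. -/
theorem wOf_spec (h : PreComp T K) (hne : wOf K ≠ ⊥) {y : G} (hy : y ∈ K)
    (hyo : Odd (orderOf y)) (hyQ : y ∉ pCoreOf 2 K) :
    Nat.card (wOf K) = 4 ∧
      (∀ w ∈ wOf K, ∃ u ∈ omegaCenterOf (pCoreOf 2 K), y * u * y⁻¹ * u⁻¹ = w) ∧
      (∀ w ∈ wOf K, y * w = w * y → w = 1) ∧
      ∀ A, Transfer.IsMaxElemIn 2 T A → ∀ a ∈ A, y * (a * y * a) ∈ pCoreOf 2 K →
        ∃ w ∈ wOf K, a * w ≠ w * a := by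
  classical
  set Q := pCoreOf 2 K with hQ
  set V := omegaCenterOf Q with hV
  have hVe : IsElementaryAbelian 2 V := elemAb_omegaCenterOf Q
  haveI := hVe.1
  have hN := h.le_normalizer_omega
  have hyN : y ∈ normalizer (V : Set G) := hN (mem_sup_left hy)
  set ρ := V.normalizerMonoidHom
  set φ : MulAut V := ρ ⟨y, hyN⟩ with hφ
  have hQtriv : ∀ g : normalizer (V : Set G), (g : G) ∈ Q → ρ g = 1 := by
    intro g hg
    refine MulEquiv.ext fun u => Subtype.ext ?_
    rw [FF.normalizerHom_apply]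
    rw [← (mem_omegaCenterOf.1 u.2).2.1 g hg, mul_inv_cancel_right]
    rfl
  have hKimg : ∀ k : normalizer (V : Set G), (k : G) ∈ K → ρ k = 1 ∨ ρ k = φ ∨ ρ k = φ⁻¹ := by
    intro k hk
    rcases h.cases_mem hy hyQ hk with h1 | h1 | h1
    · exact Or.inl (hQtriv k h1)
    · refine Or.inr (Or.inl ?_)
      have := hQtriv ((⟨y, hyN⟩ : normalizer (V : Set G))⁻¹ * k) h1
      rw [map_mul, map_inv, inv_mul_eq_one] at this
      exact this.symm
    · refine Or.inr (Or.inr ?_)
      have := hQtriv ((⟨y, hyN⟩ : normalizer (V : Set G)) * k) h1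
      rw [map_mul] at this
      exact eq_inv_of_mul_eq_one_right this
  have hWle : wOf K = (FF.cm φ).range.map V.subtype := by
    refine le_antisymm (commutator_le.2 fun u hu k hk => ?_) ?_
    · have hkN : k ∈ normalizer (V : Set G) := hN (mem_sup_left hk)
      have e : ⁅u, k⁆ = ((FF.cm (ρ ⟨k, hkN⟩) ⟨u, hu⟩ : V) : G)⁻¹ := by
        rw [FF.cm_apply, div_eq_mul_inv, coe_mul, coe_inv, FF.normalizerHom_apply,
          commutatorElement_def]
        simp only [mul_inv_rev, inv_inv, mul_assoc]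
      rw [e]
      refine inv_mem (mem_map.2 ⟨FF.cm (ρ ⟨k, hkN⟩) ⟨u, hu⟩, ?_, rfl⟩)
      rcases hKimg ⟨k, hkN⟩ hk with e | e | e <;> rw [e]
      · rw [show FF.cm (1 : MulAut V) ⟨u, hu⟩ = 1 from div_self' _]
        exact one_mem _
      · exact ⟨_, rfl⟩
      · exact FF.cm_range_inv φ ▸ ⟨_, rfl⟩
    · rintro _ ⟨_, ⟨u, rfl⟩, rfl⟩
      have e : ((FF.cm φ u : V) : G) = (⁅(u : G), y⁆)⁻¹ := by
        rw [FF.cm_apply, div_eq_mul_inv, coe_mul, coe_inv, hφ, FF.normalizerHom_apply,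
          commutatorElement_def]
        simp only [mul_inv_rev, inv_inv, mul_assoc]
      show ((FF.cm φ u : V) : G) ∈ wOf K
      rw [e]
      exact inv_mem (commutator_mem_commutator u.2 hy)
  have hφo : Odd (orderOf φ) := by
    refine hyo.of_dvd_nat ?_
    rw [show orderOf y = orderOf (⟨y, hyN⟩ : normalizer (V : Set G)) from
      (orderOf_mk y hyN).symm, hφ]
    exact orderOf_map_dvd ρ _
  have hφ1 : φ ≠ 1 := by
    intro h1
    apply hne
    rw [hWle, h1]
    have : (FF.cm (1 : MulAut V)).range = ⊥ := (eq_bot_iff_forall _).2 (by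
      rintro x ⟨u, rfl⟩; exact div_self' u)
    rw [this, Subgroup.map_bot]
  -- for a maximal elementary abelian subgroup with an inverting element
  have hpiece : ∀ A, Transfer.IsMaxElemIn 2 T A → ∀ a ∈ A, y * (a * y * a) ∈ Q →
      FF.IsPiece φ ∧ ∃ v ∈ (FF.cm φ).range, ∃ haN : a ∈ normalizer (V : Set G), ρ ⟨a, haN⟩ v ≠ v := by
    intro A hA a ha hinv
    have hAJ := maxElem_of_sup hA
    have hAN : A ≤ normalizer (V : Set G) := fun b hb => hN (mem_sup_right (hAJ hb))
    have hAimg : ∀ b ∈ FF.imgAut V A, b * φ * b = φ ∨ b * φ * b = φ⁻¹ := by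
      intro b hb
      obtain ⟨g, hg, rfl⟩ := FF.mem_imgAut.1 hb
      have hgg : g * g = 1 := Subtype.ext (by simpa [sq] using hA.2.1.2 (g : G) hg)
      have hgK : (g : G) * y * (g : G) ∈ K := by
        have := (mem_normalizer_iff.1 (h.le_normalizer_comm (hAJ hg)) y).1 hy
        rwa [inv_eq_of_mul_eq_one_right (congrArg Subtype.val hgg)] at this
      have e : ρ g * φ * ρ g = ρ (g * ⟨y, hyN⟩ * g) := by rw [map_mul, map_mul, hφ]
      rw [e]
      rcases hKimg (g * ⟨y, hyN⟩ * g) hgK with h1 | h1 | h1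
      · exfalso
        apply hφ1
        have h2 : ρ g * ρ g = 1 := by rw [← map_mul, hgg, map_one]
        rw [← e] at h1
        calc φ = (ρ g * ρ g) * φ * (ρ g * ρ g) := by rw [h2, one_mul, mul_one]
          _ = ρ g * (ρ g * φ * ρ g) * ρ g := by simp only [mul_assoc]
          _ = 1 := by rw [h1, mul_one, h2]
      · exact Or.inl h1
      · exact Or.inr h1
    have hH : FF.Hyp (FF.imgAut V A) (zpowers φ) := by
      refine FF.hyp_of_maxElem (h.maxElem_QJ hA)
        (le_sup_of_le_left fun v hv => (mem_omegaCenterOf.1 hv).1) hVe hAN ?_ ?_ ?_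
      · intro f hf
        obtain ⟨n, rfl⟩ := mem_zpowers_iff.1 hf
        exact hφo.of_dvd_nat (orderOf_dvd_of_mem_zpowers hf)
      · intro f hf g hg _ _
        obtain ⟨n, rfl⟩ := mem_zpowers_iff.1 hf
        obtain ⟨m, rfl⟩ := mem_zpowers_iff.1 hg
        exact ((Commute.refl φ).zpow_zpow n m).eq
      · intro b hb
        refine LocalEvenB.mem_normalizer_of_conj_mem fun f hf => ?_
        obtain ⟨n, rfl⟩ := mem_zpowers_iff.1 hf
        rw [← conj_zpow]
        refine zpow_mem ?_ n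
        have hbb : b * b = 1 := by
          obtain ⟨g, hg, rfl⟩ := FF.mem_imgAut.1 hb
          rw [← map_mul, show g * g = 1 from Subtype.ext (by simpa [sq] using hA.2.1.2 (g : G) hg),
            map_one]
        rw [inv_eq_of_mul_eq_one_right hbb]
        rcases hAimg b hb with e | e <;> rw [e]
        exacts [mem_zpowers φ, inv_mem (mem_zpowers φ)]
    set B : Subgroup (MulAut V) := FF.imgAut V A ⊓ centralizer ({φ} : Set (MulAut V)) with hB
    set α := ρ ⟨a, hAN ha⟩ with hα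
    have hαA : α ∈ FF.imgAut V A := FF.mem_imgAut.2 ⟨⟨a, hAN ha⟩, ha, rfl⟩
    have hαinv : α * φ * α = φ⁻¹ := by
      have := hQtriv ((⟨y, hyN⟩ : normalizer (V : Set G)) *
          (⟨a, hAN ha⟩ * ⟨y, hyN⟩ * ⟨a, hAN ha⟩)) hinv
      rw [map_mul, map_mul, map_mul] at this
      exact eq_inv_of_mul_eq_one_right this
    have hφne : φ ≠ φ⁻¹ := fun h' => hφ1 (by
      have h2 : orderOf φ ∣ 2 := orderOf_dvd_of_pow_eq_one (by rw [sq]; exact mul_eq_one_iff_eq_inv.2 h')
      rcases (Nat.dvd_prime Nat.prime_two).1 h2 with h3 | h3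
      · exact orderOf_eq_one_iff.1 h3
      · exact absurd (h3 ▸ hφo) (by decide))
    have hαB : α ∉ B := by
      intro hb
      apply hφne
      rw [← hαinv, mem_centralizer_singleton_iff.1 hb.2, mul_assoc, hH.hA2 α hαA, mul_one]
    have hBi : B.relIndex (FF.imgAut V A) ≤ 2 := by
      refine le_of_eq ?_
      rw [Subgroup.relIndex, index_eq_two_iff]
      refine ⟨⟨α, hαA⟩, fun b => ?_⟩
      have hcomm : ∀ c ∈ FF.imgAut V A, c * φ * c = φ → φ * c = c * φ := fun c hc he => by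
        conv_lhs => rw [← he]
        rw [mul_assoc, hH.hA2 c hc, mul_one]
      rcases hAimg b b.2 with e | e
      · refine Or.inr ⟨⟨b.2, mem_centralizer_singleton_iff.2 (hcomm b b.2 e).symm⟩, fun hc => hαB ?_⟩
        have hbB : (b : MulAut V) ∈ B :=
          ⟨b.2, mem_centralizer_singleton_iff.2 (hcomm b b.2 e).symm⟩
        have := B.mul_mem (B.inv_mem hbB) (show (b : MulAut V) * α ∈ B from hc)
        rwa [inv_mul_cancel_left] at this
      · refine Or.inl ⟨⟨mul_mem b.2 hαA, mem_centralizer_singleton_iff.2 (hcomm _ (mul_mem b.2 hαA) ?_).symm⟩, fun hb => ?_⟩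
        · calc (b : MulAut V) * α * φ * ((b : MulAut V) * α)
              = (b : MulAut V) * (α * φ * α) * b := by
                conv_lhs => arg 2; rw [hH.hAc b b.2 α hαA]
                simp only [mul_assoc]
            _ = ((b : MulAut V) * φ * b)⁻¹ := by
                rw [hαinv, mul_inv_rev, mul_inv_rev, inv_eq_of_mul_eq_one_right (hH.hA2 b b.2),
                  mul_assoc]
            _ = φ := by rw [e, inv_inv]
        · apply hφne
          rw [← e, mem_centralizer_singleton_iff.1 (show (b : MulAut V) ∈ B from hb).2, mul_assoc,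
            hH.hA2 b b.2, mul_one]
    obtain ⟨hp, hfix⟩ := FF.piece_step hH.h2 hH.hA2 hH.hAc hH.hbest inf_le_left hBi hαA hαB hφo hφ1
      (fun b hb => (mem_centralizer_singleton_iff.1 hb.2).symm) hαinv
    refine ⟨hp, ?_⟩
    obtain ⟨v, hv, hv1⟩ : ∃ v ∈ (FF.cm φ).range, v ≠ 1 := by
      by_contra hc
      push Not at hc
      have := hp.2
      rw [(eq_bot_iff_forall _).2 hc, card_bot] at this
      omega
    by_contra hcon
    push Not at hcon
    have hfixall : ∀ u ∈ (FF.cm φ).range, α u = u := fun u hu => hcon u hu (hAN ha)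
    have h1 : (α * φ * α) v = φ v := by
      rw [MulAut.mul_apply, MulAut.mul_apply, hfixall v hv,
        hfixall _ (FF.cm_range_comm rfl hv)]
    rw [hαinv] at h1
    refine hv1 (FF.eq_one_of_cm_fixed hH.h2 hφo hv (FF.fix_of_sq hφo ?_))
    rw [MulAut.mul_apply, ← h1, MulAut.apply_inv_self]
  obtain ⟨A, hA, a, ha, -, hinv⟩ := h.exists_inverting hy hyQ
  have hp := (hpiece A hA a ha hinv).1
  refine ⟨?_, ?_, ?_, ?_⟩
  · rw [hWle, card_map_of_injective V.subtype_injective, hp.2]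
  · intro w hw
    rw [hWle] at hw
    obtain ⟨_, ⟨u, rfl⟩, rfl⟩ := hw
    refine ⟨u, u.2, ?_⟩
    show y * u * y⁻¹ * (u : G)⁻¹ = ((FF.cm φ u : V) : G)
    rw [FF.cm_apply, div_eq_mul_inv, coe_mul, coe_inv, hφ, FF.normalizerHom_apply]
  · intro w hw hc
    rw [hWle] at hw
    obtain ⟨v, hv, rfl⟩ := hw
    have : φ v = v := Subtype.ext (by
      rw [hφ, FF.normalizerHom_apply]
      exact mul_inv_eq_iff_eq_mul.2 hc)
    rw [FF.eq_one_of_cm_fixed (FF.mul_self_eq_one_of_elemAb hVe) hφo hv this]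
    rfl
  · intro A hA a ha hinv
    obtain ⟨-, v, hv, haN, hne'⟩ := hpiece A hA a ha hinv
    refine ⟨(v : G), hWle ▸ mem_map_of_mem _ hv, fun hc => hne' (Subtype.ext ?_)⟩
    rw [FF.normalizerHom_apply]
    exact mul_inv_eq_iff_eq_mul.2 hc

end PreComp

/-- A subgroup normalised by `KJ(T)` and normalising `J(T)` normalises `K`. -/
theorem le_normalizer_of_normalized {T K : Subgroup G} (h : PreComp T K) {Q : Subgroup G}
    (hQ1 : K ⊔ thompsonSubgroupOf 2 T ≤ normalizer (Q : Set G))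
    (hQ2 : Q ≤ normalizer (thompsonSubgroupOf 2 T : Set G)) :
    Q ≤ normalizer (K : Set G) := by
  haveI : Fact (Nat.Prime 2) := ⟨Nat.prime_two⟩
  set J := thompsonSubgroupOf 2 T
  set X := K ⊔ J
  -- `X` is generated by conjugates of `J` under `K`
  let Z : Subgroup G := ⨆ k : K, J.map (MulAut.conj (k : G)).toMonoidHom
  have hJZ : J ≤ Z := le_iSup_of_le (1 : K) (by rw [OneMemClass.coe_one, LocalEvenB.conjMap_one])
  have hKZ : K ≤ Z := by
    conv_lhs => rw [← h.comm]
    rw [commutator_le]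
    intro k hk j hj
    rw [commutatorElement_def]
    exact mul_mem ((le_iSup (fun k : K => J.map (MulAut.conj (k : G)).toMonoidHom) ⟨k, hk⟩)
      ⟨j, hj, rfl⟩) (inv_mem (hJZ hj))
  have hZX : Z ≤ X := iSup_le fun k => by
    rintro _ ⟨j, hj, rfl⟩
    exact mul_mem (mul_mem (mem_sup_left k.2) (mem_sup_right hj)) (inv_mem (mem_sup_left k.2))
  have hXodd : oddSub X ≤ K := by
    refine (closure_le K).2 fun g hg => ?_
    have h1 : (g : G) ∈ ((K ⊔ J : Subgroup G) : Set G) := hg.1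
    rw [coe_mul_of_right_le_normalizer_left K J h.le_normalizer_comm, Set.mem_mul] at h1
    haveI : (K.subgroupOf X).Normal := normal_subgroupOf_of_le_normalizer
      (sup_le le_normalizer h.le_normalizer_comm)
    obtain ⟨n, hn⟩ := IsPGroup.iff_card.1 h.hT
    have hd : (K.subgroupOf X).index ∣ 2 ^ n := by
      have h2 : (K.subgroupOf X).relIndex (J.subgroupOf X ⊔ K.subgroupOf X) =
          (K.subgroupOf X).relIndex (J.subgroupOf X) := relIndex_sup_right _ _
      rw [← subgroupOf_sup le_sup_right le_sup_left, sup_comm J K, subgroupOf_self,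
        relIndex_top_right] at h2
      rw [h2, ← hn, ← Nat.card_congr (subgroupOfEquivOfLe (le_sup_right : J ≤ X)).toEquiv]
      exact relIndex_dvd_card _ _
    obtain ⟨m, -, hm⟩ := (Nat.dvd_prime_pow Nat.prime_two).1 hd
    have h3 := (K.subgroupOf X).pow_index_mem ⟨g, hg.1⟩
    rw [hm] at h3
    exact mem_of_odd_pow hg.2 h3
  have hoX : oddSub X = K := by
    refine le_antisymm hXodd ?_
    conv_lhs => rw [← h.odd]
    exact (closure_le _).2 fun g hg => mem_oddSub (mem_sup_left hg.1) hg.2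
  intro q hq
  refine hoX ▸ normalizer_le_normalizer_oddSub X ?_
  refine LocalEvenB.mem_normalizer_of_conj_mem fun x hx => ?_
  have hle : X ≤ X.comap (MulAut.conj q).toMonoidHom := by
    refine le_trans (sup_le hKZ hJZ) (iSup_le fun k => ?_)
    rintro _ ⟨j, hj, rfl⟩
    show q * ((k : G) * j * (k : G)⁻¹) * q⁻¹ ∈ X
    have hq' : (k : G)⁻¹ * q * k ∈ Q := by
      have := (mem_normalizer_iff.1 (hQ1 (mem_sup_left (K.inv_mem k.2))) q).1 hq
      rwa [inv_inv] at this
    have hmem := (mem_normalizer_iff.1 (hQ2 hq') j).1 hj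
    have e : q * ((k : G) * j * (k : G)⁻¹) * q⁻¹ =
        (k : G) * (((k : G)⁻¹ * q * k) * j * ((k : G)⁻¹ * q * k)⁻¹) * (k : G)⁻¹ := by group
    rw [e]
    exact hZX ((le_iSup (fun k : K => J.map (MulAut.conj (k : G)).toMonoidHom) k) ⟨_, hmem, rfl⟩)
  exact hle hx

end Cfsg.Agent.LocalEvenB.ZN
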