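import Cfsg.Agent.Lib.LocalEvenB.ZNCenter
import Cfsg.Agent.Lib.LocalEvenB.ZNSymFour

/-!
A maximal 2-local subgroup with a single component.
-/

set_option autoImplicit false

namespace Cfsg.Agent.LocalEvenB.ZN

open Subgroup Cfsg Agent.LocalEvenA
open scoped IsMulCommutative commutatorElement Pointwise

variable {G : Type*} [Group G] [Finite G]

/-- A component normalised by the Sylow subgroup of its overgroup, which centralises `Z₀`. -/
structure CentComp (T K : Subgroup G) : Prop where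
  hT : IsPGroup 2 T
  hK : IsJComponent T K
  adm : Adm T K
  hLT : lmax T K ∈ jOvergroups T
  hTK : T ≤ normalizer (K : Set G)
  hcent : ∀ {t : G}, t ∈ T → ∀ {z : G}, z ∈ zJ T → t * z = z * t

namespace CentComp

variable {T K : Subgroup G}

theorem pre (h : CentComp T K) : PreComp T K := preComp_of_isJComponent h.hT h.hK

theorem mem_compSet (h : CentComp T K) (hG : ZNHyp G) : K ∈ compSet T (lmax T K) :=
  ⟨h.hK, le_sup_left.trans (h.adm.sup_le_lmax hG h.hT h.hK)⟩

theorem T_le_L (h : CentComp T K) : T ≤ lmax T K := h.hLT.1.1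

theorem Q_le_T (h : CentComp T K) (hG : ZNHyp G) : pCoreOf 2 K ≤ T :=
  (ClassK.pCoreOf_le_of_subnormal (h.mem_compSet hG).2
    (comp_isSubnormal hG h.hT h.hLT (h.mem_compSet hG))).trans (pCoreOf_le_sylowIn h.hLT.1)

theorem W_le_T (h : CentComp T K) (hG : ZNHyp G) : wOf K ≤ T := h.pre.wOf_le_Q.trans (h.Q_le_T hG)

/-- The side of the amalgam given by the component. -/
theorem side (h : CentComp T K) (hG : ZNHyp G) : Side T (K ⊔ T) (wOf K) := by
  haveI : Fact (Nat.Prime 2) := ⟨Nat.prime_two⟩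
  have hP := h.pre
  have hne := wOf_ne_bot h.hK
  have hTK := h.hTK
  set P := K ⊔ T with hPdef
  set W := wOf K with hW
  have hPK : P ≤ normalizer (K : Set G) := sup_le le_normalizer hTK
  have hPW : P ≤ normalizer (W : Set G) := hPK.trans (normalizer_le_normalizer_wOf K)
  have hinf : K ⊓ T = pCoreOf 2 K := hP.eq_Q_of_pGroup (h.hT.to_le inf_le_right)
    (le_inf (pCoreOf_le' 2 K) (h.Q_le_T hG)) inf_le_left
  have hidx : T.relIndex P = 3 := by
    have h1 : K.relIndex P = (pCoreOf 2 K).relIndex T := by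
      haveI : (K.subgroupOf P).Normal := normal_subgroupOf_of_le_normalizer hPK
      have h4 := relIndex_sup_left (T.subgroupOf P) (K.subgroupOf P)
      rw [← subgroupOf_sup le_sup_left le_sup_right, subgroupOf_self, relIndex_top_right,
        relIndex_subgroupOf le_sup_right, ← inf_relIndex_right, hinf] at h4
      exact h4
    have a1 := relIndex_mul_relIndex (pCoreOf 2 K) K P (pCoreOf_le' 2 K) le_sup_left
    have a2 := relIndex_mul_relIndex (pCoreOf 2 K) T P (h.Q_le_T hG) le_sup_right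
    rw [hP.idx, h1] at a1
    have hpos : 0 < (pCoreOf 2 K).relIndex T :=
      Nat.pos_of_ne_zero Subgroup.index_ne_zero_of_finite
    refine Nat.eq_of_mul_eq_mul_left hpos ?_
    rw [a2, ← a1, Nat.mul_comm]
  have hWQ : W ≤ pCoreOf 2 K := hP.wOf_le_Q
  have hQP : pCoreOf 2 K ≤ pCoreOf 2 P := le_pCoreOf ((pCoreOf_le' 2 K).trans le_sup_left)
    (hPK.trans (pCoreOf_normalizer 2 K)) (pCoreOf_isPGroup' 2 K)
  have hRT : pCoreOf 2 P ≤ T :=
    pCoreOf_le_sylowIn ⟨le_sup_right, h.hT, by rw [hidx]; decide⟩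
  obtain ⟨y, hy, hyo, hyQ⟩ := hP.exists_gen
  have hspec := hP.wOf_spec hne hy hyo hyQ
  set C := P ⊓ centralizer (W : Set G) with hC
  have hPC : P ≤ normalizer (C : Set G) := fun g hg =>
    LocalEvenB.mem_normalizer_of_conj_mem fun c hc =>
      ⟨P.mul_mem (P.mul_mem hg hc.1) (P.inv_mem hg), mem_centralizer_iff.2 fun u hu => by
        have hu' : g⁻¹ * u * g ∈ W := by
          have := (mem_normalizer_iff.1 (hPW (P.inv_mem hg)) u).1 hu
          rwa [inv_inv] at this
        have := mem_centralizer_iff.1 hc.2 _ hu'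
        calc u * (g * c * g⁻¹) = g * (g⁻¹ * u * g * c) * g⁻¹ := by group
          _ = g * (c * (g⁻¹ * u * g)) * g⁻¹ := by rw [this]
          _ = g * c * g⁻¹ * u := by group⟩
  have hyC : y ∉ centralizer (W : Set G) := fun hh => hne ((eq_bot_iff_forall _).2 fun w hw =>
    hspec.2.2.1 w hw (mem_centralizer_iff.1 hh w hw).symm)
  have hCT : C ≤ T := by
    by_contra hCT
    have hH : C ⊔ T = P := by
      have hle : C ⊔ T ≤ P := sup_le inf_le_left le_sup_right
      have h1 := relIndex_mul_relIndex T (C ⊔ T) P le_sup_right hle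
      rw [hidx] at h1
      rcases (Nat.dvd_prime Nat.prime_three).1 (Dvd.intro _ h1) with h2 | h2
      · exact absurd (le_sup_left.trans (relIndex_eq_one.1 h2)) hCT
      · rw [h2] at h1
        exact le_antisymm hle (relIndex_eq_one.1 (by omega))
    obtain ⟨c, hc, t, ht, he⟩ := (Basics.mem_sup_of_le_normalizer
      ((le_sup_right : T ≤ P).trans hPC)).1 (hH.ge (mem_sup_left hy))
    have hpow : ∀ m : ℕ, y ^ m * (t ^ m)⁻¹ ∈ C := by
      intro m
      induction m with
      | zero => simp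
      | succ m ih =>
        rw [show y ^ (m + 1) * (t ^ (m + 1))⁻¹ =
            (y ^ m * (y * t⁻¹) * (y ^ m)⁻¹) * (y ^ m * (t ^ m)⁻¹) by
          rw [pow_succ, pow_succ]; group]
        refine C.mul_mem ((mem_normalizer_iff.1 (hPC (P.pow_mem (mem_sup_left hy) m)) _).1 ?_) ih
        rw [he, mul_inv_cancel_right]; exact hc
    obtain ⟨n, hn⟩ := h.hT ⟨t, ht⟩
    have hm := hpow (2 ^ n)
    rw [show t ^ 2 ^ n = 1 by simpa using congrArg Subtype.val hn, inv_one, mul_one] at hm
    exact hyC (mem_of_odd_pow hyo hm).2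
  obtain ⟨w, hw1, hwW, hwZ, -, -, -, -, -⟩ := exists_wgen h.hT h.hK
  have hker : pCoreOf 2 P = C := by
    refine le_antisymm (le_inf (pCoreOf_le' 2 P) ?_)
      (le_pCoreOf inf_le_left hPC (h.hT.to_le hCT))
    intro r hr
    -- `R` fixes `w` and its conjugates
    have hfix : ∀ g ∈ P, r * (g * w * g⁻¹) = (g * w * g⁻¹) * r := by
      intro g hg
      have hr' : g⁻¹ * r * g ∈ pCoreOf 2 P := by
        have := (mem_normalizer_iff.1 (le_normalizer_pCoreOf 2 P (P.inv_mem hg)) r).1 hr
        rwa [inv_inv] at this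
      have := h.hcent (hRT hr') hwZ
      calc r * (g * w * g⁻¹) = g * ((g⁻¹ * r * g) * w) * g⁻¹ := by group
        _ = g * (w * (g⁻¹ * r * g)) * g⁻¹ := by rw [this]
        _ = g * w * g⁻¹ * r := by group
    have hyw : y * w * y⁻¹ ≠ w := fun e => hw1 (hspec.2.2.1 w hwW (mul_inv_eq_iff_eq_mul.1 e))
    set v := y * w * y⁻¹ with hv
    have hvW : v ∈ W :=
      (mem_normalizer_iff.1 (hPW (mem_sup_left hy)) w).1 hwW
    have hr1 := hfix 1 P.one_mem
    rw [one_mul, inv_one, mul_one] at hr1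
    refine mem_centralizer_iff.2 fun x hx => ?_
    obtain ⟨i, j, rfl⟩ : ∃ i j : Bool, x = (if i then w else 1) * (if j then v else 1) := by
      classical
      by_contra hcon
      push Not at hcon
      have e1 := hcon false false
      have e2 := hcon true false
      have e3 := hcon false true
      have e4 := hcon true true
      simp only [Bool.false_eq_true, if_false, if_true, one_mul, mul_one] at e1 e2 e3 e4
      have hv1 : v ≠ 1 := fun e => hw1 (conj_eq_one_iff.1 e)
      have hwv1 : w * v ≠ 1 := fun e => hyw (by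
        rw [eq_inv_of_mul_eq_one_right e, inv_eq_of_mul_eq_one_right (hP.wOf_sq hwW)])
      have hS : ({1, w, v, w * v, x} : Finset G).card = 5 := by
        rw [Finset.card_insert_of_notMem (by simp [Ne.symm hw1, hv1.symm, hwv1.symm, e1.symm]),
          Finset.card_insert_of_notMem (by simp [Ne.symm hyw, hv1, e2.symm]),
          Finset.card_insert_of_notMem (by simp [hw1, e3.symm]),
          Finset.card_insert_of_notMem (by simp [e4.symm]),
          Finset.card_singleton]
      have hsub : (({1, w, v, w * v, x} : Finset G) : Set G) ⊆ (W : Set G) := by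
        intro u hu
        simp only [Finset.coe_insert, Finset.coe_singleton, Set.mem_insert_iff,
          Set.mem_singleton_iff] at hu
        rcases hu with rfl | rfl | rfl | rfl | rfl
        exacts [one_mem _, hwW, hvW, mul_mem hwW hvW, hx]
      have h9 := Set.ncard_le_ncard hsub (Set.toFinite _)
      rw [Set.ncard_coe_finset, hS, ← Nat.card_coe_set_eq, SetLike.coe_sort_coe, hspec.1] at h9
      omega
    have hrv : Commute r v := hfix y (mem_sup_left hy)
    refine (Commute.mul_right ?_ ?_).symm.eq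
    · cases i
      · exact Commute.one_right r
      · exact hr1
    · cases j
      · exact Commute.one_right r
      · exact hrv
  refine ⟨h.hT, le_sup_right, hidx, hspec.1, fun u hu => hP.wOf_sq hu, hWQ.trans hQP, hPW, hker, ?_⟩
  -- index two
  obtain ⟨A, hA, a, ha, w', hw', haw⟩ := hP.exists_mem_wOf_ne hne
  have haJ := maxElem_of_sup hA ha
  have haT : a ∈ T := Transfer.thompsonSubgroupOf_le T haJ
  obtain ⟨hvW, hv1, hvfix, hcen⟩ := hP.wOf_cases hspec.1 (by simpa [sq] using hA.2.1.2 a ha)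
    (hP.J_le_normalizer_wOf haJ) hw' haw
  have hwv : w = a * w' * a⁻¹ * w'⁻¹ :=
    (hvfix w hwW (h.hcent haT hwZ)).resolve_left hw1
  have haR : a ∉ pCoreOf 2 P := fun hh => haw
    (mem_centralizer_iff.1 (hker.le hh).2 w' hw').symm
  have hmemR : ∀ t ∈ T, t * w' = w' * t → t ∈ pCoreOf 2 P := fun t ht e => hker.ge
    ⟨mem_sup_right ht, hcen t e (hwv ▸ h.hcent ht hwZ)⟩
  rw [Subgroup.relIndex, index_eq_two_iff]
  refine ⟨⟨a, haT⟩, fun b => ?_⟩
  by_cases hb : (b : G) ∈ pCoreOf 2 P
  · refine Or.inr ⟨mem_subgroupOf.2 hb, fun h' => haR ?_⟩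
    have := (pCoreOf 2 P).mul_mem ((pCoreOf 2 P).inv_mem hb) (mem_subgroupOf.1 h')
    simpa using this
  refine Or.inl ⟨mem_subgroupOf.2 (hmemR _ (T.mul_mem b.2 haT) ?_),
    fun h' => hb (mem_subgroupOf.1 h')⟩
  -- both move `w'` to `w w'`
  have key : ∀ c ∈ T, c * w' ≠ w' * c → c * w' * c⁻¹ = w * w' := by
    intro c hc hne'
    have hcW : c * w' * c⁻¹ * w'⁻¹ ∈ W :=
      mul_mem ((mem_normalizer_iff.1 (hPW (mem_sup_right hc)) w').1 hw') (inv_mem hw')
    have hcw : c * w = w * c := h.hcent hc hwZ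
    by_contra hne2
    have h4 : c * w' * c⁻¹ ∈ W := (mem_normalizer_iff.1 (hPW (mem_sup_right hc)) w').1 hw'
    classical
    have hw'1 : w' ≠ 1 := fun e => haw (by rw [e, mul_one, one_mul])
    have hw'w : w' ≠ w := fun e => hne' (by rw [e]; exact hcw)
    have f1 : c * w' * c⁻¹ ≠ 1 := fun e => hw'1 (conj_eq_one_iff.1 e)
    have f2 : c * w' * c⁻¹ ≠ w' := fun e => hne' (mul_inv_eq_iff_eq_mul.1 e)
    have f3 : c * w' * c⁻¹ ≠ w := fun e => hw'w (by
      have h6 : c * w' * c⁻¹ = c * w * c⁻¹ := by rw [hcw, mul_inv_cancel_right]; exact e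
      simpa using h6)
    have f4 : w * w' ≠ 1 := fun e => hw'w (by
      rw [eq_inv_of_mul_eq_one_right e, inv_eq_of_mul_eq_one_right (hP.wOf_sq hwW)])
    have hS : ({1, w, w', w * w', c * w' * c⁻¹} : Finset G).card = 5 := by
      rw [Finset.card_insert_of_notMem (by simp [Ne.symm hw1, hw'1.symm, f4.symm, f1.symm]),
        Finset.card_insert_of_notMem (by simp [Ne.symm hw'w, hw'1, Ne.symm f3]),
        Finset.card_insert_of_notMem (by simp [hw1, Ne.symm f2]),
        Finset.card_insert_of_notMem (by simp [Ne.symm hne2]),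
        Finset.card_singleton]
    have hsub : (({1, w, w', w * w', c * w' * c⁻¹} : Finset G) : Set G) ⊆ (W : Set G) := by
      intro u hu
      simp only [Finset.coe_insert, Finset.coe_singleton, Set.mem_insert_iff,
        Set.mem_singleton_iff] at hu
      rcases hu with rfl | rfl | rfl | rfl | rfl
      exacts [one_mem _, hwW, hw', mul_mem hwW hw', h4]
    have h9 := Set.ncard_le_ncard hsub (Set.toFinite _)
    rw [Set.ncard_coe_finset, hS, ← Nat.card_coe_set_eq, SetLike.coe_sort_coe, hspec.1] at h9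
    omega
  have hbw : (b : G) * w' ≠ w' * b := fun e => hb (hmemR _ b.2 e)
  have hbc : (b : G) * w = w * b :=
    h.hcent b.2 hwZ
  refine mul_inv_eq_iff_eq_mul.1 ?_
  calc (b : G) * a * w' * ((b : G) * a)⁻¹ = (b : G) * (a * w' * a⁻¹) * (b : G)⁻¹ := by group
    _ = (b : G) * (w * w') * (b : G)⁻¹ := by rw [key a haT haw]
    _ = ((b : G) * w * (b : G)⁻¹) * ((b : G) * w' * (b : G)⁻¹) := by group
    _ = w * (w * w') := by rw [key b b.2 hbw, hbc, mul_inv_cancel_right]
    _ = w' := by rw [← mul_assoc, hP.wOf_sq hwW, one_mul]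

theorem pt_eq (h : CentComp T K) (hG : ZNHyp G) : pt T (wOf K) = zJ T ⊓ wOf K := by
  obtain ⟨w, hw1, hwW, hwZ, -, heq, -, -, -⟩ := exists_wgen h.hT h.hK
  symm
  refine eq_of_le_of_card_ge ?_ ?_
  · rintro x ⟨hxZ, hxW⟩
    exact ⟨hxW, mem_centralizer_iff.2 fun t ht =>
      h.hcent ht hxZ⟩
  · rw [(h.side hG).pt_card, heq, Nat.card_zpowers,
      orderOf_eq_prime (by rw [sq]; exact zJ_sq hwZ) hw1]

theorem P_le_L (h : CentComp T K) (hG : ZNHyp G) : K ⊔ T ≤ lmax T K :=
  sup_le (h.mem_compSet hG).2 h.T_le_L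

theorem core_L_le (h : CentComp T K) (hG : ZNHyp G) :
    pCoreOf 2 (lmax T K) ≤ pCoreOf 2 (K ⊔ T) :=
  le_pCoreOf ((pCoreOf_le_sylowIn h.hLT.1).trans le_sup_right)
    ((h.P_le_L hG).trans (le_normalizer_pCoreOf 2 _)) (pCoreOf_isPGroup' 2 _)

theorem centralizer_R_le (h : CentComp T K) (hG : ZNHyp G) :
    centralizer (pCoreOf 2 (K ⊔ T) : Set G) ≤ pCoreOf 2 (K ⊔ T) :=
  (centralizer_le (h.core_L_le hG)).trans (h.hLT.2.2.trans (h.core_L_le hG))

end CentComp

/-- A component is not contained in another maximal overgroup. -/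
theorem not_le_other (hG : ZNHyp G) {T K K' : Subgroup G} (h : CentComp T K) (h' : CentComp T K')
    (hne : lmax T K ≠ lmax T K') : ¬ K ≤ lmax T K' := fun hle =>
  hne ((h'.adm.isMaximal hG h'.hT h'.hK).2 _ (h.adm.isTwoLocal_lmax hG h.hT h.hK)
    (h.adm.local_le hG h.hT h.hK (h'.adm.isTwoLocal_lmax hG h'.hT h'.hK)
      (sup_le hle ((Transfer.thompsonSubgroupOf_le T).trans h'.T_le_L))))

/-- No nontrivial 2-group is normalised by two components with distinct maximal overgroups. -/
theorem not_both (hG : ZNHyp G) {T K K' : Subgroup G} (h : CentComp T K) (h' : CentComp T K')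
    (hne : lmax T K ≠ lmax T K') {N : Subgroup G} (hN : IsPGroup 2 N)
    (h1 : K ⊔ T ≤ normalizer (N : Set G)) (h2 : K' ⊔ T ≤ normalizer (N : Set G)) : N = ⊥ := by
  by_contra hN1
  have hl : IsTwoLocal (normalizer (N : Set G)) := ⟨N, hN, hN1, rfl⟩
  exact not_le_other hG h h' hne ((le_sup_left.trans h1).trans (h'.adm.local_le hG h'.hT h'.hK hl
    ((sup_le_sup_left (Transfer.thompsonSubgroupOf_le T) K').trans h2)))

/-- Two sides of distinct maximal overgroups. -/
theorem pair_of_good (hG : ZNHyp G) {T K K' : Subgroup G} (h : CentComp T K) (h' : CentComp T K')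
    (hne : lmax T K ≠ lmax T K') :
    Pair T (K ⊔ T) (K' ⊔ T) (wOf K) (wOf K') := by
  have hs := h.side hG
  refine ⟨hs, h'.side hG, ?_, fun N hN h1 h2 => not_both hG h h' hne (h.hT.to_le hN) h1 h2⟩
  by_contra hne'
  refine not_le_other hG h h' hne ?_
  have hle : ¬ (K ⊔ T) ⊓ (K' ⊔ T) ≤ T := fun hh =>
    hne' (le_antisymm hh (le_inf le_sup_right le_sup_right))
  have he := hs.eq_P_of_lt (le_inf le_sup_right le_sup_right) inf_le_left hle
  exact ((le_sup_left : K ≤ K ⊔ T).trans (he.ge.trans inf_le_right)).trans (h'.P_le_L hG)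

theorem pCoreOf_sup_eq_bot (hG : ZNHyp G) {T K K' : Subgroup G} (h : CentComp T K) (h' : CentComp T K')
    (hne : lmax T K ≠ lmax T K') : pCoreOf 2 ((K ⊔ T) ⊔ (K' ⊔ T)) = ⊥ :=
  not_both hG h h' hne (pCoreOf_isPGroup' 2 _)
    (le_sup_left.trans (le_normalizer_pCoreOf 2 _))
    (le_sup_right.trans (le_normalizer_pCoreOf 2 _))

/-- `T` is Sylow in the maximal overgroup of `K`, whose only component is `K`. -/
structure Good (T K : Subgroup G) : Prop where
  hT : IsPGroup 2 T
  hK : IsJComponent T K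
  adm : Adm T K
  hLT : lmax T K ∈ jOvergroups T
  single : ∀ K' ∈ compSet T (lmax T K), K' = K
  small : Nat.card (zone T K) ≤ 2

namespace Good

variable {T K : Subgroup G}

theorem pre (h : Good T K) : PreComp T K := preComp_of_isJComponent h.hT h.hK

theorem mem_compSet (h : Good T K) (hG : ZNHyp G) : K ∈ compSet T (lmax T K) :=
  ⟨h.hK, le_sup_left.trans (h.adm.sup_le_lmax hG h.hT h.hK)⟩

theorem sSup_compSet (h : Good T K) (hG : ZNHyp G) : sSup (compSet T (lmax T K)) = K :=
  le_antisymm (sSup_le fun K' hK' => (h.single K' hK').le) (le_sSup (h.mem_compSet hG))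

theorem le_K_sup (h : Good T K) (hG : ZNHyp G) :
    lmax T K ≤ K ⊔ (lmax T K ⊓ normalizer (thompsonSubgroupOf 2 T : Set G)) :=
  (le_comps_sup_normalizer hG h.hT h.hLT).trans_eq (by rw [h.sSup_compSet hG])

theorem L_le_normalizer (h : Good T K) (hG : ZNHyp G) : lmax T K ≤ normalizer (K : Set G) := by
  have := le_normalizer_comps hG h.hT h.hLT
  rwa [h.sSup_compSet hG] at this

theorem T_le_L (h : Good T K) : T ≤ lmax T K := h.hLT.1.1

theorem T_le_normJ (h : Good T K) :
    T ≤ normalizer (thompsonSubgroupOf 2 T : Set G) :=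
  le_normalizer.trans (Transfer.normalizer_le_normalizer_thompson T)

theorem T_le_normalizer (h : Good T K) (hG : ZNHyp G) : T ≤ normalizer (K : Set G) :=
  h.T_le_L.trans (h.L_le_normalizer hG)

theorem zone_cases (h : Good T K) {z z' : G} (hz : z ∈ zone T K) (hz' : z' ∈ zone T K)
    (hz1 : z ≠ 1) : z' = 1 ∨ z' = z := by
  have he : zpowers z = zone T K := eq_of_le_of_card_ge (zpowers_le.2 hz) (by
    rw [Nat.card_zpowers, orderOf_eq_prime (by rw [sq]; exact zJ_sq hz.1) hz1]
    exact h.small)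
  rw [← he] at hz'
  obtain ⟨i, rfl⟩ := mem_zpowers_iff.1 hz'
  rcases Int.even_or_odd i with ⟨j, rfl⟩ | ⟨j, rfl⟩
  · left; rw [← two_mul, zpow_mul, zpow_two, zJ_sq hz.1, one_zpow]
  · right; rw [zpow_add, zpow_mul, zpow_two, zJ_sq hz.1, one_zpow, one_mul, zpow_one]

/-- The normalizer of `J(T)` in the overgroup centralises `Z₀`. -/
theorem normJ_centralizes (h : Good T K) (hG : ZNHyp G) {n : G} (hnL : n ∈ lmax T K)
    (hnJ : n ∈ normalizer (thompsonSubgroupOf 2 T : Set G)) {z : G} (hz : z ∈ zJ T) :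
    n * z = z * n := by
  obtain ⟨w, hw1, hwW, hwZ, -, -, hwall, hor, -⟩ := exists_wgen h.hT h.hK
  have hnZ : ∀ x ∈ zJ T, n * x * n⁻¹ ∈ zJ T := fun x hx =>
    (map_conj_zJ hnJ).le (LocalEvenB.conjMap_apply_mem hx)
  have hnK := h.L_le_normalizer hG hnL
  have hc : ∀ c ∈ zone T K, n * c = c * n := by
    intro c hc
    by_cases hc1 : c = 1
    · subst hc1; simp
    have hcc : n * c * n⁻¹ ∈ zone T K := by
      have := (zone_conj K hnJ).le (LocalEvenB.conjMap_apply_mem (g := n) hc)
      rwa [LocalEvenB.conjMap_eq_of_mem_normalizer hnK] at this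
    rcases h.zone_cases hc hcc hc1 with e | e
    · exact absurd (conj_eq_one_iff.1 e) hc1
    · exact mul_inv_eq_iff_eq_mul.1 e
  have hwc : n * w = w * n := by
    rcases hwall _ ⟨hnZ w hwZ,
      (mem_normalizer_iff.1 (normalizer_le_normalizer_wOf K hnK) w).1 hwW⟩ with e | e
    · exact absurd (conj_eq_one_iff.1 e) hw1
    · exact mul_inv_eq_iff_eq_mul.1 e
  rcases hor z hz with hz' | hz'
  · exact hc z hz'
  · have h1 : Commute n (z * w) := hc _ hz'
    simpa using (h1.mul_right (show Commute n w from hwc).inv_right).eq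

theorem L_le_centralizer (h : Good T K) (hG : ZNHyp G) {z : G} (hz : z ∈ zone T K) :
    lmax T K ≤ centralizer ({z} : Set G) :=
  (h.le_K_sup hG).trans (sup_le (le_sup_left.trans (sup_le_centralizer_of_mem_zone hz))
    fun _ hn => mem_centralizer_singleton_iff.2 (h.normJ_centralizes hG hn.1 hn.2 hz.1))

theorem omega_eq (h : Good T K) (hG : ZNHyp G) : omegaCenterOf T = zJ T :=
  le_antisymm (omegaCenter_le_zJ h.hLT le_rfl) fun z hz => mem_omegaCenterOf.2
    ⟨Transfer.thompsonSubgroupOf_le T (mem_omegaCenterOf.1 hz).1,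
      fun t ht => (h.normJ_centralizes hG (h.T_le_L ht) (h.T_le_normJ ht) hz).symm,
      zJ_sq hz⟩

theorem toCent (h : Good T K) (hG : ZNHyp G) : CentComp T K :=
  ⟨h.hT, h.hK, h.adm, h.hLT, h.T_le_normalizer hG,
    fun ht _ hz => h.normJ_centralizes hG (h.T_le_L ht) (h.T_le_normJ ht) hz⟩

theorem side (h : Good T K) (hG : ZNHyp G) : Side T (K ⊔ T) (wOf K) := (h.toCent hG).side hG

theorem pt_eq (h : Good T K) (hG : ZNHyp G) : pt T (wOf K) = zJ T ⊓ wOf K :=
  (h.toCent hG).pt_eq hG

theorem P_le_L (h : Good T K) (hG : ZNHyp G) : K ⊔ T ≤ lmax T K := (h.toCent hG).P_le_L hG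

theorem centralizer_R_le (h : Good T K) (hG : ZNHyp G) :
    centralizer (pCoreOf 2 (K ⊔ T) : Set G) ≤ pCoreOf 2 (K ⊔ T) :=
  (h.toCent hG).centralizer_R_le hG

/-- With a small elementary abelian core the overgroup is `⟨K, T⟩`. -/
theorem L_eq (h : Good T K) (hG : ZNHyp G) (S : Sylow 2 G) (hTS : T ≤ (S : Subgroup G))
    (hsq : ∀ r ∈ pCoreOf 2 (K ⊔ T), r * r = 1) (hcard : Nat.card (pCoreOf 2 (K ⊔ T)) ≤ 8) :
    lmax T K = K ⊔ T := by
  haveI : Fact (Nat.Prime 2) := ⟨Nat.prime_two⟩
  set L := lmax T K with hL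
  set NJ := L ⊓ normalizer (thompsonSubgroupOf 2 T : Set G) with hNJ
  set R := pCoreOf 2 (K ⊔ T) with hR
  have hs := h.side hG
  have hodd : ∀ n ∈ NJ, Odd (orderOf n) → n = 1 := by
    intro n hn hno
    have hnS : n ∈ normalizer ((S : Subgroup G) : Set G) :=
      hG.cen S (mem_centralizer_iff.2 fun z hz =>
        (h.normJ_centralizes hG hn.1 hn.2 (omegaCenter_le_zJ h.hLT hTS hz)).symm)
    have hLS : L ⊓ (S : Subgroup G) = T := inf_eq_of_sylowIn h.hLT.1 S.2 hTS
    have hnT : n ∈ normalizer (T : Set G) := LocalEvenB.mem_normalizer_of_conj_mem fun t ht =>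
      hLS.le ⟨L.mul_mem (L.mul_mem hn.1 (h.T_le_L ht)) (L.inv_mem hn.1),
        (mem_normalizer_iff.1 hnS t).1 (hTS ht)⟩
    have hnK := h.L_le_normalizer hG hn.1
    have hnP : n ∈ normalizer ((K ⊔ T : Subgroup G) : Set G) :=
      LocalEvenB.mem_normalizer_of_conjMap_le (by
        rw [Subgroup.map_sup, LocalEvenB.conjMap_eq_of_mem_normalizer hnK,
          LocalEvenB.conjMap_eq_of_mem_normalizer hnT])
    have hnR : n ∈ normalizer (R : Set G) := pCoreOf_normalizer 2 _ hnP
    have hnW : n ∈ normalizer (wOf K : Set G) := normalizer_le_normalizer_wOf K hnK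
    -- `n` centralises the four-group
    have hnc : ∀ x ∈ wOf K, n * x = x * n := by
      intro x hx
      by_cases hxp : x ∈ pt T (wOf K)
      · exact h.normJ_centralizes hG hn.1 hn.2 ((h.pt_eq hG).le hxp).1
      have h2 : n * x * n⁻¹ * x⁻¹ ∈ pt T (wOf K) := by
        have hnx : n * x * n⁻¹ ∈ wOf K := (mem_normalizer_iff.1 hnW x).1 hx
        rcases hs.pt_cases hx hxp hnx with hp | hp
        · exfalso
          refine hxp ?_
          have hc := h.normJ_centralizes hG hn.1 hn.2 ((h.pt_eq hG).le hp).1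
          have : n * x * n⁻¹ = n * (n * x * n⁻¹) * n⁻¹ := by rw [hc, mul_inv_cancel_right]
          rw [show x = n * x * n⁻¹ by simpa using this] at ⊢
          exact hp
        · rwa [inv_eq_of_mul_eq_one_right (hs.sq x hx)]
      have hc2 := h.normJ_centralizes hG hn.1 hn.2 ((h.pt_eq hG).le h2).1
      have hsq2 : (n * n) * x = x * (n * n) := by
        refine mul_inv_eq_iff_eq_mul.1 ?_
        calc n * n * x * (n * n)⁻¹ =
            (n * (n * x * n⁻¹ * x⁻¹) * n⁻¹) * (n * x * n⁻¹ * x⁻¹) * x := by group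
          _ = (n * x * n⁻¹ * x⁻¹) * (n * x * n⁻¹ * x⁻¹) * x := by
              rw [hc2, mul_inv_cancel_right]
          _ = x := by rw [hs.sq _ h2.1, one_mul]
      exact mem_centralizer_singleton_iff.1 (mem_of_odd_pow (n := 1) hno
        (mem_centralizer_singleton_iff.2 (by rw [pow_one, pow_two]; exact hsq2)))
    have hWR : wOf K ≤ R := hs.hWR
    have hnr : ∀ r ∈ R, n * r = r * n := by
      intro r hr
      by_cases hrW : r ∈ wOf K
      · exact hnc r hrW
      have hnrR : n * r * n⁻¹ ∈ R := (mem_normalizer_iff.1 hnR r).1 hr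
      have hnrW : n * r * n⁻¹ ∉ wOf K := fun hh => hrW ((mem_normalizer_iff.1 hnW r).2 hh)
      have hidx : (wOf K).relIndex R = 2 := by
        have h1 := relIndex_mul_relIndex ⊥ (wOf K) R bot_le hWR
        rw [relIndex_bot_left, relIndex_bot_left, hs.card_W] at h1
        have h2 : (wOf K).relIndex R ≠ 1 := fun e => hrW (relIndex_eq_one.1 e hr)
        have h3 : 0 < (wOf K).relIndex R := Nat.pos_of_ne_zero Subgroup.index_ne_zero_of_finite
        omega
      have hω : n * r * n⁻¹ * r ∈ wOf K := mem_subgroupOf.1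
        ((mul_mem_iff_of_index_two (H := (wOf K).subgroupOf R) hidx
          (a := ⟨_, hnrR⟩) (b := ⟨r, hr⟩)).2
          ⟨fun hh => absurd (mem_subgroupOf.1 hh) hnrW, fun hh => absurd (mem_subgroupOf.1 hh) hrW⟩)
      have hrr : r * r = 1 := hsq r hr
      have hc2 := hnc _ hω
      have hsq2 : (n * n) * r = r * (n * n) := by
        refine mul_inv_eq_iff_eq_mul.1 ?_
        calc n * n * r * (n * n)⁻¹ = n * (n * r * n⁻¹ * r) * n⁻¹ * (n * r⁻¹ * n⁻¹) := by group
          _ = (n * r * n⁻¹ * r) * (n * r * n⁻¹) := by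
              rw [hc2, mul_inv_cancel_right, inv_eq_of_mul_eq_one_right hrr]
          _ = (n * r * n⁻¹ * r) * (n * r * n⁻¹ * r) * r⁻¹ := by group
          _ = r := by rw [hs.sq _ hω, one_mul, inv_eq_of_mul_eq_one_right hrr]
      exact mem_centralizer_singleton_iff.1 (mem_of_odd_pow (n := 1) hno
        (mem_centralizer_singleton_iff.2 (by rw [pow_one, pow_two]; exact hsq2)))
    have hnT' : n ∈ T := hs.R_le_T (h.centralizer_R_le hG
      (mem_centralizer_iff.2 fun r hr => (hnr r hr).symm))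
    by_contra hn1
    exact hs.not_mem_T hno hn1 hnT'
  have h2 : IsPGroup 2 NJ := by
    intro g
    have h0 := (isOfFinOrder_of_finite (g : G)).orderOf_pos.ne'
    obtain ⟨a, b, hb, he⟩ := Nat.exists_eq_two_pow_mul_odd h0
    refine ⟨a, Subtype.ext ?_⟩
    rw [coe_pow, coe_one]
    refine hodd _ (pow_mem g.2 _) ?_
    rw [orderOf_pow' _ (pow_ne_zero a two_ne_zero), he, Nat.gcd_mul_right_left,
      Nat.mul_div_cancel_left _ (pow_pos two_pos a)]
    exact hb
  have heq : NJ = T := by
    have := inf_eq_of_sylowIn h.hLT.1 h2 (le_inf h.T_le_L h.T_le_normJ)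
    rwa [inf_eq_right.2 inf_le_left] at this
  refine le_antisymm ((h.le_K_sup hG).trans (by rw [← hNJ, heq])) (h.P_le_L hG)

end Good

end Cfsg.Agent.LocalEvenB.ZN
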