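import Cfsg.Agent.Lib.LocalEvenB.ZNSetup
import Cfsg.Agent.Lib.LocalEvenB.FFPieces

/-!
The `J(T)`-components of a member of `jOvergroups T`.
-/

set_option autoImplicit false

namespace Cfsg.Agent.LocalEvenB.ZN

open Subgroup Cfsg Agent.LocalEvenA
open scoped IsMulCommutative commutatorElement Pointwise

variable {G : Type*} [Group G]

/-- A set of odd-order generated subgroups absorbed through a normalising 2-group. -/
theorem le_of_le_sup_pGroup [Finite G] {K K' R : Subgroup G} (hK' : oddSub K' = K')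
    (hR : IsPGroup 2 R) (hRK : R ≤ normalizer (K : Set G)) (h : K' ≤ K ⊔ R) : K' ≤ K := by
  haveI : Fact (Nat.Prime 2) := ⟨Nat.prime_two⟩
  haveI hn : (K.subgroupOf (K ⊔ R)).Normal :=
    normal_subgroupOf_of_le_normalizer (sup_le le_normalizer hRK)
  have h1 : (K.subgroupOf (K ⊔ R)).index = K.relIndex R := by
    have h4 := relIndex_sup_left (R.subgroupOf (K ⊔ R)) (K.subgroupOf (K ⊔ R))
    rw [← subgroupOf_sup le_sup_left le_sup_right, subgroupOf_self, relIndex_top_right,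
      relIndex_subgroupOf le_sup_right] at h4
    exact h4
  obtain ⟨n, hn2⟩ := IsPGroup.iff_card.1 hR
  obtain ⟨m, -, hm⟩ := (Nat.dvd_prime_pow Nat.prime_two).1 (hn2 ▸ relIndex_dvd_card K R)
  refine le_of_pow_mem hK' fun k hk => ⟨m, ?_⟩
  have h3 := (K.subgroupOf (K ⊔ R)).pow_index_mem ⟨k, h hk⟩
  rw [h1, hm] at h3
  exact h3

/-- The image of the Fitting subgroup of the induced group. -/
noncomputable def fit {L U : Subgroup G} (hLN : L ≤ normalizer (U : Set G)) :
    Subgroup (MulAut U) :=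
  (fittingSubgroup ↥(act hLN).range).map (act hLN).range.subtype

/-- The pieces in the Fitting subgroup. -/
def pieceSet {L U : Subgroup G} [IsMulCommutative U] (hLN : L ≤ normalizer (U : Set G)) :
    Set (MulAut U) :=
  {x | FF.IsPiece x ∧ x ∈ fit hLN}

/-- The automorphisms normalising each piece and fixing their common fixed points. -/
noncomputable def dSub {L U : Subgroup G} [IsMulCommutative U]
    (hLN : L ≤ normalizer (U : Set G)) : Subgroup (MulAut U) where
  carrier := {g | g ∈ (act hLN).range ∧ (∀ x ∈ pieceSet hLN, g * x * g⁻¹ = x ∨ g * x * g⁻¹ = x⁻¹) ∧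
    ∀ z ∈ FF.fixSet (pieceSet hLN), g z = z}
  one_mem' := ⟨one_mem _, fun x _ => Or.inl (by simp), fun z _ => rfl⟩
  mul_mem' := fun {g k} hg hk => ⟨mul_mem hg.1 hk.1, fun x hx => by
      have e : g * k * x * (g * k)⁻¹ = g * (k * x * k⁻¹) * g⁻¹ := by group
      rw [e]
      rcases hk.2.1 x hx with h | h <;> rw [h]
      · exact hg.2.1 x hx
      · rw [← conj_inv]
        rcases hg.2.1 x hx with h' | h' <;> rw [h']
        · exact Or.inr rfl
        · exact Or.inl (inv_inv x),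
    fun z hz => by rw [MulAut.mul_apply, hk.2.2 z hz, hg.2.2 z hz]⟩
  inv_mem' := fun {g} hg => ⟨inv_mem hg.1, fun x hx => by
      rcases hg.2.1 x hx with h | h
      · left
        conv_lhs => arg 1; arg 2; rw [← h]
        group
      · right
        have h' : g * x⁻¹ * g⁻¹ = x := by rw [← conj_inv, h, inv_inv]
        conv_lhs => arg 1; arg 2; rw [← h']
        group,
    fun z hz => by conv_lhs => rw [← hg.2.2 z hz, MulAut.inv_apply_self]⟩

variable [Finite G]

/-- The core of `L`, inside `L`. -/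
noncomputable abbrev coreIn (L : Subgroup G) : Subgroup L := (pCoreOf 2 L).subgroupOf L

instance znCoreInNormal (L : Subgroup G) : (coreIn L).Normal :=
  normal_subgroupOf_of_le_normalizer (le_normalizer_pCoreOf 2 L)

/-- The quotient map by the core. -/
noncomputable abbrev coreMap (L : Subgroup G) : L →* L ⧸ coreIn L := QuotientGroup.mk' _

theorem coreMap_eq_one {L : Subgroup G} {l : L} : coreMap L l = 1 ↔ (l : G) ∈ pCoreOf 2 L :=
  (QuotientGroup.eq_one_iff l).trans mem_subgroupOf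

theorem coreMap_eq_of_mem {L : Subgroup G} {k l : L} (h : (k : G)⁻¹ * l ∈ pCoreOf 2 L) :
    coreMap L k = coreMap L l := by
  have : coreMap L (k⁻¹ * l) = 1 := coreMap_eq_one.2 h
  rwa [map_mul, map_inv, inv_mul_eq_one] at this

namespace LData

variable {T L U : Subgroup G}

theorem R_le_T (h : LData T L U) : pCoreOf 2 L ≤ T := pCoreOf_le_sylowIn h.hLT.1

theorem isPGroup_R (L : Subgroup G) : IsPGroup 2 (pCoreOf 2 L) :=
  haveI : Fact (Nat.Prime 2) := ⟨Nat.prime_two⟩
  pCoreOf_isPGroup' 2 L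

theorem J_le (h : LData T L U) : thompsonSubgroupOf 2 T ≤ L :=
  (Transfer.thompsonSubgroupOf_le T).trans h.hLT.1.1

theorem comm_kerT (h : LData T L U) {c t : L} (hc : act h.hLN c = 1) (ht : (t : G) ∈ T) :
    Commute (coreMap L c) (coreMap L t) := by
  have h1 := h.hCR c ⟨c.2, (act_eq_one h.hLN).1 hc⟩ t ht
  have h2 : coreMap L (c * t * c⁻¹ * t⁻¹) = 1 := coreMap_eq_one.2 h1
  rw [map_mul, map_mul, map_mul, map_inv, map_inv, mul_inv_eq_one, mul_inv_eq_iff_eq_mul] at h2
  exact h2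

/-- The elements centralising `C_L(U)` modulo the core. -/
noncomputable def cenKer (h : LData T L U) : Subgroup L where
  carrier := {g | ∀ c : L, act h.hLN c = 1 → Commute (coreMap L c) (coreMap L g)}
  one_mem' := fun c _ => by rw [map_one]; exact Commute.one_right _
  mul_mem' := fun {g k} hg hk c hc => by rw [map_mul]; exact (hg c hc).mul_right (hk c hc)
  inv_mem' := fun {g} hg c hc => by rw [map_inv]; exact (hg c hc).inv_right

theorem mem_cenKer_of_mem_T (h : LData T L U) {t : L} (ht : (t : G) ∈ T) : t ∈ h.cenKer :=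
  fun _ hc => h.comm_kerT hc ht

theorem conj_mem_cenKer (h : LData T L U) (g : L) {k : L} (hk : k ∈ h.cenKer) :
    g * k * g⁻¹ ∈ h.cenKer := by
  intro c hc
  have hc' : act h.hLN (g⁻¹ * c * g) = 1 := by
    rw [map_mul, map_mul, hc, mul_one, ← map_mul, inv_mul_cancel, map_one]
  have := (hk _ hc').map (MulAut.conj (coreMap L g)).toMonoidHom
  simpa [MulAut.conj_apply, mul_assoc] using this

/-- An element of odd order in `C_L(U)` modulo the core. -/
theorem ker_odd (h : LData T L U) {c : L} (hc : act h.hLN c = 1) {n : ℕ}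
    (hn : coreMap L c ^ 2 ^ n = 1) : coreMap L c = 1 := by
  rw [← map_pow] at hn
  exact coreMap_eq_one.2 (h.hCodd c ⟨c.2, (act_eq_one h.hLN).1 hc⟩ n (coreMap_eq_one.1 hn))

theorem exists_pow_T (h : LData T L U) {t : L} (ht : (t : G) ∈ T) :
    ∃ n : ℕ, t ^ 2 ^ n = 1 := by
  obtain ⟨n, hn⟩ := h.hT ⟨t, ht⟩
  exact ⟨n, Subtype.ext (by simpa using congrArg Subtype.val hn)⟩

theorem comp_mem_cenKer (h : LData T L U) {K : Subgroup G}
    (hc : ⁅K, thompsonSubgroupOf 2 T⁆ = K) (hKL : K ≤ L) {k : L} (hk : (k : G) ∈ K) :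
    k ∈ h.cenKer := by
  have hle : K ≤ (h.cenKer).map L.subtype := by
    conv_lhs => rw [← hc]
    refine commutator_le.2 fun a ha j hj => ?_
    refine ⟨⁅(⟨a, hKL ha⟩ : L), ⟨j, h.J_le hj⟩⁆, ?_, rfl⟩
    rw [commutatorElement_def]
    exact mul_mem (h.conj_mem_cenKer _ (h.mem_cenKer_of_mem_T (Transfer.thompsonSubgroupOf_le T hj)))
      (inv_mem (h.mem_cenKer_of_mem_T (Transfer.thompsonSubgroupOf_le T hj)))
  obtain ⟨l, hl, e⟩ := hle hk
  rwa [← (Subtype.ext e : l = k)]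

/-! ### The Fitting subgroup -/

theorem fit_le (hLN : L ≤ normalizer (U : Set G)) : fit hLN ≤ (act hLN).range := map_subtype_le _

theorem range_le_normalizer_fit (hLN : L ≤ normalizer (U : Set G)) :
    (act hLN).range ≤ normalizer (fit hLN : Set (MulAut U)) := by
  haveI : (fittingSubgroup ↥(act hLN).range).Normal :=
    Subgroup.sSup_normal _ fun _ hN => hN.1
  intro g hg
  refine LocalEvenB.mem_normalizer_of_conj_mem ?_
  rintro _ ⟨f, hf, rfl⟩
  exact ⟨⟨g, hg⟩ * f * ⟨g, hg⟩⁻¹, Normal.conj_mem inferInstance f hf ⟨g, hg⟩, rfl⟩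

theorem fit_odd (h : LData T L U) {f : MulAut U} (hf : f ∈ fit h.hLN) : Odd (orderOf f) := by
  haveI : Fact (Nat.Prime 2) := ⟨Nat.prime_two⟩
  set F := fittingSubgroup ↥(act h.hLN).range
  haveI hFn : F.Normal := Subgroup.sSup_normal _ fun _ hN => hN.1
  haveI : Group.IsNilpotent F := Basics.fittingSubgroup_isNilpotent
  obtain ⟨f', hf', rfl⟩ := hf
  by_contra he
  have h2 : 2 ∣ Nat.card F := by
    have h1 : 2 ∣ orderOf (⟨f', hf'⟩ : F) := by
      rw [orderOf_mk]
      rw [orderOf_injective _ (subtype_injective _)] at he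
      exact even_iff_two_dvd.1 (Nat.not_odd_iff_even.1 he)
    exact h1.trans (orderOf_dvd_natCard _)
  let P : Sylow 2 F := default
  have hPn : (P : Subgroup F).Normal := inferInstance
  haveI := P.characteristic_of_normal hPn
  haveI : ((P : Subgroup F).map F.subtype).Normal := inferInstance
  have hb : ((P : Subgroup F).map F.subtype).map (act h.hLN).range.subtype = ⊥ := by
    refine h.hO2 _ (map_subtype_le _) ((P.2.map _).map _) fun g hg => ?_
    refine LocalEvenB.mem_normalizer_of_conj_mem ?_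
    rintro _ ⟨q, hq, rfl⟩
    exact ⟨⟨g, hg⟩ * q * ⟨g, hg⟩⁻¹, Normal.conj_mem inferInstance q hq ⟨g, hg⟩, rfl⟩
  rw [map_eq_bot_iff_of_injective _ (subtype_injective _),
    map_eq_bot_iff_of_injective _ (subtype_injective _)] at hb
  exact P.ne_bot_of_dvd_card h2 hb

theorem fit_three_commute (h : LData T L U) :
    ∃ P : Subgroup (MulAut U), IsPGroup 3 P ∧ ∀ x ∈ fit h.hLN, orderOf x = 3 → x ∈ P := by
  haveI : Fact (Nat.Prime 3) := ⟨Nat.prime_three⟩
  set F := fittingSubgroup ↥(act h.hLN).range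
  haveI : Group.IsNilpotent F := Basics.fittingSubgroup_isNilpotent
  let P : Sylow 3 F := default
  have hPn : (P : Subgroup F).Normal := inferInstance
  refine ⟨((P : Subgroup F).map F.subtype).map (act h.hLN).range.subtype, (P.2.map _).map _, ?_⟩
  rintro _ ⟨x, hx, rfl⟩ ho
  rw [orderOf_injective _ (subtype_injective _)] at ho
  refine mem_map_of_mem _ ⟨⟨x, hx⟩, ?_, rfl⟩
  have hz : IsPGroup 3 (zpowers (⟨x, hx⟩ : F)) :=
    LocalEvenB.isPGroup_zpowers ⟨1, by rw [orderOf_mk, ho, pow_one]⟩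
  obtain ⟨Q, hQ⟩ := hz.exists_le_sylow
  haveI := P.unique_of_normal hPn
  exact (Subsingleton.elim Q P) ▸ hQ (mem_zpowers _)

theorem mem_fit_of_commute (h : LData T L U) {g : MulAut U} (hg : g ∈ (act h.hLN).range)
    (hc : ∀ f ∈ fit h.hLN, g * f = f * g) : g ∈ fit h.hLN := by
  haveI := h.hsolv
  haveI : Group.IsSolvable ↥(act h.hLN).range :=
    Group.isSolvable_of_surjective (act h.hLN).rangeRestrict_surjective
  refine ⟨⟨g, hg⟩, Basics.centralizer_fittingSubgroup_le (mem_centralizer_iff.2 fun f hf => ?_), rfl⟩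
  exact Subtype.ext (hc f ⟨f, hf, rfl⟩).symm

variable [IsMulCommutative U]

theorem h2 (h : LData T L U) : ∀ u : U, u * u = 1 := FF.mul_self_eq_one_of_elemAb h.hUe

theorem pieces_comm (h : LData T L U) {x y : MulAut U} (hx : x ∈ pieceSet h.hLN)
    (hy : y ∈ pieceSet h.hLN) : x * y = y * x := by
  obtain ⟨P, hP, hmem⟩ := h.fit_three_commute
  exact hx.1.commute_of_threeGroup h.h2 hy.1 (hmem x hx.2 hx.1.1) (hmem y hy.2 hy.1.1) hP

theorem pieceSet_conj {g x : MulAut U} {hLN : L ≤ normalizer (U : Set G)}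
    (hg : g ∈ (act hLN).range) (hx : x ∈ pieceSet hLN) : g * x * g⁻¹ ∈ pieceSet hLN :=
  ⟨hx.1.conj g, (mem_normalizer_iff.1 (range_le_normalizer_fit hLN hg) x).1 hx.2⟩

theorem pieceSet_inv {x : MulAut U} {hLN : L ≤ normalizer (U : Set G)}
    (hx : x ∈ pieceSet hLN) : x⁻¹ ∈ pieceSet hLN :=
  ⟨hx.1.inv, inv_mem hx.2⟩

theorem hyp (h : LData T L U) {A : Subgroup G} (hA : Transfer.IsMaxElemIn 2 T A) :
    FF.Hyp (FF.imgAut U A) (fit h.hLN) := by
  have hAL : A ≤ L := hA.1.trans h.hLT.1.1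
  refine FF.hyp_of_maxElem hA (h.hUR.trans h.R_le_T) h.hUe (hAL.trans h.hLN)
    (fun f hf => h.fit_odd hf) (fun f hf g hg hpf hpg => h.pieces_comm ⟨hpf, hf⟩ ⟨hpg, hg⟩) ?_
  rw [imgAut_eq_map h.hLN A hAL]
  exact (map_le_range _ _).trans (range_le_normalizer_fit h.hLN)

theorem main (h : LData T L U) {A : Subgroup G} (hA : Transfer.IsMaxElemIn 2 T A) :
    (∀ x ∈ pieceSet h.hLN,
      (∀ a ∈ FF.imgAut U A, a * x * a = x ∨ a * x * a = x⁻¹) ∧
      ((∃ a ∈ FF.imgAut U A, a * x * a ≠ x) → ∀ y ∈ pieceSet h.hLN,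
        (∀ a ∈ FF.imgAut U A, a * x * a = x ↔ a * y * a = y) → y = x ∨ y = x⁻¹)) ∧
    ∀ z ∈ FF.fixSet (pieceSet h.hLN), ∀ a ∈ FF.imgAut U A, a z = z := by
  have hH := h.hyp hA
  have hAimg : FF.imgAut U A ≤ (act h.hLN).range := by
    rw [imgAut_eq_map h.hLN A (hA.1.trans h.hLT.1.1)]
    exact map_le_range _ _
  have hea : IsElementaryAbelian 2 (FF.imgAut U A) :=
    ⟨⟨⟨fun a b => Subtype.ext (hH.hAc a a.2 b b.2)⟩⟩, fun a ha => by rw [sq]; exact hH.hA2 a ha⟩
  have hgen := FF.gen_of_elemAb hea hH.hFodd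
    (fun a ha => range_le_normalizer_fit h.hLN (hAimg ha))
  obtain ⟨h1, h2'⟩ := FF.ff_main hH hgen
  refine ⟨fun x hx => ⟨(h1 x hx.2 hx.1).1,
    fun hm y hy hsame => ((h1 x hx.2 hx.1).2 hm).2 y hy.2 hy.1 hsame⟩, fun z hz => h2' ?_ z
      fun x hxF hxp => hz x ⟨hxp, hxF⟩⟩
  intro a ha hac
  have haF : a ∈ fit h.hLN := by
    refine h.mem_fit_of_commute (hAimg ha) fun f hf => ?_
    conv_rhs => rw [← hac f hf]
    rw [mul_assoc, hH.hA2 a ha, mul_one]
  have h3 : orderOf a ∣ 2 := orderOf_dvd_of_pow_eq_one (by rw [sq]; exact hH.hA2 a ha)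
  rcases (Nat.dvd_prime Nat.prime_two).1 h3 with h4 | h4
  · exact orderOf_eq_one_iff.1 h4
  · exact absurd (h4 ▸ h.fit_odd haF) (by decide)

theorem J_act_mem_dSub (h : LData T L U) {j : L} (hj : (j : G) ∈ thompsonSubgroupOf 2 T) :
    act h.hLN j ∈ dSub h.hLN := by
  have hle : thompsonSubgroupOf 2 T ≤ ((dSub h.hLN).comap (act h.hLN)).map L.subtype := by
    rw [Transfer.thompsonSubgroupOf_eq T]
    refine sSup_le fun A hA a ha => ?_
    have haL : a ∈ L := h.hLT.1.1 (hA.1 ha)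
    have hai : act h.hLN ⟨a, haL⟩ ∈ FF.imgAut U A := by
      rw [imgAut_eq_map h.hLN A (hA.1.trans h.hLT.1.1)]
      exact ⟨⟨a, haL⟩, mem_subgroupOf.2 ha, rfl⟩
    have h2a : (act h.hLN ⟨a, haL⟩)⁻¹ = act h.hLN ⟨a, haL⟩ :=
      inv_eq_of_mul_eq_one_right ((h.hyp hA).hA2 _ hai)
    refine ⟨⟨a, haL⟩, ⟨⟨_, rfl⟩, fun x hx => ?_, fun z hz => (h.main hA).2 z hz _ hai⟩, rfl⟩
    rw [h2a]
    exact ((h.main hA).1 x hx).1 _ hai
  obtain ⟨l, hl, e⟩ := hle hj
  rwa [← (Subtype.ext e : l = j)]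

theorem range_le_normalizer_dSub (hLN : L ≤ normalizer (U : Set G)) :
    (act hLN).range ≤ normalizer (dSub hLN : Set (MulAut U)) := fun γ (hγ : γ ∈ (act hLN).range) => by
  refine LocalEvenB.mem_normalizer_of_conj_mem fun g hg => ⟨mul_mem (mul_mem hγ hg.1) (inv_mem hγ),
    fun x hx => ?_, fun z hz => ?_⟩
  · have hx' : γ⁻¹ * x * γ ∈ pieceSet hLN := by
      have := pieceSet_conj (inv_mem hγ) hx
      rwa [inv_inv] at this
    have e : γ * g * γ⁻¹ * x * (γ * g * γ⁻¹)⁻¹ = γ * (g * (γ⁻¹ * x * γ) * g⁻¹) * γ⁻¹ := by group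
    rw [e]
    rcases hg.2.1 _ hx' with h1 | h1 <;> rw [h1]
    · exact Or.inl (by group)
    · exact Or.inr (by group)
  · have hz' : γ⁻¹ z ∈ FF.fixSet (pieceSet hLN) := fun x hx => by
      have := hz _ (pieceSet_conj hγ hx)
      rw [MulAut.mul_apply, MulAut.mul_apply] at this
      have h3 := congrArg (γ⁻¹ : MulAut U) this
      rwa [MulAut.inv_apply_self] at h3
    rw [MulAut.mul_apply, MulAut.mul_apply, hg.2.2 _ hz', MulAut.apply_inv_self]

theorem sq_mem (h : LData T L U) {g : MulAut U} (hg : g ∈ dSub h.hLN) :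
    g * g ∈ Subgroup.closure (pieceSet h.hLN) := by
  classical
  haveI : Fintype (MulAut U) := Fintype.ofFinite _
  set s : Finset (MulAut U) := (pieceSet h.hLN).toFinset with hs
  have hmem : ∀ x, x ∈ s ↔ x ∈ pieceSet h.hLN := fun x => Set.mem_toFinset
  have hp : ∀ x ∈ s, FF.IsPiece x := fun x hx => ((hmem x).1 hx).1
  have hc : ∀ x ∈ s, ∀ y ∈ s, x * y = y * x := fun x hx y hy =>
    h.pieces_comm ((hmem x).1 hx) ((hmem y).1 hy)
  have hgg : ∀ x ∈ s, g * g * x = x * (g * g) := by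
    intro x hx
    refine mul_inv_eq_iff_eq_mul.1 ?_
    have e : g * g * x * (g * g)⁻¹ = g * (g * x * g⁻¹) * g⁻¹ := by group
    rw [e]
    rcases hg.2.1 x ((hmem x).1 hx) with h1 | h1 <;> rw [h1]
    · exact h1
    · rw [← conj_inv, h1, inv_inv]
  obtain ⟨e, he, hag⟩ := FF.exists_agree h.h2 hp hc hgg
  have hfix : ∀ z, z ∈ FF.fixSet (s : Set (MulAut U)) → e z = z := fun z hz => by
    have : Subgroup.closure (s : Set (MulAut U)) ≤ MulAction.stabilizer (MulAut U) z :=
      (closure_le _).2 fun x hx => hz x hx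
    exact this he
  have heq : g * g = e := by
    refine MulEquiv.ext fun u => ?_
    obtain ⟨z, hz, m, hm, rfl⟩ := mem_sup.1 (FF.mem_fix_sup_blocks h.h2 hp hc u)
    have hz' : z ∈ FF.fixSet (pieceSet h.hLN) := fun x hx => hz x ((hmem x).2 hx)
    have hm' : (g * g) m = e m := by
      have hle : FF.blocks s ≤ MonoidHom.eqLocus (g * g).toMonoidHom e.toMonoidHom :=
        Finset.sup_le fun x hx u hu => (hag x hx u hu).symm
      exact hle hm
    rw [map_mul, map_mul, hm', hfix z hz, MulAut.mul_apply, hg.2.2 z hz', hg.2.2 z hz']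
  rw [heq]
  rw [hs, Set.coe_toFinset] at he
  exact he

theorem closure_pieces_le_fit (h : LData T L U) : Subgroup.closure (pieceSet h.hLN) ≤ fit h.hLN :=
  (closure_le _).2 fun _ hx => hx.2

end LData

end Cfsg.Agent.LocalEvenB.ZN
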