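import Cfsg.Agent.Lib.LocalEvenB.ZNLocal

/-!
The components of a member of `jOvergroups T` and the pieces of the induced group.
-/

set_option autoImplicit false

namespace Cfsg.Agent.LocalEvenB.ZN

open Subgroup Cfsg Agent.LocalEvenA
open scoped IsMulCommutative commutatorElement Pointwise

variable {G : Type*} [Group G] [Finite G]

omit [Finite G] in
theorem eq_one_of_inv_eq_self_odd {M : Type*} [Group M] {g : M} (hg : Odd (orderOf g))
    (h : g⁻¹ = g) : g = 1 := by
  have h2 : orderOf g ∣ 2 := orderOf_dvd_of_pow_eq_one (by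
    rw [sq]; exact mul_eq_one_iff_eq_inv.2 h.symm)
  rcases (Nat.dvd_prime Nat.prime_two).1 h2 with h3 | h3
  · exact orderOf_eq_one_iff.1 h3
  · exact absurd (h3 ▸ hg) (by decide)

/-- The `J(T)`-components contained in `L`. -/
def compSet (T L : Subgroup G) : Set (Subgroup G) := {K | IsJComponent T K ∧ K ≤ L}

/-- Subgroup of `G` of the elements of `L` inducing an element of `H` on `U`. -/
noncomputable abbrev pre {L U : Subgroup G} (hLN : L ≤ normalizer (U : Set G))
    (H : Subgroup (MulAut U)) : Subgroup G :=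
  (H.comap (act hLN)).map L.subtype

omit [Finite G] in
theorem mem_pre {L U : Subgroup G} {hLN : L ≤ normalizer (U : Set G)} {H : Subgroup (MulAut U)}
    {g : G} (hg : g ∈ L) : g ∈ pre hLN H ↔ act hLN ⟨g, hg⟩ ∈ H :=
  ⟨fun ⟨l, hl, e⟩ => (Subtype.ext e : l = ⟨g, hg⟩) ▸ hl, fun h => ⟨_, h, rfl⟩⟩

/-- The image of a component: a piece and a generator. -/
structure PieceOf {T L U : Subgroup G} [IsMulCommutative U] (h : LData T L U) (K : Subgroup G)
    (x : MulAut U) (y : L) : Prop where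
  mem : x ∈ pieceSet h.hLN
  yK : (y : G) ∈ K
  yodd : Odd (orderOf y)
  ynQ : (y : G) ∉ pCoreOf 2 K
  acty : act h.hLN y = x
  QR : pCoreOf 2 K = K ⊓ pCoreOf 2 L
  img : ∀ k : L, (k : G) ∈ K → act h.hLN k = 1 → (k : G) ∈ pCoreOf 2 L
  three : ∀ k : L, (k : G) ∈ K → coreMap L k = 1 ∨ coreMap L k = coreMap L y ∨
    coreMap L k = (coreMap L y)⁻¹
  range_eq : (FF.cm x).range.map U.subtype = wOf K
  moved : ∃ A, Transfer.IsMaxElemIn 2 T A ∧ ∃ a ∈ FF.imgAut U A, a * x * a = x⁻¹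

namespace LData

variable {T L U : Subgroup G} [IsMulCommutative U]

theorem sq_eq_one_img (h : LData T L U) {A : Subgroup G} (hA : Transfer.IsMaxElemIn 2 T A)
    {a : MulAut U} (ha : a ∈ FF.imgAut U A) : a * a = 1 := (h.hyp hA).hA2 a ha

theorem R_le_normalizer_comp (h : LData T L U) {K : Subgroup G} (hK : IsJComponent T K)
    (hKL : K ≤ L) : pCoreOf 2 L ≤ normalizer (K : Set G) :=
  le_normalizer_of_normalized (preComp_of_isJComponent h.hT hK)
    ((sup_le hKL h.J_le).trans (le_normalizer_pCoreOf 2 L))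
    ((h.R_le_T.trans le_normalizer).trans (Transfer.normalizer_le_normalizer_thompson T))

theorem exists_pieceOf (h : LData T L U) {K : Subgroup G} (hK : IsJComponent T K) (hKL : K ≤ L) :
    ∃ x y, PieceOf h K x y := by
  classical
  haveI : Fact (Nat.Prime 2) := ⟨Nat.prime_two⟩
  have hP := preComp_of_isJComponent h.hT hK
  set J := thompsonSubgroupOf 2 T
  set E := Subgroup.closure (pieceSet h.hLN) with hE
  -- `K` induces elements of the group of pieces
  have hKE : ∀ k : L, (k : G) ∈ K → act h.hLN k ∈ E := by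
    have h1 : K ≤ pre h.hLN (dSub h.hLN) := by
      conv_lhs => rw [← hP.comm]
      refine commutator_le.2 fun a ha j hj => ?_
      refine ⟨⁅(⟨a, hKL ha⟩ : L), ⟨j, h.J_le hj⟩⁆, ?_, rfl⟩
      show act h.hLN _ ∈ dSub h.hLN
      rw [map_commutatorElement, commutatorElement_def]
      exact mul_mem ((mem_normalizer_iff.1 (LData.range_le_normalizer_dSub h.hLN ⟨_, rfl⟩) _).1
        (h.J_act_mem_dSub hj)) (inv_mem (h.J_act_mem_dSub hj))
    have h2 : K ≤ pre h.hLN E := le_of_pow_mem hP.odd fun k hk => ⟨1, by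
      rw [mem_pre (L.pow_mem (hKL hk) _)]
      have := h.sq_mem ((mem_pre (hKL hk)).1 (h1 hk))
      rw [← map_mul] at this
      convert this using 2
      exact Subtype.ext (by show k ^ (2 ^ 1) = k * k; rw [pow_one, sq])⟩
    exact fun k hk => (mem_pre k.2).1 (h2 hk)
  have hEodd : ∀ φ ∈ E, Odd (orderOf φ) := fun φ hφ => h.fit_odd (h.closure_pieces_le_fit hφ)
  set Q := pCoreOf 2 K
  have hQker : ∀ q : L, (q : G) ∈ Q → act h.hLN q = 1 := by
    intro q hq
    obtain ⟨n, hn⟩ := PreComp.isPGroup_Q K ⟨q, hq⟩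
    have hn' : q ^ 2 ^ n = 1 := Subtype.ext (by simpa using congrArg Subtype.val hn)
    have hd : orderOf (act h.hLN q) ∣ 2 ^ n :=
      orderOf_dvd_of_pow_eq_one (by rw [← map_pow, hn', map_one])
    exact orderOf_eq_one_iff.1 (Nat.eq_one_of_dvd_coprimes
      ((Nat.coprime_two_left.2 (hEodd _ (hKE q (pCoreOf_le' 2 K hq)))).pow_left n) hd dvd_rfl)
  have hQR : ∀ q : L, (q : G) ∈ Q → (q : G) ∈ pCoreOf 2 L := by
    intro q hq
    obtain ⟨n, hn⟩ := PreComp.isPGroup_Q K ⟨q, hq⟩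
    refine h.hCodd q ⟨q.2, (act_eq_one h.hLN).1 (hQker q hq)⟩ n ?_
    have : (q : G) ^ 2 ^ n = 1 := by simpa using congrArg Subtype.val hn
    rw [this]
    exact one_mem _
  obtain ⟨y0, hy, hyo, hyQ⟩ := hP.exists_gen
  set y : L := ⟨y0, hKL hy⟩ with hydef
  set x := act h.hLN y with hx
  have hcases : ∀ k : L, (k : G) ∈ K →
      (k : G) ∈ Q ∨ (y⁻¹ * k : G) ∈ Q ∨ (y * k : G) ∈ Q := fun k hk => hP.cases_mem hy hyQ hk
  have hact : ∀ k : L, (k : G) ∈ K →
      act h.hLN k = 1 ∨ act h.hLN k = x ∨ act h.hLN k = x⁻¹ := by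
    intro k hk
    rcases hcases k hk with h1 | h1 | h1
    · exact Or.inl (hQker k h1)
    · have := hQker (y⁻¹ * k) h1
      rw [map_mul, map_inv, inv_mul_eq_one] at this
      exact Or.inr (Or.inl this.symm)
    · have := hQker (y * k) h1
      rw [map_mul] at this
      exact Or.inr (Or.inr (eq_inv_of_mul_eq_one_right this))
  have hx1 : x ≠ 1 := by
    intro h1
    have hall : ∀ k : L, (k : G) ∈ K → act h.hLN k = 1 := fun k hk => by
      rcases hact k hk with e | e | e <;> rw [e]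
      · exact h1
      · rw [h1, inv_one]
    have hle : K ≤ pCoreOf 2 L := by
      conv_lhs => rw [← hP.comm]
      refine commutator_le.2 fun a ha j hj => ?_
      rw [commutatorElement_def]
      exact h.hCR a ⟨hKL ha, (act_eq_one h.hLN (l := ⟨a, hKL ha⟩)).1 (hall ⟨a, hKL ha⟩ ha)⟩ j
        (Transfer.thompsonSubgroupOf_le T hj)
    exact hyQ (le_pCoreOf le_rfl le_normalizer ((LData.isPGroup_R L).to_le hle) hy)
  have hQeq : Q = K ⊓ pCoreOf 2 L := by
    refine le_antisymm (le_inf (pCoreOf_le' 2 K) fun q hq => hQR ⟨q, hKL (pCoreOf_le' 2 K hq)⟩ hq) ?_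
    exact (hP.eq_Q_of_pGroup ((LData.isPGroup_R L).to_le inf_le_right)
      (le_inf (pCoreOf_le' 2 K) fun q hq => hQR ⟨q, hKL (pCoreOf_le' 2 K hq)⟩ hq) inf_le_left).le
  have himg : ∀ k : L, (k : G) ∈ K → act h.hLN k = 1 → (k : G) ∈ pCoreOf 2 L := by
    intro k hk hk1
    rcases hcases k hk with h1 | h1 | h1
    · exact hQR k h1
    · have := hQker (y⁻¹ * k) h1
      rw [map_mul, map_inv, hk1, mul_one, inv_eq_one] at this
      exact absurd this hx1
    · have := hQker (y * k) h1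
      rw [map_mul, hk1, mul_one] at this
      exact absurd this hx1
  have hthree : ∀ k : L, (k : G) ∈ K → coreMap L k = 1 ∨ coreMap L k = coreMap L y ∨
      coreMap L k = (coreMap L y)⁻¹ := by
    intro k hk
    rcases hcases k hk with h1 | h1 | h1
    · exact Or.inl (coreMap_eq_one.2 (hQR k h1))
    · exact Or.inr (Or.inl (coreMap_eq_of_mem (hQR (y⁻¹ * k) h1)).symm)
    · have := coreMap_eq_one.2 (hQR (y * k) h1)
      rw [map_mul] at this
      exact Or.inr (Or.inr (eq_inv_of_mul_eq_one_right this))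
  have hx3 : orderOf x = 3 := by
    haveI : Fact (Nat.Prime 3) := ⟨Nat.prime_three⟩
    refine orderOf_eq_prime ?_ hx1
    rw [hx, ← map_pow]
    exact hQker _ (by simpa using hP.pow_three_mem hy)
  have hxo : Odd (orderOf x) := by rw [hx3]; decide
  have hWne := wOf_ne_bot hK
  have hspec := hP.wOf_spec hWne hy hyo hyQ
  have hRK := h.R_le_normalizer_comp hK hKL
  have hmem : ∀ u : U, (u : G) ∈ omegaCenterOf Q → ((FF.cm x u : U) : G) ∈ wOf K := by
    intro u hu
    have e : ((FF.cm x u : U) : G) = (⁅(u : G), y0⁆)⁻¹ := by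
      rw [FF.cm_apply, div_eq_mul_inv, coe_mul, coe_inv, hx, act_apply, commutatorElement_def]
      simp only [mul_inv_rev, inv_inv, mul_assoc]
      rfl
    rw [e]
    exact inv_mem (commutator_mem_commutator hu hy)
  have hin : ∀ u : U, ((FF.cm x u : U) : G) ∈ omegaCenterOf Q := by
    intro u
    set v := FF.cm x u with hv
    have e : (v : G) = y0 * (u : G) * y0⁻¹ * (u : G)⁻¹ := by
      rw [hv, FF.cm_apply, div_eq_mul_inv, coe_mul, coe_inv, hx, act_apply]
    have h1 : (v : G) ∈ K := by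
      rw [e, mul_assoc, mul_assoc]
      refine K.mul_mem hy ?_
      have := (mem_normalizer_iff.1 (hRK (h.hUR u.2)) _).1 (K.inv_mem hy)
      rwa [mul_assoc] at this
    refine mem_omegaCenterOf.2 ⟨?_, fun q hq => ?_, ?_⟩
    · rw [hQeq]; exact ⟨h1, h.hUR v.2⟩
    · exact mem_centralizer_iff.1 (h.hRU (hQR ⟨q, hKL (pCoreOf_le' 2 K hq)⟩ hq)) v v.2
    · exact congrArg Subtype.val (h.h2 v)
  have hbij : ∀ v ∈ (FF.cm x).range, ∃ v' ∈ (FF.cm x).range, FF.cm x v' = v := by
    have hinj : Function.Injective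
        (fun i : (FF.cm x).range => (⟨FF.cm x i, ⟨i, rfl⟩⟩ : (FF.cm x).range)) := by
      intro i j hij
      have h1 : FF.cm x ((i : U) / j) = 1 := by
        rw [map_div, show FF.cm x i = FF.cm x j from congrArg Subtype.val hij, div_self']
      exact Subtype.ext (div_eq_one.1
        (FF.eq_one_of_cm_fixed h.h2 hxo ((FF.cm x).range.div_mem i.2 j.2) (FF.cm_eq_one.1 h1)))
    intro v hv
    obtain ⟨⟨v', hv'⟩, e⟩ := (Finite.injective_iff_surjective.1 hinj) ⟨v, hv⟩
    exact ⟨v', hv', congrArg Subtype.val e⟩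
  have hle : (FF.cm x).range.map U.subtype ≤ wOf K := by
    rintro _ ⟨v, hv, rfl⟩
    obtain ⟨v', ⟨u, rfl⟩, rfl⟩ := hbij v hv
    exact hmem _ (hin u)
  obtain ⟨v, hv, hv1⟩ : ∃ v ∈ (FF.cm x).range, v ≠ 1 := by
    by_contra hc
    push Not at hc
    exact hx1 (MulEquiv.ext fun u => FF.cm_eq_one.1 (hc _ ⟨u, rfl⟩))
  have hne : (FF.cm x).range.map U.subtype = wOf K := by
    refine eq_of_le_of_card_ge hle ?_
    rw [hspec.1]
    have hxv : x v ∈ (FF.cm x).range := FF.cm_range_comm rfl hv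
    have hz : x v ∉ zpowers v := by
      intro h'
      obtain ⟨k, hk⟩ := mem_zpowers_iff.1 h'
      rcases Int.even_or_odd k with ⟨j, hj⟩ | ⟨j, hj⟩
      · rw [hj, zpow_add, ← mul_zpow, h.h2, one_zpow] at hk
        exact hv1 (x.injective (hk.symm.trans (map_one x).symm))
      · rw [hj, zpow_add, two_mul, zpow_add, ← mul_zpow, h.h2, one_zpow, one_mul, zpow_one] at hk
        exact hv1 (FF.eq_one_of_cm_fixed h.h2 hxo hv hk.symm)
    have h4 := FF.two_mul_card_le (zpowers_le.2 hv) hxv hz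
    rw [Nat.card_zpowers, orderOf_eq_prime (by rw [sq]; exact h.h2 v) hv1] at h4
    rw [card_map_of_injective (subtype_injective _)]
    exact h4
  have hpiece : FF.IsPiece x :=
    ⟨hx3, by rw [← card_map_of_injective (f := U.subtype) (subtype_injective _), hne, hspec.1]⟩
  refine ⟨x, y, ⟨hpiece, h.closure_pieces_le_fit (hKE y hy)⟩, hy, ?_, hyQ, rfl, hQeq, himg, hthree,
    hne, ?_⟩
  · rwa [hydef, orderOf_mk]
  obtain ⟨A, hA, a, ha, -, hinv⟩ := hP.exists_inverting hy hyQ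
  have haL : a ∈ L := h.hLT.1.1 (hA.1 ha)
  have hai : act h.hLN ⟨a, haL⟩ ∈ FF.imgAut U A := by
    rw [imgAut_eq_map h.hLN A (hA.1.trans h.hLT.1.1)]
    exact ⟨⟨a, haL⟩, mem_subgroupOf.2 ha, rfl⟩
  refine ⟨A, hA, _, hai, eq_inv_of_mul_eq_one_right ?_⟩
  rw [hx, ← map_mul, ← map_mul, ← map_mul]
  exact hQker _ hinv

theorem comp_le_of_piece (h : LData T L U) {K K' : Subgroup G} (hK : IsJComponent T K)
    (hKL : K ≤ L) (hK' : IsJComponent T K') (hK'L : K' ≤ L) {x x' : MulAut U} {y y' : L}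
    (hx : PieceOf h K x y) (hx' : PieceOf h K' x' y') (he : x' = x ∨ x' = x⁻¹) : K' ≤ K := by
  have hP' := preComp_of_isJComponent h.hT hK'
  have hRK := h.R_le_normalizer_comp hK hKL
  refine le_of_le_sup_pGroup hP'.odd (LData.isPGroup_R L) hRK ?_
  conv_lhs => rw [← hP'.comm]
  refine commutator_le.2 fun a ha j hj => ?_
  -- a lift in `K` of the image of `a`
  obtain ⟨k, hk, hka⟩ : ∃ k : L, (k : G) ∈ K ∧ act h.hLN k = act h.hLN ⟨a, hK'L ha⟩ := by
    have h3 := hx'.three ⟨a, hK'L ha⟩ ha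
    have hc : ∀ {p q : L}, coreMap L p = coreMap L q → act h.hLN p = act h.hLN q := by
      intro p q hpq
      have : coreMap L (p⁻¹ * q) = 1 := by rw [map_mul, map_inv, hpq, inv_mul_cancel]
      have h4 := (act_eq_one h.hLN).2 (h.hRU (coreMap_eq_one.1 this))
      rwa [map_mul, map_inv, inv_mul_eq_one] at h4
    have hpow : ∀ e : MulAut U, e = x ∨ e = x⁻¹ → ∃ k : L, (k : G) ∈ K ∧ act h.hLN k = e := by
      rintro e (rfl | rfl)
      · exact ⟨y, hx.yK, hx.acty⟩
      · exact ⟨y⁻¹, K.inv_mem hx.yK, by rw [map_inv, hx.acty]⟩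
    rcases h3 with h3 | h3 | h3
    · exact ⟨1, K.one_mem, (hc (by rw [map_one, h3]))⟩
    · rw [hc h3, hx'.acty]; exact hpow _ he
    · rw [hc (h3.trans (map_inv _ _).symm), map_inv, hx'.acty]
      exact hpow _ (he.elim (fun e => Or.inr (by rw [e])) fun e => Or.inl (by rw [e, inv_inv]))
  set c : L := k⁻¹ * ⟨a, hK'L ha⟩ with hc
  have hc1 : act h.hLN c = 1 := by rw [hc, map_mul, map_inv, hka, inv_mul_cancel]
  have e : ⁅a, j⁆ = (k : G) * ((c : G) * j * (c : G)⁻¹ * j⁻¹) * (k : G)⁻¹ * ⁅(k : G), j⁆ := by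
    have hak : a = (k : G) * c := by
      rw [hc]; show a = (k : G) * ((k : G)⁻¹ * a); rw [mul_inv_cancel_left]
    rw [commutatorElement_def, commutatorElement_def, hak]; group
  rw [e]
  refine mul_mem (mem_sup_right ?_) (mem_sup_left ?_)
  · exact (mem_normalizer_iff.1 (le_normalizer_pCoreOf 2 L k.2) _).1
      (h.hCR c ⟨c.2, (act_eq_one h.hLN).1 hc1⟩ j (Transfer.thompsonSubgroupOf_le T hj))
  · exact (preComp_of_isJComponent h.hT hK).comm.le (commutator_mem_commutator hk hj)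

theorem eq_of_piece (h : LData T L U) {K K' : Subgroup G} (hK : IsJComponent T K) (hKL : K ≤ L)
    (hK' : IsJComponent T K') (hK'L : K' ≤ L) {x x' : MulAut U} {y y' : L} (hx : PieceOf h K x y)
    (hx' : PieceOf h K' x' y') (he : x' = x ∨ x' = x⁻¹) : K' = K :=
  le_antisymm (h.comp_le_of_piece hK hKL hK' hK'L hx hx' he)
    (h.comp_le_of_piece hK' hK'L hK hKL hx' hx (he.elim (fun e => Or.inl e.symm)
      fun e => Or.inr (by rw [e, inv_inv])))

theorem eq_of_wOf (h : LData T L U) {K K' : Subgroup G} (hK : IsJComponent T K) (hKL : K ≤ L)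
    (hK' : IsJComponent T K') (hK'L : K' ≤ L) {w : G} (hw : w ∈ wOf K) (hw' : w ∈ wOf K')
    (hw1 : w ≠ 1) : K' = K := by
  obtain ⟨x, y, hx⟩ := h.exists_pieceOf hK hKL
  obtain ⟨x', y', hx'⟩ := h.exists_pieceOf hK' hK'L
  refine h.eq_of_piece hK hKL hK' hK'L hx hx' ?_
  rcases hx.mem.1.dichotomy h.h2 hx'.mem.1 (h.pieces_comm hx.mem hx'.mem) with h1 | h1
  · exact h1.2
  · exfalso
    rw [← hx.range_eq] at hw
    rw [← hx'.range_eq] at hw'
    obtain ⟨v, hv, e⟩ := hw
    obtain ⟨v', hv', e'⟩ := hw'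
    have hvv : v' = v := Subtype.ext (e'.trans e.symm)
    have h2 : v ∈ (FF.cm x).range ⊓ (FF.cm x').range := ⟨hv, hvv ▸ hv'⟩
    rw [h1.1] at h2
    exact hw1 (by rw [← e, mem_bot.1 h2]; rfl)

theorem comp_le_normalizer (h : LData T L U) {K K' : Subgroup G} (hK : IsJComponent T K)
    (hKL : K ≤ L) (hK' : IsJComponent T K') (hK'L : K' ≤ L) : K' ≤ normalizer (K : Set G) := by
  by_cases hKK : K' = K
  · rw [hKK]; exact le_normalizer
  obtain ⟨x, y, hx⟩ := h.exists_pieceOf hK hKL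
  obtain ⟨x', y', hx'⟩ := h.exists_pieceOf hK' hK'L
  have hRK := h.R_le_normalizer_comp hK hKL
  -- an involution of `J` inverting one and centralising the other
  obtain ⟨A, hA, a0, ha0, hinv0⟩ := hx.moved
  obtain ⟨a, ha, hiff⟩ : ∃ a ∈ FF.imgAut U A, ¬ (a * x * a = x ↔ a * x' * a = x') := by
    by_contra hc
    push Not at hc
    refine hKK (h.eq_of_piece hK hKL hK' hK'L hx hx'
      (((h.main hA).1 x hx.mem).2 ⟨a0, ha0, ?_⟩ x' hx'.mem hc))
    rw [hinv0]
    exact fun e => hx.mem.1.ne_one (eq_one_of_inv_eq_self_odd hx.mem.1.odd e)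
  have hn1 := ((h.main hA).1 x hx.mem).1 a ha
  have hn2 := ((h.main hA).1 x' hx'.mem).1 a ha
  have haimg := ha
  rw [imgAut_eq_map h.hLN A (hA.1.trans h.hLT.1.1)] at haimg
  obtain ⟨al, hal, rfl⟩ := haimg
  have halA : (al : G) ∈ A := mem_subgroupOf.1 hal
  have hal2 : al * al = 1 := Subtype.ext (by simpa [sq] using hA.2.1.2 _ halA)
  set π := coreMap L
  set a := π al with hadef
  have haa : a * a = 1 := by rw [hadef, ← map_mul, hal2, map_one]
  have hconjK : ∀ {K₀ : Subgroup G}, IsJComponent T K₀ → K₀ ≤ L → ∀ {x₀ : MulAut U} {y₀ : L},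
      PieceOf h K₀ x₀ y₀ →
      (act h.hLN al * x₀ * act h.hLN al = x₀ → a * π y₀ * a = π y₀) ∧
      (act h.hLN al * x₀ * act h.hLN al = x₀⁻¹ → a * π y₀ * a = (π y₀)⁻¹) := by
    intro K₀ hK₀ hK₀L x₀ y₀ hx₀
    have hmemK : ((al * y₀ * al : L) : G) ∈ K₀ := by
      have hn := (preComp_of_isJComponent h.hT hK₀).le_normalizer_comm (maxElem_of_sup hA halA)
      have := (mem_normalizer_iff.1 hn _).1 hx₀.yK
      rwa [inv_eq_of_mul_eq_one_right (congrArg Subtype.val hal2)] at this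
    have hcast : a * π y₀ * a = π (al * y₀ * al) := by rw [map_mul, map_mul]
    rw [hcast]
    refine ⟨fun e => ?_, fun e => ?_⟩
    · have h1 : act h.hLN (y₀⁻¹ * (al * y₀ * al)) = 1 := by
        rw [map_mul, map_mul, map_mul, map_inv, hx₀.acty, e, inv_mul_cancel]
      exact (coreMap_eq_of_mem (hx₀.img (y₀⁻¹ * (al * y₀ * al))
        (K₀.mul_mem (K₀.inv_mem hx₀.yK) hmemK) h1)).symm
    · have h1 : act h.hLN (y₀ * (al * y₀ * al)) = 1 := by
        rw [map_mul, map_mul, map_mul, hx₀.acty, e, mul_inv_cancel]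
      have := coreMap_eq_one.2 (hx₀.img (y₀ * (al * y₀ * al)) (K₀.mul_mem hx₀.yK hmemK) h1)
      rw [map_mul] at this
      exact eq_inv_of_mul_eq_one_right this
  set Y := π y with hY
  set Y' := π y' with hY'
  set cl : L := y' * y * y'⁻¹ * y⁻¹ with hcl
  have hcl1 : act h.hLN cl = 1 := by
    rw [hcl, map_mul, map_mul, map_mul, map_inv, map_inv, hx.acty, hx'.acty,
      ← h.pieces_comm hx.mem hx'.mem, mul_inv_cancel_right, mul_inv_cancel]
  set c := π cl with hc
  have hcY : Y' * Y * Y'⁻¹ = c * Y := by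
    rw [hc, hcl, map_mul, map_mul, map_mul, map_inv, map_inv, inv_mul_cancel_right]
  have hcY' : Commute c Y :=
    h.comp_mem_cenKer (preComp_of_isJComponent h.hT hK).comm hKL hx.yK cl hcl1
  have hcY'' : Commute c Y' :=
    h.comp_mem_cenKer (preComp_of_isJComponent h.hT hK').comm hK'L hx'.yK cl hcl1
  have hca : Commute c a :=
    h.comm_kerT hcl1 ((Transfer.thompsonSubgroupOf_le T) (maxElem_of_sup hA halA))
  have hconj : a * (Y' * Y * Y'⁻¹) * a = (a * Y' * a) * (a * Y * a) * (a * Y' * a)⁻¹ := by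
    rw [mul_inv_rev, mul_inv_rev, inv_eq_of_mul_eq_one_right haa]
    simp only [mul_assoc]
    rw [← mul_assoc a a, haa, one_mul, ← mul_assoc a a, haa, one_mul]
  have hrhs : a * (c * Y) * a = c * (a * Y * a) := by
    rw [← mul_assoc a c, ← hca.eq]; simp only [mul_assoc]
  have hcc : c = c⁻¹ := by
    rw [hcY, hrhs] at hconj
    rcases hn1 with e1 | e1
    · rcases hn2 with e2 | e2
      · exact absurd (iff_of_true e1 e2) hiff
      · rw [(hconjK hK hKL hx).1 e1, (hconjK hK' hK'L hx').2 e2, inv_inv] at hconj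
        -- `Y'⁻¹ Y Y' = c⁻¹ Y`
        have h5 : Y'⁻¹ * Y * Y' = c⁻¹ * Y := by
          have h6 : Y = Y'⁻¹ * (c * Y) * Y' := by rw [← hcY]; group
          calc Y'⁻¹ * Y * Y' = c⁻¹ * (Y'⁻¹ * (c * Y) * Y') := by
                rw [← mul_assoc Y'⁻¹ c, ← hcY''.inv_right.eq]; group
            _ = c⁻¹ * Y := by rw [← h6]
        rw [h5] at hconj
        exact mul_right_cancel hconj
    · rcases hn2 with e2 | e2
      · rw [(hconjK hK hKL hx).2 e1, (hconjK hK' hK'L hx').1 e2] at hconj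
        have h5 : Y' * Y⁻¹ * Y'⁻¹ = c⁻¹ * Y⁻¹ := by
          rw [← conj_inv, hcY, mul_inv_rev, hcY'.inv_inv.eq]
        rw [h5] at hconj
        exact mul_right_cancel hconj
      · have hxne : ∀ {z : MulAut U}, FF.IsPiece z → act h.hLN al * z * act h.hLN al = z⁻¹ →
            act h.hLN al * z * act h.hLN al ≠ z := by
          intro z hz e e'
          rw [e] at e'
          exact hz.ne_one (eq_one_of_inv_eq_self_odd hz.odd e')
        exact absurd (iff_of_false (hxne hx.mem.1 e1) (hxne hx'.mem.1 e2)) hiff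
  have hc1 : c = 1 := h.ker_odd hcl1 (n := 1) (by
    rw [pow_one, sq]; exact mul_eq_one_iff_eq_inv.2 hcc)
  rw [hc1, one_mul] at hcY
  -- hence `y'` normalises `K`
  have hy' : (y' : G) ∈ normalizer (K : Set G) := by
    have hP := preComp_of_isJComponent h.hT hK
    refine LocalEvenB.mem_normalizer_of_conjMap_le ?_
    refine le_of_le_sup_pGroup ?_ (LData.isPGroup_R L) hRK ?_
    · exact (isJComponent_conj (y' : G) hK).1
    rintro _ ⟨k, hk, rfl⟩
    have hfix : π (y' * ⟨k, hKL hk⟩ * y'⁻¹) = π ⟨k, hKL hk⟩ := by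
      rw [map_mul, map_mul, map_inv]
      rcases hx.three ⟨k, hKL hk⟩ hk with e | e | e <;> rw [e]
      · rw [mul_one, mul_inv_cancel]
      · exact hcY
      · rw [← conj_inv, hcY]
    have h2 : π ((⟨k, hKL hk⟩ : L)⁻¹ * (y' * ⟨k, hKL hk⟩ * y'⁻¹)) = 1 := by
      rw [map_mul, map_inv, hfix, inv_mul_cancel]
    have h3 := coreMap_eq_one.1 h2
    have := mul_mem (mem_sup_left hk) ((le_sup_right : pCoreOf 2 L ≤ K ⊔ pCoreOf 2 L) h3)
    simpa [mul_assoc] using this
  intro k hk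
  rcases (preComp_of_isJComponent h.hT hK').cases_mem hx'.yK hx'.ynQ hk with h1 | h1 | h1
  · exact hRK ((hx'.QR ▸ h1 : k ∈ K' ⊓ pCoreOf 2 L)).2
  · have := mul_mem hy' (hRK ((hx'.QR ▸ h1 : (y' : G)⁻¹ * k ∈ K' ⊓ pCoreOf 2 L)).2)
    rwa [mul_inv_cancel_left] at this
  · have := mul_mem (inv_mem hy') (hRK ((hx'.QR ▸ h1 : (y' : G) * k ∈ K' ⊓ pCoreOf 2 L)).2)
    rwa [inv_mul_cancel_left] at this

end LData

end Cfsg.Agent.LocalEvenB.ZN
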