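import Cfsg.Agent.Lib.LocalEvenB.ZNLocalComp

/-!
A member of `jOvergroups T` is generated by its components and the normalizer of `J(T)`.
-/

set_option autoImplicit false

namespace Cfsg.Agent.LocalEvenB.ZN

open Subgroup Cfsg Agent.LocalEvenA
open scoped IsMulCommutative commutatorElement Pointwise

variable {G : Type*} [Group G] [Finite G]

/-- An element moving each largest elementary abelian subgroup of `T` into `T` normalises `J(T)`. -/
theorem mem_normalizer_thompson {T : Subgroup G} {g : G}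
    (hg : ∀ j ∈ thompsonSubgroupOf 2 T, g * j * g⁻¹ ∈ T) :
    g ∈ normalizer (thompsonSubgroupOf 2 T : Set G) := by
  refine LocalEvenB.mem_normalizer_of_conjMap_le (map_le_iff_le_comap.2 ?_)
  rw [Transfer.thompsonSubgroupOf_eq T]
  refine sSup_le fun A hA a ha => ?_
  rw [← Transfer.thompsonSubgroupOf_eq T]
  refine maxElem_of_sup (A := A.map (MulAut.conj g).toMonoidHom) (T := T) ⟨?_, ?_, ?_⟩ ⟨a, ha, rfl⟩
  · rintro _ ⟨b, hb, rfl⟩; exact hg b (maxElem_of_sup hA hb)
  · exact Transfer.ea_map hA.2.1 _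
  · intro B hB hBe
    rw [LocalEvenB.conjMap_card]
    exact hA.2.2 B hB hBe

theorem isJComponent_conj_normalizer {T K : Subgroup G} {n : G}
    (hn : n ∈ normalizer (thompsonSubgroupOf 2 T : Set G)) (hK : IsJComponent T K) :
    IsJComponent T (K.map (MulAut.conj n).toMonoidHom) :=
  isJComponent_congr (by rw [← map_conj_thompson, LocalEvenB.conjMap_eq_of_mem_normalizer hn])
    (isJComponent_conj n hK)

namespace LData

variable {T L U : Subgroup G} [IsMulCommutative U]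

/-- An element of `L` commuting with `J(T)` modulo `C_L(U)` normalises `J(T)`. -/
theorem mem_normalizer_of_comm (h : LData T L U) {g : L}
    (hg : ∀ j : L, (j : G) ∈ thompsonSubgroupOf 2 T →
      Commute (act h.hLN g) (act h.hLN j)) :
    (g : G) ∈ normalizer (thompsonSubgroupOf 2 T : Set G) := by
  refine mem_normalizer_thompson fun j hj => ?_
  set π := coreMap L
  set jl : L := ⟨j, h.J_le hj⟩ with hjl
  have hjT : (jl : G) ∈ T := Transfer.thompsonSubgroupOf_le T hj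
  set c : L := g * jl * g⁻¹ * jl⁻¹ with hc
  have hc1 : act h.hLN c = 1 := by
    rw [hc, map_mul, map_mul, map_mul, map_inv, map_inv, (hg jl hj).eq, mul_inv_cancel_right,
      mul_inv_cancel]
  have hcj : Commute (π c) (π jl) := h.comm_kerT hc1 hjT
  obtain ⟨n, hn⟩ := h.exists_pow_T hjT
  have hπj : π jl ^ 2 ^ n = 1 := by rw [← map_pow, hn, map_one]
  have h1 : π c * π jl = π g * π jl * (π g)⁻¹ := by
    rw [hc, map_mul, map_mul, map_mul, map_inv, map_inv, inv_mul_cancel_right]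
  have h2 : π c ^ 2 ^ n = 1 := by
    have h3 := congrArg (fun u => u ^ 2 ^ n) h1
    simp only [conj_pow, hπj, mul_one, mul_inv_cancel, hcj.mul_pow] at h3
    exact h3
  have h4 := coreMap_eq_one.1 (h.ker_odd hc1 h2)
  have h5 := T.mul_mem (h.R_le_T h4) hjT
  simpa [hc, hjl] using h5

theorem exists_comp_of_moved (h : LData T L U) {x : MulAut U} (hx : x ∈ pieceSet h.hLN)
    {A : Subgroup G} (hA : Transfer.IsMaxElemIn 2 T A) {a : MulAut U} (ha : a ∈ FF.imgAut U A)
    (hinv : a * x * a = x⁻¹) :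
    ∃ K ∈ compSet T L, ∃ f : L, (f : G) ∈ K ∧ act h.hLN f = x := by
  classical
  haveI : Fact (Nat.Prime 2) := ⟨Nat.prime_two⟩
  set π := coreMap L
  set J := thompsonSubgroupOf 2 T
  have haimg := ha
  rw [imgAut_eq_map h.hLN A (hA.1.trans h.hLT.1.1)] at haimg
  obtain ⟨al, hal, rfl⟩ := haimg
  have halA : (al : G) ∈ A := mem_subgroupOf.1 hal
  have halT : (al : G) ∈ T := hA.1 halA
  have hal2 : al * al = 1 := Subtype.ext (by simpa [sq] using hA.2.1.2 _ halA)
  set α := act h.hLN al with hα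
  have hαα : α * α = 1 := by rw [hα, ← map_mul, hal2, map_one]
  obtain ⟨g, hg⟩ := LData.fit_le h.hLN hx.2
  obtain ⟨f, hf⟩ : ∃ f : L, f = g * al * g⁻¹ * al := ⟨_, rfl⟩
  have hactf : act h.hLN f = x⁻¹ := by
    rw [hf, map_mul, map_mul, map_mul, map_inv, hg, ← hα]
    have e : α * x⁻¹ * α = x := by
      calc α * x⁻¹ * α = α * (α * x * α) * α := by rw [hinv]
        _ = (α * α) * x * (α * α) := by simp only [mul_assoc]
        _ = x := by rw [hαα, one_mul, mul_one]
    calc x * α * x⁻¹ * α = x * (α * x⁻¹ * α) := by simp only [mul_assoc]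
      _ = x * x := by rw [e]
      _ = x⁻¹ := eq_inv_of_mul_eq_one_right (by
          have h3 := pow_orderOf_eq_one x
          rw [hx.1.1, pow_succ', sq] at h3
          exact h3)
  have hfcen : f ∈ h.cenKer :=
    hf ▸ mul_mem (h.conj_mem_cenKer g (h.mem_cenKer_of_mem_T halT)) (h.mem_cenKer_of_mem_T halT)
  have haf : al * f * al = f⁻¹ := by
    rw [hf]
    simp only [mul_inv_rev, inv_inv, inv_eq_of_mul_eq_one_right hal2, mul_assoc, hal2, mul_one]
  set a := π al with hadef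
  set F := π f with hF
  have haa : a * a = 1 := by rw [hadef, ← map_mul, hal2, map_one]
  have haF : a * F * a = F⁻¹ := by rw [hadef, hF, ← map_mul, ← map_mul, haf, map_inv]
  -- `F` has order three
  have hF3 : F ^ 3 = 1 := by
    have h1 : act h.hLN (f ^ 3) = 1 := by
      rw [map_pow, hactf, inv_pow, ← hx.1.1, pow_orderOf_eq_one, inv_one]
    have hcomm : Commute (π (f ^ 3)) a := h.comm_kerT h1 halT
    have h2 : π (f ^ 3) = F ^ 3 := map_pow _ _ _
    rw [h2] at hcomm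
    have h3 : a * F ^ 3 * a = (F ^ 3)⁻¹ := by
      rw [← inv_pow, ← haF]
      conv_rhs => rw [show a * F * a = a * F * a⁻¹ by rw [inv_eq_of_mul_eq_one_right haa], conj_pow,
        inv_eq_of_mul_eq_one_right haa]
    rw [← hcomm.eq, mul_assoc, haa, mul_one] at h3
    have h4 := h.ker_odd h1 (n := 1) (by
      rw [show π (f ^ 3) = F ^ 3 from h2, pow_one, sq]; exact mul_eq_one_iff_eq_inv.2 h3)
    exact h2 ▸ h4
  have hact_of : ∀ {p q : L}, π p = π q → act h.hLN p = act h.hLN q := fun {p q} hpq => by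
    have : π (p⁻¹ * q) = 1 := by rw [map_mul, map_inv, hpq, inv_mul_cancel]
    have h4 := (act_eq_one h.hLN).2 (h.hRU (coreMap_eq_one.1 this))
    rwa [map_mul, map_inv, inv_mul_eq_one] at h4
  have hF1 : F ≠ 1 := fun h1 => hx.1.ne_one (inv_eq_one.1 (hactf.symm.trans
    ((hact_of (q := 1) (h1.trans (map_one _).symm)).trans (map_one _))))
  have hFo : orderOf F = 3 := by
    haveI : Fact (Nat.Prime 3) := ⟨Nat.prime_three⟩
    exact orderOf_eq_prime hF3 hF1
  -- `J(T)` normalises `⟨F⟩`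
  have hplus : ∀ j : L, (j : G) ∈ T → act h.hLN j * x * (act h.hLN j)⁻¹ = x →
      π j * F * (π j)⁻¹ = F := by
    intro j hj hjx
    set cl : L := f⁻¹ * (j * f * j⁻¹) with hcl
    have hcl1 : act h.hLN cl = 1 := by
      rw [hcl, map_mul, map_inv, map_mul, map_mul, map_inv, hactf]
      have : act h.hLN j * x⁻¹ * (act h.hLN j)⁻¹ = x⁻¹ := by rw [← conj_inv, hjx]
      rw [this, inv_mul_cancel]
    have hc : π j * F * (π j)⁻¹ = F * π cl := by
      rw [hcl, map_mul, map_inv, map_mul, map_mul, map_inv, mul_inv_cancel_left]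
    have hcj : π j * π cl * (π j)⁻¹ = π cl := by
      rw [← (h.comm_kerT hcl1 hj).eq, mul_inv_cancel_right]
    have hiter : ∀ n : ℕ, (π j) ^ n * F * ((π j) ^ n)⁻¹ = F * π cl ^ n := by
      intro n
      induction n with
      | zero => simp
      | succ n ih =>
        calc (π j) ^ (n + 1) * F * ((π j) ^ (n + 1))⁻¹
            = π j * ((π j) ^ n * F * ((π j) ^ n)⁻¹) * (π j)⁻¹ := by rw [pow_succ']; group
          _ = (π j * F * (π j)⁻¹) * (π j * π cl * (π j)⁻¹) ^ n := by rw [ih, conj_pow]; group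
          _ = F * π cl ^ (n + 1) := by rw [hc, hcj, mul_assoc, ← pow_succ']
    obtain ⟨n, hn⟩ := h.exists_pow_T hj
    have h5 := hiter (2 ^ n)
    rw [← map_pow, hn, map_one, one_mul, inv_one, mul_one, left_eq_mul] at h5
    rw [hc, h.ker_odd hcl1 h5, mul_one]
  have hnorm : ∀ j : L, (j : G) ∈ J →
      π j * F * (π j)⁻¹ = F ∨ π j * F * (π j)⁻¹ = F⁻¹ := by
    intro j hj
    rcases (h.J_act_mem_dSub hj).2.1 x hx with e | e
    · exact Or.inl (hplus j (Transfer.thompsonSubgroupOf_le T hj) e)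
    · right
      have h6 : act h.hLN (al * j) * x * (act h.hLN (al * j))⁻¹ = x := by
        have e' : act h.hLN j * x * (act h.hLN j)⁻¹ = x⁻¹ := e
        calc act h.hLN (al * j) * x * (act h.hLN (al * j))⁻¹
            = α * (act h.hLN j * x * (act h.hLN j)⁻¹) * α⁻¹ := by
              rw [map_mul, hα]; group
          _ = x := by
              rw [e', inv_eq_of_mul_eq_one_right hαα]
              calc α * x⁻¹ * α = α * (α * x * α) * α := by rw [hinv]
                _ = (α * α) * x * (α * α) := by simp only [mul_assoc]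
                _ = x := by rw [hαα, one_mul, mul_one]
      have h7 := hplus (al * j) (T.mul_mem halT (Transfer.thompsonSubgroupOf_le T hj)) h6
      rw [map_mul] at h7
      calc π j * F * (π j)⁻¹ = (a * a) * (π j * F * (π j)⁻¹) * (a * a)⁻¹ := by
            rw [haa, one_mul, inv_one, mul_one]
        _ = a * (a * π j * F * (a * π j)⁻¹) * a⁻¹ := by group
        _ = a * F * a := by rw [hadef, h7, ← hadef, inv_eq_of_mul_eq_one_right haa]
        _ = F⁻¹ := haF
  -- the preimage of `⟨F⟩`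
  set M1 : Subgroup G := ((zpowers F).comap π).map L.subtype with hM1
  have hM1L : M1 ≤ L := map_subtype_le _
  have hmemM : ∀ {g : G} (hg : g ∈ L), g ∈ M1 ↔ π ⟨g, hg⟩ ∈ zpowers F := fun {g} hg =>
    ⟨fun ⟨l, hl, e⟩ => (Subtype.ext e : l = ⟨g, hg⟩) ▸ hl, fun h => ⟨_, h, rfl⟩⟩
  have hRM1 : pCoreOf 2 L ≤ M1 := fun r hr =>
    (hmemM (pCoreOf_le' 2 L hr)).2 (by rw [coreMap_eq_one.2 hr]; exact one_mem _)
  have hfM1 : (f : G) ∈ M1 := (hmemM f.2).2 (mem_zpowers F)
  have hJM1 : J ≤ normalizer (M1 : Set G) := fun j hj => by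
    refine LocalEvenB.mem_normalizer_of_conj_mem fun m hm => ?_
    have hjL := h.J_le hj
    refine (hmemM (L.mul_mem (L.mul_mem hjL (hM1L hm)) (L.inv_mem hjL))).2 ?_
    obtain ⟨i, hi⟩ := mem_zpowers_iff.1 ((hmemM (hM1L hm)).1 hm)
    have e : π ⟨j * m * j⁻¹, L.mul_mem (L.mul_mem hjL (hM1L hm)) (L.inv_mem hjL)⟩ =
        (π ⟨j, hjL⟩ * F * (π ⟨j, hjL⟩)⁻¹) ^ i := by
      rw [conj_zpow, hi, ← map_inv, ← map_mul, ← map_mul]
      rfl
    rw [e]
    rcases hnorm ⟨j, hjL⟩ hj with e' | e' <;> rw [e']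
    exacts [zpow_mem (mem_zpowers F) i, zpow_mem (inv_mem (mem_zpowers F)) i]
  set K := oddSub M1 with hK
  have hKL : K ≤ L := (oddSub_le M1).trans hM1L
  have hKodd : oddSub K = K :=
    le_antisymm (oddSub_le K) ((closure_le _).2 fun k hk => mem_oddSub (mem_oddSub hk.1 hk.2) hk.2)
  have hJK : J ≤ normalizer (K : Set G) := hJM1.trans (normalizer_le_normalizer_oddSub M1)
  have hMK : M1 ≤ normalizer (K : Set G) :=
    le_normalizer.trans (normalizer_le_normalizer_oddSub M1)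
  -- an element of odd order
  obtain ⟨f0, hf0K, hf0⟩ : ∃ f0 : L, (f0 : G) ∈ K ∧ (π f0 = F ∨ π f0 = F⁻¹) := by
    obtain ⟨p, q, hpq, ⟨k, hk⟩, hq, hpz, hqz⟩ :=
      exists_pPart (p := 2) (isOfFinOrder_of_finite (f : G))
    have hsub : zpowers (f : G) ≤ M1 := zpowers_le.2 hfM1
    have hqL : q ∈ L := hM1L (hsub hqz)
    have hqK : q ∈ K := mem_oddSub (hsub hqz) (Nat.coprime_two_right.1 hq)
    refine ⟨⟨q, hqL⟩, hqK, ?_⟩
    have hpL : p ∈ L := hM1L (hsub hpz)
    have hp1 : π ⟨p, hpL⟩ = 1 := by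
      have h8 : orderOf (π ⟨p, hpL⟩) ∣ 2 ^ k := orderOf_dvd_of_pow_eq_one (by
        rw [← map_pow, show (⟨p, hpL⟩ : L) ^ 2 ^ k = 1 from Subtype.ext (by simpa using hk), map_one])
      have h9 : orderOf (π ⟨p, hpL⟩) ∣ 3 :=
        hFo ▸ orderOf_dvd_of_mem_zpowers ((hmemM hpL).1 (hsub hpz))
      exact orderOf_eq_one_iff.1 (Nat.eq_one_of_dvd_coprimes
        ((show Nat.Coprime 2 3 by norm_num).pow_left k) h8 h9)
    left
    rw [hF, show f = (⟨p, hpL⟩ : L) * ⟨q, hqL⟩ from Subtype.ext hpq.symm, map_mul, hp1, one_mul]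
  have hf0gen : zpowers (π f0) = zpowers F := by
    rcases hf0 with e | e <;> rw [e]
    exact zpowers_inv
  have hQeq : pCoreOf 2 K = K ⊓ pCoreOf 2 L := by
    refine le_antisymm (le_inf (pCoreOf_le' 2 K) fun q hq => ?_) ?_
    · have hqL := hKL (pCoreOf_le' 2 K hq)
      obtain ⟨n, hn⟩ := PreComp.isPGroup_Q K ⟨q, hq⟩
      have h8 : orderOf (π ⟨q, hqL⟩) ∣ 2 ^ n := orderOf_dvd_of_pow_eq_one (by
        rw [← map_pow, show (⟨q, hqL⟩ : L) ^ 2 ^ n = 1 from
          Subtype.ext (by simpa using congrArg Subtype.val hn), map_one])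
      have h9 : orderOf (π ⟨q, hqL⟩) ∣ 3 :=
        hFo ▸ orderOf_dvd_of_mem_zpowers ((hmemM hqL).1 (oddSub_le M1 (pCoreOf_le' 2 K hq)))
      exact coreMap_eq_one.1 (orderOf_eq_one_iff.1 (Nat.eq_one_of_dvd_coprimes
        ((show Nat.Coprime 2 3 by norm_num).pow_left n) h8 h9))
    · refine le_pCoreOf inf_le_left (fun k (hk : k ∈ K) => LocalEvenB.mem_normalizer_of_conj_mem
        fun r hr => ⟨K.mul_mem (K.mul_mem hk hr.1) (K.inv_mem hk), ?_⟩)
        ((LData.isPGroup_R L).to_le inf_le_right)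
      exact (mem_normalizer_iff.1 (le_normalizer_pCoreOf 2 L (hKL hk)) r).1 hr.2
  have hrange : (π.comp (Subgroup.inclusion hKL)).range = zpowers F := by
    refine le_antisymm ?_ (hf0gen ▸ zpowers_le.2 ⟨⟨f0, hf0K⟩, rfl⟩)
    rintro _ ⟨k, rfl⟩
    exact (hmemM (hKL k.2)).1 (oddSub_le M1 k.2)
  have hidx : (pCoreOf 2 K).relIndex K = 3 := by
    have hker : (π.comp (Subgroup.inclusion hKL)).ker = (pCoreOf 2 K).subgroupOf K := by
      ext k
      rw [MonoidHom.mem_ker, mem_subgroupOf, hQeq, mem_inf]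
      exact ⟨fun h' => ⟨k.2, coreMap_eq_one.1 h'⟩, fun h' => coreMap_eq_one.2 h'.2⟩
    rw [Subgroup.relIndex, ← hker, index_ker, hrange, Nat.card_zpowers, hFo]
  have hKcases : ∀ k : L, (k : G) ∈ K → ∃ i : ℤ, π k = π f0 ^ i := by
    intro k hk
    have h8 : π k ∈ zpowers (π f0) := hf0gen ▸ (hmemM k.2).1 (oddSub_le M1 hk)
    obtain ⟨i, hi⟩ := mem_zpowers_iff.1 h8
    exact ⟨i, hi.symm⟩
  have haJ : (al : G) ∈ J := maxElem_of_sup hA halA
  have hcomm : ⁅K, J⁆ = K := by
    refine le_antisymm (le_normalizer_iff_commutator_le_left.1 hJK) ?_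
    set N := ⁅K, J⁆
    have hNK : N ≤ K := le_normalizer_iff_commutator_le_left.1 hJK
    have hKN : K ≤ normalizer (N : Set G) := normalizer_commutator_ge_left K J
    refine le_of_le_sup hKodd (PreComp.isPGroup_Q K) hNK (pCoreOf_le' 2 K) hKN fun k hk => ?_
    set t : L := ⁅f0, al⁆ with ht
    have htN : (t : G) ∈ N := commutator_mem_commutator hf0K haJ
    have hπt : π t = π f0 * π f0 := by
      rw [ht, commutatorElement_def, map_mul, map_mul, map_mul, map_inv, map_inv]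
      have h1 : a * (π f0)⁻¹ * a⁻¹ = π f0 := by
        rw [inv_eq_of_mul_eq_one_right haa]
        rcases hf0 with e | e <;> rw [e]
        · calc a * F⁻¹ * a = a * (a * F * a) * a := by rw [haF]
            _ = (a * a) * F * (a * a) := by simp only [mul_assoc]
            _ = F := by rw [haa, one_mul, mul_one]
        · rw [inv_inv]; exact haF
      rw [← hadef]
      calc π f0 * a * (π f0)⁻¹ * a⁻¹ = π f0 * (a * (π f0)⁻¹ * a⁻¹) := by group
        _ = π f0 * π f0 := by rw [h1]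
    obtain ⟨i, hi⟩ := hKcases ⟨k, hKL hk⟩ hk
    have hf03 : π f0 ^ 3 = 1 := by
      rcases hf0 with e | e <;> rw [e]
      exacts [hF3, by rw [inv_pow, hF3, inv_one]]
    have h11 : π (t ^ (2 * i)) = π ⟨k, hKL hk⟩ := by
      rw [map_zpow, hπt, ← sq, ← zpow_natCast, ← zpow_mul, hi,
        show ((2 : ℕ) : ℤ) * (2 * i) = i + (3 : ℕ) * i by push_cast; ring, zpow_add, zpow_mul,
        zpow_natCast, hf03, one_zpow, mul_one]
    have h12 : (t : G) ^ (2 * i) ∈ N := zpow_mem htN _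
    have h13 : ((t : G) ^ (2 * i))⁻¹ * k ∈ pCoreOf 2 K := by
      rw [hQeq]
      refine ⟨K.mul_mem (K.inv_mem (hNK h12)) hk, ?_⟩
      have : π ((t ^ (2 * i))⁻¹ * ⟨k, hKL hk⟩) = 1 := by rw [map_mul, map_inv, h11, inv_mul_cancel]
      simpa using coreMap_eq_one.1 this
    have := mul_mem ((le_sup_right : N ≤ pCoreOf 2 K ⊔ N) h12)
      ((le_sup_left : pCoreOf 2 K ≤ pCoreOf 2 K ⊔ N) h13)
    rwa [mul_inv_cancel_left] at this
  have hP : PreComp T K := by
    refine ⟨isPGroup_thompson h.hT, hKodd, hcomm, hidx, fun S hS hJS => ?_⟩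
    have hXL : K ⊔ J ≤ L := sup_le hKL h.J_le
    have hSp : IsPGroup 2 (S.subgroupOf L) :=
      hS.2.1.of_equiv (subgroupOfEquivOfLe (hS.1.trans hXL)).symm
    set T' : Sylow 2 L := (h.hT.of_equiv (subgroupOfEquivOfLe h.hLT.1.1).symm).toSylow (by
      have := h.hLT.1.2.2
      rw [Subgroup.relIndex] at this
      exact fun h' => absurd (even_iff_two_dvd.2 h') (Nat.not_even_iff_odd.2 this))
    obtain ⟨l, hl⟩ := LocalEvenB.sylow_conj_le T' hSp
    refine (thompson_eq_of_conj_le (g := (l : G)) hJS fun s hs => ?_).1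
    have := LocalEvenB.mem_conjMap.1 (hl (show (⟨s, hXL (hS.1 hs)⟩ : L) ∈ S.subgroupOf L from hs))
    exact LocalEvenB.mem_conjMap.2 (mem_subgroupOf.1 this)
  have hMKn : pCoreOf 2 L ≤ normalizer (K : Set G) := hRM1.trans hMK
  obtain ⟨hfull⟩ : Nonempty (act h.hLN f0 = x ∨ act h.hLN f0 = x⁻¹) := ⟨by
    rcases hf0 with e | e
    · exact Or.inr ((hact_of (q := f) e).trans hactf)
    · refine Or.inl ?_
      rw [hact_of (q := f⁻¹) (e.trans (map_inv π f).symm), map_inv, hactf, inv_inv]⟩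
  have hne : wOf K ≠ ⊥ := by
    intro hW
    set φ := act h.hLN f0 with hφ
    have hφp : FF.IsPiece φ := hfull.elim (fun e => e ▸ hx.1) (fun e => e ▸ hx.1.inv)
    obtain ⟨v, ⟨u, hu⟩, hv1⟩ := hφp.exists_ne
    have hv : (v : G) = f0 * (u : G) * (f0 : G)⁻¹ * (u : G)⁻¹ := by
      rw [← hu, FF.cm_apply, div_eq_mul_inv, coe_mul, coe_inv, hφ, act_apply]
    have hvK : (v : G) ∈ K := by
      rw [hv, mul_assoc, mul_assoc]
      refine K.mul_mem hf0K ?_
      have := (mem_normalizer_iff.1 (hMKn (h.hUR u.2)) _).1 (K.inv_mem hf0K)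
      rwa [mul_assoc] at this
    have hvO : (v : G) ∈ omegaCenterOf (pCoreOf 2 K) := mem_omegaCenterOf.2
      ⟨hQeq ▸ ⟨hvK, h.hUR v.2⟩, fun q hq =>
        mem_centralizer_iff.1 (h.hRU ((hQeq ▸ hq : q ∈ K ⊓ pCoreOf 2 L)).2) v v.2,
        congrArg Subtype.val (h.h2 v)⟩
    have hfix : φ v = v := by
      have h14 := commutator_mem_commutator hvO hf0K
      rw [show ⁅omegaCenterOf (pCoreOf 2 K), K⁆ = (⊥ : Subgroup G) from hW, mem_bot,
        commutatorElement_eq_one_iff_mul_comm] at h14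
      refine Subtype.ext ?_
      rw [hφ, act_apply, ← h14, mul_inv_cancel_right]
    exact hv1 (FF.eq_one_of_cm_fixed h.h2 hφp.odd ⟨u, hu⟩ hfix)
  obtain ⟨y0, hy0, hy0o, hy0Q⟩ := hP.exists_gen
  have hspec := hP.wOf_spec hne hy0 hy0o hy0Q
  refine ⟨K, ⟨⟨hP.odd, hP.comm, hP.idx, hP.syl, hspec.1, fun w hw => hP.wOf_sq hw⟩, hKL⟩, ?_⟩
  rcases hfull with e | e
  · exact ⟨f0, hf0K, e⟩
  · exact ⟨f0⁻¹, K.inv_mem hf0K, by rw [map_inv, e, inv_inv]⟩

end LData

end Cfsg.Agent.LocalEvenB.ZN
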