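import Cfsg.Agent.Lib.LocalEvenB.ZNLocalGen

/-!
The structure of a member of `jOvergroups T` in terms of its `J(T)`-components.
-/

set_option autoImplicit false

namespace Cfsg.Agent.LocalEvenB.ZN

open Subgroup Cfsg Agent.LocalEvenA
open scoped IsMulCommutative commutatorElement Pointwise

variable {G : Type*} [Group G] [Finite G]

omit [Finite G] in
theorem compSet_conj {T L K : Subgroup G} {n : G} (hnL : n ∈ L)
    (hn : n ∈ normalizer (thompsonSubgroupOf 2 T : Set G)) (hK : K ∈ compSet T L) :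
    K.map (MulAut.conj n).toMonoidHom ∈ compSet T L := by
  refine ⟨isJComponent_congr ?_ (isJComponent_conj n hK.1), ?_⟩
  · rw [← map_conj_thompson]
    exact mem_normalizer_iff_map_conj_eq.1 hn
  · rintro _ ⟨k, hk, rfl⟩
    exact L.mul_mem (L.mul_mem hnL (hK.2 hk)) (L.inv_mem hnL)

/-- A Sylow 2-subgroup of `L` containing a given 2-subgroup. -/
theorem exists_sylowIn {X L : Subgroup G} (hX : IsPGroup 2 X) (hXL : X ≤ L) :
    ∃ S, IsSylowTwoIn S L ∧ X ≤ S := by
  haveI : Fact (Nat.Prime 2) := ⟨Nat.prime_two⟩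
  obtain ⟨P, hP⟩ := (hX.of_equiv (subgroupOfEquivOfLe hXL).symm).exists_le_sylow
  refine ⟨(P : Subgroup L).map L.subtype, ⟨map_subtype_le _, P.2.map _, ?_⟩, fun x hx =>
    ⟨⟨x, hXL hx⟩, hP hx, rfl⟩⟩
  have e : ((P : Subgroup L).map L.subtype).subgroupOf L = (P : Subgroup L) :=
    comap_map_eq_self_of_injective (subtype_injective _) _
  rw [Subgroup.relIndex, e]
  exact Nat.not_even_iff_odd.1 fun he => P.not_dvd_index (even_iff_two_dvd.1 he)

/-- A 2-local subgroup contains the centralizer of its core in its core. -/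
theorem centralizer_pCoreOf_le_of_isTwoLocal (hG : ZNHyp G) {N : Subgroup G} (hN : IsTwoLocal N) :
    centralizer (pCoreOf 2 N : Set G) ≤ pCoreOf 2 N := by
  obtain ⟨W, hW, hW1, rfl⟩ := hN
  have h1 := (charP_iff 2 (normalizer (W : Set G))).1 (hG.char.2 W hW hW1)
  refine fun x hx => h1 ⟨?_, hx⟩
  have hWle : W ≤ pCoreOf 2 (normalizer (W : Set G)) := le_pCoreOf le_normalizer le_rfl hW
  exact Subgroup.centralizer_le_normalizer _ (Subgroup.centralizer_le hWle hx)

theorem not_J_le_pCoreOf {T K N : Subgroup G} (hK : IsJComponent T K) (hKN : K ≤ N) :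
    ¬ thompsonSubgroupOf 2 T ≤ pCoreOf 2 N := by
  intro h
  haveI : Fact (Nat.Prime 2) := ⟨Nat.prime_two⟩
  have h1 : K ≤ pCoreOf 2 N := by
    conv_lhs => rw [← hK.2.1]
    exact (commutator_mono hKN h).trans
      ((commutator_comm _ _).le.trans (le_normalizer_iff_commutator_le_left.1 (le_normalizer_pCoreOf 2 N)))
  have h2 : pCoreOf 2 K = K := le_antisymm (pCoreOf_le' 2 K)
    (le_pCoreOf le_rfl le_normalizer ((pCoreOf_isPGroup' 2 N).to_le h1))
  have h3 := hK.2.2.1
  rw [h2, relIndex_self] at h3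
  omega

theorem mem_jOvergroups_of_isTwoLocal (hG : ZNHyp G) {T K N S : Subgroup G} (hK : IsJComponent T K)
    (hKN : K ≤ N) (hN : IsTwoLocal N) (hS : IsSylowTwoIn S N)
    (hJ : thompsonSubgroupOf 2 S = thompsonSubgroupOf 2 T) : N ∈ jOvergroups S :=
  ⟨hS, hJ ▸ not_J_le_pCoreOf hK hKN, centralizer_pCoreOf_le_of_isTwoLocal hG hN⟩

section main

variable {T L : Subgroup G}

theorem comps_R_le_normalizer (hG : ZNHyp G) (hT : IsPGroup 2 T) (hLT : L ∈ jOvergroups T)
    {K : Subgroup G} (hK : K ∈ compSet T L) : pCoreOf 2 L ≤ normalizer (K : Set G) := by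
  obtain ⟨U, h⟩ := exists_lData hG hT hLT
  haveI := h.hUe.1
  exact h.R_le_normalizer_comp hK.1 hK.2

theorem comps_eq_of_wOf (hG : ZNHyp G) (hT : IsPGroup 2 T) (hLT : L ∈ jOvergroups T)
    {K K' : Subgroup G} (hK : K ∈ compSet T L) (hK' : K' ∈ compSet T L) {w : G} (hw : w ∈ wOf K)
    (hw' : w ∈ wOf K') (hw1 : w ≠ 1) : K' = K := by
  obtain ⟨U, h⟩ := exists_lData hG hT hLT
  haveI := h.hUe.1
  exact h.eq_of_wOf hK.1 hK.2 hK'.1 hK'.2 hw hw' hw1

theorem comps_le_normalizer (hG : ZNHyp G) (hT : IsPGroup 2 T) (hLT : L ∈ jOvergroups T)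
    {K K' : Subgroup G} (hK : K ∈ compSet T L) (hK' : K' ∈ compSet T L) :
    K' ≤ normalizer (K : Set G) := by
  obtain ⟨U, h⟩ := exists_lData hG hT hLT
  haveI := h.hUe.1
  exact h.comp_le_normalizer hK.1 hK.2 hK'.1 hK'.2

theorem comps_wOf_le (hG : ZNHyp G) (hT : IsPGroup 2 T) (hLT : L ∈ jOvergroups T)
    {K K' : Subgroup G} (hK : K ∈ compSet T L) (hK' : K' ∈ compSet T L) :
    wOf K ≤ pCoreOf 2 L ∧ wOf K ≤ centralizer (wOf K' : Set G) := by
  obtain ⟨U, h⟩ := exists_lData hG hT hLT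
  haveI := h.hUe.1
  obtain ⟨x, y, hx⟩ := h.exists_pieceOf hK.1 hK.2
  obtain ⟨x', y', hx'⟩ := h.exists_pieceOf hK'.1 hK'.2
  have h1 : wOf K ≤ U := hx.range_eq ▸ map_subtype_le _
  have h2 : wOf K' ≤ U := hx'.range_eq ▸ map_subtype_le _
  exact ⟨h1.trans h.hUR, h1.trans ((le_centralizer U).trans (Subgroup.centralizer_le h2))⟩

/-- `L` is generated by its components and the normalizer of `J(T)`. -/
theorem le_comps_sup_normalizer (hG : ZNHyp G) (hT : IsPGroup 2 T) (hLT : L ∈ jOvergroups T) :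
    L ≤ sSup (compSet T L) ⊔ (L ⊓ normalizer (thompsonSubgroupOf 2 T : Set G)) := by
  haveI : Fact (Nat.Prime 2) := ⟨Nat.prime_two⟩
  obtain ⟨U, h⟩ := exists_lData hG hT hLT
  haveI := h.hUe.1
  set J := thompsonSubgroupOf 2 T
  set M := sSup (compSet T L) ⊔ (L ⊓ normalizer (J : Set G)) with hM
  set φ := act h.hLN
  set E := Subgroup.closure (pieceSet h.hLN) with hE
  have hEM : E ≤ (M.subgroupOf L).map φ := by
    refine (closure_le _).2 fun x hx => ?_
    by_cases hmv : ∃ A, Transfer.IsMaxElemIn 2 T A ∧ ∃ a ∈ FF.imgAut U A, a * x * a = x⁻¹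
    · obtain ⟨A, hA, a, ha, hinv⟩ := hmv
      obtain ⟨K, hK, f, hf, he⟩ := h.exists_comp_of_moved hx hA ha hinv
      exact ⟨f, mem_subgroupOf.2 (mem_sup_left (le_sSup hK hf)), he⟩
    · push Not at hmv
      obtain ⟨g, rfl⟩ := LData.fit_le h.hLN hx.2
      refine ⟨g, mem_subgroupOf.2 (mem_sup_right ⟨g.2, h.mem_normalizer_of_comm fun j hj => ?_⟩), rfl⟩
      have hle : J ≤ pre h.hLN (centralizer ({act h.hLN g} : Set (MulAut U))) := by
        refine le_of_eq_of_le (Transfer.thompsonSubgroupOf_eq T) (sSup_le fun A hA a ha => ?_)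
        have haL : a ∈ L := h.hLT.1.1 (hA.1 ha)
        refine (mem_pre haL).2 (mem_centralizer_singleton_iff.2 ?_)
        have hai : act h.hLN ⟨a, haL⟩ ∈ FF.imgAut U A := by
          rw [imgAut_eq_map h.hLN A (hA.1.trans h.hLT.1.1)]
          exact ⟨⟨a, haL⟩, mem_subgroupOf.2 ha, rfl⟩
        have h2a := h.sq_eq_one_img hA hai
        have h3 := (((h.main hA).1 _ hx).1 _ hai).resolve_right (hmv A hA _ hai)
        conv_rhs => rw [← h3]
        rw [mul_assoc _ (act h.hLN ⟨a, haL⟩) (act h.hLN ⟨a, haL⟩), h2a, mul_one]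
      exact (mem_centralizer_singleton_iff.1 ((mem_pre j.2).1 (hle hj))).symm
  have hkerM : ∀ c : L, φ c = 1 → (c : G) ∈ M := fun c hc => mem_sup_right ⟨c.2,
    Transfer.normalizer_le_normalizer_thompson T (h.hCT ⟨c.2, (act_eq_one h.hLN).1 hc⟩)⟩
  have hpreE : pre h.hLN E ≤ M := by
    rintro g ⟨l, hl, rfl⟩
    obtain ⟨m, hm, e⟩ := hEM hl
    have h4 := mul_mem (mem_subgroupOf.1 hm) (hkerM (m⁻¹ * l) (by
      rw [map_mul, map_inv]; exact (congrArg (·⁻¹ * φ l) e).trans (inv_mul_cancel _)))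
    simpa using h4
  set P := pre h.hLN (dSub h.hLN) with hP
  have hPL : P ≤ L := map_subtype_le _
  have hLP : L ≤ normalizer (P : Set G) := fun g hg => by
    refine LocalEvenB.mem_normalizer_of_conj_mem fun p hp => ?_
    refine (mem_pre (L.mul_mem (L.mul_mem hg (hPL hp)) (L.inv_mem hg))).2 ?_
    have := (mem_normalizer_iff.1 (LData.range_le_normalizer_dSub h.hLN ⟨⟨g, hg⟩, rfl⟩) _).1
      ((mem_pre (hPL hp)).1 hp)
    rwa [← map_inv, ← map_mul, ← map_mul] at this
  have hJP : J ≤ P := fun j hj => (mem_pre (h.J_le hj)).2 (h.J_act_mem_dSub hj)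
  set C := pre h.hLN E ⊓ P with hC
  have hPC : P ≤ normalizer (C : Set G) := fun p (hp : p ∈ P) =>
    LocalEvenB.mem_normalizer_of_conj_mem fun c hc => by
      have hpL := hPL hp
      have hmem := L.mul_mem (L.mul_mem hpL (hPL hc.2)) (L.inv_mem hpL)
      refine ⟨(mem_pre hmem).2 ?_, P.mul_mem (P.mul_mem hp hc.2) (P.inv_mem hp)⟩
      have hEn : (act h.hLN).range ≤ normalizer (E : Set (MulAut U)) := fun γ hγ => by
        refine LocalEvenB.mem_normalizer_of_conjMap_le ?_
        rw [hE, MonoidHom.map_closure]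
        refine closure_mono ?_
        rintro _ ⟨z, hz, rfl⟩
        exact LData.pieceSet_conj hγ hz
      have := (mem_normalizer_iff.1 (hEn ⟨⟨p, hpL⟩, rfl⟩) _).1 ((mem_pre (hPL hc.2)).1 hc.1)
      rwa [← map_inv, ← map_mul, ← map_mul] at this
  have hPsplit : P ≤ C ⊔ (T ⊓ P) := le_sup_inf_sylow h.hLT.1 hPL hLP inf_le_right hPC
    fun g hg => ⟨1, by
      refine ⟨(mem_pre (L.pow_mem (hPL hg) _)).2 ?_, P.pow_mem hg _⟩
      have := h.sq_mem ((mem_pre (hPL hg)).1 hg)
      rw [← map_mul] at this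
      convert this using 2
      exact Subtype.ext (by show g ^ (2 ^ 1) = g * g; rw [pow_one, sq])⟩
  -- Frattini argument
  set T' : Sylow 2 L := (h.hT.of_equiv (subgroupOfEquivOfLe h.hLT.1.1).symm).toSylow (by
    have := h.hLT.1.2.2
    rw [Subgroup.relIndex] at this
    exact fun h' => absurd (even_iff_two_dvd.2 h') (Nat.not_even_iff_odd.2 this))
  haveI : (P.subgroupOf L).Normal := normal_subgroupOf_of_le_normalizer hLP
  obtain ⟨Q, hQ⟩ := exists_sylow_subgroupOf_normal T' (P.subgroupOf L)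
  have hfr := Sylow.normalizer_sup_eq_top Q
  have hTPJ : thompsonSubgroupOf 2 (T ⊓ P) = J :=
    (thompson_eq_of_conj_le (g := (1 : G)) (le_inf (Transfer.thompsonSubgroupOf_le T) hJP)
      (by rw [LocalEvenB.conjMap_one]; exact inf_le_left)).1
  intro g hg
  have hgtop : (⟨g, hg⟩ : L) ∈ (⊤ : Subgroup L) := mem_top _
  rw [← hfr] at hgtop
  have hle : normalizer ((Q : Subgroup (P.subgroupOf L)).map (P.subgroupOf L).subtype : Set L) ⊔
      P.subgroupOf L ≤ M.subgroupOf L := by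
    refine sup_le (fun n hn => mem_subgroupOf.2 (mem_sup_right ⟨n.2, ?_⟩)) fun p hp => ?_
    · rw [← hTPJ]
      refine Transfer.normalizer_le_normalizer_thompson _
        (LocalEvenB.mem_normalizer_of_conj_mem fun t ht => ?_)
      have htL : t ∈ L := h.hLT.1.1 ht.1
      have hQm : ∀ u : L, u ∈ (Q : Subgroup (P.subgroupOf L)).map (P.subgroupOf L).subtype ↔
          (u : G) ∈ T ⊓ P := by
        intro u
        constructor
        · rintro ⟨q, hq, rfl⟩
          rw [hQ] at hq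
          exact ⟨hq, q.2⟩
        · intro hu
          refine ⟨⟨u, hu.2⟩, ?_, rfl⟩
          rw [hQ]
          exact hu.1
      exact (hQm _).1 ((mem_normalizer_iff.1 hn ⟨t, htL⟩).1 ((hQm ⟨t, htL⟩).2 ht))
    · refine mem_subgroupOf.2 ((hPsplit.trans (sup_le (inf_le_left.trans hpreE) ?_)) hp)
      exact le_sup_of_le_right (le_inf (inf_le_left.trans h.hLT.1.1)
        (inf_le_left.trans (le_normalizer.trans (Transfer.normalizer_le_normalizer_thompson T))))
  exact hle hgtop

theorem compSet_nonempty (hG : ZNHyp G) (hT : IsPGroup 2 T) (hLT : L ∈ jOvergroups T) :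
    (compSet T L).Nonempty := by
  by_contra hc
  rw [Set.not_nonempty_iff_eq_empty] at hc
  have h1 := le_comps_sup_normalizer hG hT hLT
  rw [hc, sSup_empty, bot_sup_eq] at h1
  exact hLT.2.1 (le_pCoreOf ((Transfer.thompsonSubgroupOf_le T).trans hLT.1.1)
    (h1.trans inf_le_right) (isPGroup_thompson hT))

theorem le_normalizer_comps (hG : ZNHyp G) (hT : IsPGroup 2 T) (hLT : L ∈ jOvergroups T) :
    L ≤ normalizer ((sSup (compSet T L) : Subgroup G) : Set G) := by
  refine (le_comps_sup_normalizer hG hT hLT).trans (sup_le le_normalizer fun n hn => ?_)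
  refine LocalEvenB.mem_normalizer_of_conjMap_le (map_le_iff_le_comap.2 (sSup_le fun K hK => ?_))
  rw [← map_le_iff_le_comap]
  exact le_sSup (compSet_conj hn.1 hn.2 hK)

theorem comp_isSubnormal (hG : ZNHyp G) (hT : IsPGroup 2 T) (hLT : L ∈ jOvergroups T)
    {K : Subgroup G} (hK : K ∈ compSet T L) : (K.subgroupOf L).IsSubnormal := by
  set H := sSup (compSet T L) with hH
  have hHL : H ≤ L := sSup_le fun K hK => hK.2
  have h1 : (H.subgroupOf L).IsSubnormal := IsSubnormal.step _ ⊤ le_top IsSubnormal.top (by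
    haveI := normal_subgroupOf_of_le_normalizer (le_normalizer_comps hG hT hLT)
    infer_instance)
  refine IsSubnormal.step _ _ (fun x hx => (le_sSup hK : K ≤ H) hx) h1
    (normal_subgroupOf_of_le_normalizer fun x hx => ?_)
  have hxK : (x : G) ∈ normalizer (K : Set G) :=
    (sSup_le fun K' hK' => comps_le_normalizer hG hT hLT hK hK' : H ≤ _) hx
  exact mem_normalizer_iff.2 fun z => mem_normalizer_iff.1 hxK (z : G)

theorem T_le_normalizer_comp (hG : ZNHyp G) (hT : IsPGroup 2 T) (hLT : L ∈ jOvergroups T)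
    {K : Subgroup G} (hK : K ∈ compSet T L) {t w : G} (ht : t ∈ L)
    (htJ : t ∈ normalizer (thompsonSubgroupOf 2 T : Set G)) (hw : w ∈ wOf K) (hw1 : w ≠ 1)
    (htw : t * w * t⁻¹ ∈ wOf K) : t ∈ normalizer (K : Set G) := by
  refine mem_normalizer_iff_map_conj_eq.2
    (comps_eq_of_wOf hG hT hLT hK (compSet_conj ht htJ hK) htw ?_ fun e => hw1 (conj_eq_one_iff.1 e))
  exact (wOf_map_equiv (MulAut.conj t) K).ge ⟨w, hw, rfl⟩

end main

/-- A zero-component determines its normalizer. -/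
theorem normalizer_wOf_le (hG : ZNHyp G) {T K : Subgroup G} (hT : IsPGroup 2 T)
    (hK : K ∈ jComponentsZero T) :
    normalizer (wOf K : Set G) ≤ normalizer (K : Set G) := by
  obtain ⟨hKc, hK0⟩ := hK
  set N := normalizer (wOf K : Set G)
  have hP := preComp_of_isJComponent hT hKc
  have hKN : K ≤ N := le_normalizer.trans (normalizer_le_normalizer_wOf K)
  obtain ⟨S, hS, hJS⟩ := exists_sylowIn (isPGroup_thompson hT) hP.J_le_normalizer_wOf
  have hJ := hK0 S hJS hS
  have hN : IsTwoLocal N := ⟨wOf K, isPGroup_wOf hKc, wOf_ne_bot hKc, rfl⟩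
  have hLT := mem_jOvergroups_of_isTwoLocal hG hKc hKN hN hS hJ
  have hKS : K ∈ compSet S N := ⟨isJComponent_congr hJ.symm hKc, hKN⟩
  refine (le_comps_sup_normalizer hG hS.2.1 hLT).trans
    (sup_le (sSup_le fun K' hK' => comps_le_normalizer hG hS.2.1 hLT hKS hK') fun n hn => ?_)
  obtain ⟨w, hw, hw1⟩ : ∃ w ∈ wOf K, w ≠ 1 := by
    by_contra hc
    push Not at hc
    exact wOf_ne_bot hKc ((eq_bot_iff_forall _).2 hc)
  exact T_le_normalizer_comp hG hS.2.1 hLT hKS hn.1 hn.2 hw hw1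
    ((mem_normalizer_iff.1 hn.1 w).1 hw)

/-- A zero-component is a component for each conjugate of `T` with `J` normalising `W_K`. -/
theorem isJComponent_of_le_normalizer (hG : ZNHyp G) {T K : Subgroup G} (hT : IsPGroup 2 T)
    (hK : K ∈ jComponentsZero T) {g : G}
    (hg : thompsonSubgroupOf 2 (T.map (MulAut.conj g).toMonoidHom) ≤ normalizer (wOf K : Set G)) :
    IsJComponent (T.map (MulAut.conj g).toMonoidHom) K := by
  haveI : Fact (Nat.Prime 2) := ⟨Nat.prime_two⟩
  set N := normalizer (wOf K : Set G)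
  have hP := preComp_of_isJComponent hT hK.1
  obtain ⟨S, hS, hJS⟩ := exists_sylowIn (isPGroup_thompson hT) hP.J_le_normalizer_wOf
  have hJ := hK.2 S hJS hS
  set Jg := thompsonSubgroupOf 2 (T.map (MulAut.conj g).toMonoidHom) with hJg
  set T' : Sylow 2 N := (hS.2.1.of_equiv (subgroupOfEquivOfLe hS.1).symm).toSylow (by
    have := hS.2.2
    rw [Subgroup.relIndex] at this
    exact fun h' => absurd (even_iff_two_dvd.2 h') (Nat.not_even_iff_odd.2 this))
  obtain ⟨l, hl⟩ := LocalEvenB.sylow_conj_le T' ((isPGroup_thompson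
    (LocalEvenB.conjMap_isPGroup (g := g) hT)).of_equiv (subgroupOfEquivOfLe hg).symm)
  have hle : Jg ≤ S.map (MulAut.conj (l : G)).toMonoidHom := fun x hx => LocalEvenB.mem_conjMap.2
    (mem_subgroupOf.1 (LocalEvenB.mem_conjMap.1 (hl (show (⟨x, hg hx⟩ : N) ∈ Jg.subgroupOf N from hx))))
  -- hence it is the conjugate of `J(T)` by `l`
  obtain ⟨A0, hA0⟩ := Transfer.exists_isMaxElemIn (p := 2) T
  have hJl : Jg ≤ (thompsonSubgroupOf 2 T).map (MulAut.conj (l : G)).toMonoidHom := by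
    rw [hJg, Transfer.thompsonSubgroupOf_eq (T.map (MulAut.conj g).toMonoidHom)]
    refine sSup_le fun A hA => ?_
    rw [← hJ, map_conj_thompson]
    refine maxElem_of_sup ⟨(maxElem_of_sup hA).trans hle, hA.2.1, fun B hB hBe => ?_⟩
    obtain ⟨B0, hB0⟩ := Transfer.exists_isMaxElemIn (p := 2) S
    have hB0T : B0 ≤ T := (maxElem_of_sup hB0).trans (hJ.le.trans (Transfer.thompsonSubgroupOf_le T))
    have h1 : B.map (MulAut.conj (l : G)⁻¹).toMonoidHom ≤ S := by
      rintro _ ⟨b, hb, rfl⟩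
      simpa [MulAut.conj_apply] using LocalEvenB.mem_conjMap.1 (hB hb)
    have h2 := hB0.2.2 _ h1 (Transfer.ea_map hBe _)
    rw [LocalEvenB.conjMap_card] at h2
    refine h2.trans ?_
    rw [← LocalEvenB.conjMap_card g B0]
    exact hA.2.2 _ (map_mono hB0T) (Transfer.ea_map hB0.2.1 _)
  have heq : Jg = (thompsonSubgroupOf 2 T).map (MulAut.conj (l : G)).toMonoidHom := by
    refine eq_of_le_of_card_ge hJl ?_
    rw [LocalEvenB.conjMap_card, hJg, ← map_conj_thompson, LocalEvenB.conjMap_card]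
  have hlK : (l : G) ∈ normalizer (K : Set G) := normalizer_wOf_le hG hT hK l.2
  have := isJComponent_conj (l : G) hK.1
  rw [LocalEvenB.conjMap_eq_of_mem_normalizer hlK] at this
  exact isJComponent_congr (by rw [← map_conj_thompson]; exact heq.symm) this

end Cfsg.Agent.LocalEvenB.ZN
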