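import Cfsg.Agent.Lib.LocalEvenB.ZNSylowPair

/-!
The amalgam attached to a maximal straddling subgroup.
-/

set_option autoImplicit false

namespace Cfsg.Agent.LocalEvenB.ZN

open Subgroup Cfsg Agent.LocalEvenA
open scoped IsMulCommutative commutatorElement Pointwise

variable {G : Type*} [Group G] [Finite G]

theorem good_of_outside (hG : ZNHyp G) {S : Sylow 2 G} {M T K : Subgroup G} (h : MSetup S M)
    (hT : T ∈ maxStraddlingTwoSubgroups M) (hK : K ∈ jComponentsOutside M T) : Good T K := by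
  obtain ⟨S', h', hTS⟩ := exists_sylow_over h hT
  by_cases hne : T = (S' : Subgroup G)
  · obtain ⟨-, hKT, -, -⟩ := unique_maximal hG h' hT hK
    subst hne
    exact good_of_sylow hG h.core S' hK.1.1 (le_sup_right.trans hKT)
  · obtain ⟨s, d⟩ := exists_swapData h' hT hTS hK hne
    exact d.good hG

/-- Two components with distinct maximal overgroups and agreeing points. -/
theorem exists_partner (hG : ZNHyp G) {S : Sylow 2 G} {M T : Subgroup G} (h : MSetup S M)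
    (hT : T ∈ maxStraddlingTwoSubgroups M) :
    ∃ K K' : Subgroup G, Good T K ∧ Good T K' ∧ lmax T K ≠ lmax T K' ∧
      pt T (wOf K) = pt T (wOf K') := by
  obtain ⟨K, hK⟩ := outside_nonempty hG h hT
  have hg := good_of_outside hG h hT hK
  obtain ⟨S', h', hTS⟩ := exists_sylow_over h hT
  by_cases hne : T = (S' : Subgroup G)
  · subst hne
    obtain ⟨K', hK', hS', hne'⟩ := exists_other_sylow hG h.core S' hg.hK hg.T_le_L
    have hg' := good_of_sylow hG h.core S' hK' hS'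
    exact ⟨K, K', hg, hg', Ne.symm hne', sylow_pt_eq hG h.core S' hg hg' (Ne.symm hne')⟩
  · obtain ⟨s, d⟩ := exists_swapData h' hT hTS hK hne
    exact ⟨K, _, d.good hG, d.swap.good hG, d.lmax_ne hG, d.pt_eq hG⟩

theorem not_commutator_le_core (hG : ZNHyp G) {T K : Subgroup G} (h : Good T K) :
    ¬ ⁅K ⊔ T, K ⊔ T⁆ ≤ pCoreOf 2 (K ⊔ T) := by
  intro hle
  have h1 : K ≤ pCoreOf 2 (K ⊔ T) := by
    conv_lhs => rw [← h.hK.2.1]
    exact (commutator_mono le_sup_left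
      ((Transfer.thompsonSubgroupOf_le T).trans le_sup_right)).trans hle
  have h2 : pCoreOf 2 K = K := le_antisymm (pCoreOf_le' 2 K)
    (le_pCoreOf le_rfl le_normalizer ((pCoreOf_isPGroup' 2 (K ⊔ T)).to_le h1))
  have h3 := h.hK.2.2.1
  rw [h2, relIndex_self] at h3
  omega

theorem omega_commutator_ne (hG : ZNHyp G) {T K : Subgroup G} (h : Good T K) :
    ⁅omegaCenterOf T, K ⊔ T⁆ ≠ ⊥ := by
  intro hb
  obtain ⟨w, hw1, -, hwZ, hwn, -, -, -, -⟩ := exists_wgen h.hT h.hK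
  refine hwn ⟨hwZ, ?_⟩
  have hle := commutator_eq_bot_iff_le_centralizer.1 hb
  exact centralizer_le (le_sup_left : K ≤ K ⊔ T) (hle ((h.omega_eq hG).ge hwZ))

/-- The properties of one side of the amalgam. -/
theorem side_props (hG : ZNHyp G) {T K : Subgroup G} (h : Good T K) :
    centralizer (pCoreOf 2 (K ⊔ T) : Set G) ≤ pCoreOf 2 (K ⊔ T) ∧ IsSylowTwoIn T (K ⊔ T) ∧
      (pCoreOf 2 (K ⊔ T)).relIndex (K ⊔ T) = 6 ∧
      ¬ ⁅K ⊔ T, K ⊔ T⁆ ≤ pCoreOf 2 (K ⊔ T) ∧ ⁅omegaCenterOf T, K ⊔ T⁆ ≠ ⊥ ∧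
      ∃ L : Subgroup G, IsMaximalTwoLocal L ∧ K ⊔ T ≤ L ∧ IsSylowTwoIn T L ∧
        ∀ L' : Subgroup G, IsMaximalTwoLocal L' → K ⊔ T ≤ L' → L' = L := by
  have hs := h.side hG
  refine ⟨h.centralizer_R_le hG, ⟨le_sup_right, h.hT, by rw [hs.idx]; decide⟩, ?_,
    not_commutator_le_core hG h, omega_commutator_ne hG h,
    lmax T K, h.adm.isMaximal hG h.hT h.hK, h.P_le_L hG, h.hLT.1, fun L' hL' hle =>
      h.adm.eq_lmax hG h.hT h.hK hL'
        ((sup_le_sup_left (Transfer.thompsonSubgroupOf_le T) K).trans hle)⟩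
  rw [← relIndex_mul_relIndex _ T _ hs.R_le_T hs.hTP, hs.idxR, hs.idx]

end Cfsg.Agent.LocalEvenB.ZN
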