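import Cfsg.Agent.Lib.LocalEvenB.ZNYLemma

/-!
For a Sylow subgroup, a second maximal 2-local subgroup with components.
-/

set_option autoImplicit false

namespace Cfsg.Agent.LocalEvenB.ZN

open Subgroup Cfsg Agent.LocalEvenA
open scoped IsMulCommutative commutatorElement Pointwise

variable {G : Type*} [Group G] [Finite G]

/-- A nonempty family of straddling subgroups has a maximal member. -/
theorem exists_maxStraddling {M : Subgroup G} (h : (straddlingTwoSubgroups M).Nonempty) :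
    (maxStraddlingTwoSubgroups M).Nonempty := by
  obtain ⟨T₁, hT₁, h1⟩ := Set.exists_max_image _ (fun T : Subgroup G => maxElemAbelianOrder T)
    (Set.toFinite _) h
  obtain ⟨T₂, hT₂, h2⟩ := Set.exists_max_image
    {T | T ∈ straddlingTwoSubgroups M ∧ maxElemAbelianOrder T = maxElemAbelianOrder T₁}
    (fun T : Subgroup G => Nat.card (thompsonSubgroupOf 2 T)) (Set.toFinite _) ⟨T₁, hT₁, rfl⟩
  obtain ⟨T₃, hT₃, h3⟩ := Set.exists_max_image
    {T | T ∈ straddlingTwoSubgroups M ∧ maxElemAbelianOrder T = maxElemAbelianOrder T₁ ∧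
      Nat.card (thompsonSubgroupOf 2 T) = Nat.card (thompsonSubgroupOf 2 T₂)}
    (fun T : Subgroup G => Nat.card T) (Set.toFinite _) ⟨T₂, hT₂.1, hT₂.2, rfl⟩
  refine ⟨T₃, hT₃.1, fun T hT => ⟨hT₃.2.1 ▸ h1 T hT, fun ha => ?_⟩⟩
  have ha' : maxElemAbelianOrder T = maxElemAbelianOrder T₁ := ha.trans hT₃.2.1
  refine ⟨hT₃.2.2 ▸ h2 T ⟨hT, ha'⟩, fun hj => ?_⟩
  exact h3 T ⟨hT, ha', hj.trans hT₃.2.2⟩

/-- Involutions inside and outside a strongly embedded subgroup are conjugate. -/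
theorem conj_of_stronglyEmbedded {L : Subgroup G} (h : IsStronglyEmbedded L) {a k : G}
    (ha : a ∈ L) (ha2 : orderOf a = 2) (hk : k ∉ L) (hk2 : orderOf k = 2) :
    ∃ g : G, g * a * g⁻¹ = k := by
  have hcen : ∀ {u : G}, u ∈ L → orderOf u = 2 → ∀ {g : G}, g * u = u * g → g ∈ L := by
    intro u hu hu2 g hg
    by_contra hgL
    have hmem : u ∈ L ⊓ L.map (MulAut.conj g).toMonoidHom := ⟨hu, LocalEvenB.mem_conjMap.2 (by
      rw [mul_assoc, ← hg, inv_mul_cancel_left]; exact hu)⟩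
    have hd : 2 ∣ Nat.card (L ⊓ L.map (MulAut.conj g).toMonoidHom : Subgroup G) := by
      have h1 := orderOf_dvd_natCard
        (⟨u, hmem⟩ : (L ⊓ L.map (MulAut.conj g).toMonoidHom : Subgroup G))
      rwa [orderOf_mk, hu2] at h1
    exact Nat.not_even_iff_odd.2 (h.2.2 g hgL) (even_iff_two_dvd.2 hd)
  have haa : a * a = 1 := by
    have := pow_orderOf_eq_one a; rwa [ha2, sq] at this
  have hkk : k * k = 1 := by
    have := pow_orderOf_eq_one k; rwa [hk2, sq] at this
  obtain ⟨d, hd⟩ : ∃ d, d = a * k := ⟨_, rfl⟩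
  have hinv : ∀ m : ℕ, a * d ^ m * a = (d ^ m)⁻¹ := by
    intro m
    induction m with
    | zero => rw [pow_zero, mul_one, inv_one, haa]
    | succ m ih =>
      rw [pow_succ, mul_inv_rev, ← ih, hd, mul_inv_rev, inv_eq_of_mul_eq_one_right haa,
        inv_eq_of_mul_eq_one_right hkk]
      rw [← hd]
      have h1 : d * a = a * (k * a) := by rw [hd, mul_assoc]
      calc a * (d ^ m * d) * a = a * (d * d ^ m) * a := by rw [← pow_succ, pow_succ']
        _ = (a * d * a) * (a * d ^ m * a) := by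
            rw [show (a * d * a) * (a * d ^ m * a) = a * d * (a * a) * (d ^ m * a) by group, haa]
            group
        _ = k * a * (a * d ^ m * a) := by
            rw [show a * d * a = k * a by rw [hd, ← mul_assoc a a, haa, one_mul]]
  rcases Nat.even_or_odd (orderOf d) with ⟨m, hm⟩ | ⟨m, hm⟩
  · exfalso
    have hpos := (isOfFinOrder_of_finite d).orderOf_pos
    obtain ⟨u, hu⟩ : ∃ u, u = d ^ m := ⟨_, rfl⟩
    have hu2 : u * u = 1 := by rw [hu, ← pow_add, ← hm, pow_orderOf_eq_one]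
    have hu1 : u ≠ 1 := fun e => by
      have := Nat.le_of_dvd (by omega) (orderOf_dvd_of_pow_eq_one (hu.symm.trans e))
      omega
    have huo : orderOf u = 2 := orderOf_eq_prime (by rw [sq]; exact hu2) hu1
    have hau : a * u = u * a := by
      have h1 := hinv m
      rw [← hu, inv_eq_of_mul_eq_one_right hu2] at h1
      calc a * u = a * u * (a * a) := by rw [haa, mul_one]
        _ = (a * u * a) * a := by group
        _ = u * a := by rw [h1]
    have huL : u ∈ L := hcen ha ha2 hau.symm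
    refine hk (hcen huL huo ?_)
    have hdu : d * u = u * d := by rw [hu, ← pow_succ', pow_succ]
    calc k * u = (a * d) * u := by rw [hd, ← mul_assoc, haa, one_mul]
      _ = a * (d * u) := mul_assoc _ _ _
      _ = (a * u) * d := by rw [hdu, mul_assoc]
      _ = u * (a * d) := by rw [hau, mul_assoc]
      _ = u * k := by rw [hd, ← mul_assoc a a k, haa, one_mul]
  · refine ⟨d ^ m, ?_⟩
    calc d ^ m * a * (d ^ m)⁻¹ = d ^ m * a * (a * d ^ m * a) := by rw [hinv m]
      _ = d ^ m * (a * a) * d ^ m * a := by group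
      _ = d ^ (2 * m) * a := by rw [haa, mul_one, ← pow_add, two_mul]
      _ = d⁻¹ * a := by
        congr 1
        refine eq_inv_of_mul_eq_one_left ?_
        rw [← pow_succ, ← hm, pow_orderOf_eq_one]
      _ = k := by
        rw [hd, mul_inv_rev, inv_mul_cancel_right, inv_eq_of_mul_eq_one_right hkk]

/-- A member of `jOvergroups S` is not strongly embedded. -/
theorem not_stronglyEmbedded {S L : Subgroup G} (hS : IsPGroup 2 S) (hL : L ∈ jOvergroups S) :
    ¬ IsStronglyEmbedded L := by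
  intro h
  haveI : Fact (Nat.Prime 2) := ⟨Nat.prime_two⟩
  obtain ⟨i, hi, hi2⟩ : ∃ i ∈ pCoreOf 2 L, orderOf i = 2 := by
    obtain ⟨z, hz, hz1⟩ := exists_omegaCenter_ne_one (pCoreOf_isPGroup' 2 L) (pCoreOf_ne_bot hL)
    obtain ⟨h1, -, h2⟩ := mem_omegaCenterOf.1 hz
    exact ⟨z, h1, orderOf_eq_prime (by rw [sq]; exact h2) hz1⟩
  obtain ⟨g, hg⟩ : ∃ g : G, g ∉ L := by
    by_contra hc
    push Not at hc
    exact h.1 ((eq_top_iff' L).2 hc)
  have hiL : i ∈ L := pCoreOf_le' 2 L hi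
  have hoc : ∀ (x u : G), orderOf (x * u * x⁻¹) = orderOf u := fun x u => by
    rw [show x * u * x⁻¹ = MulAut.conj x u from rfl, MulEquiv.orderOf_eq]
  have hconjmem : ∀ (x u : G), u ∈ L → orderOf u = 2 → x * u * x⁻¹ ∈ L → x ∈ L := by
    intro x u hu hu2 hxu
    by_contra hx
    have hmem : x * u * x⁻¹ ∈ L ⊓ L.map (MulAut.conj x).toMonoidHom :=
      ⟨hxu, LocalEvenB.conjMap_apply_mem hu⟩
    have hd : 2 ∣ Nat.card (L ⊓ L.map (MulAut.conj x).toMonoidHom : Subgroup G) := by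
      have h1 := orderOf_dvd_natCard
        (⟨_, hmem⟩ : (L ⊓ L.map (MulAut.conj x).toMonoidHom : Subgroup G))
      rwa [orderOf_mk, hoc, hu2] at h1
    exact Nat.not_even_iff_odd.2 (h.2.2 x hx) (even_iff_two_dvd.2 hd)
  obtain ⟨k, hk, hk2⟩ : ∃ k, k ∉ L ∧ orderOf k = 2 :=
    ⟨g * i * g⁻¹, fun hh => hg (hconjmem g i hiL hi2 hh), (hoc g i).trans hi2⟩
  have hall : ∀ j ∈ L, orderOf j = 2 → j ∈ pCoreOf 2 L := by
    intro j hj hj2
    obtain ⟨x, hx⟩ := conj_of_stronglyEmbedded h hiL hi2 hk hk2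
    obtain ⟨y, hy⟩ := conj_of_stronglyEmbedded h hj hj2 hk hk2
    have he : y⁻¹ * x * i * (y⁻¹ * x)⁻¹ = j := by
      calc y⁻¹ * x * i * (y⁻¹ * x)⁻¹ = y⁻¹ * (x * i * x⁻¹) * y := by group
        _ = j := by rw [hx, ← hy]; group
    have hm := hconjmem (y⁻¹ * x) i hiL hi2 (he ▸ hj)
    exact he ▸ (mem_normalizer_iff.1 (le_normalizer_pCoreOf 2 L hm) i).1 hi
  refine hL.2.1 ?_
  rw [Transfer.thompsonSubgroupOf_eq S]
  refine sSup_le fun A hA a ha => ?_
  by_cases ha1 : a = 1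
  · exact ha1 ▸ one_mem _
  · exact hall a (hL.1.1 (hA.1 ha)) (orderOf_eq_prime (hA.2.1.2 a ha) ha1)

/-- Outside the maximal overgroup of a component there is another one. -/
theorem exists_other (hG : ZNHyp G) (hcore : pCore 2 G = ⊥) (S : Sylow 2 G) {K : Subgroup G}
    (hK : IsJComponent (S : Subgroup G) K) (hS : (S : Subgroup G) ≤ lmax (S : Subgroup G) K) :
    ∃ K' : Subgroup G, IsJComponent (S : Subgroup G) K' ∧
      lmax (S : Subgroup G) K' ≠ lmax (S : Subgroup G) K ∧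
      ((S : Subgroup G) ≤ lmax (S : Subgroup G) K' ∨
        ∃ g ∈ normalizer (thompsonSubgroupOf 2 (S : Subgroup G) : Set G),
          K' = K.map (MulAut.conj g).toMonoidHom) := by
  haveI : Fact (Nat.Prime 2) := ⟨Nat.prime_two⟩
  have ha := adm_of_sylow S K
  have hmax := ha.isMaximal hG S.2 hK
  set L := lmax (S : Subgroup G) K with hLdef
  by_cases hNJ : normalizer (thompsonSubgroupOf 2 (S : Subgroup G) : Set G) ≤ L
  swap
  · obtain ⟨g, hg, hgL⟩ := SetLike.not_le_iff_exists.1 hNJ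
    refine ⟨_, isJComponent_conj_normalizer hg hK, fun he => hgL ?_, Or.inr ⟨g, hg, rfl⟩⟩
    rw [← ha.lmax_conj hG S.2 hK hg (adm_of_sylow S _)] at he
    rw [← normalizer_eq_of_isMaximal hG hmax]
    exact mem_normalizer_iff_map_conj_eq.2 he
  have hM : MSetup S L := ⟨hcore, hmax.1, hNJ⟩
  have hne : (straddlingTwoSubgroups L).Nonempty := by
    by_contra hc
    exact not_stronglyEmbedded S.2 (lmax_jOvergroup hG S hK hS)
      ((se_iff_no_straddle hG hM).2 (Set.not_nonempty_iff_eq_empty.1 hc))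
  obtain ⟨T, hT⟩ := exists_maxStraddling hne
  obtain ⟨S', hM', hTS'⟩ := exists_sylow_over hM hT
  obtain ⟨m, hm, hSm⟩ := exists_conj_sylow_le hS S'.2 hM'.S_le
  have hS'e : (S' : Subgroup G) = (S : Subgroup G).map (MulAut.conj m).toMonoidHom :=
    eq_of_le_of_card_ge hSm (by
      rw [LocalEvenB.conjMap_card, S.card_eq_multiplicity, S'.card_eq_multiplicity])
  have hKm : IsJComponent (S' : Subgroup G) (K.map (MulAut.conj m).toMonoidHom) :=
    hS'e ▸ isJComponent_conj m hK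
  have hconjL : ∀ {X : Subgroup G}, X ≤ L → X.map (MulAut.conj m).toMonoidHom ≤ L := by
    intro X hX
    rintro _ ⟨x, hx, rfl⟩
    exact L.mul_mem (L.mul_mem hm (hX hx)) (L.inv_mem hm)
  have hL' : L = lmax (S' : Subgroup G) (K.map (MulAut.conj m).toMonoidHom) :=
    (adm_of_sylow S' _).eq_lmax hG S'.2 hKm hmax (sup_le
      (hconjL (le_sup_left.trans (ha.sup_le_lmax hG S.2 hK)))
      ((Transfer.thompsonSubgroupOf_le _).trans hM'.S_le))
  have hTe : T = (S' : Subgroup G) := by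
    have hM'' := hM'
    have hT' := hT
    rw [hL'] at hM'' hT'
    exact straddle_eq_sylow hG S' hKm hM'' hT' hTS'
  obtain ⟨K₀, hK₀⟩ := outside_nonempty hG hM' hT
  obtain ⟨hmax₀, hle₀, -, -⟩ := unique_maximal hG hM' hT hK₀
  rw [hTe] at hK₀ hle₀ hmax₀
  set K' := K₀.map (MulAut.conj m⁻¹).toMonoidHom with hK'
  have hSback : (S' : Subgroup G).map (MulAut.conj m⁻¹).toMonoidHom = (S : Subgroup G) := by
    rw [hS'e, LocalEvenB.conjMap_conjMap, inv_mul_cancel, LocalEvenB.conjMap_one]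
  have hK'c : IsJComponent (S : Subgroup G) K' := hSback ▸ isJComponent_conj m⁻¹ hK₀.1.1
  have hK'nL : ¬ K' ≤ L := by
    intro hle
    refine hK₀.2.1 fun k hk => ?_
    have := L.mul_mem (L.mul_mem hm (hle ⟨k, hk, rfl⟩)) (L.inv_mem hm)
    simpa [MulAut.conj_apply, mul_assoc] using this
  refine ⟨K', hK'c, fun he => hK'nL ?_, Or.inl ?_⟩
  · exact he ▸ le_sup_left.trans ((adm_of_sylow S K').sup_le_lmax hG S.2 hK'c)
  · have hX : K' ⊔ (S : Subgroup G) ≤ (normalizer (wSpan (S' : Subgroup G) K₀ : Set G)).map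
        (MulAut.conj m⁻¹).toMonoidHom := by
      rw [← hSback, ← Subgroup.map_sup]; exact map_mono hle₀
    rw [← (adm_of_sylow S K').eq_lmax hG S.2 hK'c (isMaximal_map_conj hmax₀ m⁻¹)
      ((sup_le_sup_left (Transfer.thompsonSubgroupOf_le _) K').trans hX)]
    exact le_sup_right.trans hX

end Cfsg.Agent.LocalEvenB.ZN
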