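import Cfsg.Agent.Lib.LocalEvenB.ZNBasic
import Cfsg.Agent.Lib.Basics.Cores

/-!
The module attached to a member of `jOvergroups T`.
-/

set_option autoImplicit false

namespace Cfsg.Agent.LocalEvenB.ZN

open Subgroup Cfsg Agent.LocalEvenA
open scoped IsMulCommutative commutatorElement Pointwise

variable {G : Type*} [Group G]

/-- The action of `L` on a subgroup it normalises. -/
noncomputable def act {L U : Subgroup G} (hLN : L ≤ normalizer (U : Set G)) : L →* MulAut U :=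
  U.normalizerMonoidHom.comp (Subgroup.inclusion hLN)

theorem act_apply {L U : Subgroup G} (hLN : L ≤ normalizer (U : Set G)) (l : L) (u : U) :
    ((act hLN l u : U) : G) = l * u * (l : G)⁻¹ := rfl

theorem act_eq_one {L U : Subgroup G} (hLN : L ≤ normalizer (U : Set G)) {l : L} :
    act hLN l = 1 ↔ (l : G) ∈ centralizer (U : Set G) := by
  rw [mem_centralizer_iff]
  constructor
  · intro h u hu
    have := congrArg (fun φ : MulAut U => ((φ ⟨u, hu⟩ : U) : G)) h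
    exact (mul_inv_eq_iff_eq_mul.1 this).symm
  · intro h
    refine MulEquiv.ext fun u => Subtype.ext ?_
    rw [act_apply, ← h u u.2, mul_inv_cancel_right]
    rfl

theorem imgAut_eq_map {L U : Subgroup G} (hLN : L ≤ normalizer (U : Set G)) (X : Subgroup G)
    (hX : X ≤ L) : FF.imgAut U X = (X.subgroupOf L).map (act hLN) := by
  ext φ
  rw [FF.mem_imgAut, mem_map]
  constructor
  · rintro ⟨g, hg, rfl⟩
    exact ⟨⟨g, hX hg⟩, mem_subgroupOf.2 hg, rfl⟩
  · rintro ⟨l, hl, rfl⟩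
    exact ⟨⟨l, hLN l.2⟩, mem_subgroupOf.1 hl, rfl⟩

variable [Finite G]

/-- What is used about the pair `(L, U)`. -/
structure LData (T L U : Subgroup G) : Prop where
  hT : IsPGroup 2 T
  hLT : L ∈ jOvergroups T
  hsolv : Group.IsSolvable L
  hUe : IsElementaryAbelian 2 U
  hUR : U ≤ pCoreOf 2 L
  hRU : pCoreOf 2 L ≤ centralizer (U : Set G)
  hLN : L ≤ normalizer (U : Set G)
  hCT : L ⊓ centralizer (U : Set G) ≤ normalizer (T : Set G)
  hCR : ∀ c ∈ L ⊓ centralizer (U : Set G), ∀ t ∈ T, c * t * c⁻¹ * t⁻¹ ∈ pCoreOf 2 L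
  hCodd : ∀ c ∈ L ⊓ centralizer (U : Set G), ∀ n : ℕ, c ^ 2 ^ n ∈ pCoreOf 2 L → c ∈ pCoreOf 2 L
  hO2 : ∀ N : Subgroup (MulAut U), N ≤ (act hLN).range → IsPGroup 2 N →
    (act hLN).range ≤ normalizer (N : Set (MulAut U)) → N = ⊥

theorem inf_eq_of_sylowIn {T L S : Subgroup G} (hT : IsSylowTwoIn T L) (hS : IsPGroup 2 S)
    (hTS : T ≤ S) : L ⊓ S = T := by
  haveI : Fact (Nat.Prime 2) := ⟨Nat.prime_two⟩
  refine le_antisymm (relIndex_eq_one.1 ?_) (le_inf hT.1 hTS)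
  have h1 : T.relIndex (L ⊓ S) ∣ T.relIndex L :=
    Dvd.intro _ (relIndex_mul_relIndex T (L ⊓ S) L (le_inf hT.1 hTS) inf_le_left)
  obtain ⟨n, hn⟩ := IsPGroup.iff_card.1 (hS.to_le (inf_le_right : L ⊓ S ≤ S))
  obtain ⟨m, -, hm⟩ := (Nat.dvd_prime_pow Nat.prime_two).1 (hn ▸ relIndex_dvd_card T (L ⊓ S))
  have hodd : Odd (2 ^ m) := hm ▸ hT.2.2.of_dvd_nat h1
  rcases m with _ | m
  · rw [hm, pow_zero]
  · exact absurd hodd (Nat.not_odd_iff_even.2 (even_two.pow_of_ne_zero (Nat.succ_ne_zero m)))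

theorem pCoreOf_le_sylowIn {T L : Subgroup G} (hT : IsSylowTwoIn T L) : pCoreOf 2 L ≤ T := by
  haveI : Fact (Nat.Prime 2) := ⟨Nat.prime_two⟩
  have hS : IsPGroup 2 (pCoreOf 2 L ⊔ T : Subgroup G) :=
    (pCoreOf_isPGroup' 2 L).to_sup_of_normal_left' hT.2.1
      (hT.1.trans (le_normalizer_pCoreOf 2 L))
  have := inf_eq_of_sylowIn hT hS le_sup_right
  exact (le_inf (pCoreOf_le' 2 L) le_sup_left).trans this.le

theorem pCoreOf_ne_bot {T L : Subgroup G} (hLT : L ∈ jOvergroups T) : pCoreOf 2 L ≠ ⊥ := by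
  intro h
  obtain ⟨-, h1, h2⟩ := hLT
  apply h1
  rw [h] at h2 ⊢
  refine le_trans (fun g _ => ?_) h2
  rw [mem_centralizer_iff]
  intro x hx
  rw [mem_bot.1 hx, one_mul, mul_one]

/-- A normal subgroup which is a 2-extension of `C` is generated by `C` and its trace on a Sylow
2-subgroup. -/
theorem le_sup_inf_sylow {T L C P : Subgroup G} (hTL : IsSylowTwoIn T L) (hPL : P ≤ L)
    (hLP : L ≤ normalizer (P : Set G)) (hCP : C ≤ P) (hPC' : P ≤ normalizer (C : Set G))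
    (hPC : ∀ g ∈ P, ∃ n : ℕ, g ^ 2 ^ n ∈ C) : P ≤ C ⊔ (T ⊓ P) := by
  haveI : Fact (Nat.Prime 2) := ⟨Nat.prime_two⟩
  haveI : (C.subgroupOf P).Normal := normal_subgroupOf_of_le_normalizer hPC'
  obtain ⟨k, hk⟩ : ∃ k, Nat.card (P ⧸ C.subgroupOf P) = 2 ^ k := by
    refine IsPGroup.iff_card.1 fun q => ?_
    induction q using QuotientGroup.induction_on with
    | H g =>
      obtain ⟨n, hn⟩ := hPC g g.2
      refine ⟨n, ?_⟩
      rw [← QuotientGroup.mk_pow, QuotientGroup.eq_one_iff]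
      exact mem_subgroupOf.2 hn
  set D := C ⊔ (T ⊓ P) with hD
  have h1 : D.relIndex P ∣ 2 ^ k := by
    rw [← hk]
    exact (relIndex_dvd_of_le_left P (le_sup_left : C ≤ D)).trans (dvd_of_eq rfl)
  have h2 : D.relIndex P ∣ (T ⊓ P).relIndex P := relIndex_dvd_of_le_left P le_sup_right
  rw [inf_relIndex_right] at h2
  have h3 : Odd (T.relIndex P) := by
    obtain ⟨Q, hQ⟩ := exists_sylow_subgroupOf_normal
      ((hTL.2.1.of_equiv (subgroupOfEquivOfLe hTL.1).symm).toSylow (by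
        have := hTL.2.2
        rw [Subgroup.relIndex] at this
        exact fun h => absurd (even_iff_two_dvd.2 h) (Nat.not_even_iff_odd.2 this)))
      (P.subgroupOf L) (hN := normal_subgroupOf_of_le_normalizer hLP)
    have h4 := Q.not_dvd_index
    rw [hQ] at h4
    change ¬ 2 ∣ (T.subgroupOf L).relIndex (P.subgroupOf L) at h4
    rw [relIndex_subgroupOf hPL] at h4
    exact Nat.not_even_iff_odd.1 fun he => h4 (even_iff_two_dvd.1 he)
  exact relIndex_eq_one.1 (Nat.eq_one_of_dvd_coprimes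
    ((Nat.coprime_two_left.2 h3).pow_left k) h1 h2)

/-- Existence of the module. -/
theorem exists_lData (hG : ZNHyp G) {T L : Subgroup G} (hT : IsPGroup 2 T)
    (hLT : L ∈ jOvergroups T) : ∃ U, LData T L U := by
  classical
  haveI : Fact (Nat.Prime 2) := ⟨Nat.prime_two⟩
  obtain ⟨hTL, hJR, hCL⟩ := hLT
  set R := pCoreOf 2 L with hR
  have hR1 : R ≠ ⊥ := pCoreOf_ne_bot ⟨hTL, hJR, hCL⟩
  have hRp : IsPGroup 2 R := pCoreOf_isPGroup' 2 L
  have hRT : R ≤ T := pCoreOf_le_sylowIn hTL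
  have hLR : L ≤ normalizer (R : Set G) := le_normalizer_pCoreOf 2 L
  haveI := hG.solv _ ⟨R, hRp, hR1, rfl⟩
  have hsolv : Group.IsSolvable L :=
    Group.isSolvable_of_isSolvable_injective (f := Subgroup.inclusion hLR) (inclusion_injective hLR)
  obtain ⟨S, hS⟩ := hT.exists_le_sylow
  set Ω := omegaCenterOf (S : Subgroup G) with hΩ
  have hΩR : Ω ≤ R := fun x hx => hCL (mem_centralizer_iff.2 fun r hr =>
    ((mem_omegaCenterOf.1 hx).2.1 r (hS (hRT hr))).symm)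
  have hΩZ : Ω ≤ omegaCenterOf R := fun x hx => mem_omegaCenterOf.2
    ⟨hΩR hx, fun r hr => (mem_omegaCenterOf.1 hx).2.1 r (hS (hRT hr)), (mem_omegaCenterOf.1 hx).2.2⟩
  set U : Subgroup G := ⨆ l : L, Ω.map (MulAut.conj (l : G)).toMonoidHom with hU
  have hUZ : U ≤ omegaCenterOf R := iSup_le fun l => (map_mono hΩZ).trans
    (LocalEvenB.conjMap_le_of_mem_normalizer (normalizer_le_normalizer_omegaCenterOf R (hLR l.2)))
  have hΩU : Ω ≤ U := le_iSup_of_le (1 : L) (by rw [OneMemClass.coe_one, LocalEvenB.conjMap_one])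
  have hLN : L ≤ normalizer (U : Set G) := fun g hg => by
    refine LocalEvenB.mem_normalizer_of_conjMap_le ?_
    rw [hU, Subgroup.map_iSup]
    refine iSup_le fun l => ?_
    rw [LocalEvenB.conjMap_conjMap]
    exact le_iSup (fun l : L => Ω.map (MulAut.conj (l : G)).toMonoidHom) ⟨g * l, L.mul_mem hg l.2⟩
  have hRU : R ≤ centralizer (U : Set G) := fun r hr => mem_centralizer_iff.2 fun u hu =>
    (mem_omegaCenterOf.1 (hUZ hu)).2.1 r hr
  set C := L ⊓ centralizer (U : Set G) with hC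
  have hCS : C ≤ normalizer ((S : Subgroup G) : Set G) :=
    (le_trans inf_le_right (Subgroup.centralizer_le hΩU)).trans (hG.cen S)
  have hTeq : L ⊓ (S : Subgroup G) = T := inf_eq_of_sylowIn hTL S.2 hS
  have hCT : C ≤ normalizer (T : Set G) := fun c hc => by
    refine LocalEvenB.mem_normalizer_of_conj_mem fun t ht => ?_
    rw [← hTeq] at ht ⊢
    exact ⟨L.mul_mem (L.mul_mem hc.1 ht.1) (L.inv_mem hc.1),
      (mem_normalizer_iff.1 (hCS hc) t).1 ht.2⟩
  have hLC : L ≤ normalizer (C : Set G) := fun g hg => LocalEvenB.mem_normalizer_of_conj_mem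
    fun c hc => ⟨L.mul_mem (L.mul_mem hg hc.1) (L.inv_mem hg), mem_centralizer_iff.2 fun u hu => by
      have hu' : g⁻¹ * u * g ∈ U := by
        have := (mem_normalizer_iff.1 (hLN (L.inv_mem hg)) u).1 hu
        rwa [inv_inv] at this
      have := mem_centralizer_iff.1 hc.2 _ hu'
      calc u * (g * c * g⁻¹) = g * (g⁻¹ * u * g * c) * g⁻¹ := by group
        _ = g * (c * (g⁻¹ * u * g)) * g⁻¹ := by rw [this]
        _ = g * c * g⁻¹ * u := by group⟩
  -- a 2-closed normal subgroup of `L` has its Sylow subgroup in `R`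
  have hkey : ∀ P : Subgroup G, P ≤ L → L ≤ normalizer (P : Set G) →
      P ≤ normalizer ((T ⊓ P : Subgroup G) : Set G) → T ⊓ P ≤ R := by
    intro P hPL hLP hPT
    refine le_trans (le_pCoreOf (p := 2) inf_le_right hPT (hT.to_le inf_le_left)) ?_
    exact le_pCoreOf ((pCoreOf_le' 2 P).trans hPL) (hLP.trans (pCoreOf_normalizer 2 P))
      (pCoreOf_isPGroup' 2 P)
  have hTC : T ⊓ C ≤ R := hkey C inf_le_left hLC fun c hc =>
    LocalEvenB.mem_normalizer_of_conj_mem fun t ht => ⟨(mem_normalizer_iff.1 (hCT hc) t).1 ht.1,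
      C.mul_mem (C.mul_mem hc ht.2) (C.inv_mem hc)⟩
  have hRC : R ≤ C := le_inf (pCoreOf_le' 2 L) hRU
  have hCR : ∀ c ∈ C, ∀ t ∈ T, c * t * c⁻¹ * t⁻¹ ∈ R := by
    intro c hc t ht
    refine hTC ⟨T.mul_mem ((mem_normalizer_iff.1 (hCT hc) t).1 ht) (T.inv_mem ht), ?_⟩
    have := C.mul_mem hc ((mem_normalizer_iff.1 (hLC (hTL.1 ht)) _).1 (C.inv_mem hc))
    rwa [← mul_assoc, ← mul_assoc] at this
  -- `R` has odd index in `C`
  have hidx : Odd (R.relIndex C) := by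
    haveI : (T.subgroupOf (C ⊔ T)).Normal :=
      normal_subgroupOf_of_le_normalizer (sup_le hCT le_normalizer)
    have h1 : T.relIndex (C ⊔ T) = T.relIndex C := by
      have h4 := relIndex_sup_right (C.subgroupOf (C ⊔ T)) (T.subgroupOf (C ⊔ T))
      rw [← subgroupOf_sup le_sup_left le_sup_right, subgroupOf_self, relIndex_top_right,
        relIndex_subgroupOf le_sup_left] at h4
      exact h4
    have h2 : T.relIndex C ∣ T.relIndex L := h1 ▸ Dvd.intro _
      (relIndex_mul_relIndex T (C ⊔ T) L le_sup_right (sup_le inf_le_left hTL.1))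
    have h3 : R.relIndex C = T.relIndex C := by
      rw [← inf_relIndex_right T C, show T ⊓ C = R from le_antisymm hTC (le_inf hRT hRC)]
    exact h3 ▸ hTL.2.2.of_dvd_nat h2
  have hCodd : ∀ c ∈ C, ∀ n : ℕ, c ^ 2 ^ n ∈ R → c ∈ R := by
    intro c hc n hcn
    haveI : (R.subgroupOf C).Normal :=
      normal_subgroupOf_of_le_normalizer (inf_le_left.trans hLR)
    have h1 : orderOf ((⟨c, hc⟩ : C) : C ⧸ R.subgroupOf C) ∣ 2 ^ n := by
      refine orderOf_dvd_of_pow_eq_one ?_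
      rw [← QuotientGroup.mk_pow, QuotientGroup.eq_one_iff]
      exact mem_subgroupOf.2 hcn
    have h2 : orderOf ((⟨c, hc⟩ : C) : C ⧸ R.subgroupOf C) ∣ R.relIndex C :=
      orderOf_dvd_natCard _
    have h3 := Nat.eq_one_of_dvd_coprimes ((Nat.coprime_two_left.2 hidx).pow_left n) h1 h2
    exact mem_subgroupOf.1 ((QuotientGroup.eq_one_iff _).1 (orderOf_eq_one_iff.1 h3))
  refine ⟨U, hT, ⟨hTL, hJR, hCL⟩, hsolv, Transfer.ea_mono (elemAb_omegaCenterOf R) hUZ,
    fun u hu => (mem_omegaCenterOf.1 (hUZ hu)).1, hRU, hLN, hCT, hCR, hCodd, ?_⟩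
  intro N hN hNp hNn
  set P : Subgroup G := (N.comap (act hLN)).map L.subtype with hP
  have hPL : P ≤ L := map_subtype_le _
  have hPmem : ∀ {g : G} (hg : g ∈ L), g ∈ P ↔ act hLN ⟨g, hg⟩ ∈ N := fun {g} hg =>
    ⟨fun ⟨l, hl, e⟩ => (Subtype.ext e : l = ⟨g, hg⟩) ▸ hl, fun h => ⟨_, h, rfl⟩⟩
  have hLP : L ≤ normalizer (P : Set G) := fun g hg => by
    refine LocalEvenB.mem_normalizer_of_conj_mem fun p hp => ?_
    refine (hPmem (L.mul_mem (L.mul_mem hg (hPL hp)) (L.inv_mem hg))).2 ?_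
    have := (mem_normalizer_iff.1 (hNn ⟨⟨g, hg⟩, rfl⟩) _).1 ((hPmem (hPL hp)).1 hp)
    rwa [← map_inv, ← map_mul, ← map_mul] at this
  have hCP : C ≤ P := fun c hc => (hPmem hc.1).2 (by rw [(act_eq_one hLN).2 hc.2]; exact N.one_mem)
  -- `P` is `C` times a 2-group
  have hPC : ∀ g ∈ P, ∃ n : ℕ, g ^ 2 ^ n ∈ C := by
    intro g hg
    obtain ⟨n, hn⟩ := hNp ⟨_, (hPmem (hPL hg)).1 hg⟩
    refine ⟨n, L.pow_mem (hPL hg) _, (act_eq_one hLN (l := ⟨g, hPL hg⟩ ^ 2 ^ n)).1 ?_⟩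
    rw [map_pow]
    exact congrArg Subtype.val hn
  have hPeq : P ≤ C ⊔ (T ⊓ P) :=
    le_sup_inf_sylow hTL hPL hLP hCP (hPL.trans hLC) hPC
  have hTP : T ⊓ P ≤ R := by
    refine hkey P hPL hLP (hPeq.trans (sup_le (fun c hc =>
      LocalEvenB.mem_normalizer_of_conj_mem fun t ht => ?_) le_normalizer))
    exact ⟨(mem_normalizer_iff.1 (hCT hc) t).1 ht.1, P.mul_mem (P.mul_mem (hCP hc) ht.2) (P.inv_mem (hCP hc))⟩
  refine (eq_bot_iff_forall _).2 fun φ hφ => ?_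
  obtain ⟨l, rfl⟩ := hN hφ
  refine (act_eq_one hLN).2 ?_
  exact ((hPeq.trans (sup_le le_rfl (hTP.trans hRC))) ((hPmem l.2).2 hφ)).2

end Cfsg.Agent.LocalEvenB.ZN
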