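import Cfsg.Agent.Lib.LocalEvenB.ZNLocalMain
import Cfsg.Prelude.Def_Involutions

/-!
2-subgroups of `M` lying in 2-local subgroups outside `M`.
-/

set_option autoImplicit false

namespace Cfsg.Agent.LocalEvenB.ZN

open Subgroup Cfsg Agent.LocalEvenA
open scoped IsMulCommutative commutatorElement Pointwise

variable {G : Type*} [Group G] [Finite G]

/-- The set-up: a Sylow subgroup `S` and a 2-local subgroup containing `N_G(J(S))`. -/
structure MSetup (S : Sylow 2 G) (M : Subgroup G) : Prop where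
  core : pCore 2 G = ⊥
  loc : IsTwoLocal M
  nJ : normalizer (thompsonSubgroupOf 2 (S : Subgroup G) : Set G) ≤ M

namespace MSetup

variable {S : Sylow 2 G} {M : Subgroup G}

theorem S_le (h : MSetup S M) : (S : Subgroup G) ≤ M :=
  (le_normalizer.trans (Transfer.normalizer_le_normalizer_thompson _)).trans h.nJ

theorem ne_top (h : MSetup S M) : M ≠ ⊤ := by
  intro hM
  obtain ⟨W, hW, hW1, hN⟩ := h.loc
  haveI : W.Normal := normalizer_eq_top_iff.1 (hN.symm.trans hM)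
  exact hW1 (eq_bot_iff.2 ((LocalEvenA.le_pCore_of_normal inferInstance hW).trans h.core.le))

end MSetup

/-- A 2-subgroup of `M` is contained in a conjugate of `S` inside `M`. -/
theorem exists_conj_sylow_le {S : Sylow 2 G} {M X : Subgroup G} (hS : (S : Subgroup G) ≤ M)
    (hX : IsPGroup 2 X) (hXM : X ≤ M) :
    ∃ m ∈ M, X ≤ (S : Subgroup G).map (MulAut.conj m).toMonoidHom := by
  haveI : Fact (Nat.Prime 2) := ⟨Nat.prime_two⟩
  obtain ⟨g, hg⟩ := LocalEvenB.sylow_conj_le (S.subtype hS)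
    (hX.of_equiv (subgroupOfEquivOfLe hXM).symm)
  refine ⟨g, g.2, fun x hx => LocalEvenB.mem_conjMap.2 ?_⟩
  exact mem_subgroupOf.1
    (LocalEvenB.mem_conjMap.1 (hg (show (⟨x, hXM hx⟩ : M) ∈ X.subgroupOf M from hx)))

theorem straddle_same {M T X : Subgroup G} (hT : T ∈ maxStraddlingTwoSubgroups M)
    (hX : X ∈ straddlingTwoSubgroups M) (hJX : thompsonSubgroupOf 2 T ≤ X) :
    thompsonSubgroupOf 2 X = thompsonSubgroupOf 2 T ∧ Nat.card X ≤ Nat.card T ∧
      ∀ A, Transfer.IsMaxElemIn 2 T A → Transfer.IsMaxElemIn 2 X A := by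
  obtain ⟨h1, h2⟩ := hT.2 X hX
  obtain ⟨A0, hA0⟩ := Transfer.exists_isMaxElemIn (p := 2) T
  obtain ⟨B0, hB0⟩ := Transfer.exists_isMaxElemIn (p := 2) X
  have hle : ∀ A, Transfer.IsMaxElemIn 2 T A → Nat.card A ≤ Nat.card B0 := fun A hA =>
    hB0.2.2 A ((maxElem_of_sup hA).trans hJX) hA.2.1
  rw [maxElemAbelianOrder_eq hA0, maxElemAbelianOrder_eq hB0] at h1 h2
  have heq : Nat.card B0 = Nat.card A0 := le_antisymm h1 (hle A0 hA0)
  have hmax : ∀ A, Transfer.IsMaxElemIn 2 T A → Transfer.IsMaxElemIn 2 X A := fun A hA =>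
    ⟨(maxElem_of_sup hA).trans hJX, hA.2.1, fun B hB hBe => (hB0.2.2 B hB hBe).trans
      (heq.le.trans (hA.2.2 A0 hA0.1 hA0.2.1))⟩
  obtain ⟨h3, h4⟩ := h2 heq
  have hJle : thompsonSubgroupOf 2 T ≤ thompsonSubgroupOf 2 X :=
    le_of_eq_of_le (Transfer.thompsonSubgroupOf_eq T) (sSup_le fun A hA => maxElem_of_sup (hmax A hA))
  have hJ := eq_of_le_of_card_ge hJle h3
  exact ⟨hJ.symm, h4 (by rw [hJ]), hmax⟩

theorem thompson_ne_bot {T : Subgroup G} (hT : IsPGroup 2 T) (hT1 : T ≠ ⊥) :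
    thompsonSubgroupOf 2 T ≠ ⊥ :=
  haveI : Fact (Nat.Prime 2) := ⟨Nat.prime_two⟩
  Transfer.thompsonSubgroupOf_ne_bot hT hT1

theorem normalizer_J_le {S : Sylow 2 G} {M T : Subgroup G} (h : MSetup S M)
    (hT : T ∈ maxStraddlingTwoSubgroups M) :
    normalizer (thompsonSubgroupOf 2 T : Set G) ≤ M := by
  haveI : Fact (Nat.Prime 2) := ⟨Nat.prime_two⟩
  obtain ⟨hTp, hT1, hTM, -⟩ := hT.1
  by_contra hcon
  obtain ⟨m, hm, hTm⟩ := exists_conj_sylow_le h.S_le hTp hTM
  set P := (S : Subgroup G).map (MulAut.conj m).toMonoidHom with hP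
  have hPM : P ≤ M := by
    rintro _ ⟨s, hs, rfl⟩
    exact M.mul_mem (M.mul_mem hm (h.S_le hs)) (M.inv_mem hm)
  have hne : ¬ P ≤ T := by
    intro hle
    apply hcon
    rw [le_antisymm hTm hle, hP, ← map_conj_thompson]
    intro g hg
    have hmg : m⁻¹ * g * m ∈ M := by
      refine h.nJ (LocalEvenB.mem_normalizer_of_conj_mem fun z hz => ?_)
      have h1 := (mem_normalizer_iff.1 hg _).1 ⟨z, hz, rfl⟩
      rw [LocalEvenB.mem_conjMap] at h1
      simpa [MulAut.conj_apply, mul_assoc] using h1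
    have := M.mul_mem (M.mul_mem hm hmg) (M.inv_mem hm)
    simpa [mul_assoc] using this
  obtain ⟨n, hnP, hnT, hnN⟩ :=
    LocalEvenB.exists_mem_normalizer_not_mem (LocalEvenB.conjMap_isPGroup S.2) hTm hne
  set X := P ⊓ normalizer (T : Set G) with hX
  have hTX : T ≤ X := le_inf hTm le_normalizer
  have hJN : normalizer (T : Set G) ≤ normalizer (thompsonSubgroupOf 2 T : Set G) :=
    Transfer.normalizer_le_normalizer_thompson T
  have hXs : X ∈ straddlingTwoSubgroups M :=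
    ⟨(LocalEvenB.conjMap_isPGroup S.2).to_le inf_le_left, ne_bot_of_le_ne_bot hT1 hTX,
      inf_le_left.trans hPM, normalizer (thompsonSubgroupOf 2 T : Set G),
      ⟨_, isPGroup_thompson hTp, thompson_ne_bot hTp hT1, rfl⟩,
      inf_le_right.trans hJN, hcon⟩
  have h2 := (straddle_same hT hXs ((Transfer.thompsonSubgroupOf_le T).trans hTX)).2.1
  exact hnT ((eq_of_le_of_card_ge hTX h2).ge ⟨hnP, hnN⟩)

theorem sylowIn_straddle {S : Sylow 2 G} {M T L T0 : Subgroup G} (h : MSetup S M)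
    (hT : T ∈ maxStraddlingTwoSubgroups M) (hL : IsTwoLocal L) (hLM : ¬ L ≤ M)
    (hT0 : IsSylowTwoIn T0 L) (hJT0 : thompsonSubgroupOf 2 T ≤ T0) :
    thompsonSubgroupOf 2 T0 = thompsonSubgroupOf 2 T ∧ T0 ∈ straddlingTwoSubgroups M ∧
      ¬ thompsonSubgroupOf 2 T0 ≤ pCoreOf 2 L := by
  haveI : Fact (Nat.Prime 2) := ⟨Nat.prime_two⟩
  obtain ⟨hTp, hT1, hTM, -⟩ := hT.1
  have hJ1 : (thompsonSubgroupOf 2 T) ≠ ⊥ := thompson_ne_bot hTp hT1
  have hNJ := normalizer_J_le h hT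
  have hmk : ∀ X : Subgroup G, (thompsonSubgroupOf 2 T) ≤ X → X ≤ T0 → X ≤ M → X ∈ straddlingTwoSubgroups M :=
    fun X hJX hXT hXM =>
      ⟨hT0.2.1.to_le hXT, ne_bot_of_le_ne_bot hJ1 hJX, hXM, L, hL, hXT.trans hT0.1, hLM⟩
  have hT0M : T0 ≤ M := by
    by_contra hne
    set X := T0 ⊓ M with hX
    have hJX : (thompsonSubgroupOf 2 T) ≤ X := le_inf hJT0 ((Transfer.thompsonSubgroupOf_le T).trans hTM)
    obtain ⟨n, hn0, hnX, hnN⟩ := LocalEvenB.exists_mem_normalizer_not_mem hT0.2.1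
      (inf_le_left : X ≤ T0) fun hle => hne (hle.trans inf_le_right)
    refine hnX ⟨hn0, hNJ ?_⟩
    rw [← (straddle_same hT (hmk X hJX inf_le_left inf_le_right) hJX).1]
    exact Transfer.normalizer_le_normalizer_thompson X hnN
  have hs := hmk T0 hJT0 le_rfl hT0M
  obtain ⟨hJ0, -, hmax⟩ := straddle_same hT hs hJT0
  refine ⟨hJ0, hs, fun hle => hLM ?_⟩
  rw [hJ0] at hle
  set R := pCoreOf 2 L
  have hRT : R ≤ T0 := pCoreOf_le_sylowIn hT0
  have hJR : thompsonSubgroupOf 2 R = (thompsonSubgroupOf 2 T) := by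
    refine le_antisymm ?_ ?_
    · rw [Transfer.thompsonSubgroupOf_eq R, ← hJ0]
      refine sSup_le fun A hA => maxElem_of_sup ⟨hA.1.trans hRT, hA.2.1, fun B hB hBe => ?_⟩
      obtain ⟨A0, hA0⟩ := Transfer.exists_isMaxElemIn (p := 2) T
      exact ((hmax A0 hA0).2.2 B hB hBe).trans (hA.2.2 A0 ((maxElem_of_sup hA0).trans hle) hA0.2.1)
    · rw [Transfer.thompsonSubgroupOf_eq T]
      exact sSup_le fun A hA => maxElem_of_sup ⟨(maxElem_of_sup hA).trans hle, hA.2.1,
        fun B hB hBe => (hmax A hA).2.2 B (hB.trans hRT) hBe⟩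
  exact ((le_normalizer_pCoreOf 2 L).trans (Transfer.normalizer_le_normalizer_thompson R)).trans
    (hJR ▸ hNJ)

theorem max_overgroup (hG : ZNHyp G) {S : Sylow 2 G} {M T L : Subgroup G} (h : MSetup S M)
    (hT : T ∈ maxStraddlingTwoSubgroups M) (hL : IsTwoLocal L) (hLM : ¬ L ≤ M) (hTL : T ≤ L) :
    L ∈ jOvergroups T := by
  obtain ⟨T1, hT1, hTT1⟩ := exists_sylowIn hT.1.1 hTL
  have hJ1 := (Transfer.thompsonSubgroupOf_le (p := 2) T).trans hTT1
  obtain ⟨-, hs, hnle⟩ := sylowIn_straddle h hT hL hLM hT1 hJ1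
  have he : T = T1 := eq_of_le_of_card_ge hTT1 (straddle_same hT hs hJ1).2.1
  rw [← he] at hT1 hnle
  exact ⟨hT1, hnle, centralizer_pCoreOf_le_of_isTwoLocal hG hL⟩

theorem zero_of_not_le {S : Sylow 2 G} {M T K : Subgroup G} (h : MSetup S M)
    (hT : T ∈ maxStraddlingTwoSubgroups M) (hK : IsJComponent T K) (hKM : ¬ K ≤ M) :
    K ∈ jComponentsZero T := by
  refine ⟨hK, fun S' hJS hS' => ?_⟩
  refine (sylowIn_straddle h hT ⟨wOf K, isPGroup_wOf hK, wOf_ne_bot hK, rfl⟩ ?_ hS' hJS).1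
  exact fun hle => hKM ((le_normalizer.trans (normalizer_le_normalizer_wOf K)).trans hle)

theorem outside_nonempty (hG : ZNHyp G) {S : Sylow 2 G} {M T : Subgroup G} (h : MSetup S M)
    (hT : T ∈ maxStraddlingTwoSubgroups M) : (jComponentsOutside M T).Nonempty := by
  haveI : Fact (Nat.Prime 2) := ⟨Nat.prime_two⟩
  obtain ⟨hTp, hT1, hTM, L, hL, hTL, hLM⟩ := hT.1
  have hLT := max_overgroup hG h hT hL hLM hTL
  obtain ⟨K, hK, hKM⟩ : ∃ K ∈ compSet T L, ¬ K ≤ M := by
    by_contra hc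
    push Not at hc
    exact hLM ((le_comps_sup_normalizer hG hTp hLT).trans
      (sup_le (sSup_le hc) (inf_le_right.trans (normalizer_J_le h hT))))
  refine ⟨K, zero_of_not_le h hT hK.1 hKM, hKM, ne_bot_of_le_ne_bot (pCoreOf_ne_bot hLT) ?_⟩
  exact le_pCoreOf ((pCoreOf_le_sylowIn hLT.1).trans le_sup_right)
    ((sup_le hK.2 hTL).trans (le_normalizer_pCoreOf 2 L)) (pCoreOf_isPGroup' 2 L)

/-- No straddling 2-subgroup exactly when `M` is strongly embedded. -/
theorem se_iff_no_straddle (hG : ZNHyp G) {S : Sylow 2 G} {M : Subgroup G} (h : MSetup S M) :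
    IsStronglyEmbedded M ↔ straddlingTwoSubgroups M = ∅ := by
  haveI : Fact (Nat.Prime 2) := ⟨Nat.prime_two⟩
  constructor
  · rintro ⟨-, -, hodd⟩
    have key : ∀ X : Subgroup G, IsPGroup 2 X → X ≠ ⊥ → X ≤ M →
        normalizer (X : Set G) ≤ M := by
      intro X hX hX1 hXM g hg
      by_contra hgM
      have hXle : X ≤ M ⊓ M.map (MulAut.conj g).toMonoidHom := le_inf hXM fun x hx =>
        LocalEvenB.mem_conjMap.2 (hXM ((mem_normalizer_iff''.1 hg x).1 hx))
      obtain ⟨k, hk⟩ := IsPGroup.iff_card.1 hX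
      have h2 : Odd (2 ^ k) := hk ▸ (hodd g hgM).of_dvd_nat (card_dvd_of_le hXle)
      rcases k with _ | k
      · exact hX1 (card_eq_one.1 (by rw [hk, pow_zero]))
      · exact absurd h2 (Nat.not_odd_iff_even.2 (even_two.pow_of_ne_zero (Nat.succ_ne_zero k)))
    rw [Set.eq_empty_iff_forall_notMem]
    rintro T ⟨hT, hT1, hTM, L, ⟨W, hW, hW1, rfl⟩, hTL, hLM⟩
    set X := W ⊔ T
    have hX : IsPGroup 2 X := hW.to_sup_of_normal_left' hT hTL
    have hXM : X ≤ M := by
      by_contra hne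
      obtain ⟨n, hnX, hnD, hnN⟩ := LocalEvenB.exists_mem_normalizer_not_mem hX
        (inf_le_left : X ⊓ M ≤ X) fun hle => hne (hle.trans inf_le_right)
      exact hnD ⟨hnX, key _ (hX.to_le inf_le_left)
        (ne_bot_of_le_ne_bot hT1 (le_inf le_sup_right hTM)) inf_le_right hnN⟩
    exact hLM (key W hW hW1 (le_sup_left.trans hXM))
  · intro hemp
    have key : ∀ X : Subgroup G, IsPGroup 2 X → X ≠ ⊥ → X ≤ M →
        normalizer (X : Set G) ≤ M := fun X hX hX1 hXM => by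
      by_contra hne
      exact Set.eq_empty_iff_forall_notMem.1 hemp X
        ⟨hX, hX1, hXM, _, ⟨X, hX, hX1, rfl⟩, le_normalizer, hne⟩
    have hS1 : (S : Subgroup G) ≠ ⊥ := S.ne_bot_of_dvd_card (even_iff_two_dvd.1 hG.char.1)
    refine ⟨h.ne_top, ?_, fun g hg => ?_⟩
    · obtain ⟨k, hk⟩ := IsPGroup.iff_card.1 S.2
      have hk0 : k ≠ 0 := fun h0 => hS1 (card_eq_one.1 (by rw [hk, h0, pow_zero]))
      exact even_iff_two_dvd.2 ((dvd_pow_self 2 hk0).trans (hk ▸ card_dvd_of_le h.S_le))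
    · by_contra hodd
      set D := M ⊓ M.map (MulAut.conj g).toMonoidHom
      obtain ⟨x, hx⟩ := exists_prime_orderOf_dvd_card' (G := ↥D) 2
        (even_iff_two_dvd.1 (Nat.not_odd_iff_even.1 hodd))
      have hxM : (x : G) ∈ M := x.2.1
      have hxg : g⁻¹ * (x : G) * g ∈ M := LocalEvenB.mem_conjMap.1 x.2.2
      have hx2 : ∀ {z : G}, orderOf z = 2 → IsPGroup 2 (zpowers z) := fun {z} hz =>
        LocalEvenB.isPGroup_zpowers ⟨1, by rw [hz, pow_one]⟩
      have hxo : orderOf (x : G) = 2 := by rw [orderOf_coe, hx]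
      have hxgo : orderOf (g⁻¹ * (x : G) * g) = 2 := by
        have := orderOf_injective (MulAut.conj g⁻¹).toMonoidHom (MulAut.conj g⁻¹).injective (x : G)
        simpa [hxo] using this
      obtain ⟨m, hm, hxm⟩ := exists_conj_sylow_le h.S_le (hx2 hxgo) (zpowers_le.2 hxg)
      -- the Sylow subgroup of the conjugate through `x`
      set P := (S : Subgroup G).map (MulAut.conj (g * m)).toMonoidHom with hP
      have hxP : (x : G) ∈ P := by
        have := LocalEvenB.mem_conjMap.1 (hxm (mem_zpowers _))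
        rw [hP, LocalEvenB.mem_conjMap]
        simpa [mul_assoc] using this
      have hPp : IsPGroup 2 P := LocalEvenB.conjMap_isPGroup S.2
      have hPM : P ≤ M := by
        by_contra hne
        obtain ⟨n, hnX, hnD, hnN⟩ := LocalEvenB.exists_mem_normalizer_not_mem hPp
          (inf_le_left : P ⊓ M ≤ P) fun hle => hne (hle.trans inf_le_right)
        refine hnD ⟨hnX, key _ (hPp.to_le inf_le_left) (fun hb => ?_) inf_le_right hnN⟩
        have h3 : (x : G) ∈ P ⊓ M := ⟨hxP, hxM⟩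
        rw [hb, mem_bot] at h3
        rw [h3, orderOf_one] at hxo
        omega
      -- conjugate inside `M`
      obtain ⟨m', hm', hPm'⟩ := exists_conj_sylow_le h.S_le hPp hPM
      have heq : P = (S : Subgroup G).map (MulAut.conj m').toMonoidHom :=
        eq_of_le_of_card_ge hPm' (by rw [hP, LocalEvenB.conjMap_card, LocalEvenB.conjMap_card])
      have hn : m'⁻¹ * (g * m) ∈ M := by
        refine key _ S.2 hS1 h.S_le (LocalEvenB.mem_normalizer_of_conjMap_le ?_)
        rw [← LocalEvenB.conjMap_conjMap, ← hP, heq, LocalEvenB.conjMap_conjMap, inv_mul_cancel,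
          LocalEvenB.conjMap_one]
      apply hg
      have := M.mul_mem (M.mul_mem hm' hn) (M.inv_mem hm)
      simpa [mul_assoc] using this

end Cfsg.Agent.LocalEvenB.ZN
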