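import Cfsg.Agent.Lib.LocalEvenB.ZNOther

/-!
Components for a Sylow subgroup: the centre and the uniqueness of the component.
-/

set_option autoImplicit false

namespace Cfsg.Agent.LocalEvenB.ZN

open Subgroup Cfsg Agent.LocalEvenA
open scoped IsMulCommutative commutatorElement Pointwise

variable {G : Type*} [Group G] [Finite G]

/-- Two components of a maximal overgroup, and a component outside it. -/
theorem zJ_of_two_comps (hG : ZNHyp G) (S : Sylow 2 G) {K K₁ K' : Subgroup G}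
    (hK : IsJComponent (S : Subgroup G) K) (hS : (S : Subgroup G) ≤ lmax (S : Subgroup G) K)
    (hK₁ : K₁ ∈ compSet (S : Subgroup G) (lmax (S : Subgroup G) K)) (hne : K₁ ≠ K)
    (hK' : IsJComponent (S : Subgroup G) K')
    (hne' : lmax (S : Subgroup G) K' ≠ lmax (S : Subgroup G) K) :
    ∃ w w₁ : G, w ≠ 1 ∧ w₁ ≠ 1 ∧ w ∈ wOf K ∧ w₁ ∈ wOf K₁ ∧ w ∈ zJ (S : Subgroup G) ∧
      w₁ ∈ zJ (S : Subgroup G) ∧ w ∉ zone (S : Subgroup G) K ∧
      w₁ ∈ zone (S : Subgroup G) K ∧ w ∈ zone (S : Subgroup G) K₁ ∧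
      w₁ * w ∈ zone (S : Subgroup G) K' ∧
      (∀ z ∈ zJ (S : Subgroup G), z = 1 ∨ z = w₁ ∨ z = w ∨ z = w₁ * w) ∧
      Nat.card (zone (S : Subgroup G) K) ≤ 2 := by
  set T := (S : Subgroup G)
  have hT : IsPGroup 2 T := S.2
  have hLT := lmax_jOvergroup hG S hK hS
  have ha := adm_of_sylow S K
  have hKc : K ∈ compSet T (lmax T K) := ⟨hK, le_sup_left.trans (ha.sup_le_lmax hG hT hK)⟩
  have hL₁ : lmax T K₁ = lmax T K := ((adm_of_sylow S K₁).eq_lmax hG hT hK₁.1
    (ha.isMaximal hG hT hK) (sup_le hK₁.2 (le_sup_right.trans (ha.sup_le_lmax hG hT hK)))).symm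
  have hd : zone T K ⊓ zone T K' = ⊥ := zone_disjoint hG hT ha hK
    (ha.not_le_of_ne hG hT hK (adm_of_sylow S K') hK' (Ne.symm hne'))
  have hd₁ : zone T K₁ ⊓ zone T K' = ⊥ := zone_disjoint hG hT (adm_of_sylow S K₁) hK₁.1
    ((adm_of_sylow S K₁).not_le_of_ne hG hT hK₁.1 (adm_of_sylow S K') hK'
      (by rw [hL₁]; exact Ne.symm hne'))
  have hsmall := card_zone_le_two hT hK' hd
  obtain ⟨w, hw1, hwW, hwZ, hwn, -, -, hor, -⟩ := exists_wgen hT hK
  obtain ⟨w₁, hw₁1, hw₁W, hw₁Z, -, -, -, -, -⟩ := exists_wgen hT hK₁.1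
  have hw₁z : w₁ ∈ zone T K := wgen_mem_zone hG hT hLT hK₁ hKc hne hw₁Z hw₁W
  have hwz : w ∈ zone T K₁ := wgen_mem_zone hG hT hLT hKc hK₁ (Ne.symm hne) hwZ hwW
  have he : zpowers w₁ = zone T K := eq_of_le_of_card_ge (zpowers_le.2 hw₁z) (by
    rw [Nat.card_zpowers, orderOf_eq_prime (by rw [sq]; exact zJ_sq hw₁Z) hw₁1]
    exact hsmall)
  have hzc : ∀ z ∈ zone T K, z = 1 ∨ z = w₁ := by
    intro z hz
    rw [← he] at hz
    obtain ⟨i, rfl⟩ := mem_zpowers_iff.1 hz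
    rcases Int.even_or_odd i with ⟨j, rfl⟩ | ⟨j, rfl⟩
    · left; rw [← two_mul, zpow_mul, zpow_two, zJ_sq hw₁Z, one_zpow]
    · right; rw [zpow_add, zpow_mul, zpow_two, zJ_sq hw₁Z, one_zpow, one_mul, zpow_one]
  have hww : w * w = 1 := zJ_sq hwZ
  have hfour : ∀ z ∈ zJ T, z = 1 ∨ z = w₁ ∨ z = w ∨ z = w₁ * w := by
    intro z hz
    rcases hor z hz with h | h
    · rcases hzc z h with e | e
      · exact Or.inl e
      · exact Or.inr (Or.inl e)
    · have hz' : z = z * w * w := by rw [mul_assoc, hww, mul_one]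
      rcases hzc _ h with e | e
      · right; right; left; rw [hz', e, one_mul]
      · right; right; right; rw [hz', e]
  have hne0 : zone T K' ≠ ⊥ := by
    intro hb
    have h1 := card_zJ_eq hT hK'
    rw [hb, card_bot, card_zJ_eq hT hK, ← he, Nat.card_zpowers,
      orderOf_eq_prime (by rw [sq]; exact zJ_sq hw₁Z) hw₁1] at h1
    omega
  obtain ⟨z, hz, hz1⟩ : ∃ z ∈ zone T K', z ≠ 1 := by
    by_contra hc
    push Not at hc
    exact hne0 ((eq_bot_iff_forall _).2 hc)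
  refine ⟨w, w₁, hw1, hw₁1, hwW, hw₁W, hwZ, hw₁Z, hwn, hw₁z, hwz, ?_, hfour, hsmall⟩
  rcases hfour z hz.1 with e | e | e | e
  · exact absurd e hz1
  · exact absurd ((eq_bot_iff_forall _).1 hd z ⟨e ▸ hw₁z, hz⟩) hz1
  · exact absurd ((eq_bot_iff_forall _).1 hd₁ z ⟨e ▸ hwz, hz⟩) hz1
  · exact e ▸ hz

/-- The Sylow subgroup centralises `Z₀`. -/
theorem central_zJ (hG : ZNHyp G) (S : Sylow 2 G) {K K' : Subgroup G}
    (hK : IsJComponent (S : Subgroup G) K) (hS : (S : Subgroup G) ≤ lmax (S : Subgroup G) K)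
    (hK' : IsJComponent (S : Subgroup G) K')
    (hne : lmax (S : Subgroup G) K' ≠ lmax (S : Subgroup G) K) :
    ∀ {t : G}, t ∈ (S : Subgroup G) → ∀ {z : G}, z ∈ zJ (S : Subgroup G) → t * z = z * t := by
  intro t ht z hz
  set T := (S : Subgroup G)
  have hT : IsPGroup 2 T := S.2
  have hLT := lmax_jOvergroup hG S hK hS
  by_cases hsingle : ∀ K₁ ∈ compSet T (lmax T K), K₁ = K
  · have hg : Good T K := ⟨hT, hK, adm_of_sylow S K, hLT, hsingle, card_zone_le_two hT hK'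
      (zone_disjoint hG hT (adm_of_sylow S K) hK ((adm_of_sylow S K).not_le_of_ne hG hT hK
        (adm_of_sylow S K') hK' (Ne.symm hne)))⟩
    exact hg.normJ_centralizes hG (hg.T_le_L ht) (hg.T_le_normJ ht) hz
  push Not at hsingle
  obtain ⟨K₁, hK₁, hne₁⟩ := hsingle
  obtain ⟨w, w₁, hw1, hw₁1, hwW, hw₁W, hwZ, hw₁Z, hwn, hw₁z, hwz, hdz, hfour, -⟩ :=
    zJ_of_two_comps hG S hK hS hK₁ hne₁ hK' hne
  have hKc : K ∈ compSet T (lmax T K) :=
    ⟨hK, le_sup_left.trans ((adm_of_sylow S K).sup_le_lmax hG hT hK)⟩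
  have hnd : w₁ * w ∉ zone T K := fun hh => hwn (by
    have := (zone T K).mul_mem ((zone T K).inv_mem hw₁z) hh
    simpa using this)
  have htJ : t ∈ normalizer (thompsonSubgroupOf 2 T : Set G) :=
    (le_normalizer.trans (Transfer.normalizer_le_normalizer_thompson T)) ht
  have himg : ∀ x ∈ zJ T, t * x * t⁻¹ ∈ zJ T := fun x hx =>
    (map_conj_zJ htJ).le (LocalEvenB.conjMap_apply_mem hx)
  have hnot : ∀ {K₂ : Subgroup G} {x : G}, K₂ ∈ compSet T (lmax T K) → x ∈ wOf K₂ → x ∈ zJ T →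
      t * x * t⁻¹ ≠ w₁ * w := by
    intro K₂ x hK₂ hxW hxZ e
    have hc := compSet_conj (hS ht) htJ hK₂
    have hmem : w₁ * w ∈ wOf (K₂.map (MulAut.conj t).toMonoidHom) :=
      e ▸ (wOf_map_equiv (MulAut.conj t) K₂).ge (LocalEvenB.conjMap_apply_mem hxW)
    by_cases hKK : K₂.map (MulAut.conj t).toMonoidHom = K
    · rw [hKK] at hmem
      obtain ⟨v, hv1, hvW, hvZ, -, -, hall, -, -⟩ := exists_wgen hT hK
      rcases hall w ⟨hwZ, hwW⟩ with f | f
      · exact hw1 f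
      · rcases hall _ ⟨(zJ T).mul_mem hw₁Z hwZ, hmem⟩ with g | g
        · exact hnd (g ▸ one_mem _)
        · rw [← f] at g
          exact hw₁1 (mul_eq_right.1 g)
    · exact hnd (wgen_mem_zone hG hT hLT hc hKc hKK ((zJ T).mul_mem hw₁Z hwZ) hmem)
  have hfixw : t * w * t⁻¹ = w := by
    rcases hfour _ (himg w hwZ) with e | e | e | e
    · exact absurd (conj_eq_one_iff.1 e) hw1
    · -- an exchange makes `w₁ w` generate the centre
      exfalso
      have e₁ : t * w₁ * t⁻¹ = w := by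
        rcases hfour _ (himg w₁ hw₁Z) with f | f | f | f
        · exact absurd (conj_eq_one_iff.1 f) hw₁1
        · exact absurd ((by simpa using f.trans e.symm : w₁ = w) ▸ hw₁z) hwn
        · exact f
        · exact absurd f (hnot hK₁ hw₁W hw₁Z)
      refine not_le_centralizer_omega hG S hT hK' ?_
      refine (sup_le_centralizer_of_mem_zone hdz).trans fun g hg => ?_
      refine mem_centralizer_iff.2 fun x hx => ?_
      have hfix : t * x * t⁻¹ = x := by
        rw [← (mem_omegaCenterOf.1 hx).2.1 t ht, mul_inv_cancel_right]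
      rcases hfour x (omegaCenter_le_zJ hLT le_rfl hx) with f | f | f | f
      · rw [f, one_mul, mul_one]
      · rw [f, e₁] at hfix; exact absurd (hfix ▸ hw₁z) hwn
      · rw [f, e] at hfix; exact absurd (hfix ▸ hw₁z) hwn
      · rw [f]; exact (mem_centralizer_singleton_iff.1 hg).symm
    · exact e
    · exact absurd e (hnot hKc hwW hwZ)
  have hfixw₁ : t * w₁ * t⁻¹ = w₁ := by
    rcases hfour _ (himg w₁ hw₁Z) with f | f | f | f
    · exact absurd (conj_eq_one_iff.1 f) hw₁1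
    · exact f
    · exact absurd ((by simpa using f.trans hfixw.symm : w₁ = w) ▸ hw₁z) hwn
    · exact absurd f (hnot hK₁ hw₁W hw₁Z)
  have hc1 : Commute t w := mul_inv_eq_iff_eq_mul.1 hfixw
  have hc2 : Commute t w₁ := mul_inv_eq_iff_eq_mul.1 hfixw₁
  rcases hfour z hz with rfl | rfl | rfl | rfl
  · rw [one_mul, mul_one]
  · exact hc2
  · exact hc1
  · exact hc2.mul_right hc1

/-- A second maximal overgroup containing the Sylow subgroup. -/
theorem exists_other_sylow (hG : ZNHyp G) (hcore : pCore 2 G = ⊥) (S : Sylow 2 G) {K : Subgroup G}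
    (hK : IsJComponent (S : Subgroup G) K) (hS : (S : Subgroup G) ≤ lmax (S : Subgroup G) K) :
    ∃ K' : Subgroup G, IsJComponent (S : Subgroup G) K' ∧
      (S : Subgroup G) ≤ lmax (S : Subgroup G) K' ∧
      lmax (S : Subgroup G) K' ≠ lmax (S : Subgroup G) K := by
  obtain ⟨K', hK', hne, hor⟩ := exists_other hG hcore S hK hS
  rcases hor with h | ⟨g, hg, rfl⟩
  · exact ⟨K', hK', h, hne⟩
  refine ⟨_, hK', ?_, hne⟩
  set T := (S : Subgroup G)
  have hT : IsPGroup 2 T := S.2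
  have hcent : ∀ {t : G}, t ∈ T → ∀ {z : G}, z ∈ zJ T → t * z = z * t :=
    central_zJ hG S hK hS hK' hne
  by_cases hz : zone T (K.map (MulAut.conj g).toMonoidHom) = ⊥
  · -- `g` normalises `S`
    have h2 : Nat.card (zJ T) = 2 := by rw [card_zJ_eq hT hK', hz, card_bot]
    obtain ⟨z, hz1, -, hzgen, hzall⟩ := exists_gen_of_card_two h2
    have hgS : g ∈ normalizer (T : Set G) := by
      refine hG.cen S (mem_centralizer_iff.2 fun x hx => ?_)
      have hxZ := omegaCenter_le_zJ (lmax_jOvergroup hG S hK hS) le_rfl hx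
      rcases hzall x hxZ with rfl | rfl
      · rw [one_mul, mul_one]
      · rcases hzall _ ((map_conj_zJ hg).le (LocalEvenB.conjMap_apply_mem hxZ)) with e | e
        · exact absurd (conj_eq_one_iff.1 e) hz1
        · exact (mul_inv_eq_iff_eq_mul.1 e).symm
    rw [← (adm_of_sylow S K).lmax_conj hG hT hK hg (adm_of_sylow S _)]
    exact (LocalEvenB.conjMap_eq_of_mem_normalizer hgS).ge.trans (map_mono hS)
  · obtain ⟨d, hd, hd1⟩ : ∃ d ∈ zone T (K.map (MulAut.conj g).toMonoidHom), d ≠ 1 := by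
      by_contra hc
      push Not at hc
      exact hz ((eq_bot_iff_forall _).2 hc)
    exact fun t ht => (adm_of_sylow S _).centralizer_le hG hT hK' hd hd1
      (mem_centralizer_singleton_iff.2 (hcent ht hd.1))

theorem centComp_of_sylow (hG : ZNHyp G) (hcore : pCore 2 G = ⊥) (S : Sylow 2 G) {K : Subgroup G}
    (hK : IsJComponent (S : Subgroup G) K) (hS : (S : Subgroup G) ≤ lmax (S : Subgroup G) K) :
    CentComp (S : Subgroup G) K := by
  obtain ⟨K', hK', -, hne⟩ := exists_other_sylow hG hcore S hK hS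
  have hLT := lmax_jOvergroup hG S hK hS
  refine ⟨S.2, hK, adm_of_sylow S K, hLT, fun t ht => ?_, central_zJ hG S hK hS hK' hne⟩
  obtain ⟨w, hw1, hwW, hwZ, -, -, -, -, -⟩ := exists_wgen S.2 hK
  refine T_le_normalizer_comp hG S.2 hLT
    ⟨hK, le_sup_left.trans ((adm_of_sylow S K).sup_le_lmax hG S.2 hK)⟩ (hS ht)
    ((le_normalizer.trans (Transfer.normalizer_le_normalizer_thompson _)) ht) hwW hw1 ?_
  rw [central_zJ hG S hK hS hK' hne ht hwZ, mul_inv_cancel_right]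
  exact hwW

/-- The cores in an amalgam with agreeing points are small. -/
theorem card_core_le_eight {T P₁ P₂ W₁ W₂ : Subgroup G} (h : Pair T P₁ P₂ W₁ W₂)
    (hpt : pt T W₁ = pt T W₂) : Nat.card (pCoreOf 2 P₁) ≤ 8 := by
  have hP : Nat.card P₁ = 24 ∨ Nat.card P₁ = 48 := by
    rcases h.sym_four hpt with ⟨⟨e⟩, -⟩ | ⟨⟨e⟩, -⟩
    · left
      rw [Nat.card_congr e.toEquiv, Nat.card_perm, Nat.card_fin]; rfl
    · right
      rw [Nat.card_congr e.toEquiv, Nat.card_prod, Nat.card_perm, Nat.card_fin]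
      rw [Nat.card_congr Multiplicative.toAdd, Nat.card_zmod]; rfl
  have h1 := relIndex_mul_relIndex ⊥ T P₁ bot_le h.s₁.hTP
  rw [relIndex_bot_left, relIndex_bot_left, h.s₁.idx] at h1
  have h2 := relIndex_mul_relIndex ⊥ (pCoreOf 2 P₁) T bot_le h.s₁.R_le_T
  rw [relIndex_bot_left, relIndex_bot_left, h.s₁.idxR] at h2
  omega

/-- A component for a Sylow subgroup is alone in its maximal overgroup. -/
theorem single_of_sylow (hG : ZNHyp G) (hcore : pCore 2 G = ⊥) (S : Sylow 2 G) {K : Subgroup G}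
    (hK : IsJComponent (S : Subgroup G) K) (hS : (S : Subgroup G) ≤ lmax (S : Subgroup G) K) :
    ∀ K₁ ∈ compSet (S : Subgroup G) (lmax (S : Subgroup G) K), K₁ = K := by
  intro K₁ hK₁
  by_contra hne₁
  set T := (S : Subgroup G)
  have hT : IsPGroup 2 T := S.2
  obtain ⟨K', hK', hS', hne⟩ := exists_other_sylow hG hcore S hK hS
  obtain ⟨w, w₁, hw1, hw₁1, hwW, hw₁W, hwZ, hw₁Z, hwn, hw₁z, hwz, hdz, hfour, hsmall⟩ :=
    zJ_of_two_comps hG S hK hS hK₁ hne₁ hK' hne
  have ha := adm_of_sylow S K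
  have hKc : K ∈ compSet T (lmax T K) := ⟨hK, le_sup_left.trans (ha.sup_le_lmax hG hT hK)⟩
  have hL₁ : lmax T K₁ = lmax T K := ((adm_of_sylow S K₁).eq_lmax hG hT hK₁.1
    (ha.isMaximal hG hT hK) (sup_le hK₁.2 (le_sup_right.trans (ha.sup_le_lmax hG hT hK)))).symm
  have hc := centComp_of_sylow hG hcore S hK hS
  have hc₁ := centComp_of_sylow hG hcore S hK₁.1 (show (S : Subgroup G) ≤ _ from hL₁ ▸ hS)
  have hc' := centComp_of_sylow hG hcore S hK' hS'
  obtain ⟨v, hv1, hvW, hvZ, hvn, hveq, -, -, -⟩ := exists_wgen hT hK'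
  -- the two four-groups meet trivially and lie in each core
  have hLT := lmax_jOvergroup hG S hK hS
  have hmeet : wOf K ⊓ wOf K₁ = ⊥ := (eq_bot_iff_forall _).2 fun x hx => by
    by_contra hx1
    exact hne₁ (comps_eq_of_wOf hG hT hLT hKc hK₁ hx.1 hx.2 hx1)
  have h16 : Nat.card (wOf K ⊔ wOf K₁ : Subgroup G) = 16 := by
    have h := FF.card_sup_mul_card_inf (H := wOf K) (K := wOf K₁)
      (comps_wOf_le hG hT hLT hK₁ hKc).2
    rw [hmeet, card_bot, mul_one, hK.2.2.2.2.1, hK₁.1.2.2.2.2.1] at h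
    exact h
  have key : ∀ {K₂ : Subgroup G}, CentComp T K₂ → lmax T K₂ = lmax T K →
      zJ T ⊓ wOf K₂ = zpowers v → False := by
    intro K₂ h₂ he hpt
    have hpair := pair_of_good hG h₂ hc' (by rw [he]; exact Ne.symm hne)
    have hpe : pt T (wOf K₂) = pt T (wOf K') := by
      rw [h₂.pt_eq hG, hc'.pt_eq hG, hpt, hveq]
    have h8 := card_core_le_eight hpair hpe
    have hle : wOf K ⊔ wOf K₁ ≤ pCoreOf 2 (K₂ ⊔ T) := by
      refine (sup_le ?_ ?_).trans (he ▸ h₂.core_L_le hG)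
      · exact (comps_wOf_le hG hT hLT hKc hKc).1
      · exact (comps_wOf_le hG hT hLT hK₁ hK₁).1
    have := card_le_of_le hle
    omega
  have hgen : ∀ {K₂ : Subgroup G} {x : G}, IsJComponent T K₂ → x ∈ wOf K₂ → x ∈ zJ T → x ≠ 1 →
      zJ T ⊓ wOf K₂ = zpowers x := by
    intro K₂ x hK₂ hxW hxZ hx1
    obtain ⟨u, -, -, -, -, hueq, hall, -, -⟩ := exists_wgen hT hK₂
    rw [hueq, (hall x ⟨hxZ, hxW⟩).resolve_left hx1]
  rcases hfour v hvZ with e | e | e | e
  · exact hv1 e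
  · exact key hc₁ hL₁ (e ▸ hgen hK₁.1 hw₁W hw₁Z hw₁1)
  · exact key hc rfl (e ▸ hgen hK hwW hwZ hw1)
  · exact hvn (e ▸ hdz)

theorem good_of_sylow (hG : ZNHyp G) (hcore : pCore 2 G = ⊥) (S : Sylow 2 G) {K : Subgroup G}
    (hK : IsJComponent (S : Subgroup G) K) (hS : (S : Subgroup G) ≤ lmax (S : Subgroup G) K) :
    Good (S : Subgroup G) K := by
  obtain ⟨K', hK', -, hne⟩ := exists_other_sylow hG hcore S hK hS
  exact ⟨S.2, hK, adm_of_sylow S K, lmax_jOvergroup hG S hK hS,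
    single_of_sylow hG hcore S hK hS, card_zone_le_two S.2 hK'
      (zone_disjoint hG S.2 (adm_of_sylow S K) hK ((adm_of_sylow S K).not_le_of_ne hG S.2 hK
        (adm_of_sylow S K') hK' (Ne.symm hne)))⟩

end Cfsg.Agent.LocalEvenB.ZN
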