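import Cfsg.Agent.Lib.LocalEvenB.ZNSylowCase

/-!
The amalgam of two maximal overgroups of a Sylow subgroup has agreeing points.
-/

set_option autoImplicit false

namespace Cfsg.Agent.LocalEvenB.ZN

open Subgroup Cfsg Agent.LocalEvenA
open scoped IsMulCommutative commutatorElement Pointwise

variable {G : Type*} [Group G] [Finite G]

theorem Side.exists_move {T P W : Subgroup G} (h : Side T P W) {c u : G}
    (hpt : pt T W = zpowers c) (hu : u ∈ W) (hun : u ∉ pt T W) :
    ∃ k ∈ P, k * u * k⁻¹ = c := by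
  classical
  have hc1 : c ≠ 1 := (gen_unique h.pt_card hpt hpt).2
  have hcpt : c ∈ pt T W := hpt.ge (mem_zpowers c)
  obtain ⟨y, hy, hyo, hyT⟩ := h.exists_odd
  have hy1 : y ≠ 1 := fun e => hyT (e ▸ one_mem _)
  have h2y := P.mul_mem hy hy
  by_contra hcon
  push Not at hcon
  have ne1 : u ≠ y * c * y⁻¹ := fun e => hcon y⁻¹ (P.inv_mem hy) (by rw [e]; group)
  have ne2 : u ≠ y * y * c * (y * y)⁻¹ := fun e =>
    hcon (y * y)⁻¹ (P.inv_mem h2y) (by rw [e]; group)
  have ne3 : y * c * y⁻¹ ≠ c := fun e => hc1 (h.fpf hy hyo hy1 hcpt.1 (mul_inv_eq_iff_eq_mul.1 e))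
  have ne4 : y * y * c * (y * y)⁻¹ ≠ c := fun e => by
    refine hc1 (h.fpf hy hyo hy1 hcpt.1 (mem_centralizer_singleton_iff.1
      (mem_of_odd_pow (n := 1) hyo (mem_centralizer_singleton_iff.2 ?_))))
    rw [pow_one, pow_two]
    exact mul_inv_eq_iff_eq_mul.1 e
  have ne5 : y * y * c * (y * y)⁻¹ ≠ y * c * y⁻¹ := fun e => ne3 (by
    have h6 : y * (y * c * y⁻¹) * y⁻¹ = y * c * y⁻¹ := by
      conv_rhs => rw [← e]
      group
    simpa using h6)
  have hu0 : u ≠ 1 := fun e => hun (e ▸ one_mem _)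
  have huc : u ≠ c := fun e => hun (e ▸ hcpt)
  have hS : ({1, c, y * c * y⁻¹, y * y * c * (y * y)⁻¹, u} : Finset G).card = 5 := by
    rw [Finset.card_insert_of_notMem, Finset.card_insert_of_notMem, Finset.card_insert_of_notMem,
      Finset.card_insert_of_notMem, Finset.card_singleton]
    · simp only [Finset.mem_singleton]; exact ne2.symm
    · simp only [Finset.mem_insert, Finset.mem_singleton, not_or]
      exact ⟨ne5.symm, ne1.symm⟩
    · simp only [Finset.mem_insert, Finset.mem_singleton, not_or]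
      exact ⟨ne3.symm, ne4.symm, huc.symm⟩
    · simp only [Finset.mem_insert, Finset.mem_singleton, not_or]
      exact ⟨hc1.symm, fun e => hc1 (conj_eq_one_iff.1 e.symm),
        fun e => hc1 (conj_eq_one_iff.1 e.symm), hu0.symm⟩
  have hsub : (({1, c, y * c * y⁻¹, y * y * c * (y * y)⁻¹, u} : Finset G) : Set G) ⊆ (W : Set G) := by
    intro x hx
    simp only [Finset.coe_insert, Finset.coe_singleton, Set.mem_insert_iff,
      Set.mem_singleton_iff] at hx
    rcases hx with rfl | rfl | rfl | rfl | rfl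
    exacts [one_mem _, hcpt.1, h.conj_mem hy hcpt.1, h.conj_mem h2y hcpt.1, hu]
  have h9 := Set.ncard_le_ncard hsub (Set.toFinite _)
  rw [Set.ncard_coe_finset, hS, ← Nat.card_coe_set_eq, SetLike.coe_sort_coe, h.card_W] at h9
  omega

/-- An element centralised by a component determines its four-group. -/
theorem Good.det (hG : ZNHyp G) {T K : Subgroup G} (h : Good T K) {x : G} (hx : x ∈ zone T K)
    (hx1 : x ≠ 1) {g : G} (hg : g * x * g⁻¹ = x) :
    (wOf K).map (MulAut.conj g).toMonoidHom = wOf K :=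
  LocalEvenB.conjMap_eq_of_mem_normalizer (normalizer_le_normalizer_wOf K
    (h.L_le_normalizer hG (h.adm.centralizer_le hG h.hT h.hK hx hx1
      (mem_centralizer_singleton_iff.2 (mul_inv_eq_iff_eq_mul.1 hg)))))

theorem Good.cdata (hG : ZNHyp G) {T K K' : Subgroup G} (h : Good T K) (h' : Good T K')
    {c c' : G} (hc : c ∈ zone T K) (hc1 : c ≠ 1) (hc' : c' ∈ zone T K') (hc'1 : c' ≠ 1) :
    CData (K ⊔ T) (K' ⊔ T) (wOf K) (wOf K') c c' :=
  ⟨hc1, hc'1,
    fun _ hp => mem_centralizer_singleton_iff.1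
      (((h.P_le_L hG).trans (h.L_le_centralizer hG hc)) hp),
    fun _ hp => mem_centralizer_singleton_iff.1
      (((h'.P_le_L hG).trans (h'.L_le_centralizer hG hc')) hp),
    fun _ hg => h.det hG hc hc1 hg, fun _ hg => h'.det hG hc' hc'1 hg⟩

variable {K K' : Subgroup G}

/-- The mixed configuration does not occur. -/
theorem no_mixed (hG : ZNHyp G) (hcore : pCore 2 G = ⊥) (S : Sylow 2 G)
    (h : Good (S : Subgroup G) K) (h' : Good (S : Subgroup G) K')
    (hne : lmax (S : Subgroup G) K ≠ lmax (S : Subgroup G) K')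
    {c c' : G} (hc : c ∈ zone (S : Subgroup G) K) (hc1 : c ≠ 1)
    (hc' : c' ∈ zone (S : Subgroup G) K') (hc'1 : c' ≠ 1)
    (h₁ : pt (S : Subgroup G) (wOf K) = zpowers c')
    (h₂ : pt (S : Subgroup G) (wOf K') = zpowers (c' * c)) : False := by
  haveI : Fact (Nat.Prime 2) := ⟨Nat.prime_two⟩
  set T := (S : Subgroup G)
  have hpair := pair_of_good hG (h.toCent hG) (h'.toCent hG) hne
  have hd := h.cdata hG h' hc hc1 hc' hc'1
  have hcent : ∀ {t : G}, t ∈ T → ∀ {z : G}, z ∈ zJ T → t * z = z * t := (h.toCent hG).hcent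
  have hvne : c' * c ≠ 1 := (gen_unique hpair.s₂.pt_card h₂ h₂).2
  have hcc' : c' * c = c * c' := (mem_omegaCenterOf.1 hc'.1).2.1 c (mem_omegaCenterOf.1 hc.1).1
  have hcne : c' ≠ c := fun e => hvne (by rw [e]; exact zJ_sq hc.1)
  obtain ⟨x, hx, hxn⟩ := hpair.s₁.exists_not_pt
  have hc'pt : c' ∈ pt T (wOf K) := h₁.ge (mem_zpowers c')
  have hc'x : c' * x ∉ pt T (wOf K) := fun hh => hxn (by
    have := (pt T (wOf K)).mul_mem ((pt T (wOf K)).inv_mem hc'pt) hh
    simpa using this)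
  have hc'xW : c' * x ∈ wOf K := mul_mem hc'pt.1 hx
  obtain ⟨k, hk, hkx⟩ := hpair.s₁.exists_move h₁ hc'xW hc'x
  have hkc : k * c = c * k := hd.cent₁ k hk
  obtain ⟨y, hy, hyo, hyT⟩ := hpair.s₂.exists_odd
  obtain ⟨y', hy'⟩ : ∃ y', y' = k * y * k⁻¹ := ⟨_, rfl⟩
  have hconj : ∀ {a : G}, y * a = a * y → y' * (k * a * k⁻¹) = k * a * k⁻¹ * y' := by
    intro a ha
    calc y' * (k * a * k⁻¹) = k * (y * a) * k⁻¹ := by rw [hy']; group
      _ = k * (a * y) * k⁻¹ := by rw [ha]
      _ = k * a * k⁻¹ * y' := by rw [hy']; group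
  have hv : y' * (c' * c) = c' * c * y' := by
    have h3 := hconj (hpair.mixed_points hd h₁ h₂ hy hyo hx hxn)
    have he : k * (c' * c * x) * k⁻¹ = c' * c := by
      calc k * (c' * c * x) * k⁻¹ = k * (c * (c' * x)) * k⁻¹ := by rw [hcc']; group
        _ = (k * c) * (c' * x) * k⁻¹ := by group
        _ = c * (k * (c' * x) * k⁻¹) := by rw [hkc]; group
        _ = c' * c := by rw [hkx, hcc']
    rwa [he] at h3
  obtain ⟨x₁, hx₁def⟩ : ∃ x₁, x₁ = c' * (k * x * k⁻¹) := ⟨_, rfl⟩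
  have hx0W : k * x * k⁻¹ ∈ wOf K := hpair.s₁.conj_mem hk hx
  have hx₁W : x₁ ∈ wOf K := hx₁def ▸ mul_mem hc'pt.1 hx0W
  have hx₁n : x₁ ∉ pt T (wOf K) := by
    intro hh
    have h0 : k * x * k⁻¹ ∈ pt T (wOf K) := by
      have := (pt T (wOf K)).mul_mem ((pt T (wOf K)).inv_mem hc'pt) (hx₁def ▸ hh)
      simpa using this
    obtain ⟨g, hg1, -, -, hg'⟩ := exists_gen_of_card_two hpair.s₁.pt_card
    have hgc : c' = g := (hg' c' hc'pt).resolve_left hc'1
    rcases hg' _ h0 with e | e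
    · exact hxn ((conj_eq_one_iff.1 e).symm ▸ one_mem _)
    · have h4 : k * x * k⁻¹ = k * (c' * x) * k⁻¹ := by rw [hkx, e, hgc]
      have h5 : x = c' * x := by simpa using h4
      exact hc'1 (right_eq_mul.1 h5)
  have hx₁c : y' * x₁ = x₁ * y' := by
    have h3 := hconj (hpair.mixed_points hd h₁ h₂ hy hyo hc'xW hc'x)
    have he : k * (c' * c * (c' * x)) * k⁻¹ = c * (k * x * k⁻¹) := by
      rw [hcc', show c * c' * (c' * x) = c * (c' * c') * x by group, zJ_sq hc'.1, mul_one]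
      calc k * (c * x) * k⁻¹ = (k * c) * x * k⁻¹ := by group
        _ = c * (k * x * k⁻¹) := by rw [hkc]; group
    rw [he] at h3
    have h4 : x₁ = c' * c * (c * (k * x * k⁻¹)) := by
      rw [hx₁def, show c' * c * (c * (k * x * k⁻¹)) = c' * (c * c) * (k * x * k⁻¹) by group,
        zJ_sq hc.1, mul_one]
    rw [h4]
    exact ((show Commute y' (c' * c) from hv).mul_right h3).eq
  have hy'o : Odd (orderOf y') := by
    rw [hy', show k * y * k⁻¹ = MulAut.conj k y from rfl, MulEquiv.orderOf_eq]; exact hyo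
  -- `y'` moves `c`
  have hy'c : y' * c ≠ c * y' := by
    intro e
    have hyc : y * c = c * y := by
      have h1 : k⁻¹ * (y' * c) * k = k⁻¹ * (c * y') * k := by rw [e]
      calc y * c = k⁻¹ * y' * (k * c) := by rw [hy']; group
        _ = k⁻¹ * (y' * c) * k := by rw [hkc]; group
        _ = k⁻¹ * (c * y') * k := h1
        _ = c * (k⁻¹ * y' * k) := by
            have : k⁻¹ * c = c * k⁻¹ := (show Commute k c from hkc).inv_left.eq
            rw [← mul_assoc k⁻¹ c y', this]; group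
        _ = c * y := by rw [hy']; group
    have hyL : y ∈ lmax T K := h.adm.centralizer_le hG h.hT h.hK hc hc1
      (mem_centralizer_singleton_iff.2 hyc)
    refine not_le_other hG (h'.toCent hG) (h.toCent hG) (Ne.symm hne) ?_
    have := hpair.s₂.eq_P_of_lt (H := (K' ⊔ T) ⊓ lmax T K) (le_inf le_sup_right h.T_le_L)
      inf_le_left fun hle => hyT (hle ⟨hy, hyL⟩)
    exact (le_sup_left : K' ≤ K' ⊔ T).trans (this.ge.trans inf_le_right)
  have hy'L : y' ∉ lmax T K := fun hh =>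
    hy'c (mem_centralizer_singleton_iff.1 (h.L_le_centralizer hG hc hh))
  -- the local subgroup of `c' c`
  set N := normalizer (zpowers (c' * c) : Set G) with hN
  have hvZ : c' * c ∈ zJ T := (zJ T).mul_mem hc'.1 hc.1
  have hNl : IsTwoLocal N := ⟨zpowers (c' * c), LocalEvenB.isPGroup_zpowers ⟨1, by
    rw [pow_one]; exact orderOf_eq_prime (by rw [sq]; exact zJ_sq hvZ) hvne⟩,
    by simpa [zpowers_eq_bot] using hvne, rfl⟩
  have hle : centralizer ({c' * c} : Set G) ≤ N := by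
    refine le_trans ?_ (centralizer_le_normalizer _)
    rw [zpowers_eq_closure, centralizer_closure]
  have hSN : T ≤ N := fun t ht => hle (mem_centralizer_singleton_iff.2 (hcent ht hvZ))
  have hy'N : y' ∈ N := hle (mem_centralizer_singleton_iff.2 hv)
  have hsyl := isSylowTwoIn_of_sylow S hSN
  have hJ : ¬ thompsonSubgroupOf 2 T ≤ pCoreOf 2 N := by
    intro hJle
    have hJR : thompsonSubgroupOf 2 (pCoreOf 2 N) = thompsonSubgroupOf 2 T :=
      (thompson_eq_of_conj_le (g := (1 : G)) hJle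
        (by rw [LocalEvenB.conjMap_one]; exact pCoreOf_le_sylowIn hsyl)).1
    have hnJ : y' ∈ normalizer (thompsonSubgroupOf 2 T : Set G) :=
      hJR ▸ Transfer.normalizer_le_normalizer_thompson _ (le_normalizer_pCoreOf 2 N hy'N)
    obtain ⟨w, hw1, hwW, hwZ, hwn, -, hwall, hor, -⟩ := exists_wgen h.hT h.hK
    have hwc' : w = c' :=
      ((hwall c' ⟨hc'.1, hc'pt.1⟩).resolve_left hc'1).symm
    have hall : ∀ z ∈ zJ T, z = 1 ∨ z = c ∨ z = c' ∨ z = c' * c := by
      intro z hz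
      rcases hor z hz with g | g
      · rcases h.zone_cases hc g hc1 with e | e
        · exact Or.inl e
        · exact Or.inr (Or.inl e)
      · have hz' : z = z * w * w := by rw [mul_assoc, zJ_sq hwZ, mul_one]
        rcases h.zone_cases hc g hc1 with e | e <;> rw [e, hwc'] at hz'
        · rw [one_mul] at hz'; exact Or.inr (Or.inr (Or.inl hz'))
        · rw [← hcc'] at hz'; exact Or.inr (Or.inr (Or.inr hz'))
    have himg : ∀ z ∈ zJ T, y' * z * y'⁻¹ ∈ zJ T := fun z hz =>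
      (map_conj_zJ hnJ).le (LocalEvenB.conjMap_apply_mem hz)
    have hfv : y' * (c' * c) * y'⁻¹ = c' * c := by rw [hv, mul_inv_cancel_right]
    have hsplit : (y' * c' * y'⁻¹) * (y' * c * y'⁻¹) = c' * c := by
      rw [← hfv]; group
    rcases hall _ (himg c hc.1) with e | e | e | e
    · exact hc1 (conj_eq_one_iff.1 e)
    · exact hy'c (mul_inv_eq_iff_eq_mul.1 e)
    · refine hy'c (mem_centralizer_singleton_iff.1 (mem_of_odd_pow (n := 1) hy'o
        (mem_centralizer_singleton_iff.2 ?_)))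
      rw [e] at hsplit
      have h6 : y' * c' * y'⁻¹ = c := by
        calc y' * c' * y'⁻¹ = (c' * c) * c'⁻¹ := by rw [← hsplit, mul_inv_cancel_right]
          _ = c := by rw [hcc', mul_inv_cancel_right]
      rw [pow_one, pow_two]
      refine mul_inv_eq_iff_eq_mul.1 ?_
      conv_rhs => rw [← h6, ← e]
      group
    · have h7 : y' * c * y'⁻¹ = y' * (c' * c) * y'⁻¹ := e.trans hfv.symm
      have h8 : c = c' * c := by simpa using h7
      exact hc'1 (right_eq_mul.1 h8)
  have hNT : N ∈ jOvergroups T :=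
    ⟨hsyl, hJ, centralizer_pCoreOf_le_of_isTwoLocal hG hNl⟩
  obtain ⟨K₃, hK₃, hK₃N⟩ := compSet_nonempty hG S.2 hNT
  have hNL₃ : N ≤ lmax T K₃ := (adm_of_sylow S K₃).local_le hG S.2 hK₃ hNl
    (sup_le hK₃N ((Transfer.thompsonSubgroupOf_le T).trans hSN))
  have h3 := good_of_sylow hG hcore S hK₃ (hSN.trans hNL₃)
  have hne₃ : lmax T K₃ ≠ lmax T K := fun e => hy'L (e ▸ hNL₃ hy'N)
  set R₁ := pCoreOf 2 (K ⊔ T) with hR₁
  set R₃ := pCoreOf 2 (K₃ ⊔ T) with hR₃
  have hs₃ := h3.side hG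
  have hy'R : y' ∈ normalizer (R₃ : Set G) := by
    refine ((h3.le_K_sup hG).trans (sup_le ?_ ?_)) (hNL₃ hy'N)
    · exact le_sup_left.trans (le_normalizer_pCoreOf 2 _)
    · intro n hn
      have hnS : n ∈ normalizer (T : Set G) := hG.cen S (mem_centralizer_iff.2 fun z hz =>
        (h3.normJ_centralizes hG hn.1 hn.2 (omegaCenter_le_zJ h3.hLT le_rfl hz)).symm)
      refine pCoreOf_normalizer 2 _ (LocalEvenB.mem_normalizer_of_conjMap_le ?_)
      rw [Subgroup.map_sup,
        LocalEvenB.conjMap_eq_of_mem_normalizer (h3.L_le_normalizer hG hn.1),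
        LocalEvenB.conjMap_eq_of_mem_normalizer hnS]
  by_cases hle₃ : R₃ ≤ R₁
  · have key : ∀ {P W : Subgroup G}, Side T P W → Nat.card (pCoreOf 2 P) * 2 = Nat.card T := by
      intro P W hs
      have := relIndex_mul_relIndex ⊥ _ T bot_le hs.R_le_T
      rwa [relIndex_bot_left, relIndex_bot_left, hs.idxR] at this
    have heq : R₃ = R₁ := eq_of_le_of_card_ge hle₃ (by
      have h1 := key hs₃
      have h2 := key hpair.s₁
      rw [← hR₃] at h1
      rw [← hR₁] at h2
      omega)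
    rw [heq] at hy'R
    have hkR : k ∈ normalizer (R₁ : Set G) := le_normalizer_pCoreOf 2 _ hk
    have hyR : y ∈ normalizer (R₁ : Set G) := by
      have := mul_mem (mul_mem (inv_mem hkR) hy'R) hkR
      rwa [show k⁻¹ * y' * k = y by rw [hy']; group] at this
    have hP2 : K' ⊔ T ≤ normalizer (R₁ : Set G) := by
      have := hpair.s₂.eq_P_of_lt (H := (K' ⊔ T) ⊓ normalizer (R₁ : Set G))
        (le_inf le_sup_right ((le_sup_right : T ≤ K ⊔ T).trans (le_normalizer_pCoreOf 2 _)))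
        inf_le_left fun hle => hyT (hle ⟨hy, hyR⟩)
      exact this.ge.trans inf_le_right
    have h0 := hpair.noNormal R₁ hpair.s₁.R_le_T (le_normalizer_pCoreOf 2 _) hP2
    have hW := hpair.s₁.hWR
    rw [← hR₁, h0, le_bot_iff] at hW
    exact wOf_ne_bot h.hK hW
  · obtain ⟨r, hr, hr₁⟩ := SetLike.not_le_iff_exists.1 hle₃
    have hrT := hs₃.R_le_T hr
    obtain ⟨g, hg1, -, -, hg'⟩ := exists_gen_of_card_two hpair.s₁.pt_card
    have hgc : c' = g := (hg' c' hc'pt).resolve_left hc'1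
    have hrx : r * x₁ * r⁻¹ = c' * x₁ := by
      rcases hg' _ (hpair.s₁.comm_mem_pt hrT hx₁W) with e | e
      · exact absurd (hpair.s₁.mem_pt_of_commute hrT hr₁ hx₁W
          (mul_inv_eq_iff_eq_mul.1 (mul_inv_eq_one.1 e))) hx₁n
      · rw [hgc, ← e, inv_mul_cancel_right]
    obtain ⟨r', hr'⟩ : ∃ r', r' = y' * r * y'⁻¹ := ⟨_, rfl⟩
    have hr'T : r' ∈ T := hs₃.R_le_T (hr' ▸ (mem_normalizer_iff.1 hy'R r).1 hr)
    have hr'x : r' * x₁ * r'⁻¹ = y' * (c' * x₁) * y'⁻¹ := by
      rw [hr', ← hrx]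
      have hi : y'⁻¹ * x₁ = x₁ * y'⁻¹ := (show Commute y' x₁ from hx₁c).inv_left.eq
      calc y' * r * y'⁻¹ * x₁ * (y' * r * y'⁻¹)⁻¹ =
          y' * r * (y'⁻¹ * x₁) * y' * r⁻¹ * y'⁻¹ := by group
        _ = y' * (r * x₁ * r⁻¹) * y'⁻¹ := by rw [hi]; group
    have hfix1 : y' * x₁ * y'⁻¹ = x₁ := by rw [hx₁c, mul_inv_cancel_right]
    rcases hg' _ (hpair.s₁.comm_mem_pt hr'T hx₁W) with e | e
    · have h5 : y' * (c' * x₁) * y'⁻¹ = y' * x₁ * y'⁻¹ := by
        rw [← hr'x, hfix1]; exact mul_inv_eq_one.1 e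
      have h6 : c' * x₁ = x₁ := by simpa using h5
      exact hc'1 (mul_eq_right.1 h6)
    · refine hy'c ?_
      have h5 : y' * (c' * x₁) * y'⁻¹ = c' * x₁ := by
        rw [← hr'x, hgc, ← e, inv_mul_cancel_right]
      have h6 : y' * c' * y'⁻¹ = c' := by
        rw [show y' * (c' * x₁) * y'⁻¹ = (y' * c' * y'⁻¹) * (y' * x₁ * y'⁻¹) by group, hfix1] at h5
        exact mul_right_cancel h5
      have h7 : Commute y' c' := mul_inv_eq_iff_eq_mul.1 h6
      have h8 := h7.inv_right.mul_right (show Commute y' (c' * c) from hv)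
      rwa [inv_mul_cancel_left] at h8

/-- Two maximal overgroups of a Sylow subgroup give agreeing points. -/
theorem sylow_pt_eq (hG : ZNHyp G) (hcore : pCore 2 G = ⊥) (S : Sylow 2 G)
    (h : Good (S : Subgroup G) K) (h' : Good (S : Subgroup G) K')
    (hne : lmax (S : Subgroup G) K ≠ lmax (S : Subgroup G) K') :
    pt (S : Subgroup G) (wOf K) = pt (S : Subgroup G) (wOf K') := by
  haveI : Fact (Nat.Prime 2) := ⟨Nat.prime_two⟩
  set T := (S : Subgroup G)
  have hd : zone T K ⊓ zone T K' = ⊥ := zone_disjoint hG h.hT h.adm h.hK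
    (not_le_other hG (h'.toCent hG) (h.toCent hG) (Ne.symm hne))
  obtain ⟨w, hw1, hwW, hwZ, hwn, heq, -, hor, -⟩ := exists_wgen h.hT h.hK
  obtain ⟨w', hw'1, hw'W, hw'Z, hw'n, heq', -, hor', -⟩ := exists_wgen h'.hT h'.hK
  rw [h.pt_eq hG, h'.pt_eq hG, heq, heq']
  by_cases hz : zone T K = ⊥
  · congr 1
    rcases hor w' hw'Z with g | g <;> rw [hz, mem_bot] at g
    · exact absurd g hw'1
    · rw [eq_inv_of_mul_eq_one_left g, inv_eq_of_mul_eq_one_right (zJ_sq hwZ)]
  obtain ⟨c, hc, hc1⟩ : ∃ c ∈ zone T K, c ≠ 1 := by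
    by_contra hh
    push Not at hh
    exact hz ((eq_bot_iff_forall _).2 hh)
  obtain ⟨c', hc', hc'1⟩ : ∃ c' ∈ zone T K', c' ≠ 1 := by
    by_contra hh
    push Not at hh
    have h1 := card_zJ_eq h'.hT h'.hK
    rw [(eq_bot_iff_forall _).2 hh, card_bot, card_zJ_eq h.hT h.hK] at h1
    exact hz (card_eq_one.1 (by omega))
  have hc'n : c' ∉ zone T K := fun hh => hc'1 ((eq_bot_iff_forall _).1 hd c' ⟨hh, hc'⟩)
  have hcn' : c ∉ zone T K' := fun hh => hc1 ((eq_bot_iff_forall _).1 hd c ⟨hc, hh⟩)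
  have hcc' : c' * c = c * c' := (mem_omegaCenterOf.1 hc'.1).2.1 c (mem_omegaCenterOf.1 hc.1).1
  have hw2 : w = c' ∨ w = c' * c := by
    rcases hor c' hc'.1 with g | g
    · exact absurd g hc'n
    · rcases h.zone_cases hc g hc1 with e | e
      · left
        rw [eq_inv_of_mul_eq_one_right e, inv_eq_of_mul_eq_one_right (zJ_sq hc'.1)]
      · right
        rw [← e, ← mul_assoc, zJ_sq hc'.1, one_mul]
  have hw2' : w' = c ∨ w' = c' * c := by
    rcases hor' c hc.1 with g | g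
    · exact absurd g hcn'
    · rcases h'.zone_cases hc' g hc'1 with e | e
      · left
        rw [eq_inv_of_mul_eq_one_right e, inv_eq_of_mul_eq_one_right (zJ_sq hc.1)]
      · right
        rw [hcc', ← e, ← mul_assoc, zJ_sq hc.1, one_mul]
  have hp1 : pt T (wOf K) = zpowers w := (h.pt_eq hG).trans heq
  have hp2 : pt T (wOf K') = zpowers w' := (h'.pt_eq hG).trans heq'
  rcases hw2 with e | e <;> rcases hw2' with e' | e' <;> rw [e] at hp1 ⊢ <;> rw [e'] at hp2 ⊢
  · -- both four-groups meet the other centralised part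
    exfalso
    refine (pair_of_good hG (h.toCent hG) (h'.toCent hG) hne).not_cross
      (h.cdata hG h' hc hc1 hc' hc'1) hp1 hp2 fun g hg => ?_
    have hcent : ∀ {t : G}, t ∈ T → ∀ {z : G}, z ∈ zJ T → t * z = z * t := (h.toCent hG).hcent
    set H := centralizer ({c'} : Set G)
    have hSH : T ≤ H := fun t ht => mem_centralizer_singleton_iff.2 (hcent ht hc'.1)
    have hgH : T.map (MulAut.conj g).toMonoidHom ≤ H := by
      rintro _ ⟨t, ht, rfl⟩
      refine mem_centralizer_singleton_iff.2 ?_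
      show g * t * g⁻¹ * c' = c' * (g * t * g⁻¹)
      rw [← hg]
      calc g * t * g⁻¹ * (g * c * g⁻¹) = g * (t * c) * g⁻¹ := by group
        _ = g * (c * t) * g⁻¹ := by rw [hcent ht hc.1]
        _ = g * c * g⁻¹ * (g * t * g⁻¹) := by group
    obtain ⟨x, hx, hle⟩ := exists_conj_sylow_le (S := S) hSH (LocalEvenB.conjMap_isPGroup S.2) hgH
    have hxg : T.map (MulAut.conj g).toMonoidHom = T.map (MulAut.conj x).toMonoidHom :=
      eq_of_le_of_card_ge hle (by rw [LocalEvenB.conjMap_card, LocalEvenB.conjMap_card])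
    have hn : x⁻¹ * g ∈ normalizer (T : Set G) := by
      refine LocalEvenB.mem_normalizer_of_conjMap_le ?_
      rw [← LocalEvenB.conjMap_conjMap, hxg, LocalEvenB.conjMap_conjMap, inv_mul_cancel,
        LocalEvenB.conjMap_one]
    have hxc : x * c' = c' * x := mem_centralizer_singleton_iff.1 hx
    have hnc : x⁻¹ * g * c * (x⁻¹ * g)⁻¹ = c' := by
      calc x⁻¹ * g * c * (x⁻¹ * g)⁻¹ = x⁻¹ * (g * c * g⁻¹) * x := by group
        _ = c' := by rw [hg, mul_assoc, ← hxc, inv_mul_cancel_left]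
    have hnJ := Transfer.normalizer_le_normalizer_thompson (p := 2) T hn
    have hc'K : c' ∈ zone T (K.map (MulAut.conj (x⁻¹ * g)).toMonoidHom) :=
      hnc ▸ (zone_conj K hnJ).le (LocalEvenB.conjMap_apply_mem hc)
    have hKn : K.map (MulAut.conj (x⁻¹ * g)).toMonoidHom = K' :=
      h'.single _ ⟨isJComponent_conj_normalizer hnJ h.hK,
        (le_sup_left.trans (sup_le_centralizer_of_mem_zone hc'K)).trans
          (h'.adm.centralizer_le hG h'.hT h'.hK hc' hc'1)⟩
    have hWn : (wOf K).map (MulAut.conj (x⁻¹ * g)).toMonoidHom = wOf K' := by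
      rw [← hKn, wOf_map_equiv]
    calc (wOf K).map (MulAut.conj g).toMonoidHom =
        ((wOf K).map (MulAut.conj (x⁻¹ * g)).toMonoidHom).map (MulAut.conj x).toMonoidHom := by
          rw [LocalEvenB.conjMap_conjMap, mul_inv_cancel_left]
      _ = wOf K' := by
          rw [hWn, h'.det hG hc' hc'1 (by rw [hxc, mul_inv_cancel_right])]
  · exact (no_mixed hG hcore S h h' hne hc hc1 hc' hc'1 hp1 hp2).elim
  · exact (no_mixed hG hcore S h' h (Ne.symm hne) hc' hc'1 hc hc1 hp2 (by rw [hp1, hcc'])).elim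

end Cfsg.Agent.LocalEvenB.ZN
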