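import Cfsg.Agent.Lib.LocalEvenB.ZNStraddle

/-!
The unique maximal 2-local subgroup containing an outside component.
-/

set_option autoImplicit false

namespace Cfsg.Agent.LocalEvenB.ZN

open Subgroup Cfsg Agent.LocalEvenA
open scoped IsMulCommutative commutatorElement Pointwise

variable {G : Type*} [Group G] [Finite G]

omit [Finite G] in
theorem compSet_congr {T T' L : Subgroup G}
    (h : thompsonSubgroupOf 2 T = thompsonSubgroupOf 2 T') : compSet T L = compSet T' L := by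
  ext K
  exact ⟨fun hK => ⟨isJComponent_congr h hK.1, hK.2⟩,
    fun hK => ⟨isJComponent_congr h.symm hK.1, hK.2⟩⟩

/-- A Sylow subgroup of a 2-local subgroup above `⟨K, J(T)⟩` for a component outside `M`. -/
theorem exists_local_data (hG : ZNHyp G) {S : Sylow 2 G} {M T K L : Subgroup G} (h : MSetup S M)
    (hT : T ∈ maxStraddlingTwoSubgroups M) (hK : IsJComponent T K) (hKM : ¬ K ≤ M)
    (hL : IsTwoLocal L) (hXL : K ⊔ thompsonSubgroupOf 2 T ≤ L) :
    ∃ T0 : Subgroup G, IsPGroup 2 T0 ∧ L ∈ jOvergroups T0 ∧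
      thompsonSubgroupOf 2 T0 = thompsonSubgroupOf 2 T := by
  have hKL : K ≤ L := le_sup_left.trans hXL
  obtain ⟨T0, hT0, hJ⟩ := exists_sylowIn (isPGroup_thompson hT.1.1) (le_sup_right.trans hXL)
  obtain ⟨hJ0, -, -⟩ := sylowIn_straddle h hT hL (fun hle => hKM (hKL.trans hle)) hT0 hJ
  exact ⟨T0, hT0.2.1, mem_jOvergroups_of_isTwoLocal hG hK hKL hL hT0 hJ0, hJ0⟩

/-- The subgroup generated by the four-groups of the components of `N_G(W_K)`. -/
noncomputable def wSpan (T K : Subgroup G) : Subgroup G :=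
  sSup (wOf '' compSet T (normalizer (wOf K : Set G)))

theorem compSet_le_normalizer_wOf (hG : ZNHyp G) {S : Sylow 2 G} {M T K L : Subgroup G}
    (h : MSetup S M) (hT : T ∈ maxStraddlingTwoSubgroups M) (hK : IsJComponent T K)
    (hKM : ¬ K ≤ M) (hL : IsTwoLocal L) (hXL : K ⊔ thompsonSubgroupOf 2 T ≤ L) :
    compSet T L ⊆ compSet T (normalizer (wOf K : Set G)) := by
  intro K' hK'
  obtain ⟨T0, hT0, hLT, hJ⟩ := exists_local_data hG h hT hK hKM hL hXL
  rw [← compSet_congr hJ] at hK'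
  have hKL : K ∈ compSet T0 L := ⟨isJComponent_congr hJ.symm hK, le_sup_left.trans hXL⟩
  exact ⟨isJComponent_congr hJ hK'.1,
    (comps_le_normalizer hG hT0 hLT hKL hK').trans (normalizer_le_normalizer_wOf K)⟩

theorem isPGroup_wSpan (hG : ZNHyp G) {S : Sylow 2 G} {M T K : Subgroup G} (h : MSetup S M)
    (hT : T ∈ maxStraddlingTwoSubgroups M) (hK : IsJComponent T K) (hKM : ¬ K ≤ M) :
    IsPGroup 2 (wSpan T K) ∧ wSpan T K ≠ ⊥ := by
  set N := normalizer (wOf K : Set G)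
  have hX : K ⊔ thompsonSubgroupOf 2 T ≤ N :=
    sup_le (le_normalizer.trans (normalizer_le_normalizer_wOf K))
      (preComp_of_isJComponent hT.1.1 hK).J_le_normalizer_wOf
  have hNl : IsTwoLocal N := ⟨wOf K, isPGroup_wOf hK, wOf_ne_bot hK, rfl⟩
  obtain ⟨T0, hT0, hLT, hJ⟩ := exists_local_data hG h hT hK hKM hNl hX
  refine ⟨(LData.isPGroup_R N).to_le (sSup_le ?_),
    ne_bot_of_le_ne_bot (wOf_ne_bot hK) (le_sSup ⟨K, ⟨hK, le_sup_left.trans hX⟩, rfl⟩)⟩
  rintro _ ⟨K', hK', rfl⟩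
  rw [← compSet_congr hJ] at hK'
  exact (comps_wOf_le hG hT0 hLT hK' hK').1

/-- Every 2-local subgroup above `⟨K, J(T)⟩` normalises the span. -/
theorem local_le_normalizer_wSpan (hG : ZNHyp G) {S : Sylow 2 G} {M T K L : Subgroup G}
    (h : MSetup S M) (hT : T ∈ maxStraddlingTwoSubgroups M) (hK : IsJComponent T K)
    (hKM : ¬ K ≤ M) (hL : IsTwoLocal L) (hXL : K ⊔ thompsonSubgroupOf 2 T ≤ L) :
    L ≤ normalizer (wSpan T K : Set G) := by
  classical
  obtain ⟨T0, hT0, hLT, hJ⟩ := exists_local_data hG h hT hK hKM hL hXL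
  set N := normalizer (wOf K : Set G) with hNdef
  have hsub := compSet_le_normalizer_wOf hG h hT hK hKM hL hXL
  have hX : K ⊔ thompsonSubgroupOf 2 T ≤ N :=
    sup_le (le_normalizer.trans (normalizer_le_normalizer_wOf K))
      (preComp_of_isJComponent hT.1.1 hK).J_le_normalizer_wOf
  have hNl : IsTwoLocal N := ⟨wOf K, isPGroup_wOf hK, wOf_ne_bot hK, rfl⟩
  obtain ⟨T1, hT1, hNT, hJ1⟩ := exists_local_data hG h hT hK hKM hNl hX
  refine (le_comps_sup_normalizer hG hT0 hLT).trans (sup_le (sSup_le fun K' hK' => ?_) fun n hn => ?_)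
  · rw [compSet_congr hJ] at hK'
    have hK'N : K' ∈ compSet T1 N := by rw [compSet_congr hJ1]; exact hsub hK'
    intro k hk
    refine LocalEvenB.mem_normalizer_of_conjMap_le (map_le_iff_le_comap.2 (sSup_le ?_))
    rintro _ ⟨K'', hK'', rfl⟩
    rw [← compSet_congr hJ1] at hK''
    have hkn := normalizer_le_normalizer_wOf K'' (comps_le_normalizer hG hT1 hNT hK'' hK'N hk)
    rw [← map_le_iff_le_comap, LocalEvenB.conjMap_eq_of_mem_normalizer hkn]
    rw [compSet_congr hJ1] at hK''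
    exact le_sSup ⟨K'', hK'', rfl⟩
  · obtain ⟨hnL, hnJ⟩ := hn
    rw [hJ] at hnJ
    set f := (MulAut.conj n) with hf
    set K1 := K.map f.toMonoidHom with hK1
    have hK1c : K1 ∈ compSet T L := compSet_conj hnL hnJ ⟨hK, le_sup_left.trans hXL⟩
    have hnM : n ∈ M := normalizer_J_le h hT hnJ
    have hK1M : ¬ K1 ≤ M := by
      intro hle
      refine hKM fun k hk => ?_
      have := M.mul_mem (M.mul_mem (M.inv_mem hnM) (hle ⟨k, hk, rfl⟩)) hnM
      simpa [hf, MulAut.conj_apply, mul_assoc] using this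
    set N1 := normalizer (wOf K1 : Set G) with hN1
    have hN1l : IsTwoLocal N1 := ⟨wOf K1, isPGroup_wOf hK1c.1, wOf_ne_bot hK1c.1, rfl⟩
    have hX1 : K ⊔ thompsonSubgroupOf 2 T ≤ N1 := by
      refine sup_le ?_ (preComp_of_isJComponent hT.1.1 hK1c.1).J_le_normalizer_wOf
      refine (comps_le_normalizer hG hT0 hLT ?_ ?_).trans (normalizer_le_normalizer_wOf K1)
      · rw [compSet_congr hJ]; exact hK1c
      · exact ⟨isJComponent_congr hJ.symm hK, le_sup_left.trans hXL⟩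
    have hsub1 := compSet_le_normalizer_wOf hG h hT hK hKM hN1l hX1
    refine LocalEvenB.mem_normalizer_of_conjMap_le (map_le_iff_le_comap.2 (sSup_le ?_))
    rintro _ ⟨K'', hK'', rfl⟩
    rw [← map_le_iff_le_comap]
    refine le_sSup ⟨K''.map f.toMonoidHom, hsub1 ⟨?_, ?_⟩, wOf_map_equiv f K''⟩
    · exact isJComponent_conj_normalizer hnJ hK''.1
    · rintro _ ⟨k, hk, rfl⟩
      refine LocalEvenB.mem_normalizer_of_conjMap_le ?_
      rw [hK1, wOf_map_equiv]
      show ((wOf K).map f.toMonoidHom).map (MulAut.conj (f k)).toMonoidHom ≤ _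
      rw [LocalEvenB.conjMap_conjMap, show f k * n = n * k by
        simp [hf, MulAut.conj_apply], ← LocalEvenB.conjMap_conjMap]
      exact map_mono (LocalEvenB.conjMap_le_of_mem_normalizer (hK''.2 hk))

theorem unique_maximal (hG : ZNHyp G) {S : Sylow 2 G} {M T K : Subgroup G} (h : MSetup S M)
    (hT : T ∈ maxStraddlingTwoSubgroups M) (hK : K ∈ jComponentsOutside M T) :
    IsMaximalTwoLocal (normalizer (wSpan T K : Set G)) ∧
      K ⊔ T ≤ normalizer (wSpan T K : Set G) ∧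
      normalizer (wSpan T K : Set G) ∈ jOvergroups T ∧
      ∀ L, IsTwoLocal L → K ⊔ thompsonSubgroupOf 2 T ≤ L →
        L ≤ normalizer (wSpan T K : Set G) := by
  haveI : Fact (Nat.Prime 2) := ⟨Nat.prime_two⟩
  obtain ⟨⟨hKc, -⟩, hKM, hO⟩ := hK
  set Lm := normalizer (wSpan T K : Set G)
  have hall := fun L (hL : IsTwoLocal L) (hX : K ⊔ thompsonSubgroupOf 2 T ≤ L) =>
    local_le_normalizer_wSpan hG h hT hKc hKM hL hX
  obtain ⟨hYp, hY1⟩ := isPGroup_wSpan hG h hT hKc hKM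
  have hLm : IsTwoLocal Lm := ⟨_, hYp, hY1, rfl⟩
  have hKT : K ⊔ T ≤ normalizer (pCoreOf 2 (K ⊔ T) : Set G) := le_normalizer_pCoreOf 2 _
  have hKTL : K ⊔ T ≤ Lm := hKT.trans (hall _ ⟨_, pCoreOf_isPGroup' 2 _, hO, rfl⟩
    ((sup_le_sup_left (Transfer.thompsonSubgroupOf_le T) K).trans hKT))
  have hX : K ⊔ thompsonSubgroupOf 2 T ≤ Lm :=
    (sup_le_sup_left (Transfer.thompsonSubgroupOf_le T) K).trans hKTL
  exact ⟨⟨hLm, fun N hN hle => le_antisymm (hall N hN (hX.trans hle)) hle⟩, hKTL,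
    max_overgroup hG h hT hLm (fun hle => hKM ((le_sup_left.trans hX).trans hle))
      (le_sup_right.trans hKTL), hall⟩

theorem eq_unique_maximal (hG : ZNHyp G) {S : Sylow 2 G} {M T K L : Subgroup G} (h : MSetup S M)
    (hT : T ∈ maxStraddlingTwoSubgroups M) (hK : K ∈ jComponentsOutside M T)
    (hL : IsMaximalTwoLocal L) (hX : K ⊔ thompsonSubgroupOf 2 T ≤ L) :
    L = normalizer (wSpan T K : Set G) := by
  obtain ⟨hmax, -, -, hall⟩ := unique_maximal hG h hT hK
  exact (hL.2 _ hmax.1 (hall L hL.1 hX)).symm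

end Cfsg.Agent.LocalEvenB.ZN
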