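import Cfsg.Agent.Lib.LocalEvenB.ZNCaseA

/-!
In a maximal 2-local subgroup with components for a Sylow subgroup, the maximal straddling
subgroups are Sylow subgroups.
-/

set_option autoImplicit false

namespace Cfsg.Agent.LocalEvenB.ZN

open Subgroup Cfsg Agent.LocalEvenA
open scoped IsMulCommutative commutatorElement Pointwise

variable {G : Type*} [Group G] [Finite G]

omit [Finite G] in
theorem isSylowTwoIn_of_sylow [Finite G] (S : Sylow 2 G) {L : Subgroup G}
    (hSL : (S : Subgroup G) ≤ L) : IsSylowTwoIn (S : Subgroup G) L := by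
  haveI : Fact (Nat.Prime 2) := ⟨Nat.prime_two⟩
  refine ⟨hSL, S.2, ?_⟩
  have hd : (S : Subgroup G).relIndex L ∣ (S : Subgroup G).index :=
    relIndex_dvd_index_of_le hSL
  refine Nat.not_even_iff_odd.1 fun he => S.not_dvd_index ?_
  exact (even_iff_two_dvd.1 he).trans hd

/-- The maximal overgroup of a component for a Sylow subgroup it contains. -/
theorem lmax_jOvergroup (hG : ZNHyp G) (S : Sylow 2 G) {K : Subgroup G}
    (hK : IsJComponent (S : Subgroup G) K) (hS : (S : Subgroup G) ≤ lmax (S : Subgroup G) K) :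
    lmax (S : Subgroup G) K ∈ jOvergroups (S : Subgroup G) :=
  mem_jOvergroups_of_isTwoLocal hG hK
    (le_sup_left.trans ((adm_of_sylow S K).sup_le_lmax hG S.2 hK))
    ((adm_of_sylow S K).isTwoLocal_lmax hG S.2 hK) (isSylowTwoIn_of_sylow S hS) rfl

theorem wSpan_facts (hG : ZNHyp G) (S : Sylow 2 G) {K : Subgroup G}
    (hK : IsJComponent (S : Subgroup G) K) (hS : (S : Subgroup G) ≤ lmax (S : Subgroup G) K) :
    wOf K ≤ wSpan (S : Subgroup G) K ∧ wSpan (S : Subgroup G) K ≤ (S : Subgroup G) ∧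
      (∀ a ∈ wSpan (S : Subgroup G) K, ∀ b ∈ wSpan (S : Subgroup G) K, a * b = b * a) ∧
      (∀ a ∈ wSpan (S : Subgroup G) K, a * a = 1) := by
  set N := normalizer (wOf K : Set G)
  set Y := wSpan (S : Subgroup G) K
  have ha := adm_of_sylow S K
  obtain ⟨T1, hT1, hNT, hJ1⟩ :=
    ha.data hG hK (isTwoLocal_normalizer_wOf hK) (sup_le_normalizer_wOf S.2 hK)
  have hKN : K ∈ compSet (S : Subgroup G) N :=
    ⟨hK, le_sup_left.trans (sup_le_normalizer_wOf S.2 hK)⟩
  have hcomm : Y ≤ centralizer (Y : Set G) := by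
    refine sSup_le ?_
    rintro _ ⟨K1, hK1, rfl⟩
    refine le_centralizer_iff.1 (sSup_le ?_)
    rintro _ ⟨K2, hK2, rfl⟩
    rw [← compSet_congr hJ1] at hK1 hK2
    exact (comps_wOf_le hG hT1 hNT hK2 hK1).2
  have hab : ∀ a ∈ Y, ∀ b ∈ Y, a * b = b * a := fun a ha' b hb =>
    mem_centralizer_iff.1 (hcomm hb) a ha'
  refine ⟨le_sSup ⟨K, hKN, rfl⟩, ?_, hab, ?_⟩
  · exact (le_pCoreOf (le_normalizer : Y ≤ lmax (S : Subgroup G) K) le_rfl
      (ha.wSpan_facts hG S.2 hK).1).trans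
      (pCoreOf_le_sylowIn (isSylowTwoIn_of_sylow S hS))
  · intro a haY
    have hle : Y ≤ closure (⋃ K' ∈ compSet (S : Subgroup G) N, (wOf K' : Set G)) := by
      refine sSup_le ?_
      rintro _ ⟨K', hK', rfl⟩
      exact fun x hx => subset_closure (Set.mem_biUnion hK' hx)
    have hsub : ∀ x ∈ (⋃ K' ∈ compSet (S : Subgroup G) N, (wOf K' : Set G)), x ∈ Y ∧ x * x = 1 := by
      intro x hx
      obtain ⟨K', hK', hx'⟩ := Set.mem_iUnion₂.1 hx
      exact ⟨(le_sSup ⟨K', hK', rfl⟩ : wOf K' ≤ Y) hx', hK'.1.2.2.2.2.2 x hx'⟩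
    suffices h : ∀ x ∈ closure (⋃ K' ∈ compSet (S : Subgroup G) N, (wOf K' : Set G)),
        x ∈ Y ∧ x * x = 1 from (h a (hle haY)).2
    intro x hx
    induction hx using closure_induction with
    | mem x hx => exact hsub x hx
    | one => exact ⟨one_mem _, one_mul 1⟩
    | mul x y _ _ hx hy =>
      refine ⟨Y.mul_mem hx.1 hy.1, ?_⟩
      calc x * y * (x * y) = x * (y * x) * y := by group
        _ = (x * x) * (y * y) := by rw [hab y hy.1 x hx.1]; group
        _ = 1 := by rw [hx.2, hy.2, one_mul]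
    | inv x _ hx => exact ⟨Y.inv_mem hx.1, by rw [← mul_inv_rev, hx.2, inv_one]⟩

/-- A maximal straddling subgroup of such a maximal 2-local subgroup is a Sylow subgroup. -/
theorem straddle_eq_sylow (hG : ZNHyp G) (S : Sylow 2 G) {K T : Subgroup G}
    (hK : IsJComponent (S : Subgroup G) K) (hM : MSetup S (lmax (S : Subgroup G) K))
    (hT : T ∈ maxStraddlingTwoSubgroups (lmax (S : Subgroup G) K)) (hTS : T ≤ (S : Subgroup G)) :
    T = (S : Subgroup G) := by
  by_contra hne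
  haveI : Fact (Nat.Prime 2) := ⟨Nat.prime_two⟩
  obtain ⟨K₀, hK₀⟩ := outside_nonempty hG hM hT
  obtain ⟨s, d⟩ := exists_swapData hM hT hTS hK₀ hne
  obtain ⟨hWY, hYS, hYab, hYsq⟩ := wSpan_facts hG S hK hM.S_le
  set Y := wSpan (S : Subgroup G) K with hYdef
  have hSY : (S : Subgroup G) ≤ normalizer (Y : Set G) := hM.S_le
  have hpair := d.pair hG
  have hpt := d.pt_eq hG
  obtain ⟨hn1, hn2⟩ := hpair.same_points hpt
  set R := pCoreOf 2 (K₀ ⊔ T) with hRdef
  set R' := pCoreOf 2 (K₀.map (MulAut.conj s).toMonoidHom ⊔ T) with hR'def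
  have hsqR : ∀ r ∈ R, r * r = 1 := hpair.core_sq hn1 hn2
  have hsqR' : ∀ r ∈ R', r * r = 1 := hpair.swap.core_sq hn2 hn1
  have hab : ∀ {X : Subgroup G}, (∀ r ∈ X, r * r = 1) → ∀ p ∈ X, ∀ q ∈ X, p * q = q * p := by
    intro X hX p hp q hq
    calc p * q = (p * q)⁻¹ := eq_inv_of_mul_eq_one_left (hX _ (X.mul_mem hp hq))
      _ = q⁻¹ * p⁻¹ := mul_inv_rev p q
      _ = q * p := by
        rw [inv_eq_of_mul_eq_one_right (hX p hp), inv_eq_of_mul_eq_one_right (hX q hq)]
  have hg := d.good hG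
  have hCR := hg.centralizer_R_le hG
  have hsR : R.map (MulAut.conj s).toMonoidHom = R' := by
    rw [hRdef, hR'def, ← d.map_sup_eq, pCoreOf_map_equiv]
  have hsR' : R'.map (MulAut.conj s).toMonoidHom = R := by
    rw [← hsR, LocalEvenB.conjMap_conjMap]
    refine LocalEvenB.conjMap_eq_of_mem_normalizer ?_
    exact le_normalizer_pCoreOf 2 (K₀ ⊔ T) (mem_sup_right d.hss)
  obtain ⟨r', hr', hr'R⟩ : ∃ r' ∈ R', r' ∉ R := by
    obtain ⟨x, hx, hxR⟩ := SetLike.not_le_iff_exists.1 hn2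
    exact ⟨x, hpair.s₂.hWR hx, hxR⟩
  -- involutions of `T` lie in one of the two cores
  have hinv : ∀ t ∈ T, t * t = 1 → t ∈ R ∨ t ∈ R' := by
    intro t ht htt
    by_contra hcon
    push Not at hcon
    have hr'T : r' ∈ T := hpair.s₂.R_le_T hr'
    have hr'inv : r'⁻¹ = r' := inv_eq_of_mul_eq_one_right (hsqR' r' hr')
    obtain ⟨q, hq⟩ : ∃ q, q = t * r' := ⟨_, rfl⟩
    have hqR : q ∈ R := hq ▸ hpair.s₁.mul_mem_R ht hr'T hcon.1 hr'R
    have hqR' : q ∉ R' := fun hh => hcon.2 (by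
      rw [show t = q * r'⁻¹ by rw [hq, mul_inv_cancel_right]]
      exact R'.mul_mem hh (R'.inv_mem hr'))
    have hqc : q * r' = r' * q := by
      have e : t = q * r' := by rw [hq, mul_assoc, hsqR' r' hr', mul_one]
      rw [e] at htt
      calc q * r' = (q * r')⁻¹ := eq_inv_of_mul_eq_one_left htt
        _ = r'⁻¹ * q⁻¹ := mul_inv_rev q r'
        _ = r' * q := by rw [hr'inv, inv_eq_of_mul_eq_one_right (hsqR q hqR)]
    refine hr'R (hCR (mem_centralizer_iff.2 fun p hp => ?_))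
    by_cases hpR' : p ∈ R'
    · exact hab hsqR' p hpR' r' hr'
    · have hpq : p * q ∈ R' :=
        hpair.s₂.mul_mem_R (hpair.s₁.R_le_T hp) (hpair.s₁.R_le_T hqR) hpR' hqR'
      have h1 : Commute r' (p * q) := hab hsqR' r' hr' _ hpq
      have h2 : Commute r' q := hqc.symm
      simpa using (h1.mul_right h2.inv_right).eq.symm
  have hzR : zJ T ≤ R := fun z hz => hCR (mem_centralizer_iff.2 fun r hr => by
    exact (hg.toCent hG).hcent (hpair.s₁.R_le_T hr) hz)
  -- `Y ⊓ T` is central in `T`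
  have hYT : Y ⊓ T ≤ zJ T := by
    have hone : Y ⊓ T ≤ R ∨ Y ⊓ T ≤ R' := by
      by_contra hcon
      push Not at hcon
      obtain ⟨a, ha, haR⟩ := SetLike.not_le_iff_exists.1 hcon.1
      obtain ⟨b, hb, hbR⟩ := SetLike.not_le_iff_exists.1 hcon.2
      have ha' : a ∈ R' := (hinv a ha.2 (hYsq a ha.1)).resolve_left haR
      have hb' : b ∈ R := (hinv b hb.2 (hYsq b hb.1)).resolve_right hbR
      rcases hinv (a * b) (T.mul_mem ha.2 hb.2) (hYsq _ (Y.mul_mem ha.1 hb.1)) with h | h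
      · exact haR (by simpa using R.mul_mem h (R.inv_mem hb'))
      · exact hbR (by simpa using R'.mul_mem (R'.inv_mem ha') h)
    have hinv' : (Y ⊓ T).map (MulAut.conj s).toMonoidHom = Y ⊓ T := by
      rw [Subgroup.map_inf _ _ _ (MulAut.conj s).injective,
        LocalEvenB.conjMap_eq_of_mem_normalizer (hSY d.hs),
        LocalEvenB.conjMap_eq_of_mem_normalizer d.hsN]
    have hboth : Y ⊓ T ≤ R ∧ Y ⊓ T ≤ R' := by
      rcases hone with h | h
      · exact ⟨h, hinv'.ge.trans ((map_mono h).trans hsR.le)⟩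
      · exact ⟨hinv'.ge.trans ((map_mono h).trans hsR'.le), h⟩
    intro x hx
    rw [← hg.omega_eq hG]
    refine mem_omegaCenterOf.2 ⟨hx.2, fun t ht => ?_, hYsq x hx.1⟩
    by_cases htR : t ∈ R
    · exact hab hsqR x (hboth.1 hx) t htR
    · have h1 : Commute x (t * r') :=
        hab hsqR x (hboth.1 hx) _ (hpair.s₁.mul_mem_R ht (hpair.s₂.R_le_T hr') htR hr'R)
      have h2 : Commute x r' := hab hsqR' x (hboth.2 hx) r' hr'
      simpa using (h1.mul_right h2.inv_right).eq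
  by_cases hle : Y ≤ T
  · -- then `Y` is the four-group `Ω₁(Z(T))`
    have hYz : Y ≤ zJ T := (le_inf le_rfl hle).trans hYT
    have hW4 : Nat.card (wOf K) = 4 := hK.2.2.2.2.1
    have hzT : Nat.card (zone T K₀) = 2 := by
      have h1 := card_le_of_le (hWY.trans hYz)
      rw [hW4, card_zJ_eq d.hT.1.1 d.hK.1.1] at h1
      have := d.small hG
      omega
    obtain ⟨c, hc1, -, hc, -⟩ := exists_gen_of_card_two hzT
    have hcz : c ∈ zone T K₀ := hc.ge (mem_zpowers c)
    obtain ⟨hc'z, hcne, -, hall, hΩ⟩ := d.four hG hcz hc1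
    have hWz : wOf K = zJ T := eq_of_le_of_card_ge (hWY.trans hYz) (by
      rw [hW4, card_zJ_eq d.hT.1.1 d.hK.1.1, hzT])
    obtain ⟨y, hy, hyo, hyQ⟩ := (preComp_of_isJComponent S.2 hK).exists_gen
    have hspec := (preComp_of_isJComponent S.2 hK).wOf_spec (wOf_ne_bot hK) hy hyo hyQ
    have hyW : y ∈ normalizer (zJ T : Set G) :=
      hWz ▸ normalizer_le_normalizer_wOf K (le_normalizer hy)
    obtain ⟨e, he⟩ : ∃ e, e = c * (s * c * s⁻¹) := ⟨_, rfl⟩
    rw [← he] at hΩ
    have hcW : c ∈ wOf K := hWz ▸ hcz.1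
    have hkey : ∀ g : G, g * c * g⁻¹ ≠ e := by
      intro g hg'
      refine not_le_centralizer_conj hG S hΩ g⁻¹ d.hT.1.1 d.hK.1.1 ?_
      refine (sup_le_centralizer_of_mem_zone hcz).trans_eq ?_
      rw [← hg', show g⁻¹ * (g * c * g⁻¹) * g⁻¹⁻¹ = c by group]
    have hfix : ∀ z ∈ wOf K, y * z = z * y → z = 1 := fun z hz hh => hspec.2.2.1 z hz hh
    have hconj : ∀ z ∈ zJ T, y * z * y⁻¹ ∈ zJ T := fun z hz => (mem_normalizer_iff.1 hyW z).1 hz
    rcases hall _ (hconj c hcz.1) with f | f | f | f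
    · exact hc1 (conj_eq_one_iff.1 f)
    · exact hc1 (hfix c hcW (mul_inv_eq_iff_eq_mul.1 f))
    · rcases hall _ (hconj _ (hconj c hcz.1)) with g | g | g | g
      · exact hc1 (conj_eq_one_iff.1 (conj_eq_one_iff.1 g))
      · refine hc1 (hfix c hcW (mem_centralizer_singleton_iff.1 (mem_of_odd_pow (n := 1) hyo
          (mem_centralizer_singleton_iff.2 ?_))))
        rw [pow_one, pow_two]
        refine mul_inv_eq_iff_eq_mul.1 ?_
        conv_rhs => rw [← g]
        group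
      · refine hc1 (hfix c hcW (mul_inv_eq_iff_eq_mul.1 ?_))
        have h5 : y * (y * c * y⁻¹) * y⁻¹ = y * c * y⁻¹ := g.trans f.symm
        simpa using h5
      · refine hkey (y * y) ?_
        rw [he, ← g]; group
    · exact hkey y (f.trans he.symm)
  · -- an element of `Y` outside `T` normalises the core
    obtain ⟨n, hnX, hnT, hnN⟩ := LocalEvenB.exists_mem_normalizer_not_mem
      (S.2.to_le (sup_le hYS hTS) : IsPGroup 2 (Y ⊔ T : Subgroup G)) (le_sup_right : T ≤ Y ⊔ T)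
      fun hh => hle (le_sup_left.trans hh)
    obtain ⟨y, hy, t, ht, rfl⟩ :=
      (Basics.mem_sup_of_le_normalizer (hTS.trans hSY)).1 hnX
    have hyT : y ∉ T := fun hh => hnT (T.mul_mem hh ht)
    have hyN : y ∈ normalizer (T : Set G) := by
      have := mul_mem hnN (inv_mem (le_normalizer ht : t ∈ normalizer (T : Set G)))
      rwa [mul_inv_cancel_right] at this
    refine hyT ?_
    have hyR : y ∈ normalizer (R : Set G) := by
      refine LocalEvenB.mem_normalizer_of_conj_mem fun r hr => ?_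
      have hrT := hpair.s₁.R_le_T hr
      have h1 : y * r * y⁻¹ * r⁻¹ ∈ Y ⊓ T := by
        refine ⟨?_, T.mul_mem ((mem_normalizer_iff.1 hyN r).1 hrT) (T.inv_mem hrT)⟩
        rw [show y * r * y⁻¹ * r⁻¹ = y * (r * y⁻¹ * r⁻¹) by group]
        exact Y.mul_mem hy ((mem_normalizer_iff.1 (hSY (hTS hrT)) _).1 (Y.inv_mem hy))
      have := R.mul_mem (hzR (hYT h1)) hr
      simpa using this
    have hl : IsTwoLocal (normalizer (R : Set G)) := by
      refine ⟨R, pCoreOf_isPGroup' 2 _, fun hb => ?_, rfl⟩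
      have h2 := hpair.s₁.card_W
      have hW := hpair.s₁.hWR
      rw [← hRdef, hb, le_bot_iff] at hW
      rw [hW, card_bot] at h2
      omega
    have hyL : y ∈ lmax T K₀ := d.adm.local_le hG d.hT.1.1 d.hK.1.1 hl
      ((sup_le_sup_left (Transfer.thompsonSubgroupOf_le T) K₀).trans (le_normalizer_pCoreOf 2 _)) hyR
    exact (inf_eq_of_sylowIn hg.hLT.1 S.2 hTS).le ⟨hyL, hYS hy⟩

end Cfsg.Agent.LocalEvenB.ZN
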