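import Cfsg.Agent.Lib.LocalEvenB.ZNLocalMain

/-!
A subnormal component of another conjugate of `J(T)` is normalised by `J(T)`.
-/

set_option autoImplicit false

namespace Cfsg.Agent.LocalEvenB.ZN

open Subgroup Cfsg Agent.LocalEvenA
open scoped IsMulCommutative commutatorElement Pointwise

variable {G : Type*} [Group G] [Finite G]

theorem J_le_normalizer_of_subnormal {T T' L K : Subgroup G} (hT : IsPGroup 2 T)
    (hTL : IsSylowTwoIn T L) (hKL : K ≤ L) (hK : PreComp T' K) (hne : wOf K ≠ ⊥)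
    (hsn : (K.subgroupOf (K ⊔ thompsonSubgroupOf 2 T)).IsSubnormal) :
    thompsonSubgroupOf 2 T ≤ normalizer (wOf K : Set G) := by
  classical
  haveI : Fact (Nat.Prime 2) := ⟨Nat.prime_two⟩
  haveI : Fact (Nat.Prime 3) := ⟨Nat.prime_three⟩
  set J := thompsonSubgroupOf 2 T
  set X := K ⊔ J with hX
  have hXL : X ≤ L := sup_le hKL ((Transfer.thompsonSubgroupOf_le T).trans hTL.1)
  set P := pCoreOf 2 X with hP
  have hPX : P ≤ X := pCoreOf_le' 2 X
  have hXP : X ≤ normalizer (P : Set G) := le_normalizer_pCoreOf 2 X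
  have hPp : IsPGroup 2 P := pCoreOf_isPGroup' 2 X
  set Q := pCoreOf 2 K with hQdef
  have hQP : Q ≤ P := ClassK.pCoreOf_le_of_subnormal le_sup_left hsn
  have hPK : P ≤ normalizer (K : Set G) :=
    ClassK.le_normalizer_of_oddGenerated' le_sup_left hPX hsn hXP hPp hK.odd
  set W := wOf K with hW
  obtain ⟨y, hy, hyo, hyQ⟩ := hK.exists_gen
  have hspec := hK.wOf_spec hne hy hyo hyQ
  have hWP : W ≤ P := hK.wOf_le_Q.trans hQP
  have hPW : P ≤ normalizer (W : Set G) := hPK.trans (normalizer_le_normalizer_wOf K)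
  -- `W` is central in `P`
  have hWc : ∀ w ∈ W, ∀ p ∈ P, w * p = p * w := by
    haveI := hPp.isNilpotent
    haveI : (W.subgroupOf P).Normal := normal_subgroupOf_of_le_normalizer hPW
    have hWne : W.subgroupOf P ≠ ⊥ := by
      intro h'
      rw [subgroupOf_eq_bot, disjoint_iff, inf_eq_left.2 hWP] at h'
      exact hne h'
    obtain ⟨z, hzW, hzc, hz1⟩ := LocalEvenB.exists_mem_center_ne_one _ hWne
    set D := W ⊓ centralizer (P : Set G) with hD
    have hzD : (z : G) ∈ D := ⟨hzW, mem_centralizer_iff.2 fun p hp =>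
      congrArg Subtype.val (mem_center_iff.1 hzc ⟨p, hp⟩)⟩
    have hDW : D = W := by
      refine eq_of_le_of_card_ge inf_le_left ?_
      have hz1' : (z : G) ≠ 1 := fun h' => hz1 (Subtype.ext h')
      have hyz : y * (z : G) * y⁻¹ ∈ D := by
        refine ⟨(mem_normalizer_iff.1 (normalizer_le_normalizer_wOf K (le_normalizer hy)) _).1 hzD.1,
          mem_centralizer_iff.2 fun p hp => ?_⟩
        have hp' : y⁻¹ * p * y ∈ P := by
          have := (mem_normalizer_iff.1 (hXP (inv_mem (mem_sup_left hy : y ∈ X))) p).1 hp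
          rwa [inv_inv] at this
        have := mem_centralizer_iff.1 hzD.2 _ hp'
        calc p * (y * (z : G) * y⁻¹) = y * (y⁻¹ * p * y * (z : G)) * y⁻¹ := by group
          _ = y * ((z : G) * (y⁻¹ * p * y)) * y⁻¹ := by rw [this]
          _ = y * (z : G) * y⁻¹ * p := by group
      have h1 : zpowers (z : G) ≤ D := zpowers_le.2 hzD
      have hzz : (z : G) * z = 1 := hK.wOf_sq hzD.1
      have h3 : y * (z : G) * y⁻¹ ∉ zpowers (z : G) := by
        intro h'
        obtain ⟨i, hi⟩ := mem_zpowers_iff.1 h'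
        rcases Int.even_or_odd i with ⟨j, hj⟩ | ⟨j, hj⟩
        · rw [hj, ← two_mul, zpow_mul, zpow_two, hzz, one_zpow] at hi
          exact hz1' (conj_eq_one_iff.1 hi.symm)
        · rw [hj, zpow_add, zpow_mul, zpow_two, hzz, one_zpow, one_mul, zpow_one] at hi
          exact hz1' (hspec.2.2.1 _ hzD.1 (mul_inv_eq_iff_eq_mul.1 hi.symm))
      have hlt : zpowers (z : G) < D := lt_of_le_of_ne h1 fun h' => h3 (h' ▸ hyz)
      obtain ⟨m, hm⟩ := card_dvd_of_le h1
      have hm1 : m ≠ 1 := fun h' => hlt.ne (eq_of_le_of_card_ge h1 (by rw [hm, h', mul_one]))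
      have hm0 : m ≠ 0 := fun h' => Nat.card_pos.ne' (hm.trans (by rw [h', mul_zero]))
      rw [hspec.1, hm, Nat.card_zpowers, orderOf_eq_prime (by rw [sq]; exact hzz) hz1']
      omega
    intro w hw p hp
    exact (mem_centralizer_iff.1 (hDW.ge hw).2 p hp).symm
  set U := omegaCenterOf P with hU
  have hWU : W ≤ U := fun w hw => mem_omegaCenterOf.2 ⟨hWP hw, hWc w hw, hK.wOf_sq hw⟩
  have hXU : X ≤ normalizer (U : Set G) :=
    hXP.trans (normalizer_le_normalizer_omegaCenterOf P)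
  have hUe : IsElementaryAbelian 2 U := elemAb_omegaCenterOf P
  haveI := hUe.1
  set φ := act hXU
  set x := φ ⟨y, mem_sup_left hy⟩ with hx
  have hker : ∀ q : X, (q : G) ∈ P → φ q = 1 := fun q hq =>
    (act_eq_one hXU).2 (mem_centralizer_iff.2 fun u hu => (mem_omegaCenterOf.1 hu).2.1 q hq)
  have hact : ∀ k : X, (k : G) ∈ K → φ k = 1 ∨ φ k = x ∨ φ k = x⁻¹ := by
    intro k hk
    rcases hK.cases_mem hy hyQ hk with h1 | h1 | h1
    · exact Or.inl (hker k (hQP h1))
    · have := hker ((⟨y, mem_sup_left hy⟩ : X)⁻¹ * k) (hQP h1)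
      rw [map_mul, map_inv, inv_mul_eq_one] at this
      exact Or.inr (Or.inl this.symm)
    · have := hker ((⟨y, mem_sup_left hy⟩ : X) * k) (hQP h1)
      rw [map_mul] at this
      exact Or.inr (Or.inr (eq_inv_of_mul_eq_one_right this))
  have hx3 : x ^ 3 = 1 := by
    rw [hx, ← map_pow]
    exact hker _ (hQP (by simpa using hK.pow_three_mem hy))
  have hx1 : x ≠ 1 := by
    intro h1
    obtain ⟨w, hw, hw1⟩ : ∃ w ∈ W, w ≠ 1 := by
      by_contra hc
      push Not at hc
      exact hne ((eq_bot_iff_forall _).2 hc)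
    have := congrArg (fun ψ : MulAut U => ((ψ ⟨w, hWU hw⟩ : U) : G)) h1
    exact hw1 (hspec.2.2.1 w hw (mul_inv_eq_iff_eq_mul.1 this))
  have hxo : orderOf x = 3 := orderOf_eq_prime hx3 hx1
  have hodd : Odd (orderOf x) := by rw [hxo]; decide
  have h2U := FF.mul_self_eq_one_of_elemAb hUe
  have hrange : (FF.cm x).range.map U.subtype = W := by
    have hin : ∀ u : U, ((FF.cm x u : U) : G) ∈ omegaCenterOf Q := by
      intro u
      have huP := (mem_omegaCenterOf.1 u.2).1
      have hv : ((FF.cm x u : U) : G) = y * (u : G) * y⁻¹ * (u : G)⁻¹ := by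
        rw [FF.cm_apply, div_eq_mul_inv, coe_mul, coe_inv, hx, act_apply]
      have h1 : ((FF.cm x u : U) : G) ∈ K := by
        rw [hv, mul_assoc, mul_assoc]
        refine K.mul_mem hy ?_
        have := (mem_normalizer_iff.1 (hPK huP) _).1 (K.inv_mem hy)
        rwa [mul_assoc] at this
      have hPK' : P ⊓ K ≤ Q := (hK.eq_Q_of_pGroup (hPp.to_le inf_le_left)
        (le_inf hQP (pCoreOf_le' 2 K)) inf_le_right).le
      refine mem_omegaCenterOf.2 ⟨hPK' ⟨(mem_omegaCenterOf.1 (FF.cm x u).2).1, h1⟩,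
        fun q hq => (mem_omegaCenterOf.1 (FF.cm x u).2).2.1 q (hQP hq),
        congrArg Subtype.val (h2U _)⟩
    have hbij : ∀ v ∈ (FF.cm x).range, ∃ v' ∈ (FF.cm x).range, FF.cm x v' = v := by
      have hinj : Function.Injective
          (fun i : (FF.cm x).range => (⟨FF.cm x i, ⟨i, rfl⟩⟩ : (FF.cm x).range)) := by
        intro i j hij
        have h1 : FF.cm x ((i : U) / j) = 1 := by
          rw [map_div, show FF.cm x i = FF.cm x j from congrArg Subtype.val hij, div_self']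
        exact Subtype.ext (div_eq_one.1
          (FF.eq_one_of_cm_fixed h2U hodd ((FF.cm x).range.div_mem i.2 j.2) (FF.cm_eq_one.1 h1)))
      intro v hv
      obtain ⟨⟨v', hv'⟩, e⟩ := (Finite.injective_iff_surjective.1 hinj) ⟨v, hv⟩
      exact ⟨v', hv', congrArg Subtype.val e⟩
    refine le_antisymm ?_ fun w hw => ?_
    · rintro _ ⟨v, hv, rfl⟩
      obtain ⟨v', ⟨u, rfl⟩, rfl⟩ := hbij v hv
      have e : ((FF.cm x (FF.cm x u) : U) : G) = (⁅((FF.cm x u : U) : G), y⁆)⁻¹ := by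
        rw [FF.cm_apply x (FF.cm x u), div_eq_mul_inv, coe_mul, coe_inv, hx, act_apply,
          commutatorElement_def]
        simp only [mul_inv_rev, inv_inv, mul_assoc]
      show ((FF.cm x (FF.cm x u) : U) : G) ∈ wOf K
      rw [e]
      exact inv_mem (commutator_mem_commutator (hin u) hy)
    · -- `y` acts fixed-point-freely on `W`
      have hyW : y ∈ normalizer (W : Set G) := normalizer_le_normalizer_wOf K (le_normalizer hy)
      let f : W → W := fun v => ⟨y * v * y⁻¹ * (v : G)⁻¹,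
        mul_mem ((mem_normalizer_iff.1 hyW v).1 v.2) (inv_mem v.2)⟩
      have hf : Function.Injective f := by
        intro v v' hvv
        have e1 : y * (v : G) * y⁻¹ * (v : G)⁻¹ = y * (v' : G) * y⁻¹ * (v' : G)⁻¹ :=
          congrArg Subtype.val hvv
        have e2 : y * ((v' : G)⁻¹ * v) * y⁻¹ = (v' : G)⁻¹ * v := by
          have e3 : y * (v : G) * y⁻¹ = (y * (v' : G) * y⁻¹) * ((v' : G)⁻¹ * v) := by
            rw [← mul_assoc, ← e1, inv_mul_cancel_right]
          calc y * ((v' : G)⁻¹ * v) * y⁻¹ = (y * (v' : G) * y⁻¹)⁻¹ * (y * (v : G) * y⁻¹) := by group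
            _ = (v' : G)⁻¹ * v := by rw [e3, inv_mul_cancel_left]
        exact Subtype.ext (inv_mul_eq_one.1 (hspec.2.2.1 _ (mul_mem (inv_mem v'.2) v.2)
          (mul_inv_eq_iff_eq_mul.1 e2))).symm
      obtain ⟨v, hv⟩ := (Finite.injective_iff_surjective.1 hf) ⟨w, hw⟩
      refine ⟨FF.cm x ⟨v, hWU v.2⟩, ⟨_, rfl⟩, ?_⟩
      show ((FF.cm x ⟨v, hWU v.2⟩ : U) : G) = w
      rw [FF.cm_apply, div_eq_mul_inv, coe_mul, coe_inv, hx, act_apply]
      exact congrArg Subtype.val hv
  have hpiece : FF.IsPiece x :=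
    ⟨hxo, by rw [← card_map_of_injective (f := U.subtype) (subtype_injective _), hrange, hspec.1]⟩
  -- the 3-core of the induced group
  set F : Subgroup (MulAut U) := (pCore 3 ↥φ.range).map φ.range.subtype with hF
  have hF3 : IsPGroup 3 F := (pCore_isPGroup' 3 _).map _
  have hxF : x ∈ F := by
    have h1 := hsn.map (f := φ.rangeRestrict) φ.rangeRestrict_surjective
    have h2 : IsPGroup 3 ↥((K.subgroupOf X).map φ.rangeRestrict) := by
      refine (LocalEvenB.isPGroup_zpowers (p := 3) (x := φ.rangeRestrict ⟨y, mem_sup_left hy⟩)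
        ⟨1, ?_⟩).to_le ?_
      · rw [← orderOf_injective _ (subtype_injective _)]
        exact hxo.trans (pow_one 3).symm
      · rintro _ ⟨k, hk, rfl⟩
        rcases hact k (mem_subgroupOf.1 hk) with e | e | e
        · exact ⟨0, Subtype.ext (by simpa using e.symm)⟩
        · exact ⟨1, Subtype.ext (by simpa using e.symm)⟩
        · exact ⟨-1, Subtype.ext (by simpa using e.symm)⟩
    exact ⟨φ.rangeRestrict ⟨y, mem_sup_left hy⟩,
      subnormal_le_pCore h1 h2 ⟨⟨y, mem_sup_left hy⟩, mem_subgroupOf.2 hy, rfl⟩, rfl⟩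
  have hFn : φ.range ≤ normalizer (F : Set (MulAut U)) := fun g hg => by
    haveI := pCore_normal' 3 ↥φ.range
    refine LocalEvenB.mem_normalizer_of_conj_mem ?_
    rintro _ ⟨f, hf, rfl⟩
    exact ⟨⟨g, hg⟩ * f * ⟨g, hg⟩⁻¹, Normal.conj_mem inferInstance f hf ⟨g, hg⟩, rfl⟩
  have hFodd : ∀ f ∈ F, Odd (orderOf f) := by
    intro f hf
    obtain ⟨n, hn⟩ := IsPGroup.iff_orderOf.1 hF3 ⟨f, hf⟩
    rw [orderOf_mk] at hn
    rw [hn]
    exact Odd.pow (by decide)
  -- the 2-group `P J(T)`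
  have hPJ : IsPGroup 2 (P ⊔ J : Subgroup G) :=
    hPp.to_sup_of_normal_left' (isPGroup_thompson hT) ((le_sup_right : J ≤ X).trans hXP)
  have hPJL : P ⊔ J ≤ L := sup_le (hPX.trans hXL) ((le_sup_right : J ≤ X).trans hXL)
  set T0 : Sylow 2 L := (hT.of_equiv (subgroupOfEquivOfLe hTL.1).symm).toSylow (by
    have := hTL.2.2
    rw [Subgroup.relIndex] at this
    exact fun h' => absurd (even_iff_two_dvd.2 h') (Nat.not_even_iff_odd.2 this))
  obtain ⟨l, hl⟩ := LocalEvenB.sylow_conj_le T0 (hPJ.of_equiv (subgroupOfEquivOfLe hPJL).symm)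
  obtain ⟨-, hmax⟩ := thompson_eq_of_conj_le (g := (l : G)) (le_sup_right : J ≤ P ⊔ J)
    fun s hs => LocalEvenB.mem_conjMap.2 (mem_subgroupOf.1
      (LocalEvenB.mem_conjMap.1 (hl (show (⟨s, hPJL hs⟩ : L) ∈ (P ⊔ J).subgroupOf L from hs))))
  show thompsonSubgroupOf 2 T ≤ _
  rw [Transfer.thompsonSubgroupOf_eq T]
  refine sSup_le fun A hA a ha => ?_
  have hAJ := maxElem_of_sup hA
  have hAX : A ≤ X := hAJ.trans le_sup_right
  have hAimg : FF.imgAut U A ≤ φ.range := by
    rw [imgAut_eq_map hXU A hAX]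
    exact map_le_range _ _
  have hH : FF.Hyp (FF.imgAut U A) F := by
    refine FF.hyp_of_maxElem (hmax A hA)
      (fun u hu => mem_sup_left (mem_omegaCenterOf.1 hu).1) hUe (hAX.trans hXU) hFodd
      (fun f hf g hg hpf hpg => hpf.commute_of_threeGroup h2U hpg hf hg hF3) (hAimg.trans hFn)
  have hea : IsElementaryAbelian 2 (FF.imgAut U A) :=
    ⟨⟨⟨fun a b => Subtype.ext (hH.hAc a a.2 b b.2)⟩⟩, fun a ha => by rw [sq]; exact hH.hA2 a ha⟩
  obtain ⟨h1, -⟩ := FF.ff_main hH (FF.gen_of_elemAb hea hFodd (hAimg.trans hFn))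
  set α := φ ⟨a, hAX ha⟩ with hα
  have hαA : α ∈ FF.imgAut U A := by
    rw [imgAut_eq_map hXU A hAX]
    exact ⟨⟨a, hAX ha⟩, mem_subgroupOf.2 ha, rfl⟩
  refine LocalEvenB.mem_normalizer_of_conj_mem fun w hw => ?_
  rw [← hrange] at hw ⊢
  obtain ⟨v, hv, rfl⟩ := hw
  refine ⟨α v, ?_, act_apply hXU _ _⟩
  have hr : (FF.cm (α * x * α)).range = (FF.cm x).range := by
    rcases (h1 x hxF hpiece).1 α hαA with e | e <;> rw [e]
    exact FF.cm_range_inv x
  rw [← hr, show α * x * α = α * x * α⁻¹ by rw [inv_eq_of_mul_eq_one_right (hH.hA2 α hαA)],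
    FF.cm_range_conj]
  exact ⟨v, hv, rfl⟩

end Cfsg.Agent.LocalEvenB.ZN
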